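import Mathlib
import Cfsg.Agent.Helper16.DefOneSetup
import Cfsg.Agent.Helper16.SecondMainChar
import Cfsg.Agent.Helper16.SubsectionCount
import Cfsg.Agent.Helper82.McKayP.Singular

/-!
# Piece (GT4-a) of the defect-one engine (helper60, for helper77 / helper82)

A character with a nonzero row over `θ` lies in the block induced by the block of `θ`
(Brauer's second main theorem applied to the elements of order `p` of `P`).
-/

set_option autoImplicit false

namespace Cfsg.Agent.Helper60.DefOne

open Cfsg Cfsg.Agent.Helper16 Cfsg.Agent.Helper16.DefOne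
open scoped ComplexConjugate

universe u

/-- Transport of Brauer's second main theorem (character form) along `C_G(u) = H`. -/
theorem gt4a_transport {G : Type u} [Group G] [Fintype G] {p : ℕ} [Fact p.Prime]
    {M : Ideal AlgInt} (hM : IsPModular p M) (x : G) (hxp : orderOf x = p) (H : Subgroup G)
    (hH : Subgroup.centralizer ({x} : Set G) = H)
    {B : Set (IrrCharacter G)} (hB : IsPBlock M B) (χ : IrrCharacter G) (hχ : χ ∈ B)
    (b : Set (IrrCharacter H)) (hb : IsPBlock M b) (hnot : ¬ IsInducedBlock M H b B)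
    (y : H) (hy : ¬ p ∣ orderOf y) :
    blockPart b (fun c : H => (χ : G → ℂ) (x * (c : G))) y = 0 := by
  subst hH
  exact second_main_character hM x ⟨1, by rw [hxp, pow_one]⟩ hB χ hχ b hb hnot y hy

/-- Translating a class function by a central element commutes with taking block parts. -/
theorem gt4a_central_shift {H : Type*} [Group H] [Fintype H] (b : Set (IrrCharacter H))
    {F : H → ℂ} (hF : IsClassFunction H F) (z : H) (hz : ∀ g : H, g * z = z * g) (y : H) :
    blockPart b (fun c => F (z * c)) y = blockPart b F (z * y) := by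
  have hF' : IsClassFunction H (fun c => F (z * c)) := by
    intro c t
    show F (z * (t * c * t⁻¹)) = F (z * c)
    have e : z * (t * c * t⁻¹) = t * (z * c) * t⁻¹ := by
      rw [← mul_assoc, ← mul_assoc, ← hz t]
      simp only [mul_assoc]
    rw [e]
    exact hF _ _
  rw [blockPart_eq_sum_blockCoeff_mul b hF' y, blockPart_eq_sum_blockCoeff_mul b hF (z * y)]
  refine Finset.sum_congr rfl (fun k _ => ?_)
  show blockCoeff b k * F (z * (k * y)) = blockCoeff b k * F (k * (z * y))
  have e : z * (k * y) = k * (z * y) := by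
    rw [← mul_assoc, ← hz k, mul_assoc]
  rw [e]

/-- Fourier inversion against the irreducible characters. -/
theorem gt4a_classInner_sum_irr {H : Type*} [Group H] [Fintype H] (a : IrrCharacter H → ℂ)
    (ξ : IrrCharacter H) :
    classInner (fun g => ∑ χ : IrrCharacter H, a χ * (χ : H → ℂ) g) (ξ : H → ℂ) = a ξ := by
  classical
  have h1 : classInner (fun g => ∑ χ : IrrCharacter H, a χ * (χ : H → ℂ) g) (ξ : H → ℂ) =
      ∑ χ : IrrCharacter H, a χ * classInner (χ : H → ℂ) (ξ : H → ℂ) := by
    unfold classInner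
    simp_rw [Finset.sum_mul, Finset.mul_sum]
    rw [Finset.sum_comm]
    refine Finset.sum_congr rfl (fun χ _ => Finset.sum_congr rfl (fun g _ => ?_))
    ring
  rw [h1, Finset.sum_eq_single ξ]
  · rw [Helper79.classInner_irr_self, mul_one]
  · intro χ _ hne
    rw [Helper79.classInner_irr_ne hne, mul_zero]
  · intro h
    exact absurd (Finset.mem_univ _) h

/-- The block part has the same inner products with the members of the block. -/
theorem gt4a_classInner_blockPart {H : Type*} [Group H] [Fintype H] (b : Set (IrrCharacter H))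
    (F : H → ℂ) (ξ : IrrCharacter H) (hξ : ξ ∈ b) :
    classInner (blockPart b F) (ξ : H → ℂ) = classInner F (ξ : H → ℂ) := by
  classical
  have h1 : blockPart b F = fun g => ∑ χ : IrrCharacter H,
      ((if χ ∈ b then (1 : ℂ) else 0) * classInner F (χ : H → ℂ)) * (χ : H → ℂ) g := by
    funext g
    rw [blockPart_eq_sum]
    refine Finset.sum_congr rfl (fun χ _ => ?_)
    ring
  rw [h1, gt4a_classInner_sum_irr, if_pos hξ, one_mul]

theorem isInducedBlock_of_mem_Rset' {G : Type u} [Group G] [Fintype G] {p : ℕ} [Fact p.Prime]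
    (M : Ideal AlgInt) (P : Sylow p G) (hM : IsPModular p M) (hP : Nat.card P = p)
    (hreg : ∀ (φ : IrrCharacter (cen P)) (x : cen P), ¬ p ∣ orderOf x →
      (φ : cen P → ℂ) x = (can P φ : cen P → ℂ) x)
    (hsb : ∀ φ ψ : IrrCharacter (cen P),
      SameBlock M (φ : cen P → ℂ) (ψ : cen P → ℂ) ↔ can P φ = can P ψ)
    (θ : IrrCharacter (cen P)) (hcanθ : can P θ = θ) (χ : IrrCharacter G)
    (hχ : χ ∈ Rset P θ) :
    IsInducedBlock M (cen P) (blockOf M (θ : cen P → ℂ)) (blockOf M (χ : G → ℂ)) := by
  classical
  have hMp : M.IsPrime := IsPModular.isPrime hM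
  have : Fintype (cen P) := Fintype.ofFinite _
  have hpp : p.Prime := Fact.out
  by_contra hnot
  have hb : IsPBlock M (blockOf M (θ : cen P → ℂ)) := ⟨θ, rfl⟩
  have hB : IsPBlock M (blockOf M (χ : G → ℂ)) := ⟨χ, rfl⟩
  have hχB : χ ∈ blockOf M (χ : G → ℂ) := sameBlock_refl (χ : G → ℂ)
  have hθb : θ ∈ blockOf M (θ : cen P → ℂ) := sameBlock_refl (θ : cen P → ℂ)
  -- STEP 1: the nontrivial elements of `P` have order `p` and centralizer `C`
  have hord : ∀ x : G, x ∈ (P : Subgroup G) → x ≠ 1 → orderOf x = p := by
    intro x hx hx1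
    have hdvd : orderOf x ∣ Nat.card (P : Subgroup G) := Subgroup.orderOf_dvd_natCard _ hx
    rw [hP] at hdvd
    rcases (Nat.dvd_prime hpp).mp hdvd with h | h
    · exact absurd (orderOf_eq_one_iff.mp h) hx1
    · exact h
  have hcent : ∀ x : G, x ∈ (P : Subgroup G) → x ≠ 1 →
      Subgroup.centralizer ({x} : Set G) = cen P := by
    intro x hx hx1
    have hz : Subgroup.zpowers x = (P : Subgroup G) :=
      Helper82.McKayP.zpowers_eq_sylow p P hP x hx (hord x hx hx1)
    apply le_antisymm
    · intro g hg
      rw [Subgroup.mem_centralizer_iff] at hg ⊢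
      intro t ht
      have ht' : t ∈ Subgroup.zpowers x := by rw [hz]; exact ht
      obtain ⟨n, rfl⟩ := Subgroup.mem_zpowers_iff.mp ht'
      have hc : Commute x g := hg x (Set.mem_singleton x)
      exact (hc.zpow_left n).eq
    · apply Subgroup.centralizer_le
      intro t ht
      rw [Set.mem_singleton_iff] at ht
      rw [ht]
      exact hx
  -- the restriction of `χ` and its `b`-part
  set F : cen P → ℂ := fun c => (χ : G → ℂ) (c : G) with hFdef
  have hF : IsClassFunction (cen P) F := by
    intro c t
    show (χ : G → ℂ) ((t * c * t⁻¹ : cen P) : G) = (χ : G → ℂ) (c : G)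
    rw [Subgroup.coe_mul, Subgroup.coe_mul, Subgroup.coe_inv]
    exact irr_isClassFunction χ _ _
  -- STEPS 2-4: the `b`-part vanishes on the `p`-singular elements of `C`
  have hvanish : ∀ c : cen P, p ∣ orderOf c →
      blockPart (blockOf M (θ : cen P → ℂ)) F c = 0 := by
    intro c hc
    obtain ⟨y, hxy, hcomm, ⟨k, hk⟩, hy⟩ := pPartOf_spec (p := p) c
    set x : cen P := pPartOf p c with hxdef
    have hx1 : x ≠ 1 := by
      intro h1
      rw [h1, one_mul] at hxy
      rw [← hxy] at hc
      exact hy hc
    -- `x ∈ P`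
    have hxP : (x : G) ∈ (P : Subgroup G) := by
      have hzp : IsPGroup p (Subgroup.zpowers (x : G)) := by
        rw [IsPGroup.iff_card]
        exact ⟨k, by rw [Nat.card_zpowers, Subgroup.orderOf_coe, hk]⟩
      have hle : Subgroup.zpowers (x : G) ≤
          Subgroup.normalizer ((P : Subgroup G) : Set G) := by
        rw [Subgroup.zpowers_le]
        exact Subgroup.centralizer_le_normalizer _ x.2
      have hsup : IsPGroup p (Subgroup.zpowers (x : G) ⊔ (P : Subgroup G) : Subgroup G) :=
        IsPGroup.to_sup_of_normal_right' hzp P.isPGroup' hle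
      have hmax := P.is_maximal' hsup le_sup_right
      have h1 : Subgroup.zpowers (x : G) ≤ (P : Subgroup G) := by
        rw [← hmax]; exact le_sup_left
      exact h1 (Subgroup.mem_zpowers _)
    have hxG1 : (x : G) ≠ 1 := by
      intro h
      apply hx1
      exact Subtype.ext h
    have hxcentral : ∀ g : cen P, g * x = x * g := by
      intro g
      apply Subtype.ext
      rw [Subgroup.coe_mul, Subgroup.coe_mul]
      exact (Subgroup.mem_centralizer_iff.mp g.2 (x : G) hxP).symm
    have h2 := gt4a_transport hM (x : G) (hord _ hxP hxG1) (cen P) (hcent _ hxP hxG1) hB χ hχB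
      (blockOf M (θ : cen P → ℂ)) hb hnot y hy
    have h3 := gt4a_central_shift (blockOf M (θ : cen P → ℂ)) hF x hxcentral y
    rw [← hxy, ← h3]
    exact h2
  -- STEPS 5-6
  obtain ⟨φ, hφ, hrow⟩ := hχ
  apply hrow
  have hφb : φ ∈ blockOf M (θ : cen P → ℂ) := by
    show SameBlock M (θ : cen P → ℂ) (φ : cen P → ℂ)
    rw [hsb θ φ, hcanθ, hφ]
  have hinner : classInner (blockPart (blockOf M (θ : cen P → ℂ)) F) (φ : cen P → ℂ) =
      classInner (blockPart (blockOf M (θ : cen P → ℂ)) F) (θ : cen P → ℂ) := by
    unfold classInner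
    congr 1
    refine Finset.sum_congr rfl (fun c _ => ?_)
    by_cases hc : p ∣ orderOf c
    · rw [hvanish c hc, zero_mul, zero_mul]
    · have := hreg φ c hc
      rw [hφ] at this
      rw [this]
  rw [gt4a_classInner_blockPart _ F φ hφb, gt4a_classInner_blockPart _ F θ hθb,
    ← mult_cast P χ φ, ← mult_cast P χ θ] at hinner
  have hmult : mult P χ φ = mult P χ θ := Int.cast_injective hinner
  unfold rowZ
  rw [hφ, hmult, sub_self]

end Cfsg.Agent.Helper60.DefOne
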