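import Mathlib

set_option autoImplicit false

namespace Cfsg.Agent.Helper60

open Subgroup

universe u

/-- A nontrivial solvable group has a nontrivial normal abelian subgroup. -/
theorem exists_normal_abelian_ne_bot {G : Type u} [Group G] [Nontrivial G] [hG : Group.IsSolvable G] :
    ∃ A : Subgroup G, A.Normal ∧ A ≠ ⊥ ∧ ∀ a ∈ A, ∀ b ∈ A, a * b = b * a := by
  classical
  have hex : ∃ n, derivedSeries G n = ⊥ := hG.solvable
  have hmin : ∀ m, m < Nat.find hex → ¬ derivedSeries G m = ⊥ := fun m hm => Nat.find_min hex hm
  have hspec := Nat.find_spec hex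
  set n := Nat.find hex with hn
  rcases Nat.eq_zero_or_pos n with h0 | hpos
  · rw [h0, derivedSeries_zero] at hspec
    exact absurd hspec top_ne_bot
  · obtain ⟨k, hk⟩ : ∃ k, n = k + 1 := ⟨n - 1, by omega⟩
    refine ⟨derivedSeries G k, derivedSeries_normal G k, ?_, ?_⟩
    · exact hmin k (by omega)
    · rw [hk, derivedSeries_succ] at hspec
      have := (Subgroup.commutator_eq_bot_iff_le_centralizer).mp hspec
      intro a ha b hb
      have hb' := this hb
      rw [Subgroup.mem_centralizer_iff] at hb'
      exact hb' a ha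

/-- A nontrivial finite solvable group has a nontrivial normal elementary abelian subgroup. -/
theorem exists_normal_elementary_abelian {G : Type u} [Group G] [Finite G] [Nontrivial G]
    [hG : Group.IsSolvable G] :
    ∃ (R : Subgroup G) (l : ℕ), R.Normal ∧ R ≠ ⊥ ∧ l.Prime ∧ (∀ a ∈ R, ∀ b ∈ R, a * b = b * a) ∧
      ∀ a ∈ R, a ^ l = 1 := by
  obtain ⟨A, hAn, hAne, hAc⟩ := exists_normal_abelian_ne_bot (G := G)
  obtain ⟨a, haA, ha1⟩ : ∃ a ∈ A, a ≠ 1 := by
    by_contra h
    push Not at h
    exact hAne ((Subgroup.eq_bot_iff_forall A).mpr h)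
  have hoa : orderOf a ≠ 1 := by
    rwa [Ne, orderOf_eq_one_iff]
  obtain ⟨l, hl, hla⟩ := Nat.exists_prime_and_dvd hoa
  let R : Subgroup G :=
    { carrier := {x | x ∈ A ∧ x ^ l = 1}
      mul_mem' := by
        rintro x y ⟨hx, hx'⟩ ⟨hy, hy'⟩
        refine ⟨A.mul_mem hx hy, ?_⟩
        have hc : Commute x y := hAc x hx y hy
        rw [hc.mul_pow, hx', hy', one_mul]
      one_mem' := ⟨A.one_mem, one_pow _⟩
      inv_mem' := by
        rintro x ⟨hx, hx'⟩
        exact ⟨A.inv_mem hx, by rw [inv_pow, hx', inv_one]⟩ }
  have hRmem : ∀ x, x ∈ R ↔ x ∈ A ∧ x ^ l = 1 := fun x => Iff.rfl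
  refine ⟨R, l, ?_, ?_, hl, ?_, ?_⟩
  · constructor
    intro n hn g
    rw [hRmem] at hn ⊢
    refine ⟨hAn.conj_mem n hn.1 g, ?_⟩
    rw [conj_pow, hn.2, mul_one, mul_inv_cancel]
  · intro hbot
    have hmem : a ^ (orderOf a / l) ∈ R := by
      rw [hRmem]
      refine ⟨A.pow_mem haA _, ?_⟩
      rw [← pow_mul, Nat.div_mul_cancel hla, pow_orderOf_eq_one]
    rw [hbot, Subgroup.mem_bot] at hmem
    have hpos : 0 < orderOf a := orderOf_pos a
    have hlt : orderOf a / l < orderOf a := Nat.div_lt_self hpos hl.one_lt
    have hdiv : 0 < orderOf a / l := Nat.div_pos (Nat.le_of_dvd hpos hla) hl.pos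
    exact pow_ne_one_of_lt_orderOf hdiv.ne' hlt hmem
  · intro x hx y hy
    exact hAc x hx.1 y hy.1
  · intro x hx
    exact hx.2

/-- A finite group in which every element satisfies `x ^ l = 1` for a prime `l` has prime
power order. -/
theorem card_eq_prime_pow_of_exponent {G : Type u} [Group G] [Finite G] {l : ℕ} (hl : l.Prime)
    (h : ∀ a : G, a ^ l = 1) : ∃ k, Nat.card G = l ^ k := by
  have : Fact l.Prime := ⟨hl⟩
  have : IsPGroup l G := fun g => ⟨1, by rw [pow_one]; exact h g⟩
  exact (IsPGroup.iff_card).mp this

/-- Hall's theorem (existence of Hall `π`-subgroups in finite solvable groups). -/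
theorem exists_hall_aux (π : ℕ → Prop) (n : ℕ) :
    ∀ (G : Type u) [Group G] [Finite G] [Group.IsSolvable G], Nat.card G = n →
      ∃ S : Subgroup G, (∀ l : ℕ, l.Prime → l ∣ Nat.card S → π l) ∧
        (∀ l : ℕ, l.Prime → l ∣ S.index → ¬ π l) := by
  induction n using Nat.strong_induction_on with
  | _ n ih =>
    intro G _ _ _ hn
    rcases subsingleton_or_nontrivial G with hsub | hnt
    · refine ⟨⊤, ?_, ?_⟩
      · intro l hl hdvd
        rw [Subgroup.card_top, Nat.card_of_subsingleton (1 : G)] at hdvd
        exact absurd (Nat.dvd_one.mp hdvd) hl.ne_one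
      · intro l hl hdvd
        rw [Subgroup.index_top] at hdvd
        exact absurd (Nat.dvd_one.mp hdvd) hl.ne_one
    · obtain ⟨R, l₀, hRn, hRne, hl₀, hRc, hRl⟩ := exists_normal_elementary_abelian (G := G)
      have := hRn
      have hcardG : Nat.card G = Nat.card (G ⧸ R) * Nat.card R :=
        Subgroup.card_eq_card_quotient_mul_card_subgroup R
      have hR1 : 1 < Nat.card R := (Subgroup.one_lt_card_iff_ne_bot (H := R)).mpr hRne
      have hGpos : 0 < Nat.card G := Nat.card_pos
      have hQpos : 0 < Nat.card (G ⧸ R) := Nat.card_pos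
      have hlt : Nat.card (G ⧸ R) < n := by
        rw [← hn, hcardG]
        nlinarith
      obtain ⟨k, hk⟩ := card_eq_prime_pow_of_exponent (G := R) hl₀
        (fun a => Subtype.ext (by simpa using hRl a a.2))
      obtain ⟨Sbar, h1, h2⟩ := ih (Nat.card (G ⧸ R)) hlt (G ⧸ R) rfl
      set S : Subgroup G := Sbar.comap (QuotientGroup.mk' R) with hS
      have hidx : S.index = Sbar.index :=
        Subgroup.index_comap_of_surjective Sbar (QuotientGroup.mk'_surjective R)
      have hcardS : Nat.card S = Nat.card Sbar * Nat.card R := by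
        have e1 := Subgroup.card_mul_index S
        have e2 := Subgroup.card_mul_index Sbar
        rw [hidx] at e1
        have hipos : 0 < Sbar.index := Nat.pos_of_ne_zero Subgroup.index_ne_zero_of_finite
        apply Nat.eq_of_mul_eq_mul_right hipos
        rw [e1, hcardG, ← e2]
        ring
      by_cases hπ : π l₀
      · refine ⟨S, ?_, ?_⟩
        · intro l hl hdvd
          rw [hcardS] at hdvd
          rcases (Nat.Prime.dvd_mul hl).mp hdvd with h | h
          · exact h1 l hl h
          · rw [hk] at h
            have := (Nat.prime_dvd_prime_iff_eq hl hl₀).mp (hl.dvd_of_dvd_pow h)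
            rwa [this]
        · intro l hl hdvd
          rw [hidx] at hdvd
          exact h2 l hl hdvd
      · -- Schur–Zassenhaus inside S
        have hRS : R ≤ S := by
          intro x hx
          rw [hS, Subgroup.mem_comap]
          have : (QuotientGroup.mk' R) x = 1 := (QuotientGroup.eq_one_iff x).mpr hx
          rw [this]
          exact Sbar.one_mem
        let R' : Subgroup S := R.subgroupOf S
        have : R'.Normal := Subgroup.Normal.subgroupOf hRn S
        have hcardR' : Nat.card R' = Nat.card R :=
          Nat.card_congr (Subgroup.subgroupOfEquivOfLe hRS).toEquiv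
        have hidxR' : R'.index = Nat.card Sbar := by
          have e := Subgroup.card_mul_index R'
          rw [hcardR', hcardS] at e
          have hRpos : 0 < Nat.card R := Nat.card_pos
          apply Nat.eq_of_mul_eq_mul_left hRpos
          rw [e]; ring
        have hcop : Nat.Coprime (Nat.card R') R'.index := by
          rw [hcardR', hidxR', hk]
          apply Nat.Coprime.pow_left
          rw [Nat.Prime.coprime_iff_not_dvd hl₀]
          intro hd
          exact hπ (h1 l₀ hl₀ hd)
        obtain ⟨H, hH⟩ := Subgroup.exists_right_complement'_of_coprime hcop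
        have hcardH : Nat.card H = Nat.card Sbar := by
          have := hH.card_mul_card
          rw [hcardR', hcardS] at this
          have hRpos : 0 < Nat.card R := Nat.card_pos
          apply Nat.eq_of_mul_eq_mul_left hRpos
          rw [this]; ring
        refine ⟨H.map S.subtype, ?_, ?_⟩
        · intro l hl hdvd
          rw [Subgroup.card_map_of_injective S.subtype_injective, hcardH] at hdvd
          exact h1 l hl hdvd
        · intro l hl hdvd
          have hidxH : H.index = Nat.card R := by
            rw [← hcardR']; exact hH.index_eq_card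
          rw [Subgroup.index_map_subtype, hidxH, hidx] at hdvd
          rcases (Nat.Prime.dvd_mul hl).mp hdvd with h | h
          · rw [hk] at h
            have := (Nat.prime_dvd_prime_iff_eq hl hl₀).mp (hl.dvd_of_dvd_pow h)
            rwa [this]
          · exact h2 l hl h

/-- Hall's theorem (existence of Hall `π`-subgroups in finite solvable groups). -/
theorem exists_hall (π : ℕ → Prop) (G : Type u) [Group G] [Finite G] [Group.IsSolvable G] :
    ∃ S : Subgroup G, (∀ l : ℕ, l.Prime → l ∣ Nat.card S → π l) ∧
      (∀ l : ℕ, l.Prime → l ∣ S.index → ¬ π l) :=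
  exists_hall_aux π (Nat.card G) G rfl

end Cfsg.Agent.Helper60
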