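import Mathlib
import Cfsg.Agent.Helper76.PGroup

/-!
# The centre of a `q`-group with derived subgroup of order `q` has square index

`index_center_eq_pow_two_mul`: if `Q` is a finite `q`-group with `|Q'| = q` then
`|Q : Z(Q)| = q ^ (2 n)` for some `n`.  (Pick `x, y` with `[x,y] ≠ 1`, `C = C_Q(x) ∩ C_Q(y)`;
then `|Q : C| = q²`, `Z(C) = Z(Q)`, and `C' = 1` or `|C'| = q`; induction on `|Q|`.)
-/

set_option autoImplicit false

namespace Cfsg.Agent.Helper60.CenterSq

open Subgroup
open Cfsg.Agent.Helper76 (commHom mem_ker_commHom commHom_apply normal_le_center_of_card_prime)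

universe u

theorem index_center_aux (q : ℕ) [hq : Fact q.Prime] :
    ∀ (n : ℕ) (Q : Type u) [Group Q] [Finite Q], Nat.card Q = n → IsPGroup q Q →
      Nat.card (commutator Q) = q → ∃ k : ℕ, (center Q).index = q ^ (2 * k) := by
  intro n
  induction n using Nat.strong_induction_on with
  | _ n ih =>
  intro Q _ _ hn hQ hc
  classical
  have hq1 : 1 < q := hq.out.one_lt
  have hcZ : commutator Q ≤ center Q := normal_le_center_of_card_prime hQ (commutator Q) hc
  have hcomm_mem : ∀ a g : Q, a * g * a⁻¹ * g⁻¹ ∈ commutator Q := by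
    intro a g
    rw [commutator_def]
    exact Subgroup.commutator_mem_commutator (Subgroup.mem_top a) (Subgroup.mem_top g)
  have hcen : ∀ a g : Q, a * g * a⁻¹ * g⁻¹ ∈ center Q := fun a g => hcZ (hcomm_mem a g)
  have hcomm_iff : ∀ a g : Q, a * g * a⁻¹ * g⁻¹ = 1 ↔ a * g = g * a := by
    intro a g
    have := mem_ker_commHom a (hcen a) g
    rwa [MonoidHom.mem_ker, commHom_apply] at this
  -- a non-commuting pair
  obtain ⟨x, y, hxy⟩ : ∃ x y : Q, x * y * x⁻¹ * y⁻¹ ≠ 1 := by
    by_contra hcon
    push Not at hcon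
    have hbot : commutator Q = ⊥ := by
      rw [commutator_def, Subgroup.commutator_eq_bot_iff_le_centralizer]
      intro g _
      rw [Subgroup.mem_centralizer_iff]
      intro h _
      exact (hcomm_iff h g).mp (hcon h g)
    rw [hbot, Subgroup.card_bot] at hc
    omega
  set N := commutator Q with hN
  set z : Q := x * y * x⁻¹ * y⁻¹ with hz
  have hzN : z ∈ N := hcomm_mem x y
  set zN : ↥N := ⟨z, hzN⟩ with hzN'
  have hzN1 : zN ≠ 1 := by
    intro h
    exact hxy (congrArg Subtype.val h)
  have hgen : Subgroup.zpowers zN = ⊤ := zpowers_eq_top_of_prime_card hc hzN1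
  -- the two commutator homomorphisms
  set φx : Q →* ↥N := (commHom x (hcen x)).codRestrict N (fun g => hcomm_mem x g) with hφx
  set φy : Q →* ↥N := (commHom y (hcen y)).codRestrict N (fun g => hcomm_mem y g) with hφy
  set ψ : Q →* ↥N × ↥N := φx.prod φy with hψ
  have hψx : ψ x = (1, zN⁻¹) := by
    apply Prod.ext
    · apply Subtype.ext
      change x * x * x⁻¹ * x⁻¹ = 1
      group
    · apply Subtype.ext
      change y * x * y⁻¹ * x⁻¹ = (x * y * x⁻¹ * y⁻¹)⁻¹
      group
  have hψy : ψ y = (zN, 1) := by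
    apply Prod.ext
    · rfl
    · apply Subtype.ext
      change y * y * y⁻¹ * y⁻¹ = 1
      group
  have hrep : ∀ g : Q, ∃ i j : ℤ, ψ g = ψ (y ^ i * x ^ j) := by
    intro g
    have h1 : (ψ g).1 ∈ Subgroup.zpowers zN := by rw [hgen]; exact Subgroup.mem_top _
    have h2 : (ψ g).2 ∈ Subgroup.zpowers zN := by rw [hgen]; exact Subgroup.mem_top _
    obtain ⟨i, hi⟩ := Subgroup.mem_zpowers_iff.mp h1
    obtain ⟨j, hj⟩ := Subgroup.mem_zpowers_iff.mp h2
    refine ⟨i, -j, ?_⟩
    rw [map_mul, map_zpow, map_zpow, hψx, hψy]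
    apply Prod.ext
    · simp [hi]
    · simp [hj]
  have hsurj : Function.Surjective ψ := by
    rintro ⟨a, b⟩
    have h1 : a ∈ Subgroup.zpowers zN := by rw [hgen]; exact Subgroup.mem_top _
    have h2 : b ∈ Subgroup.zpowers zN := by rw [hgen]; exact Subgroup.mem_top _
    obtain ⟨i, hi⟩ := Subgroup.mem_zpowers_iff.mp h1
    obtain ⟨j, hj⟩ := Subgroup.mem_zpowers_iff.mp h2
    refine ⟨y ^ i * x ^ (-j), ?_⟩
    rw [map_mul, map_zpow, map_zpow, hψx, hψy]
    apply Prod.ext
    · simp [hi]
    · simp [hj]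
  set C : Subgroup Q := ψ.ker with hC
  have hmemC : ∀ g : Q, g ∈ C ↔ x * g = g * x ∧ y * g = g * y := by
    intro g
    rw [hC, MonoidHom.mem_ker, Prod.ext_iff]
    have e1 : (ψ g).1 = 1 ↔ x * g * x⁻¹ * g⁻¹ = 1 := by
      rw [Subtype.ext_iff]; rfl
    have e2 : (ψ g).2 = 1 ↔ y * g * y⁻¹ * g⁻¹ = 1 := by
      rw [Subtype.ext_iff]; rfl
    change (ψ g).1 = 1 ∧ (ψ g).2 = 1 ↔ _
    rw [e1, e2, hcomm_iff, hcomm_iff]
  have hCidx : C.index = q * q := by
    rw [hC, Subgroup.index_ker, MonoidHom.range_eq_top.mpr hsurj, Subgroup.card_top,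
      Nat.card_prod, hc]
  have hZC : center Q ≤ C := by
    intro c hc'
    rw [hmemC]
    exact ⟨Subgroup.mem_center_iff.mp hc' x, Subgroup.mem_center_iff.mp hc' y⟩
  -- centre of `C` is the centre of `Q`
  have hcenC : (center Q).subgroupOf C = center ↥C := by
    ext c
    rw [Subgroup.mem_subgroupOf, Subgroup.mem_center_iff, Subgroup.mem_center_iff]
    constructor
    · intro h g
      exact Subtype.ext (h g)
    · intro h g
      obtain ⟨i, j, hij⟩ := hrep g
      set w : Q := y ^ i * x ^ j with hw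
      have hgw : g * w⁻¹ ∈ C := by
        rw [hC, MonoidHom.mem_ker, map_mul, map_inv, hij, mul_inv_cancel]
      have hcx : x * (c : Q) = c * x := ((hmemC c).mp c.2).1
      have hcy : y * (c : Q) = c * y := ((hmemC c).mp c.2).2
      have hcw : w * (c : Q) = c * w := by
        have h1 : Commute (y ^ i) (c : Q) := Commute.zpow_left hcy i
        have h2 : Commute (x ^ j) (c : Q) := Commute.zpow_left hcx j
        exact (h1.mul_left h2)
      have hcg : (g * w⁻¹) * (c : Q) = c * (g * w⁻¹) := by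
        have := h ⟨g * w⁻¹, hgw⟩
        exact congrArg Subtype.val this
      calc g * (c : Q) = (g * w⁻¹) * (w * c) := by group
        _ = (g * w⁻¹) * (c * w) := by rw [hcw]
        _ = ((g * w⁻¹) * c) * w := by group
        _ = (c * (g * w⁻¹)) * w := by rw [hcg]
        _ = c * g := by group
  have hidx : (center Q).index = (center ↥C).index * (q * q) := by
    rw [← Subgroup.relIndex_mul_index hZC, hCidx, Subgroup.relIndex, hcenC]
  -- the derived subgroup of `C`
  have hCQ : IsPGroup q ↥C := hQ.to_subgroup C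
  have hcardlt : Nat.card ↥C < n := by
    have h1 := Subgroup.card_mul_index C
    rw [hCidx, hn] at h1
    have h2 : 0 < Nat.card ↥C := Nat.card_pos
    have h3 : 1 < q * q := by nlinarith
    nlinarith
  have hdvd : Nat.card (commutator ↥C) ∣ q := by
    have h1 : (commutator ↥C).map C.subtype ≤ commutator Q := by
      rw [commutator_def, Subgroup.map_commutator, commutator_def]
      exact Subgroup.commutator_mono le_top le_top
    have h2 := Subgroup.card_dvd_of_le h1
    rwa [Subgroup.card_map_of_injective C.subtype_injective, hc] at h2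
  rcases (Nat.dvd_prime hq.out).mp hdvd with h1 | h1
  · -- `C` abelian
    have hbot : commutator ↥C = ⊥ := Subgroup.card_eq_one.mp h1
    have htop : center ↥C = ⊤ := (commutator_eq_bot_iff_center_eq_top ↥C).mp hbot
    refine ⟨1, ?_⟩
    rw [hidx, htop, Subgroup.index_top]
    ring
  · obtain ⟨k, hk⟩ := ih (Nat.card ↥C) hcardlt ↥C rfl hCQ h1
    refine ⟨k + 1, ?_⟩
    rw [hidx, hk]
    ring

/-- **Square lemma.**  A finite `q`-group whose derived subgroup has order `q` has centre of index
`q ^ (2 n)`. -/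
theorem index_center_eq_pow_two_mul {Q : Type u} [Group Q] [Finite Q] {q : ℕ} [Fact q.Prime]
    (hQ : IsPGroup q Q) (hc : Nat.card (commutator Q) = q) :
    ∃ n : ℕ, (center Q).index = q ^ (2 * n) :=
  index_center_aux q (Nat.card Q) Q rfl hQ hc

/-- Subgroup form: `Q ≤ X` a finite `q`-subgroup with `|[Q,Q]| = q`. -/
theorem index_center_subgroup {X : Type u} [Group X] (Q : Subgroup X) [Finite Q] {q : ℕ}
    [Fact q.Prime] (hQ : IsPGroup q Q) (hc : Nat.card ↥⁅Q, Q⁆ = q) :
    ∃ n : ℕ, (center ↥Q).index = q ^ (2 * n) := by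
  apply index_center_eq_pow_two_mul hQ
  have h1 : (commutator ↥Q).map Q.subtype = ⁅Q, Q⁆ := by
    rw [commutator_def, Subgroup.map_commutator, ← MonoidHom.range_eq_map, Subgroup.range_subtype]
  rw [← hc, ← h1, Subgroup.card_map_of_injective Q.subtype_injective]

end Cfsg.Agent.Helper60.CenterSq
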