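import Mathlib
import Cfsg.Prelude.Def_Transfer
import Cfsg.Agent.Helper32.BG36Def
import Cfsg.Agent.Helper32.BG36A
import Cfsg.Agent.S1324
import Cfsg.Agent.Helper62.FrobActGroup
import Cfsg.Agent.Helper63.Frattini
import Cfsg.Agent.Helper22.Sup
import Cfsg.Agent.Helper60.CenterSq

/-!
# B-G Theorem 3.6, endgame: the nonabelian case (helper60)

`nonabelian_false`: in the final configuration `FinalConfig p q r V Q P R₀` of B-G Theorem 3.6
(see `Cfsg.Agent.Helper32.BG36Def`), in a solvable group of odd order, `Q` is abelian.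

Sketch.  Every proper `Q P R₀`-invariant subgroup of `Q` is centralized by `P` (minimality), hence by
`Q = [Q,P]` (three subgroups lemma).  So `Q' ≤ Z(Q)`, `Φ(Q) ≤ Z(Q)`, `C_Q(P) = Z(Q)`; `Q'` is elementary
abelian, and the hyperplane argument on `V` shows `|Q'| = q`.  Hence `|Q : Z(Q)|` is a square, while the
fixed point formula for the Frobenius group `P R₀` gives `|Q : Z(Q)| = q ^ r`, `r` odd.
-/

set_option autoImplicit false
open Subgroup
open scoped commutatorElement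

namespace Cfsg.Agent.Helper60.BG36N

open Cfsg.Agent.Helper32.BG36

variable {X : Type*} [Group X]

/-- membership in a normalizer from two one-sided inclusions -/
theorem mem_normalizer_of_conj_mem {H : Subgroup X} {g : X}
    (h1 : ∀ y ∈ H, g * y * g⁻¹ ∈ H) (h2 : ∀ y ∈ H, g⁻¹ * y * g ∈ H) :
    g ∈ normalizer (H : Set X) := by
  rw [mem_normalizer_iff]
  intro y
  constructor
  · exact h1 y
  · intro hy
    have := h2 _ hy
    simpa [mul_assoc] using this

/-- a subgroup normalizes another as soon as conjugates stay inside -/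
theorem le_normalizer_of_conj_mem {H K : Subgroup X}
    (h1 : ∀ g ∈ K, ∀ y ∈ H, g * y * g⁻¹ ∈ H) : K ≤ normalizer (H : Set X) := by
  intro g hg
  apply mem_normalizer_of_conj_mem (h1 g hg)
  intro y hy
  have := h1 g⁻¹ (K.inv_mem hg) y hy
  simpa using this

/-- characteristic subgroups of `Q` are normalized by the normalizer of `Q` -/
theorem char_mem_normalizer {Q : Subgroup X} (K : Subgroup ↥Q) [hK : K.Characteristic] {g : X}
    (hg : g ∈ normalizer (Q : Set X)) :
    g ∈ normalizer ((K.map Q.subtype : Subgroup X) : Set X) := by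
  have key : ∀ g : X, g ∈ normalizer (Q : Set X) → ∀ y ∈ K.map Q.subtype,
      g * y * g⁻¹ ∈ K.map Q.subtype := by
    intro g hg y hy
    obtain ⟨z, hz, rfl⟩ := hy
    let φ : MulAut Q := Q.normalizerMonoidHom ⟨g, hg⟩
    have h1 : K.map φ.toMonoidHom = K := (Subgroup.characteristic_iff_map_eq.mp hK) φ
    have h2 : φ z ∈ K := by
      rw [← h1]; exact ⟨z, hz, rfl⟩
    exact ⟨φ z, h2, rfl⟩
  apply mem_normalizer_of_conj_mem (key g hg)
  intro y hy
  have := key g⁻¹ (inv_mem hg) y hy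
  simpa using this

/-- the derived subgroup of `Q` is normalized by the normalizer of `Q` -/
theorem commutator_mem_normalizer {Q : Subgroup X} {g : X} (hg : g ∈ normalizer (Q : Set X)) :
    g ∈ normalizer ((⁅Q, Q⁆ : Subgroup X) : Set X) := by
  rw [← Subgroup.map_subtype_commutator]
  exact char_mem_normalizer (commutator ↥Q) hg

/-- **(N1)** proper invariant subgroups of `Q` are centralized by `P` and by `Q`. -/
theorem proper_centralizes {Q P R₀ Q₂ : Subgroup X} (hQP : ⁅Q, P⁆ = Q)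
    (hminQ : ∀ Q₂ : Subgroup X, Q₂ ≤ Q → Q₂ ≠ Q → P ≤ normalizer (Q₂ : Set X) →
      R₀ ≤ normalizer (Q₂ : Set X) → ⁅Q₂, P⁆ = ⊥)
    (h1 : Q₂ ≤ Q) (h2 : Q₂ ≠ Q) (hQn : Q ≤ normalizer (Q₂ : Set X))
    (hPn : P ≤ normalizer (Q₂ : Set X)) (hRn : R₀ ≤ normalizer (Q₂ : Set X)) :
    ⁅Q₂, P⁆ = ⊥ ∧ ⁅Q₂, Q⁆ = ⊥ := by
  have hb := hminQ Q₂ h1 h2 hPn hRn
  refine ⟨hb, ?_⟩
  have h3 : ⁅⁅Q₂, P⁆, Q⁆ = ⊥ := by rw [hb]; exact Subgroup.commutator_bot_left Q
  have h4 : ⁅Q, Q₂⁆ ≤ Q₂ := by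
    rw [Subgroup.commutator_le]
    intro g₁ hg₁ g₂ hg₂
    have : g₁ * g₂ * g₁⁻¹ ∈ Q₂ := (mem_normalizer_iff.mp (hQn hg₁) g₂).mp hg₂
    rw [commutatorElement_def]
    exact Q₂.mul_mem this (Q₂.inv_mem hg₂)
  have h5 : ⁅⁅Q, Q₂⁆, P⁆ = ⊥ := by
    rw [eq_bot_iff, ← hb]
    exact Subgroup.commutator_mono h4 le_rfl
  have h6 := Subgroup.commutator_commutator_eq_bot_of_rotate h5 h3
  rw [Subgroup.commutator_comm P Q, hQP] at h6
  rw [Subgroup.commutator_comm]
  exact h6

/-- `⁅x ^ n, y⁆ = ⁅x, y⁆ ^ n` when `x` commutes with `⁅x, y⁆` -/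
theorem commutatorElement_pow_left' {x y : X} (hc : x * ⁅x, y⁆ = ⁅x, y⁆ * x) (n : ℕ) :
    ⁅x ^ n, y⁆ = ⁅x, y⁆ ^ n := by
  induction n with
  | zero => simp
  | succ n ih =>
    have h1 : ⁅x ^ (n + 1), y⁆ = x * ⁅x ^ n, y⁆ * x⁻¹ * ⁅x, y⁆ := by
      simp only [commutatorElement_def, pow_succ']; group
    have h2 : x * ⁅x, y⁆ ^ n = ⁅x, y⁆ ^ n * x := Commute.pow_right hc n
    rw [h1, ih, h2, mul_inv_cancel_right, pow_succ]

/-- the Frattini subgroup of `Q`, inside `X` -/
def frat (Q : Subgroup X) : Subgroup X := (frattini ↥Q).map Q.subtype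

theorem frat_le (Q : Subgroup X) : frat Q ≤ Q := by
  rintro _ ⟨z, -, rfl⟩
  exact z.2

theorem frat_mem_normalizer {Q : Subgroup X} {g : X} (hg : g ∈ normalizer (Q : Set X)) :
    g ∈ normalizer ((frat Q : Subgroup X) : Set X) :=
  char_mem_normalizer (frattini ↥Q) hg

theorem frat_ne_self [Finite X] {Q : Subgroup X} (hQ1 : Q ≠ ⊥) : frat Q ≠ Q := by
  intro heq
  have hnt : Nontrivial ↥Q := (Subgroup.nontrivial_iff_ne_bot Q).mpr hQ1
  have h2 : frattini ↥Q = ⊤ := by
    apply Subgroup.map_injective Q.subtype_injective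
    rw [← MonoidHom.range_eq_map, Subgroup.range_subtype]; exact heq
  rcases IsCoatomic.eq_top_or_exists_le_coatom (⊥ : Subgroup ↥Q) with h3 | ⟨K, hK, -⟩
  · exact bot_ne_top h3
  · have := frattini_le_coatom hK
    rw [h2] at this
    exact hK.1 (top_le_iff.mp this)

theorem pow_mem_frat [Finite X] {q : ℕ} [Fact q.Prime] {Q : Subgroup X} (hQ : IsPGroup q Q)
    {x : X} (hx : x ∈ Q) : x ^ q ∈ frat Q := by
  have := Cfsg.Agent.Helper63.pow_prime_mem_frattini hQ (⟨x, hx⟩ : ↥Q)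
  exact ⟨_, this, rfl⟩

/-- `Q' ≠ Q` for a nontrivial `q`-group -/
theorem commutator_ne_self [Finite X] {q : ℕ} [Fact q.Prime] {Q : Subgroup X} (hQ : IsPGroup q Q)
    (hQ1 : Q ≠ ⊥) : (⁅Q, Q⁆ : Subgroup X) ≠ Q := by
  intro heq
  have hnt : Nontrivial ↥Q := (Subgroup.nontrivial_iff_ne_bot Q).mpr hQ1
  have hnil : Group.IsNilpotent ↥Q := hQ.isNilpotent
  have hlt := Group.IsSolvable.commutator_lt_top_of_nontrivial ↥Q
  have h1 : (commutator ↥Q).map Q.subtype = Q := by
    rw [Subgroup.map_subtype_commutator]; exact heq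
  have h2 : commutator ↥Q = ⊤ := by
    apply Subgroup.map_injective Q.subtype_injective
    rw [h1, ← MonoidHom.range_eq_map, Subgroup.range_subtype]
  exact hlt.ne h2

theorem commutator_le_self (Q : Subgroup X) : (⁅Q, Q⁆ : Subgroup X) ≤ Q := by
  rw [← Subgroup.map_subtype_commutator]
  exact Subgroup.map_subtype_le _

/-- **(N1a)** `Q' ≤ C(P)` and `Q' ≤ C(Q)` -/
theorem commutator_le_centralizers [Finite X] {p q r : ℕ} [Fact q.Prime] {V Q P R₀ : Subgroup X}
    (h : FinalConfig p q r V Q P R₀) :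
    (⁅Q, Q⁆ : Subgroup X) ≤ centralizer (P : Set X) ∧
      (⁅Q, Q⁆ : Subgroup X) ≤ centralizer (Q : Set X) := by
  have := proper_centralizes (R₀ := R₀) h.hQP h.hminQ (commutator_le_self Q)
    (commutator_ne_self h.hQ h.hQ1)
    (fun g hg => commutator_mem_normalizer (le_normalizer hg))
    (fun g hg => commutator_mem_normalizer (h.hPQ hg))
    (fun g hg => commutator_mem_normalizer (h.hRQ hg))
  exact ⟨Subgroup.commutator_eq_bot_iff_le_centralizer.mp this.1,
    Subgroup.commutator_eq_bot_iff_le_centralizer.mp this.2⟩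

/-- **(N1b)** `Φ(Q) ≤ C(P)` and `Φ(Q) ≤ C(Q)` -/
theorem frat_le_centralizers [Finite X] {p q r : ℕ} {V Q P R₀ : Subgroup X}
    (h : FinalConfig p q r V Q P R₀) :
    frat Q ≤ centralizer (P : Set X) ∧ frat Q ≤ centralizer (Q : Set X) := by
  have := proper_centralizes (R₀ := R₀) h.hQP h.hminQ (frat_le Q)
    (frat_ne_self h.hQ1)
    (fun g hg => frat_mem_normalizer (le_normalizer hg))
    (fun g hg => frat_mem_normalizer (h.hPQ hg))
    (fun g hg => frat_mem_normalizer (h.hRQ hg))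
  exact ⟨Subgroup.commutator_eq_bot_iff_le_centralizer.mp this.1,
    Subgroup.commutator_eq_bot_iff_le_centralizer.mp this.2⟩

/-- **(N1c)** `Z(Q) ≤ C(P)` when `Q` is nonabelian -/
theorem center_le_centralizer [Finite X] {p q r : ℕ} {V Q P R₀ : Subgroup X}
    (h : FinalConfig p q r V Q P R₀) (hna : ¬ ∀ a ∈ Q, ∀ b ∈ Q, a * b = b * a) :
    Q ⊓ centralizer (Q : Set X) ≤ centralizer (P : Set X) := by
  rw [← Subgroup.commutator_eq_bot_iff_le_centralizer]
  refine h.hminQ _ inf_le_left ?_ (fun g hg => mem_normalizer_fix (h.hPQ hg) (h.hPQ hg))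
    (fun g hg => mem_normalizer_fix (h.hRQ hg) (h.hRQ hg))
  intro heq
  apply hna
  intro a ha b hb
  have h1 : a ∈ centralizer (Q : Set X) := by
    have : a ∈ Q ⊓ centralizer (Q : Set X) := by rw [heq]; exact ha
    exact this.2
  exact ((mem_centralizer_iff.mp h1) b hb).symm

/-- **(N1d)** `C_Q(P) ≤ Z(Q)` -/
theorem centralizer_le_center [Finite X] {p q r : ℕ} [Fact q.Prime] {V Q P R₀ : Subgroup X}
    (h : FinalConfig p q r V Q P R₀) :
    Q ⊓ centralizer (P : Set X) ≤ centralizer (Q : Set X) := by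
  have hD := commutator_le_centralizers h
  have hne : Q ⊓ centralizer (P : Set X) ≠ Q := by
    intro heq
    have h1 : Q ≤ centralizer (P : Set X) := by
      rw [← heq]; exact inf_le_right
    have h2 : ⁅Q, P⁆ = ⊥ := Subgroup.commutator_eq_bot_iff_le_centralizer.mpr h1
    rw [h.hQP] at h2
    exact h.hQ1 h2
  have hQn : Q ≤ normalizer ((Q ⊓ centralizer (P : Set X) : Subgroup X) : Set X) := by
    apply le_normalizer_of_conj_mem
    intro g hg y hy
    have h1 : ⁅g, y⁆ ∈ Q ⊓ centralizer (P : Set X) :=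
      ⟨commutator_le_self Q (Subgroup.commutator_mem_commutator hg hy.1),
        hD.1 (Subgroup.commutator_mem_commutator hg hy.1)⟩
    have h2 : g * y * g⁻¹ = ⁅g, y⁆ * y := by
      rw [commutatorElement_def]; group
    rw [h2]
    exact Subgroup.mul_mem _ h1 hy
  have := proper_centralizes (R₀ := R₀) h.hQP h.hminQ inf_le_left hne hQn
    (fun g hg => mem_normalizer_fix (h.hPQ hg) (le_normalizer hg))
    (fun g hg => mem_normalizer_fix (h.hRQ hg) (h.hRP hg))
  exact Subgroup.commutator_eq_bot_iff_le_centralizer.mp this.2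

/-- **(N1e)** `Q'` has exponent `q` -/
theorem commutator_pow_eq_one [Finite X] {p q r : ℕ} [Fact q.Prime] {V Q P R₀ : Subgroup X}
    (h : FinalConfig p q r V Q P R₀) : ∀ a ∈ (⁅Q, Q⁆ : Subgroup X), a ^ q = 1 := by
  have hD := (commutator_le_centralizers h).2
  have hF := (frat_le_centralizers h).2
  intro a ha
  rw [Subgroup.commutator_def] at ha
  induction ha using Subgroup.closure_induction with
  | mem x hx =>
    obtain ⟨g₁, hg₁, g₂, hg₂, rfl⟩ := hx
    have hc : ⁅g₁, g₂⁆ ∈ centralizer (Q : Set X) := hD (Subgroup.commutator_mem_commutator hg₁ hg₂)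
    have h1 : g₁ * ⁅g₁, g₂⁆ = ⁅g₁, g₂⁆ * g₁ := (mem_centralizer_iff.mp hc) g₁ hg₁
    rw [← commutatorElement_pow_left' h1 q]
    have h2 : g₁ ^ q ∈ centralizer (Q : Set X) := hF (pow_mem_frat h.hQ hg₁)
    have h3 : g₂ * g₁ ^ q = g₁ ^ q * g₂ := (mem_centralizer_iff.mp h2) g₂ hg₂
    rw [commutatorElement_eq_one_iff_mul_comm]
    exact h3.symm
  | one => exact one_pow q
  | mul x y hx hy ihx ihy =>
    rw [← Subgroup.commutator_def] at hx hy
    have h1 : y * x = x * y := (mem_centralizer_iff.mp (hD hx)) y (commutator_le_self Q hy)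
    have : Commute x y := h1.symm
    rw [this.mul_pow, ihx, ihy, one_mul]
  | inv x hx ihx => rw [inv_pow, ihx, inv_one]

/-- in a group of prime order every nontrivial element is a generator -/
theorem le_zpowers_of_prime_card {R₀ : Subgroup X} {r : ℕ} [Fact r.Prime] (hR : Nat.card R₀ = r)
    {σ : X} (hσ : σ ∈ R₀) (hσ1 : σ ≠ 1) : R₀ ≤ zpowers σ := by
  have h1 : (⟨σ, hσ⟩ : ↥R₀) ≠ 1 := fun h => hσ1 (congrArg Subtype.val h)
  have h2 := zpowers_eq_top_of_prime_card hR h1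
  intro x hx
  have h3 : (⟨x, hx⟩ : ↥R₀) ∈ zpowers (⟨σ, hσ⟩ : ↥R₀) := by rw [h2]; exact mem_top _
  obtain ⟨k, hk⟩ := mem_zpowers_iff.mp h3
  exact mem_zpowers_iff.mpr ⟨k, by simpa using congrArg Subtype.val hk⟩

theorem centralizer_singleton_le {R₀ : Subgroup X} {ρ : X} (hgen : R₀ ≤ zpowers ρ) :
    centralizer ({ρ} : Set X) ≤ centralizer (R₀ : Set X) := by
  intro x hx
  rw [mem_centralizer_iff] at hx ⊢
  intro y hy
  obtain ⟨k, rfl⟩ := mem_zpowers_iff.mp (hgen hy)
  have h1 : Commute ρ x := hx ρ (Set.mem_singleton ρ)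
  exact (h1.zpow_left k)

theorem le_normalizer_of_le_centralizer {B K : Subgroup X} (hB : B ≤ centralizer (K : Set X)) :
    K ≤ normalizer (B : Set X) := by
  apply le_normalizer_of_conj_mem
  intro g hg y hy
  have : g * y = y * g := (mem_centralizer_iff.mp (hB hy)) g hg
  rw [this, mul_inv_cancel_right]; exact hy

/-- `V ≠ ⊥` -/
theorem V_ne_bot {p q r : ℕ} {V Q P R₀ : Subgroup X} (h : FinalConfig p q r V Q P R₀) : V ≠ ⊥ := by
  intro hV
  apply h.hQ1
  rw [eq_bot_iff, ← h.hfaith]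
  refine le_inf le_rfl ?_
  intro g _
  rw [mem_centralizer_iff]
  intro v hv
  rw [hV] at hv
  have : v = 1 := by simpa using hv
  subst this; simp

/-- `C_V(Q') = 1` -/
theorem fix_commutator_eq_bot [Finite X] {p q r : ℕ} {V Q P R₀ : Subgroup X}
    (h : FinalConfig p q r V Q P R₀) (hna : ¬ ∀ a ∈ Q, ∀ b ∈ Q, a * b = b * a) :
    V ⊓ centralizer ((⁅Q, Q⁆ : Subgroup X) : Set X) = ⊥ := by
  refine h.hirrV _ inf_le_left ?_
    (fun g hg => mem_normalizer_fix (h.hQV hg) (commutator_mem_normalizer (le_normalizer hg)))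
    (fun g hg => mem_normalizer_fix (h.hPV hg) (commutator_mem_normalizer (h.hPQ hg)))
    (fun g hg => mem_normalizer_fix (h.hRV hg) (commutator_mem_normalizer (h.hRQ hg)))
  intro heq
  have h1 : V ≤ centralizer ((⁅Q, Q⁆ : Subgroup X) : Set X) := by rw [← heq]; exact inf_le_right
  have h2 : (⁅Q, Q⁆ : Subgroup X) ≤ Q ⊓ centralizer (V : Set X) :=
    le_inf (commutator_le_self Q) (le_centralizer_iff.mp h1)
  rw [h.hfaith, le_bot_iff] at h2
  apply hna
  intro a ha b hb
  have h3 := Subgroup.commutator_eq_bot_iff_le_centralizer.mp h2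
  exact ((mem_centralizer_iff.mp (h3 ha)) b hb).symm

/-- an `R₀`-invariant subgroup of `Q'` with nontrivial fixed points on `V` is trivial -/
theorem invariant_hyperplane_eq_bot [Finite X] {p q r : ℕ} [Fact q.Prime] {V Q P R₀ : Subgroup X}
    (h : FinalConfig p q r V Q P R₀) {B : Subgroup X} (hBA : B ≤ ⁅Q, Q⁆)
    (hR : R₀ ≤ normalizer (B : Set X)) (hW : V ⊓ centralizer (B : Set X) ≠ ⊥) : B = ⊥ := by
  have hD := commutator_le_centralizers h
  have hQB : Q ≤ normalizer (B : Set X) := le_normalizer_of_le_centralizer (hBA.trans hD.2)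
  have hPB : P ≤ normalizer (B : Set X) := le_normalizer_of_le_centralizer (hBA.trans hD.1)
  have hWV : V ⊓ centralizer (B : Set X) = V := by
    by_contra hne
    exact hW (h.hirrV _ inf_le_left hne (fun g hg => mem_normalizer_fix (h.hQV hg) (hQB hg))
      (fun g hg => mem_normalizer_fix (h.hPV hg) (hPB hg))
      (fun g hg => mem_normalizer_fix (h.hRV hg) (hR hg)))
  have h1 : V ≤ centralizer (B : Set X) := by rw [← hWV]; exact inf_le_right
  have h2 : B ≤ Q ⊓ centralizer (V : Set X) :=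
    le_inf (hBA.trans (commutator_le_self Q)) (le_centralizer_iff.mp h1)
  rwa [h.hfaith, le_bot_iff] at h2

/-- a hyperplane of `Q'` not normalized by `R₀` has no fixed points on `V` -/
theorem noninvariant_hyperplane_false [Finite X] {p q r : ℕ} [Fact p.Prime] [Fact q.Prime]
    [Fact r.Prime] (hpq : p ≠ q) {V Q P R₀ : Subgroup X} (h : FinalConfig p q r V Q P R₀)
    (hna : ¬ ∀ a ∈ Q, ∀ b ∈ Q, a * b = b * a) {B : Subgroup X} (hBA : B ≤ ⁅Q, Q⁆)
    (hidx : B.relIndex ⁅Q, Q⁆ ≤ q) (hW : V ⊓ centralizer (B : Set X) ≠ ⊥) {ρ : X} (hρ : ρ ∈ R₀)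
    (hρB : ρ ∉ normalizer (B : Set X)) : False := by
  classical
  have hq : q.Prime := Fact.out
  have hr : r.Prime := Fact.out
  have hp : p.Prime := Fact.out
  set A : Subgroup X := ⁅Q, Q⁆ with hA
  have hD := commutator_le_centralizers h
  have hAQ : A ≤ Q := commutator_le_self Q
  have hfixA : V ⊓ centralizer (A : Set X) = ⊥ := fix_commutator_eq_bot h hna
  have hVc : ∀ a ∈ V, ∀ b ∈ V, a * b = b * a := fun a ha b hb =>
    Cfsg.Agent.Lib.isElementaryAbelian_commute h.hV ha hb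
  have hAc : ∀ a ∈ A, ∀ b ∈ A, a * b = b * a := fun a ha b hb =>
    (mem_centralizer_iff.mp (hD.2 hb)) a (hAQ ha)
  have hAV : A ≤ normalizer (V : Set X) := hAQ.trans h.hQV
  have hVp : IsPGroup p V := Cfsg.Agent.Lib.isElementaryAbelian_isPGroup h.hV
  have hAq : IsPGroup q A := h.hQ.to_le hAQ
  have hcop : (Nat.card A).Coprime (Nat.card V) :=
    IsPGroup.coprime_card_of_ne q p (Ne.symm hpq) A V hAq hVp
  -- `ρ` generates `R₀`
  have hρ1 : ρ ≠ 1 := by
    intro h1; apply hρB; rw [h1]; exact one_mem _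
  have hρr : ρ ^ r = 1 := by
    have := pow_card_eq_one' (G := ↥R₀) (x := ⟨ρ, hρ⟩)
    rw [h.hR₀] at this
    exact congrArg Subtype.val this
  have hord : orderOf ρ = r := orderOf_eq_prime hρr hρ1
  -- powers of `ρ` do not normalize `B`
  have hpowB : ∀ i, 0 < i → i < r → ρ ^ i ∉ normalizer (B : Set X) := by
    intro i hi hir hmem
    have h1 : ρ ^ i ≠ 1 := by
      apply pow_ne_one_of_lt_orderOf hi.ne'
      rw [hord]; exact hir
    have h2 : R₀ ≤ zpowers (ρ ^ i) := le_zpowers_of_prime_card h.hR₀ (pow_mem hρ i) h1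
    have h3 : zpowers (ρ ^ i) ≤ normalizer (B : Set X) := (zpowers_le).mpr hmem
    exact hρB (h3 (h2 hρ))
  have hRA : R₀ ≤ normalizer (A : Set X) := fun g hg => commutator_mem_normalizer (h.hRQ hg)
  -- `|A : B| = q`
  have hBneA : B ≠ A := by
    intro heq; apply hW; rw [heq]; exact hfixA
  have hidx' : B.relIndex A = q := by
    have h1 : B.relIndex A ∣ Nat.card A := Subgroup.relIndex_dvd_card B A
    obtain ⟨k, hk⟩ := IsPGroup.iff_card.mp hAq
    rw [hk] at h1
    obtain ⟨j, hj, hj'⟩ := (Nat.dvd_prime_pow hq).mp h1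
    have h2 : B.relIndex A ≠ 1 := by
      intro h2; rw [Subgroup.relIndex_eq_one] at h2; exact hBneA (le_antisymm hBA h2)
    have h3 : j ≠ 0 := by
      intro h3; rw [h3, pow_zero] at hj'; exact h2 hj'
    have h4 : j ≤ 1 := by
      by_contra h4
      push Not at h4
      have h5 : q ^ 2 ≤ q ^ j := Nat.pow_le_pow_right hq.pos h4
      rw [← hj'] at h5
      have h6 : q ^ 2 ≤ q := h5.trans hidx
      nlinarith [hq.two_le]
    have : j = 1 := by omega
    rw [hj', this, pow_one]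
  have hB'A : ∀ i, B.map (MulAut.conj (ρ ^ i)).toMonoidHom ≤ A := by
    intro i
    rintro _ ⟨b, hb, rfl⟩
    exact (mem_normalizer_iff.mp (hRA (pow_mem hρ i)) b).mp (hBA hb)
  have hsup : ∀ i, 0 < i → i < r → B ⊔ B.map (MulAut.conj (ρ ^ i)).toMonoidHom = A := by
    intro i hi hir
    have hle : B ⊔ B.map (MulAut.conj (ρ ^ i)).toMonoidHom ≤ A := sup_le hBA (hB'A i)
    have hmul := Subgroup.relIndex_mul_relIndex B (B ⊔ B.map (MulAut.conj (ρ ^ i)).toMonoidHom) A
      le_sup_left hle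
    rw [hidx'] at hmul
    rcases (Nat.dvd_prime hq).mp (Dvd.intro_left _ hmul) with h1 | h1
    · exact le_antisymm hle (Subgroup.relIndex_eq_one.mp h1)
    · exfalso
      rw [h1] at hmul
      have h2 : B.relIndex (B ⊔ B.map (MulAut.conj (ρ ^ i)).toMonoidHom) = 1 :=
        Nat.eq_of_mul_eq_mul_right hq.pos (by rw [one_mul]; exact hmul)
      rw [Subgroup.relIndex_eq_one] at h2
      have h3 : B.map (MulAut.conj (ρ ^ i)).toMonoidHom ≤ B := le_sup_right.trans h2
      apply hpowB i hi hir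
      apply Subgroup.mem_normalizer_fintype
      intro n hn
      exact h3 ⟨n, hn, rfl⟩
  set W : Subgroup X := V ⊓ centralizer (B : Set X) with hWdef
  have hBV : B ≤ normalizer (V : Set X) := hBA.trans hAV
  have : IsMulCommutative V := h.hV.1
  have hcopBV : (Nat.card B).Coprime (Nat.card V) :=
    Nat.Coprime.coprime_dvd_left (Subgroup.card_dvd_of_le hBA) hcop
  have hWU : W ⊓ ⁅V, B⁆ = ⊥ := (Cfsg.Agent.S0055.result B V hBV hcopBV).1
  have hconj : ∀ i, 0 < i → i < r → ∀ w ∈ W, ρ ^ i * w * (ρ ^ i)⁻¹ ∈ ⁅V, B⁆ := by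
    intro i hi hir w hw
    have h1 : V ⊓ centralizer ((B.map (MulAut.conj (ρ ^ i)).toMonoidHom : Subgroup X) : Set X) ≤
        ⁅V, B⁆ :=
      fix_le_commutator_of_sup_eq hVc hAc hAV hcop hBA (hB'A i) (hsup i hi hir) hfixA
    apply h1
    refine mem_inf.mpr ⟨(mem_normalizer_iff.mp (h.hRV (pow_mem hρ i)) w).mp hw.1, ?_⟩
    rw [mem_centralizer_iff]
    rintro _ ⟨b, hb, rfl⟩
    have h2 : b * w = w * b := (mem_centralizer_iff.mp hw.2) b hb
    simp only [MulEquiv.coe_toMonoidHom, MulAut.conj_apply]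
    calc ρ ^ i * b * (ρ ^ i)⁻¹ * (ρ ^ i * w * (ρ ^ i)⁻¹) = ρ ^ i * (b * w) * (ρ ^ i)⁻¹ := by group
      _ = ρ ^ i * (w * b) * (ρ ^ i)⁻¹ := by rw [h2]
      _ = ρ ^ i * w * (ρ ^ i)⁻¹ * (ρ ^ i * b * (ρ ^ i)⁻¹) := by group
  have hcard := card_le_card_fixed hVc (h.hRV hρ) hr.pos hρr (inf_le_left : W ≤ V) hWU hconj
  have hgen : R₀ ≤ zpowers ρ := le_zpowers_of_prime_card h.hR₀ hρ hρ1
  have hle2 : V ⊓ centralizer ({ρ} : Set X) ≤ V ⊓ centralizer (R₀ : Set X) :=
    inf_le_inf_left V (centralizer_singleton_le hgen)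
  have hWp : Nat.card W ≤ p := hcard.trans ((Subgroup.card_le_of_le hle2).trans h.hCV)
  have hWcyc : IsCyclic W := by
    have hWpg : IsPGroup p W := hVp.to_le inf_le_left
    obtain ⟨k, hk⟩ := IsPGroup.iff_card.mp hWpg
    have hk0 : k ≠ 0 := by
      intro hk0; rw [hk0, pow_zero] at hk
      exact hW (Subgroup.card_eq_one.mp hk)
    have hk1 : k ≤ 1 := by
      by_contra hk1; push Not at hk1
      have h5 : p ^ 2 ≤ p ^ k := Nat.pow_le_pow_right hp.pos hk1
      rw [← hk] at h5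
      have h6 := h5.trans hWp
      nlinarith [hp.two_le]
    have : Nat.card W = p := by rw [hk, (by omega : k = 1), pow_one]
    exact isCyclic_of_prime_card this
  have hQB : Q ≤ normalizer (B : Set X) := le_normalizer_of_le_centralizer (hBA.trans hD.2)
  have hPB : P ≤ normalizer (B : Set X) := le_normalizer_of_le_centralizer (hBA.trans hD.1)
  have hQW : Q ≤ normalizer (W : Set X) := fun g hg => mem_normalizer_fix (h.hQV hg) (hQB hg)
  have hPW : P ≤ normalizer (W : Set X) := fun g hg => mem_normalizer_fix (h.hPV hg) (hPB hg)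
  have hQcW : Q ≤ centralizer (W : Set X) := by
    have := commutator_le_centralizer_of_isCyclic hWcyc hQW hPW
    rwa [h.hQP] at this
  have hWle : W ≤ V ⊓ centralizer (Q : Set X) := le_inf inf_le_left (le_centralizer_iff.mp hQcW)
  have hVQ : V ⊓ centralizer (Q : Set X) = V := by
    by_contra hne
    have := h.hirrV _ inf_le_left hne
      (fun g hg => mem_normalizer_fix (h.hQV hg) (le_normalizer hg))
      (fun g hg => mem_normalizer_fix (h.hPV hg) (h.hPQ hg))
      (fun g hg => mem_normalizer_fix (h.hRV hg) (h.hRQ hg))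
    rw [this, le_bot_iff] at hWle
    exact hW hWle
  have h1 : V ≤ centralizer (Q : Set X) := by rw [← hVQ]; exact inf_le_right
  have h2 : Q ≤ Q ⊓ centralizer (V : Set X) := le_inf le_rfl (le_centralizer_iff.mp h1)
  rw [h.hfaith, le_bot_iff] at h2
  exact h.hQ1 h2

/-- **(N2)** `|Q'| = q` -/
theorem card_commutator_eq [Finite X] {p q r : ℕ} [Fact p.Prime] [Fact q.Prime]
    [Fact r.Prime] (hpq : p ≠ q) {V Q P R₀ : Subgroup X} (h : FinalConfig p q r V Q P R₀)
    (hna : ¬ ∀ a ∈ Q, ∀ b ∈ Q, a * b = b * a) : Nat.card ↥(⁅Q, Q⁆ : Subgroup X) = q := by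
  have hq : q.Prime := Fact.out
  have hp : p.Prime := Fact.out
  set A : Subgroup X := ⁅Q, Q⁆ with hA
  have hAQ : A ≤ Q := commutator_le_self Q
  have hAq : IsPGroup q A := h.hQ.to_le hAQ
  have hA1 : A ≠ ⊥ := by
    intro hA1
    apply hna
    intro a ha b hb
    have h3 := Subgroup.commutator_eq_bot_iff_le_centralizer.mp hA1
    exact ((mem_centralizer_iff.mp (h3 ha)) b hb).symm
  obtain ⟨k, hk⟩ := IsPGroup.iff_card.mp hAq
  have hk0 : k ≠ 0 := by
    intro hk0; rw [hk0, pow_zero] at hk; exact hA1 (Subgroup.card_eq_one.mp hk)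
  by_contra hcard
  have hk2 : 2 ≤ k := by
    by_contra hk2
    have : k = 1 := by omega
    rw [this, pow_one] at hk; exact hcard hk
  have hq2 : q ^ 2 ≤ Nat.card A := by rw [hk]; exact Nat.pow_le_pow_right hq.pos hk2
  have hD := commutator_le_centralizers h
  have hEA : Cfsg.IsElementaryAbelian q A :=
    ⟨⟨⟨fun a b => Subtype.ext ((mem_centralizer_iff.mp (hD.2 b.2)) a (hAQ a.2))⟩⟩,
      commutator_pow_eq_one h⟩
  have hVp : IsPGroup p V := Cfsg.Agent.Lib.isElementaryAbelian_isPGroup h.hV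
  have hqV : ¬ q ∣ Nat.card V := by
    obtain ⟨j, hj⟩ := IsPGroup.iff_card.mp hVp
    rw [hj]
    intro hdvd
    exact hpq ((Nat.prime_dvd_prime_iff_eq hq hp).mp (hq.dvd_of_dvd_pow hdvd)).symm
  have hgen := Cfsg.Agent.S1324.result q A V hEA hq2 hqV (hAQ.trans h.hQV)
  obtain ⟨B, hB⟩ : ∃ B : {B : Subgroup X // B ≤ A ∧ B.relIndex A ≤ q},
      V ⊓ centralizer ((B : Subgroup X) : Set X) ≠ ⊥ := by
    by_contra hcon
    push Not at hcon
    apply V_ne_bot h
    rw [hgen]
    exact iSup_eq_bot.mpr hcon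
  obtain ⟨B, hBA, hidx⟩ := B
  by_cases hR : R₀ ≤ normalizer (B : Set X)
  · have hB0 := invariant_hyperplane_eq_bot h hBA hR hB
    rw [hB0, Subgroup.relIndex_bot_left] at hidx
    have := hq2.trans hidx
    nlinarith [hq.two_le]
  · obtain ⟨ρ, hρ, hρB⟩ := SetLike.not_le_iff_exists.mp hR
    exact noninvariant_hyperplane_false hpq h hna hBA hidx hB hρ hρB

/-- `|C_Q(R₀) : C_Q(P R₀)|` divides `q` -/
theorem relIndex_dvd {X : Type*} [Group X] [Finite X] {p q r : ℕ} [Fact q.Prime]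
    {V Q P R₀ : Subgroup X} (h : FinalConfig p q r V Q P R₀) :
    (Q ⊓ centralizer ((P ⊔ R₀ : Subgroup X) : Set X)).relIndex (Q ⊓ centralizer (R₀ : Set X)) ∣ q := by
  set C₀ : Subgroup X := Q ⊓ centralizer (R₀ : Set X) with hC₀
  set Z₀ : Subgroup X := Q ⊓ centralizer ((P ⊔ R₀ : Subgroup X) : Set X) with hZ₀
  set K : Subgroup ↥C₀ := Z₀.subgroupOf C₀ with hK
  have hcyc : IsCyclic ↥C₀ := h.hCQ
  have hcomm : ∀ a b : ↥C₀, a * b = b * a := by
    obtain ⟨g, hg⟩ := IsCyclic.exists_generator (α := ↥C₀)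
    intro a b
    obtain ⟨i, rfl⟩ := mem_zpowers_iff.mp (hg a)
    obtain ⟨j, rfl⟩ := mem_zpowers_iff.mp (hg b)
    exact Commute.zpow_zpow_self g i j
  have hKn : K.Normal := ⟨fun n hn g => by rw [hcomm g n, mul_inv_cancel_right]; exact hn⟩
  have hcycG : IsCyclic (↥C₀ ⧸ K) :=
    isCyclic_of_surjective (QuotientGroup.mk' K) (QuotientGroup.mk'_surjective K)
  have hexp : Monoid.exponent (↥C₀ ⧸ K) ∣ q := by
    apply Monoid.exponent_dvd_of_forall_pow_eq_one
    intro x
    obtain ⟨g, rfl⟩ := QuotientGroup.mk'_surjective K x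
    rw [← map_pow, QuotientGroup.mk'_apply, QuotientGroup.eq_one_iff]
    rw [hK, mem_subgroupOf]
    have hgQ : (g : X) ∈ Q := g.2.1
    have h1 : (g : X) ^ q ∈ frat Q := pow_mem_frat h.hQ hgQ
    have h2 : (g : X) ^ q ∈ centralizer (P : Set X) := (frat_le_centralizers h).1 h1
    have h3 : (g : X) ^ q ∈ C₀ := pow_mem g.2 q
    rw [Subgroup.coe_pow]
    refine mem_inf.mpr ⟨h3.1, ?_⟩
    rw [centralizer_sup_eq]
    exact ⟨h2, h3.2⟩
  rw [IsCyclic.exponent_eq_card] at hexp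
  have : Z₀.relIndex C₀ = Nat.card (↥C₀ ⧸ K) := Subgroup.index_eq_card K
  rw [this]; exact hexp

/-- **B-G Theorem 3.6, final configuration, nonabelian case.** -/
theorem nonabelian_false {X : Type*} [Group X] [Finite X] [Group.IsSolvable X]
    (hodd : Odd (Nat.card X)) {p q r : ℕ} [Fact p.Prime] [Fact q.Prime] [Fact r.Prime]
    (hpq : p ≠ q) (hrp : r ≠ p) (hrq : r ≠ q) (V Q P R₀ : Subgroup X)
    (h : FinalConfig p q r V Q P R₀) (hna : ¬ ∀ a ∈ Q, ∀ b ∈ Q, a * b = b * a) : False := by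
  have hq : q.Prime := Fact.out
  have hp : p.Prime := Fact.out
  have hr : r.Prime := Fact.out
  -- (N3)
  obtain ⟨n, hn⟩ := CenterSq.index_center_subgroup Q h.hQ (card_commutator_eq hpq h hna)
  set Z : Subgroup X := Q ⊓ centralizer (Q : Set X) with hZ
  have hZmap : (center ↥Q).map Q.subtype = Z := by
    ext x
    constructor
    · rintro ⟨z, hz, rfl⟩
      refine mem_inf.mpr ⟨z.2, ?_⟩
      rw [mem_centralizer_iff]
      intro y hy
      have := (Subgroup.mem_center_iff.mp hz) ⟨y, hy⟩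
      exact congrArg Subtype.val this
    · intro hx
      have hx' := mem_inf.mp hx
      refine Subgroup.mem_map.mpr ⟨⟨x, hx'.1⟩, ?_, rfl⟩
      rw [Subgroup.mem_center_iff]
      intro g
      exact Subtype.ext ((mem_centralizer_iff.mp hx'.2) g g.2)
  have hZcard : Nat.card Z = Nat.card (center ↥Q) := by
    rw [← hZmap, Subgroup.card_subtype]
  have hQcard : Nat.card Q = Nat.card Z * q ^ (2 * n) := by
    rw [hZcard, ← hn]; exact (Subgroup.card_mul_index (center ↥Q)).symm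
  -- `C_Q(P) = Z`
  have hCP : Q ⊓ centralizer (P : Set X) = Z :=
    le_antisymm (le_inf inf_le_left (centralizer_le_center h))
      (le_inf inf_le_left (center_le_centralizer h hna))
  -- the Frobenius fixed point formula
  have hR1 : R₀ ≠ ⊥ := by
    intro h1
    have h2 := h.hR₀
    rw [h1, Subgroup.card_bot] at h2
    exact hr.one_lt.ne h2
  have hUn : ∀ e ∈ R₀, ∀ u ∈ P, e * u * e⁻¹ ∈ P := fun e he u hu =>
    (mem_normalizer_iff.mp (h.hRP he) u).mp hu
  have hfpf : ∀ e ∈ R₀, e ≠ 1 → ∀ u ∈ P, e * u = u * e → u = 1 := by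
    intro e he he1 u hu hcomm
    have hgen := le_zpowers_of_prime_card h.hR₀ he he1
    have h1 : u ∈ centralizer ({e} : Set X) := by
      rw [mem_centralizer_iff]
      intro y hy
      rw [Set.mem_singleton_iff] at hy
      subst hy
      exact hcomm
    have h2 : u ∈ P ⊓ centralizer (R₀ : Set X) := ⟨hu, centralizer_singleton_le hgen h1⟩
    rw [h.hCP] at h2
    exact mem_bot.mp h2
  have hinv : ∀ x ∈ P ⊔ R₀, ∀ y ∈ Q, x * y * x⁻¹ ∈ Q := fun x hx y hy =>
    (mem_normalizer_iff.mp ((sup_le h.hPQ h.hRQ) hx) y).mp hy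
  have hsolvQ : Group.IsSolvable ↥Q := inferInstance
  have hcop : Nat.Coprime (Nat.card Q) (Nat.card ↥(P ⊔ R₀)) := by
    obtain ⟨k, hk⟩ := IsPGroup.iff_card.mp h.hQ
    rw [hk]
    apply Nat.Coprime.pow_left
    rw [Nat.Prime.coprime_iff_not_dvd hq, sup_comm]
    apply Cfsg.Agent.Helper22.not_dvd_card_sup_of_le_normalizer q hq R₀ P h.hRP
    · rw [h.hR₀]
      intro hd
      exact hrq ((Nat.prime_dvd_prime_iff_eq hq hr).mp hd).symm
    · obtain ⟨j, hj⟩ := IsPGroup.iff_card.mp h.hP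
      rw [hj]
      intro hd
      exact hpq ((Nat.prime_dvd_prime_iff_eq hq hp).mp (hq.dvd_of_dvd_pow hd)).symm
  have hform := Cfsg.Agent.Helper62.FrobAct.frobenius_fixed_point_formula P R₀ hR1 hUn hfpf
    (Nat.card Q) Q rfl hinv hsolvQ hcop
  rw [h.hR₀, hCP] at hform
  set C₀ : Subgroup X := Q ⊓ centralizer (R₀ : Set X) with hC₀
  set Z₀ : Subgroup X := Q ⊓ centralizer ((P ⊔ R₀ : Subgroup X) : Set X) with hZ₀
  have hZ₀C₀ : Z₀ ≤ C₀ :=
    inf_le_inf_left Q (centralizer_le (SetLike.coe_subset_coe.mpr le_sup_right))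
  have hj : Z₀.relIndex C₀ ∣ q := relIndex_dvd h
  have hC₀card : Nat.card C₀ = Nat.card Z₀ * Z₀.relIndex C₀ := by
    have h1 := Subgroup.card_mul_index (Z₀.subgroupOf C₀)
    have h2 : Nat.card ↥(Z₀.subgroupOf C₀) = Nat.card Z₀ :=
      Nat.card_congr (Subgroup.subgroupOfEquivOfLe hZ₀C₀).toEquiv
    rw [h2] at h1
    exact h1.symm
  rw [hC₀card, hQcard, mul_pow] at hform
  -- cancel
  have hpos : 0 < Nat.card Z₀ ^ r * Nat.card Z := Nat.mul_pos (pow_pos Nat.card_pos r) Nat.card_pos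
  have hkey : q ^ (2 * n) = Z₀.relIndex C₀ ^ r := by
    apply Nat.eq_of_mul_eq_mul_left hpos
    calc Nat.card Z₀ ^ r * Nat.card Z * q ^ (2 * n)
        = Nat.card Z₀ ^ r * (Nat.card Z * q ^ (2 * n)) := by ring
      _ = Nat.card Z₀ ^ r * Z₀.relIndex C₀ ^ r * Nat.card Z := hform
      _ = Nat.card Z₀ ^ r * Nat.card Z * Z₀.relIndex C₀ ^ r := by ring
  rcases (Nat.dvd_prime hq).mp hj with h1 | h1
  · -- index 1: `Q` abelian
    rw [h1, one_pow] at hkey
    rw [hkey] at hn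
    have htop : center ↥Q = ⊤ := Subgroup.index_eq_one.mp hn
    apply hna
    intro a ha b hb
    have h2 : (⟨a, ha⟩ : ↥Q) ∈ center ↥Q := by rw [htop]; exact mem_top _
    have h3 := (Subgroup.mem_center_iff.mp h2) ⟨b, hb⟩
    exact (congrArg Subtype.val h3).symm
  · -- index `q`: `r` even
    rw [h1] at hkey
    have h2 : 2 * n = r := Nat.pow_right_injective hq.two_le hkey
    have h3 : r ∣ Nat.card X := by
      rw [← h.hR₀]; exact Subgroup.card_subgroup_dvd_card R₀
    have h4 : Odd r := Odd.of_dvd_nat hodd h3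
    obtain ⟨m, hm⟩ := h4
    omega

end Cfsg.Agent.Helper60.BG36N
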