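import Cfsg.Agent.Helper60.Hall

/-!
# Prime graphs of finite solvable groups

Main result `hasEdge_of_solvable`: in a finite solvable group, among any three distinct primes
dividing the order, two are joined in the prime graph (there is an element of order their product).
-/

set_option autoImplicit false

namespace Cfsg.Agent.Helper60

open Subgroup

universe u

section Partition

variable {G V : Type*} [Group G] [CommGroup V] (φ : G →* MulAut V)

/-- The "norm" of `v` under a cyclic group of order dividing `q` is fixed by the generator. -/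
theorem normCyc_fixed (g : G) (q : ℕ) (hg : g ^ q = 1) (v : V) :
    φ g (∏ i ∈ Finset.range q, φ (g ^ i) v) = ∏ i ∈ Finset.range q, φ (g ^ i) v := by
  rw [map_prod]
  have h1 : ∀ i, φ g (φ (g ^ i) v) = φ (g ^ (i + 1)) v := by
    intro i
    rw [pow_succ', map_mul, MulAut.mul_apply]
  simp_rw [h1]
  have e1 := Finset.prod_range_succ' (fun i => φ (g ^ i) v) q
  have e2 := Finset.prod_range_succ (fun i => φ (g ^ i) v) q
  rw [e1] at e2
  simp only [hg, pow_zero, map_one, MulAut.one_apply] at e2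
  exact mul_right_cancel e2

/-- conjugating by powers of `y` preserves `R`. -/
theorem conj_pow_mem (R : Subgroup G) (y : G) (hnorm : ∀ u ∈ R, y * u * y⁻¹ ∈ R) (i : ℕ) :
    ∀ u ∈ R, y ^ i * u * (y ^ i)⁻¹ ∈ R := by
  induction i with
  | zero => intro u hu; simpa using hu
  | succ i ih =>
    intro u hu
    have := hnorm _ (ih u hu)
    have e : y ^ (i + 1) * u * (y ^ (i + 1))⁻¹ = y * (y ^ i * u * (y ^ i)⁻¹) * y⁻¹ := by
      rw [pow_succ']; group
    rw [e]; exact this

theorem mul_pow_mul_inv_mem (R : Subgroup G) (y : G) (hnorm : ∀ u ∈ R, y * u * y⁻¹ ∈ R) (u : G)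
    (hu : u ∈ R) (i : ℕ) : (u * y) ^ i * (y ^ i)⁻¹ ∈ R := by
  induction i with
  | zero => simp
  | succ i ih =>
    have h2 := conj_pow_mem R y hnorm i u hu
    have e : (u * y) ^ (i + 1) * (y ^ (i + 1))⁻¹ =
        ((u * y) ^ i * (y ^ i)⁻¹) * (y ^ i * u * (y ^ i)⁻¹) := by
      rw [pow_succ, pow_succ]; group
    rw [e]; exact R.mul_mem ih h2

theorem eq_of_pow_eq_of_coprime {g h : G} {q i : ℕ} (hg : g ^ q = 1) (hh : h ^ q = 1)
    (hq : 1 < q) (hcop : Nat.Coprime i q) (e : g ^ i = h ^ i) : g = h := by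
  obtain ⟨m, -, hm⟩ := Nat.exists_mul_mod_eq_one_of_coprime hcop hq
  have hg' : g ^ (i * m) = g := by
    rw [pow_eq_pow_mod (i * m) hg, hm, pow_one]
  have hh' : h ^ (i * m) = h := by
    rw [pow_eq_pow_mod (i * m) hh, hm, pow_one]
  rw [← hg', ← hh', pow_mul, pow_mul, e]

/-- The product over `R` of the translates of `w` is `1` when some nonidentity element of `R` acts
fixed-point-freely. -/
theorem normR_eq_one (R : Subgroup G) [Fintype R] (hRne : R ≠ ⊥)
    (h1 : ∀ u ∈ R, u ≠ 1 → ∀ v : V, φ u v = v → v = 1) (w : V) :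
    ∏ u : R, φ (u : G) w = 1 := by
  obtain ⟨u₀, hu₀R, hu₀⟩ : ∃ a ∈ R, a ≠ 1 := by
    by_contra h
    push Not at h
    exact hRne ((Subgroup.eq_bot_iff_forall R).mpr h)
  apply h1 u₀ hu₀R hu₀
  rw [map_prod]
  have : ∀ u : R, φ u₀ (φ (u : G) w) = φ (((⟨u₀, hu₀R⟩ : R) * u : R) : G) w := by
    intro u
    rw [Subgroup.coe_mul, map_mul, MulAut.mul_apply]
  simp_rw [this]
  exact Equiv.prod_comp (Equiv.mulLeft (⟨u₀, hu₀R⟩ : R)) (fun u : R => φ (u : G) w)

theorem pow_card_eq_one_of_fpf (R : Subgroup G) [Finite R] (y : G) (q : ℕ) (hq : q.Prime)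
    (hRne : R ≠ ⊥)
    (hnorm : ∀ u ∈ R, y * u * y⁻¹ ∈ R)
    (h1 : ∀ u ∈ R, u ≠ 1 → ∀ v : V, φ u v = v → v = 1)
    (h2 : ∀ g : G, orderOf g = q → ∀ v : V, φ g v = v → v = 1)
    (h3 : ∀ u ∈ R, orderOf (u * y) = q) (v : V) :
    v ^ Nat.card R = 1 := by
  classical
  let _ : Fintype R := Fintype.ofFinite R
  -- each cyclic norm is trivial
  have hcyc : ∀ u : R, ∏ i ∈ Finset.range q, φ (((u : G) * y) ^ i) v = 1 := by
    intro u
    have ho := h3 u u.2
    apply h2 _ ho
    apply normCyc_fixed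
    rw [← ho, pow_orderOf_eq_one]
  have htot : ∏ u : R, ∏ i ∈ Finset.range q, φ (((u : G) * y) ^ i) v = 1 := by
    simp_rw [hcyc]; simp
  rw [Finset.prod_comm] at htot
  obtain ⟨q', rfl⟩ : ∃ q', q = q' + 1 := ⟨q - 1, by have := hq.pos; omega⟩
  rw [Finset.prod_range_succ'] at htot
  have hrest : ∀ i ∈ Finset.range q', ∏ u : R, φ (((u : G) * y) ^ (i + 1)) v = 1 := by
    intro i hi
    rw [Finset.mem_range] at hi
    -- the bijection ψ
    let ψ : R → R := fun u => ⟨((u : G) * y) ^ (i + 1) * (y ^ (i + 1))⁻¹,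
      mul_pow_mul_inv_mem R y hnorm u u.2 (i + 1)⟩
    have hψinj : Function.Injective ψ := by
      intro u u' e
      have e' : ((u : G) * y) ^ (i + 1) * (y ^ (i + 1))⁻¹ = ((u' : G) * y) ^ (i + 1) * (y ^ (i + 1))⁻¹ :=
        congrArg Subtype.val e
      have e'' := mul_right_cancel e'
      have hcop : Nat.Coprime (i + 1) (q' + 1) := by
        apply Nat.Coprime.symm
        rw [Nat.Prime.coprime_iff_not_dvd hq]
        intro hd
        have := Nat.le_of_dvd (Nat.succ_pos i) hd
        omega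
      have hu := h3 u u.2
      have hu' := h3 u' u'.2
      have := eq_of_pow_eq_of_coprime (q := q' + 1) (by rw [← hu, pow_orderOf_eq_one])
        (by rw [← hu', pow_orderOf_eq_one]) hq.one_lt hcop e''
      exact Subtype.ext (mul_right_cancel this)
    have hψbij : Function.Bijective ψ := Finite.injective_iff_bijective.mp hψinj
    have hterm : ∀ u : R, φ (((u : G) * y) ^ (i + 1)) v = φ ((ψ u : R) : G) (φ (y ^ (i + 1)) v) := by
      intro u
      rw [← MulAut.mul_apply, ← map_mul]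
      congr 2
      simp [ψ]
    simp_rw [hterm]
    rw [Function.Bijective.prod_comp hψbij (fun u : R => φ (u : G) (φ (y ^ (i + 1)) v))]
    exact normR_eq_one φ R hRne h1 _
  rw [Finset.prod_eq_one hrest, one_mul] at htot
  simpa [Nat.card_eq_fintype_card] using htot

end Partition

/-- "Some two of the three primes are adjacent in the prime graph." -/
def HasEdge (G : Type u) [Group G] (p q r : ℕ) : Prop :=
  (∃ x : G, orderOf x = p * q) ∨ (∃ x : G, orderOf x = p * r) ∨ (∃ x : G, orderOf x = q * r)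

theorem HasEdge.swap12 {G : Type u} [Group G] {p q r : ℕ} (h : HasEdge G p q r) : HasEdge G q p r := by
  unfold HasEdge at *
  rcases h with ⟨x, hx⟩ | ⟨x, hx⟩ | ⟨x, hx⟩
  · exact Or.inl ⟨x, by rw [hx, mul_comm]⟩
  · exact Or.inr (Or.inr ⟨x, hx⟩)
  · exact Or.inr (Or.inl ⟨x, hx⟩)

theorem HasEdge.swap23 {G : Type u} [Group G] {p q r : ℕ} (h : HasEdge G p q r) : HasEdge G p r q := by
  unfold HasEdge at *
  rcases h with ⟨x, hx⟩ | ⟨x, hx⟩ | ⟨x, hx⟩
  · exact Or.inr (Or.inl ⟨x, hx⟩)
  · exact Or.inl ⟨x, hx⟩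
  · exact Or.inr (Or.inr ⟨x, by rw [hx, mul_comm]⟩)

theorem orderOf_mul_of_commute_prime {G : Type u} [Group G] {a b : G} {m n : ℕ} (hc : Commute a b)
    (ha : orderOf a = m) (hb : orderOf b = n) (hcop : Nat.Coprime m n) : orderOf (a * b) = m * n := by
  rw [← ha, ← hb]
  exact hc.orderOf_mul_eq_mul_orderOf_of_coprime (by rw [ha, hb]; exact hcop)

theorem core {G : Type u} [Group G] [Finite G] (p q r : ℕ) (hp : p.Prime) (hq : q.Prime)
    (hr : r.Prime) (hpq : p ≠ q) (hpr : p ≠ r) (hqr : q ≠ r)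
    (N : Subgroup G) [hNn : N.Normal] (hNne : N ≠ ⊥) (hNc : ∀ a ∈ N, ∀ b ∈ N, a * b = b * a)
    (hNp : ∀ a ∈ N, a ^ p = 1)
    (R : Subgroup G) (hRne : R ≠ ⊥) (hRc : ∀ a ∈ R, ∀ b ∈ R, a * b = b * a)
    (hRr : ∀ a ∈ R, a ^ r = 1)
    (y : G) (hy : orderOf y = q) (hnorm : ∀ u ∈ R, y * u * y⁻¹ ∈ R) :
    HasEdge G p q r := by
  by_contra hcon
  unfold HasEdge at hcon
  push Not at hcon
  obtain ⟨hnpq, hnpr, hnqr⟩ := hcon
  have hcop_pq : Nat.Coprime p q := (Nat.coprime_primes hp hq).mpr hpq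
  have hcop_pr : Nat.Coprime p r := (Nat.coprime_primes hp hr).mpr hpr
  have hcop_qr : Nat.Coprime q r := (Nat.coprime_primes hq hr).mpr hqr
  have : Fact p.Prime := ⟨hp⟩
  have : Fact q.Prime := ⟨hq⟩
  have : Fact r.Prime := ⟨hr⟩
  let _ : CommGroup N := { (inferInstance : Group N) with
    mul_comm := fun a b => Subtype.ext (hNc a a.2 b b.2) }
  let φ : G →* MulAut N := MulAut.conjNormal
  have hφ : ∀ (g : G) (v : N), ((φ g v : N) : G) = g * v * g⁻¹ := fun g v => MulAut.conjNormal_apply g v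
  -- elements of N of order p
  have hNord : ∀ v : N, v ≠ 1 → orderOf (v : G) = p := by
    intro v hv
    apply orderOf_eq_prime (hNp v v.2)
    intro h
    exact hv (Subtype.ext h)
  -- fixed points of elements of prime order
  have hfix : ∀ (g : G) (l : ℕ), orderOf g = l → Nat.Coprime p l → (∀ x : G, orderOf x ≠ p * l) →
      ∀ v : N, φ g v = v → v = 1 := by
    intro g l hg hcop hno v hv
    by_contra hv1
    have hvo := hNord v hv1
    have hcomm : Commute (v : G) g := by
      have := congrArg Subtype.val hv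
      rw [hφ] at this
      unfold Commute SemiconjBy
      calc (v : G) * g = (g * v * g⁻¹) * g := by rw [this]
        _ = g * v := by group
    exact hno _ (orderOf_mul_of_commute_prime hcomm hvo hg hcop)
  have h1 : ∀ u ∈ R, u ≠ 1 → ∀ v : N, φ u v = v → v = 1 := by
    intro u hu hu1
    exact hfix u r (orderOf_eq_prime (hRr u hu) hu1) hcop_pr hnpr
  have h2 : ∀ g : G, orderOf g = q → ∀ v : N, φ g v = v → v = 1 := by
    intro g hg
    exact hfix g q hg hcop_pq hnpq
  have hyq : y ^ q = 1 := by rw [← hy, pow_orderOf_eq_one]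
  have h3 : ∀ u ∈ R, orderOf (u * y) = q := by
    intro u hu
    have hz : (u * y) ^ q ∈ R := by
      have := mul_pow_mul_inv_mem R y hnorm u hu q
      rwa [hyq, inv_one, mul_one] at this
    have hzy : Commute ((u * y) ^ q) y := by
      have c1 : Commute ((u * y) ^ q) (u * y) := (Commute.refl (u * y)).pow_left q
      have c2 : Commute ((u * y) ^ q) u := hRc _ hz _ hu
      have hyeq : y = u⁻¹ * (u * y) := by group
      have c3 : Commute ((u * y) ^ q) (u⁻¹ * (u * y)) := c2.inv_right.mul_right c1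
      rwa [← hyeq] at c3
    have hz1 : (u * y) ^ q = 1 := by
      by_contra hne
      have hzo : orderOf ((u * y) ^ q) = r := orderOf_eq_prime (hRr _ hz) hne
      have := orderOf_mul_of_commute_prime hzy hzo hy hcop_qr.symm
      rw [mul_comm] at this
      exact hnqr _ this
    apply orderOf_eq_prime hz1
    intro h
    have hyR : y ∈ R := by
      have : y = u⁻¹ := by
        rw [eq_inv_iff_mul_eq_one]
        calc y * u = u⁻¹ * (u * y) * u := by group
          _ = 1 := by rw [h]; group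
      rw [this]
      exact R.inv_mem hu
    have hyr : y ^ r = 1 := hRr y hyR
    have hdvd : q ∣ r := by
      rw [← hy]; exact orderOf_dvd_of_pow_eq_one hyr
    exact hqr ((Nat.prime_dvd_prime_iff_eq hq hr).mp hdvd)
  have hfin := pow_card_eq_one_of_fpf φ R y q hq hRne hnorm h1 h2 h3
  obtain ⟨k, hk⟩ := card_eq_prime_pow_of_exponent (G := R) hr
    (fun a => Subtype.ext (by simpa using hRr a a.2))
  apply hNne
  rw [Subgroup.eq_bot_iff_forall]
  intro x hx
  have hx1 : (⟨x, hx⟩ : N) ^ Nat.card R = 1 := hfin ⟨x, hx⟩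
  have hx2 : x ^ (r ^ k) = 1 := by
    have := congrArg Subtype.val hx1
    rw [hk] at this
    simpa using this
  have hx3 : x ^ p = 1 := hNp x hx
  have hd1 : orderOf x ∣ r ^ k := orderOf_dvd_of_pow_eq_one hx2
  have hd2 : orderOf x ∣ p := orderOf_dvd_of_pow_eq_one hx3
  have hcop : Nat.Coprime (r ^ k) p := (hcop_pr.symm).pow_left k
  have : orderOf x = 1 := Nat.eq_one_of_dvd_coprimes hcop hd1 hd2
  exact orderOf_eq_one_iff.mp this

theorem exists_orderOf_eq_of_surjective {G H : Type*} [Group G] [Group H] [Finite G] (f : G →* H)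
    (hf : Function.Surjective f) {m : ℕ} (h : ∃ x : H, orderOf x = m) :
    ∃ g : G, orderOf g = m := by
  obtain ⟨x, hx⟩ := h
  obtain ⟨g, rfl⟩ := hf x
  have hdvd : m ∣ orderOf g := hx ▸ orderOf_map_dvd f g
  have hpos : 0 < orderOf g := orderOf_pos g
  have hmpos : 0 < m := Nat.pos_of_dvd_of_pos hdvd hpos
  refine ⟨g ^ (orderOf g / m), ?_⟩
  rw [orderOf_pow_of_dvd (Nat.div_pos (Nat.le_of_dvd hpos hdvd) hmpos).ne'
    (Nat.div_dvd_of_dvd hdvd)]
  exact Nat.div_div_self hdvd hpos.ne'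

theorem HasEdge.of_surjective {G H : Type u} [Group G] [Group H] [Finite G] (f : G →* H)
    (hf : Function.Surjective f) {p q r : ℕ} (h : HasEdge H p q r) : HasEdge G p q r := by
  unfold HasEdge at *
  rcases h with h | h | h
  · exact Or.inl (exists_orderOf_eq_of_surjective f hf h)
  · exact Or.inr (Or.inl (exists_orderOf_eq_of_surjective f hf h))
  · exact Or.inr (Or.inr (exists_orderOf_eq_of_surjective f hf h))

theorem HasEdge.of_injective {G H : Type u} [Group G] [Group H] (f : H →* G)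
    (hf : Function.Injective f) {p q r : ℕ} (h : HasEdge H p q r) : HasEdge G p q r := by
  unfold HasEdge at *
  rcases h with ⟨x, hx⟩ | ⟨x, hx⟩ | ⟨x, hx⟩
  · exact Or.inl ⟨f x, by rw [orderOf_injective f hf, hx]⟩
  · exact Or.inr (Or.inl ⟨f x, by rw [orderOf_injective f hf, hx]⟩)
  · exact Or.inr (Or.inr ⟨f x, by rw [orderOf_injective f hf, hx]⟩)

theorem hasEdge_of_normal_sylow {G : Type u} [Group G] [Finite G] [Group.IsSolvable G]
    (p q r : ℕ) (hp : p.Prime) (hq : q.Prime) (hr : r.Prime) (hpq : p ≠ q) (hpr : p ≠ r)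
    (hqr : q ≠ r) (N : Subgroup G) [hNn : N.Normal] (hNne : N ≠ ⊥)
    (hNc : ∀ a ∈ N, ∀ b ∈ N, a * b = b * a) (hNp : ∀ a ∈ N, a ^ p = 1)
    (hidx : ¬ p ∣ N.index) (hqG : q ∣ Nat.card G) (hrG : r ∣ Nat.card G) :
    HasEdge G p q r := by
  obtain ⟨k, hk⟩ := card_eq_prime_pow_of_exponent (G := N) hp
    (fun a => Subtype.ext (by simpa using hNp a a.2))
  have hcop : Nat.Coprime (Nat.card N) N.index := by
    rw [hk]
    apply Nat.Coprime.pow_left
    rwa [Nat.Prime.coprime_iff_not_dvd hp]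
  obtain ⟨T, hT⟩ := Subgroup.exists_right_complement'_of_coprime hcop
  have hcardT : Nat.card T = N.index := (hT.symm.index_eq_card).symm
  have hGeq : Nat.card N * N.index = Nat.card G := Subgroup.card_mul_index N
  have hdvdT : ∀ l : ℕ, l.Prime → l ≠ p → l ∣ Nat.card G → l ∣ Nat.card T := by
    intro l hl hlp hlG
    rw [hcardT]
    rw [← hGeq, hk] at hlG
    rcases (Nat.Prime.dvd_mul hl).mp hlG with h | h
    · exact absurd ((Nat.prime_dvd_prime_iff_eq hl hp).mp (hl.dvd_of_dvd_pow h)) hlp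
    · exact h
  have hqT := hdvdT q hq (Ne.symm hpq) hqG
  have hrT := hdvdT r hr (Ne.symm hpr) hrG
  obtain ⟨T₁, hT₁a, hT₁b⟩ := exists_hall (fun l => l = q ∨ l = r) T
  have hT₁eq : Nat.card T₁ * T₁.index = Nat.card T := Subgroup.card_mul_index T₁
  have hqT₁ : q ∣ Nat.card T₁ := by
    rw [← hT₁eq] at hqT
    rcases (Nat.Prime.dvd_mul hq).mp hqT with h | h
    · exact h
    · exact absurd (Or.inl rfl) (hT₁b q hq h)
  have hrT₁ : r ∣ Nat.card T₁ := by
    rw [← hT₁eq] at hrT
    rcases (Nat.Prime.dvd_mul hr).mp hrT with h | h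
    · exact h
    · exact absurd (Or.inr rfl) (hT₁b r hr h)
  have hnt : Nontrivial T₁ := by
    rw [← Finite.one_lt_card_iff_nontrivial]
    have := Nat.le_of_dvd Nat.card_pos hqT₁
    have := hq.two_le
    omega
  obtain ⟨R₁, l', hR₁n, hR₁ne, hl', hR₁c, hR₁l⟩ := exists_normal_elementary_abelian (G := T₁)
  -- l' divides |T₁|
  have hl'T₁ : l' ∣ Nat.card T₁ := by
    obtain ⟨k', hk'⟩ := card_eq_prime_pow_of_exponent (G := R₁) hl'
      (fun a => Subtype.ext (by simpa using hR₁l a a.2))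
    have h1 : 1 < Nat.card R₁ := (Subgroup.one_lt_card_iff_ne_bot (H := R₁)).mpr hR₁ne
    have hk0 : k' ≠ 0 := by
      rintro rfl
      rw [pow_zero] at hk'
      omega
    have : l' ∣ Nat.card R₁ := by
      rw [hk']; exact dvd_pow_self l' hk0
    exact this.trans (Subgroup.card_subgroup_dvd_card R₁)
  have hl'π := hT₁a l' hl' hl'T₁
  -- the embedding
  let ι : T₁ →* G := T.subtype.comp T₁.subtype
  have hι : Function.Injective ι := T.subtype_injective.comp T₁.subtype_injective
  let R : Subgroup G := R₁.map ι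
  have hRne : R ≠ ⊥ := by
    intro h
    apply hR₁ne
    exact (Subgroup.map_eq_bot_iff_of_injective R₁ hι).mp h
  have hRc : ∀ a ∈ R, ∀ b ∈ R, a * b = b * a := by
    rintro a ⟨a₁, ha₁, rfl⟩ b ⟨b₁, hb₁, rfl⟩
    rw [← map_mul, ← map_mul, hR₁c a₁ ha₁ b₁ hb₁]
  have hRl : ∀ a ∈ R, a ^ l' = 1 := by
    rintro a ⟨a₁, ha₁, rfl⟩
    rw [← map_pow, hR₁l a₁ ha₁, map_one]
  have hnorm : ∀ y₁ : T₁, ∀ u ∈ R, ι y₁ * u * (ι y₁)⁻¹ ∈ R := by
    rintro y₁ u ⟨u₁, hu₁, rfl⟩
    refine ⟨y₁ * u₁ * y₁⁻¹, hR₁n.conj_mem u₁ hu₁ y₁, ?_⟩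
    simp
  have : Fact q.Prime := ⟨hq⟩
  have : Fact r.Prime := ⟨hr⟩
  rcases hl'π with rfl | rfl
  · -- R is a q-group; take y of order r
    obtain ⟨y₁, hy₁⟩ := exists_prime_orderOf_dvd_card' r hrT₁
    have hy : orderOf (ι y₁) = r := by rw [orderOf_injective ι hι, hy₁]
    exact (core p r l' hp hr hq hpr hpq (Ne.symm hqr) N hNne hNc hNp R hRne hRc hRl (ι y₁) hy
      (hnorm y₁)).swap23
  · obtain ⟨y₁, hy₁⟩ := exists_prime_orderOf_dvd_card' q hqT₁
    have hy : orderOf (ι y₁) = q := by rw [orderOf_injective ι hι, hy₁]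
    exact core p q l' hp hq hr hpq hpr hqr N hNne hNc hNp R hRne hRc hRl (ι y₁) hy (hnorm y₁)

theorem hasEdge_of_solvable_aux (n : ℕ) :
    ∀ (G : Type u) [Group G] [Finite G] [Group.IsSolvable G], Nat.card G = n →
      ∀ p q r : ℕ, p.Prime → q.Prime → r.Prime → p ≠ q → p ≠ r → q ≠ r →
        p ∣ n → q ∣ n → r ∣ n → HasEdge G p q r := by
  induction n using Nat.strong_induction_on with
  | _ n ih =>
    intro G _ _ _ hn p q r hp hq hr hpq hpr hqr hpn hqn hrn
    have hnt : Nontrivial G := by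
      rw [← Finite.one_lt_card_iff_nontrivial, hn]
      have := Nat.le_of_dvd (by rw [← hn]; exact Nat.card_pos) hpn
      have := hp.two_le
      omega
    obtain ⟨R, l₀, hRn, hRne, hl₀, hRc, hRl⟩ := exists_normal_elementary_abelian (G := G)
    have := hRn
    have hcardG : Nat.card G = Nat.card (G ⧸ R) * Nat.card R :=
      Subgroup.card_eq_card_quotient_mul_card_subgroup R
    have hR1 : 1 < Nat.card R := (Subgroup.one_lt_card_iff_ne_bot (H := R)).mpr hRne
    have hQpos : 0 < Nat.card (G ⧸ R) := Nat.card_pos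
    have hlt : Nat.card (G ⧸ R) < n := by
      rw [← hn, hcardG]
      nlinarith
    obtain ⟨k, hk⟩ := card_eq_prime_pow_of_exponent (G := R) hl₀
      (fun a => Subtype.ext (by simpa using hRl a a.2))
    have hidx : R.index = Nat.card (G ⧸ R) := Subgroup.index_eq_card R
    -- if a prime `l` divides `|G|` but not `|G/R|` then `l = l₀`
    have hkey : ∀ l : ℕ, l.Prime → l ∣ n → ¬ l ∣ Nat.card (G ⧸ R) → l = l₀ := by
      intro l hl hln hlQ
      rw [← hn, hcardG, hk] at hln
      rcases (Nat.Prime.dvd_mul hl).mp hln with h | h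
      · exact absurd h hlQ
      · exact (Nat.prime_dvd_prime_iff_eq hl hl₀).mp (hl.dvd_of_dvd_pow h)
    by_cases hpQ : p ∣ Nat.card (G ⧸ R)
    · by_cases hqQ : q ∣ Nat.card (G ⧸ R)
      · by_cases hrQ : r ∣ Nat.card (G ⧸ R)
        · have := ih (Nat.card (G ⧸ R)) hlt (G ⧸ R) rfl p q r hp hq hr hpq hpr hqr hpQ hqQ hrQ
          exact this.of_surjective (QuotientGroup.mk' R) (QuotientGroup.mk'_surjective R)
        · have hrl := hkey r hr hrn hrQ
          subst hrl
          rw [← hidx] at hrQ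
          have := hasEdge_of_normal_sylow r p q hr hp hq (Ne.symm hpr) (Ne.symm hqr) hpq R hRne hRc
            hRl hrQ (hn ▸ hpn) (hn ▸ hqn)
          -- HasEdge G r p q → HasEdge G p q r
          exact this.swap12.swap23
      · have hql := hkey q hq hqn hqQ
        subst hql
        rw [← hidx] at hqQ
        have := hasEdge_of_normal_sylow q p r hq hp hr (Ne.symm hpq) hqr hpr R hRne hRc
          hRl hqQ (hn ▸ hpn) (hn ▸ hrn)
        exact this.swap12
    · have hpl := hkey p hp hpn hpQ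
      subst hpl
      rw [← hidx] at hpQ
      exact hasEdge_of_normal_sylow p q r hp hq hr hpq hpr hqr R hRne hRc
        hRl hpQ (hn ▸ hqn) (hn ▸ hrn)

/-- In a finite solvable group, among any three distinct primes dividing the order, two are
adjacent in the prime graph. -/
theorem hasEdge_of_solvable (G : Type u) [Group G] [Finite G] [Group.IsSolvable G]
    (p q r : ℕ) (hp : p.Prime) (hq : q.Prime) (hr : r.Prime) (hpq : p ≠ q) (hpr : p ≠ r)
    (hqr : q ≠ r) (hpG : p ∣ Nat.card G) (hqG : q ∣ Nat.card G) (hrG : r ∣ Nat.card G) :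
    (∃ x : G, orderOf x = p * q) ∨ (∃ x : G, orderOf x = p * r) ∨ (∃ x : G, orderOf x = q * r) :=
  hasEdge_of_solvable_aux (Nat.card G) G rfl p q r hp hq hr hpq hpr hqr hpG hqG hrG

/-- If `K` is a solvable normal subgroup of `G` and `x ∈ G`, then the preimage of the cyclic group
generated by the image of `x` in `G ⧸ K` is solvable. -/
theorem isSolvable_comap_zpowers {G : Type u} [Group G] (K : Subgroup G) [K.Normal]
    [hK : Group.IsSolvable K] (x : G) :
    Group.IsSolvable ((Subgroup.zpowers (QuotientGroup.mk' K x)).comap (QuotientGroup.mk' K)) := by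
  set C := Subgroup.zpowers (QuotientGroup.mk' K x) with hC
  set L := C.comap (QuotientGroup.mk' K) with hL
  have hKL : K ≤ L := by
    intro a ha
    rw [hL, Subgroup.mem_comap]
    have : (QuotientGroup.mk' K) a = 1 := (QuotientGroup.eq_one_iff a).mpr ha
    rw [this]
    exact C.one_mem
  have hCs : Group.IsSolvable C := by
    apply Group.isSolvable_of_comm
    intro a b
    exact Subtype.ext (setLike_mul_comm (s := C) a.2 b.2)
  let f : K →* L := Subgroup.inclusion hKL
  let g : L →* C := (QuotientGroup.mk' K).subgroupComap C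
  apply Group.isSolvable_of_ker_le_range f g
  intro a ha
  rw [MonoidHom.mem_ker] at ha
  have ha' : (QuotientGroup.mk' K) (a : G) = 1 := by
    have := congrArg Subtype.val ha
    exact this
  have haK : (a : G) ∈ K := (QuotientGroup.eq_one_iff (a : G)).mp ha'
  exact ⟨⟨a, haK⟩, Subtype.ext rfl⟩

theorem hasEdge_of_solvable_normal {G : Type u} [Group G] [Finite G] (K : Subgroup G) [K.Normal]
    [hK : Group.IsSolvable K] (r s t : ℕ) (hr : r.Prime) (hs : s.Prime) (ht : t.Prime)
    (hrs : r ≠ s) (hrt : r ≠ t) (hst : s ≠ t) (hrK : r ∣ Nat.card K) (hsK : s ∣ Nat.card K)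
    (htG : t ∣ Nat.card G) :
    (∃ x : G, orderOf x = r * s) ∨ (∃ x : G, orderOf x = r * t) ∨ (∃ x : G, orderOf x = s * t) := by
  have : Fact t.Prime := ⟨ht⟩
  obtain ⟨x, hx⟩ := exists_prime_orderOf_dvd_card' t htG
  set C := Subgroup.zpowers (QuotientGroup.mk' K x) with hC
  set L := C.comap (QuotientGroup.mk' K) with hL
  have hLs : Group.IsSolvable L := isSolvable_comap_zpowers K x
  have hKL : K ≤ L := by
    intro a ha
    rw [hL, Subgroup.mem_comap]
    have : (QuotientGroup.mk' K) a = 1 := (QuotientGroup.eq_one_iff a).mpr ha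
    rw [this]
    exact C.one_mem
  have hxL : x ∈ L := by
    rw [hL, Subgroup.mem_comap]
    exact Subgroup.mem_zpowers _
  have hrL : r ∣ Nat.card L := hrK.trans (Subgroup.card_dvd_of_le hKL)
  have hsL : s ∣ Nat.card L := hsK.trans (Subgroup.card_dvd_of_le hKL)
  have htL : t ∣ Nat.card L := by
    have : orderOf (⟨x, hxL⟩ : L) = t := by
      rw [← hx]; exact Subgroup.orderOf_mk x hxL
    rw [← this]
    exact orderOf_dvd_natCard _
  have := hasEdge_of_solvable_aux (Nat.card L) L rfl r s t hr hs ht hrs hrt hst hrL hsL htL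
  exact this.of_injective L.subtype L.subtype_injective

end Cfsg.Agent.Helper60
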