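import Mathlib
import Cfsg.Prelude.Def_OddOrderLocal
import Cfsg.Agent.Helper22.Sup

/-!
# Generic lemmas on `IsComplIn`, `IsPiHallOf`, normalizers of joins (helper60)
-/

set_option autoImplicit false
open Subgroup

namespace Cfsg.Agent.Helper60.BGAsm

variable {G : Type*} [Group G]

/-- one-sided conjugation invariance gives membership in the normalizer (for a subgroup of the
normalizing elements) -/
theorem le_normalizer_of_forall_conj_mem {H K : Subgroup G}
    (h1 : ∀ g ∈ K, ∀ y ∈ H, g * y * g⁻¹ ∈ H) : K ≤ normalizer (H : Set G) := by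
  intro g hg
  rw [mem_normalizer_iff]
  intro y
  constructor
  · exact h1 g hg y
  · intro hy
    have := h1 g⁻¹ (K.inv_mem hg) _ hy
    simpa [mul_assoc] using this

/-- an element normalizing `A` and `B` normalizes `A ⊔ B` -/
theorem mem_normalizer_sup {g : G} {A B : Subgroup G} (hA : g ∈ normalizer (A : Set G))
    (hB : g ∈ normalizer (B : Set G)) : g ∈ normalizer ((A ⊔ B : Subgroup G) : Set G) := by
  have key : ∀ g : G, g ∈ normalizer (A : Set G) → g ∈ normalizer (B : Set G) →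
      ∀ y ∈ A ⊔ B, g * y * g⁻¹ ∈ A ⊔ B := by
    intro g hA hB y hy
    have h1 : (A ⊔ B).map (MulAut.conj g).toMonoidHom ≤ A ⊔ B := by
      rw [Subgroup.map_sup]
      apply sup_le_sup
      · rintro _ ⟨a, ha, rfl⟩
        exact (mem_normalizer_iff.mp hA a).mp ha
      · rintro _ ⟨b, hb, rfl⟩
        exact (mem_normalizer_iff.mp hB b).mp hb
    exact h1 ⟨y, hy, rfl⟩
  rw [mem_normalizer_iff]
  intro y
  constructor
  · exact key g hA hB y
  · intro hy
    have := key g⁻¹ (inv_mem hA) (inv_mem hB) _ hy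
    simpa [mul_assoc] using this

/-- `M_σ` is normalized by `M` -/
theorem le_normalizer_sigmaCore (M : Subgroup G) :
    M ≤ normalizer ((Cfsg.sigmaCore M : Subgroup G) : Set G) := by
  apply le_normalizer_of_forall_conj_mem
  rintro m hm _ ⟨x, hx, rfl⟩
  refine ⟨⟨m, hm⟩ * x * ⟨m, hm⟩⁻¹, ?_, rfl⟩
  exact (Cfsg.piCore_normal (Cfsg.sigma M) ↥M).conj_mem x hx _

theorem sigmaCore_le' (M : Subgroup G) : Cfsg.sigmaCore M ≤ M := Subgroup.map_subtype_le _

/-- complements inside `↥M` give complements in the sense of `IsComplIn` -/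
theorem isComplIn_of_isComplement' {M : Subgroup G} (A B : Subgroup ↥M)
    (h : Subgroup.IsComplement' A B) : Cfsg.IsComplIn (A.map M.subtype) (B.map M.subtype) M := by
  refine ⟨Subgroup.map_subtype_le _, Subgroup.map_subtype_le _, ?_, ?_⟩
  · rw [eq_bot_iff]
    rintro x ⟨⟨a, ha, rfl⟩, ⟨b, hb, hab⟩⟩
    have h1 : b = a := Subtype.ext hab
    subst h1
    have h2 : b ∈ A ⊓ B := ⟨ha, hb⟩
    rw [h.disjoint.eq_bot, Subgroup.mem_bot] at h2
    rw [Subgroup.mem_bot, h2]; rfl
  · intro m hm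
    obtain ⟨⟨a, b⟩, hab⟩ := h.2 (⟨m, hm⟩ : ↥M)
    exact ⟨(a : ↥M), ⟨a, a.2, rfl⟩, (b : ↥M), ⟨b, b.2, rfl⟩, (congrArg Subtype.val hab).symm⟩

/-- if `U`, `K`, `N` contain Hall subgroups for classes of primes covering all primes, they generate -/
theorem le_sup_of_hall_cover [Finite G] {M L : Subgroup G}
    (h : ∀ q : ℕ, q.Prime → ∃ H : Subgroup G, H ≤ L ∧ ¬ q ∣ H.relIndex M) : M ≤ L := by
  rw [← Subgroup.relIndex_eq_one]
  by_contra hne
  obtain ⟨q, hq, hqd⟩ := Nat.exists_prime_and_dvd hne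
  obtain ⟨H, hHL, hH⟩ := h q hq
  exact hH (hqd.trans (Subgroup.relIndex_dvd_of_le_left M hHL))

/-- commuting subgroups normalize each other -/
theorem le_normalizer_of_commute {A B : Subgroup G} (h : ∀ a ∈ A, ∀ b ∈ B, a * b = b * a) :
    A ≤ normalizer (B : Set G) := by
  apply le_normalizer_of_forall_conj_mem
  intro a ha b hb
  rw [h a ha b hb, mul_inv_cancel_right]; exact hb

/-- product form of the join of two commuting subgroups -/
theorem mem_sup_of_commute {A B : Subgroup G} (h : ∀ a ∈ A, ∀ b ∈ B, a * b = b * a) {z : G} :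
    z ∈ A ⊔ B ↔ ∃ a ∈ A, ∃ b ∈ B, z = a * b := by
  have h1 : z ∈ A ⊔ B ↔ z ∈ ((A ⊔ B : Subgroup G) : Set G) := Iff.rfl
  rw [h1, Subgroup.coe_mul_of_left_le_normalizer_right A B (le_normalizer_of_commute h)]
  constructor
  · rintro ⟨a, ha, b, hb, rfl⟩
    exact ⟨a, ha, b, hb, rfl⟩
  · rintro ⟨a, ha, b, hb, rfl⟩
    exact ⟨a, ha, b, hb, rfl⟩

/-- subgroups of coprime orders meet trivially -/
theorem inf_eq_bot_of_coprime_card [Finite G] {A B : Subgroup G}
    (h : (Nat.card A).Coprime (Nat.card B)) : A ⊓ B = ⊥ :=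
  (Subgroup.disjoint_of_coprime_natCard h).eq_bot

/-- in `A ⊔ B` (commuting), the `|B|`-th power lands in `A` -/
theorem pow_card_mem_of_commute [Finite G] {A B : Subgroup G}
    (h : ∀ a ∈ A, ∀ b ∈ B, a * b = b * a) {z : G} (hz : z ∈ A ⊔ B) : z ^ Nat.card B ∈ A := by
  obtain ⟨a, ha, b, hb, rfl⟩ := (mem_sup_of_commute h).mp hz
  have hc : Commute a b := h a ha b hb
  rw [hc.mul_pow]
  have h1 : b ^ Nat.card B = 1 := by
    have := pow_card_eq_one' (G := ↥B) (x := ⟨b, hb⟩)
    exact congrArg Subtype.val this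
  rw [h1, mul_one]
  exact A.pow_mem ha _

/-- if moreover the orders are coprime and `z ∉ B`, the power is nontrivial -/
theorem pow_card_ne_one_of_commute [Finite G] {A B : Subgroup G}
    (h : ∀ a ∈ A, ∀ b ∈ B, a * b = b * a) (hcop : (Nat.card A).Coprime (Nat.card B)) {z : G}
    (hz : z ∈ A ⊔ B) (hzB : z ∉ B) : z ^ Nat.card B ≠ 1 := by
  obtain ⟨a, ha, b, hb, rfl⟩ := (mem_sup_of_commute h).mp hz
  have hc : Commute a b := h a ha b hb
  rw [hc.mul_pow]
  have h1 : b ^ Nat.card B = 1 := by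
    have := pow_card_eq_one' (G := ↥B) (x := ⟨b, hb⟩)
    exact congrArg Subtype.val this
  rw [h1, mul_one]
  intro h2
  have h3 : orderOf a ∣ Nat.card B := orderOf_dvd_of_pow_eq_one h2
  have h4 : orderOf a ∣ Nat.card A := Subgroup.orderOf_dvd_natCard A ha
  have h5 : orderOf a = 1 := Nat.eq_one_of_dvd_coprimes hcop h4 h3
  have h6 : a = 1 := orderOf_eq_one_iff.mp h5
  apply hzB
  rw [h6, one_mul]; exact hb

/-- two commuting cyclic subgroups of coprime orders generate a cyclic subgroup -/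
theorem isCyclic_sup_of_commute [Finite G] {A B : Subgroup G} (hA : IsCyclic A) (hB : IsCyclic B)
    (h : ∀ a ∈ A, ∀ b ∈ B, a * b = b * a) (hcop : (Nat.card A).Coprime (Nat.card B)) :
    IsCyclic ↥(A ⊔ B) := by
  obtain ⟨a, ha⟩ := IsCyclic.exists_generator (α := ↥A)
  obtain ⟨b, hb⟩ := IsCyclic.exists_generator (α := ↥B)
  have hoa : orderOf (a : G) = Nat.card A := by
    rw [Subgroup.orderOf_coe]; exact orderOf_eq_card_of_forall_mem_zpowers ha
  have hob : orderOf (b : G) = Nat.card B := by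
    rw [Subgroup.orderOf_coe]; exact orderOf_eq_card_of_forall_mem_zpowers hb
  have hc : Commute (a : G) (b : G) := h a a.2 b b.2
  have hord : orderOf ((a : G) * (b : G)) = Nat.card A * Nat.card B := by
    rw [hc.orderOf_mul_eq_mul_orderOf_of_coprime (by rw [hoa, hob]; exact hcop), hoa, hob]
  have hmem : (a : G) * (b : G) ∈ A ⊔ B :=
    Subgroup.mul_mem _ (Subgroup.mem_sup_left a.2) (Subgroup.mem_sup_right b.2)
  have hle : Nat.card ↥(A ⊔ B) ≤ Nat.card A * Nat.card B :=
    Nat.le_of_dvd (Nat.mul_pos Nat.card_pos Nat.card_pos)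
      (Cfsg.Agent.Helper22.card_sup_dvd_of_le_normalizer A B (le_normalizer_of_commute h))
  have hord' : orderOf (⟨(a : G) * (b : G), hmem⟩ : ↥(A ⊔ B)) = Nat.card A * Nat.card B := by
    rw [← hord, ← Subgroup.orderOf_coe]
  apply isCyclic_of_orderOf_eq_card ⟨(a : G) * (b : G), hmem⟩
  apply le_antisymm (orderOf_le_card)
  rw [hord']; exact hle

/-- an element normalizing `A` and `B` normalizes `A ⊓ B` -/
theorem mem_normalizer_inf {g : G} {A B : Subgroup G}
    (hA : g ∈ Subgroup.normalizer (A : Set G)) (hB : g ∈ Subgroup.normalizer (B : Set G)) :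
    g ∈ Subgroup.normalizer ((A ⊓ B : Subgroup G) : Set G) := by
  rw [Subgroup.mem_normalizer_iff]
  intro y
  constructor
  · intro hy
    exact ⟨(Subgroup.mem_normalizer_iff.mp hA y).mp hy.1, (Subgroup.mem_normalizer_iff.mp hB y).mp hy.2⟩
  · intro hy
    exact ⟨(Subgroup.mem_normalizer_iff.mp hA y).mpr hy.1, (Subgroup.mem_normalizer_iff.mp hB y).mpr hy.2⟩

end Cfsg.Agent.Helper60.BGAsm
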