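import Mathlib
import Cfsg.Prelude.Def_OddOrderLocal
import Cfsg.Prelude.Def_OddOrder
import Cfsg.Agent.Helper60.BGAsmB

/-!
# More generic lemmas for the B-G assembly statements (helper60)
-/

set_option autoImplicit false
open Subgroup

namespace Cfsg.Agent.Helper60.BGAsm

variable {G : Type*} [Group G]

/-- a subgroup of order prime to the index of a normal subgroup lies in it (relative version) -/
theorem le_of_coprime_relIndex [Finite G] {N H M : Subgroup G}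
    (hMN : M ≤ normalizer (N : Set G)) (hHM : H ≤ M)
    (hcop : (Nat.card H).Coprime (N.relIndex M)) : H ≤ N := by
  have hn : (N.subgroupOf M).Normal := Subgroup.normal_subgroupOf_of_le_normalizer hMN
  have h1 : (N.subgroupOf M).relIndex (H.subgroupOf M) ∣ (N.subgroupOf M).index :=
    Subgroup.relIndex_dvd_index_of_normal _ _
  have h2 : (N.subgroupOf M).relIndex (H.subgroupOf M) ∣ Nat.card H := by
    have := Subgroup.relIndex_dvd_card (N.subgroupOf M) (H.subgroupOf M)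
    rwa [Nat.card_congr (Subgroup.subgroupOfEquivOfLe hHM).toEquiv] at this
  have h3 : (N.subgroupOf M).relIndex (H.subgroupOf M) = 1 :=
    Nat.eq_one_of_dvd_coprimes hcop h2 h1
  rw [Subgroup.relIndex_eq_one] at h3
  intro h hh
  have h4 : (⟨h, hHM hh⟩ : ↥M) ∈ H.subgroupOf M := Subgroup.mem_subgroupOf.mpr hh
  exact Subgroup.mem_subgroupOf.mp (h3 h4)

/-- commutators of `A S` lie in `S` when `A` is abelian and normalizes `S` -/
theorem commutator_mem_of_commute_sup {A S : Subgroup G} (hA : ∀ a ∈ A, ∀ b ∈ A, a * b = b * a)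
    (hAS : A ≤ normalizer (S : Set G)) {x y : G} (hx : x ∈ A ⊔ S) (hy : y ∈ A ⊔ S) :
    x * y * x⁻¹ * y⁻¹ ∈ S := by
  have hx' : x ∈ ((A ⊔ S : Subgroup G) : Set G) := hx
  have hy' : y ∈ ((A ⊔ S : Subgroup G) : Set G) := hy
  rw [Subgroup.coe_mul_of_left_le_normalizer_right A S hAS] at hx' hy'
  obtain ⟨a₁, ha₁, s₁, hs₁, rfl⟩ := hx'
  obtain ⟨a₂, ha₂, s₂, hs₂, rfl⟩ := hy'
  have hc : a₁ * a₂ = a₂ * a₁ := hA a₁ ha₁ a₂ ha₂
  have e : (fun x1 x2 => x1 * x2) a₁ s₁ * (fun x1 x2 => x1 * x2) a₂ s₂ *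
      ((fun x1 x2 => x1 * x2) a₁ s₁)⁻¹ * ((fun x1 x2 => x1 * x2) a₂ s₂)⁻¹ =
      (a₁ * s₁ * a₁⁻¹) * ((a₁ * a₂) * (s₂ * s₁⁻¹) * (a₁ * a₂)⁻¹) *
        ((a₁ * a₂ * a₁⁻¹) * s₂⁻¹ * a₂⁻¹) := by
    simp only []
    group
  rw [e]
  have h3 : a₁ * a₂ * a₁⁻¹ = a₂ := by rw [hc, mul_inv_cancel_right]
  rw [h3]
  have c1 : a₁ * s₁ * a₁⁻¹ ∈ S := (mem_normalizer_iff.mp (hAS ha₁) s₁).mp hs₁
  have c2 : (a₁ * a₂) * (s₂ * s₁⁻¹) * (a₁ * a₂)⁻¹ ∈ S :=
    (mem_normalizer_iff.mp (hAS (A.mul_mem ha₁ ha₂)) _).mp (S.mul_mem hs₂ (S.inv_mem hs₁))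
  have c3 : a₂ * s₂⁻¹ * a₂⁻¹ ∈ S := (mem_normalizer_iff.mp (hAS ha₂) _).mp (S.inv_mem hs₂)
  exact S.mul_mem (S.mul_mem c1 c2) c3

/-- in a minimal simple group of odd order, a nontrivial proper subgroup has a proper normalizer,
which lies in a maximal subgroup -/
theorem exists_coatom_normalizer_le [Finite G] (hG : Cfsg.IsMinSimpleOddOrder G) {R : Subgroup G}
    (hR1 : R ≠ ⊥) (hR2 : R ≠ ⊤) : ∃ H : Subgroup G, IsCoatom H ∧ normalizer (R : Set G) ≤ H := by
  have hne : normalizer (R : Set G) ≠ ⊤ := by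
    intro h
    have hn : R.Normal := Subgroup.normalizer_eq_top_iff.mp h
    have hs : IsSimpleGroup G := hG.2.1
    rcases hn.eq_bot_or_eq_top with h1 | h1
    · exact hR1 h1
    · exact hR2 h1
  exact (eq_top_or_exists_le_coatom (normalizer (R : Set G))).resolve_left hne

/-- `|H| · |K : H| = |K|` for `H ≤ K` -/
theorem card_mul_relIndex_of_le {H K : Subgroup G} (h : H ≤ K) :
    Nat.card H * H.relIndex K = Nat.card K := by
  have h1 := Subgroup.card_mul_index (H.subgroupOf K)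
  rwa [Nat.card_congr (Subgroup.subgroupOfEquivOfLe h).toEquiv] at h1

/-- the order formula for complements in the sense of `IsComplIn` -/
theorem card_mul_card_isComplIn {A B M : Subgroup G} (h : Cfsg.IsComplIn A B M) :
    Nat.card A * Nat.card B = Nat.card M := by
  rw [← Nat.card_prod]
  refine Nat.card_congr (Equiv.ofBijective
    (fun x : A × B => (⟨x.1 * x.2, M.mul_mem (h.1 x.1.2) (h.2.1 x.2.2)⟩ : M)) ⟨?_, ?_⟩)
  · rintro ⟨⟨a, ha⟩, ⟨b, hb⟩⟩ ⟨⟨a', ha'⟩, ⟨b', hb'⟩⟩ hab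
    have hab' : a * b = a' * b' := congrArg Subtype.val hab
    have h1 : a'⁻¹ * a = b' * b⁻¹ := by
      rw [eq_mul_inv_iff_mul_eq, mul_assoc, hab', inv_mul_cancel_left]
    have h2 : a'⁻¹ * a ∈ A ⊓ B :=
      ⟨A.mul_mem (A.inv_mem ha') ha, by rw [h1]; exact B.mul_mem hb' (B.inv_mem hb)⟩
    rw [h.2.2.1, Subgroup.mem_bot, inv_mul_eq_one] at h2
    subst h2
    have h3 : b = b' := mul_left_cancel hab'
    subst h3
    rfl
  · rintro ⟨m, hm⟩
    obtain ⟨a, ha, b, hb, rfl⟩ := h.2.2.2 m hm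
    exact ⟨(⟨a, ha⟩, ⟨b, hb⟩), rfl⟩

/-- the order of a complement equals the relative index -/
theorem card_eq_relIndex_of_isComplIn [Finite G] {A B M : Subgroup G} (h : Cfsg.IsComplIn A B M) :
    Nat.card A = B.relIndex M := by
  have h1 := card_mul_card_isComplIn h
  have h2 := card_mul_relIndex_of_le h.2.1
  have h3 : Nat.card A * Nat.card B = B.relIndex M * Nat.card B := by
    rw [h1, ← h2, mul_comm]
  exact Nat.eq_of_mul_eq_mul_right Nat.card_pos h3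

end Cfsg.Agent.Helper60.BGAsm
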