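import Mathlib
import Cfsg.Agent.Helper50.QA1

/-!
# Ward's theorem (S3796), piece (W2) of helper21's plan #3951: hyperplane generation (helper60)

`gen_hyperplanes`: `T` acts on the abelian `s'`-group `V` through the elementary abelian `s`-group
`T / S0` without fixed points; then `V` is generated by the `C_V(D)`, `D` running over the subgroups
of index `s` of `T` containing `S0`.

Proof: strong induction on `|V|` for the statement `V ≤ C_V(T) ⊔ ⨆_D C_V(D)`.  Let `φ : T → Aut V`
be the conjugation action.  If `|φ(T)| ≥ s²` then `V` is generated by the `C_V(e)`, `φ e ≠ 1`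
(`Helper50.le_iSup_fixSub`), each of which is a proper `T`-invariant subgroup.  If `|φ(T)| = s` then
`D := ker φ` is a hyperplane centralizing `V`; if `|φ(T)| = 1` then `V = C_V(T)`.
-/

set_option autoImplicit false

namespace Cfsg.Agent.Helper60.WardW2

open Subgroup

variable {H : Type*} [Group H]

/-- conjugation action of `T ≤ N(V)` on `V` -/
def conjAct (V T : Subgroup H) (hTV : T ≤ normalizer (V : Set H)) : ↥T →* MulAut ↥V where
  toFun t :=
    { toFun := fun v => ⟨(t : H) * v * (t : H)⁻¹, (mem_normalizer_iff.mp (hTV t.2) v).mp v.2⟩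
      invFun := fun v => ⟨(t : H)⁻¹ * v * (t : H), by
        have := (mem_normalizer_iff.mp (hTV (T.inv_mem t.2)) v).mp v.2
        simpa using this⟩
      left_inv := fun v => Subtype.ext (by simp [mul_assoc])
      right_inv := fun v => Subtype.ext (by simp [mul_assoc])
      map_mul' := fun v w => Subtype.ext (by simp [mul_assoc]) }
  map_one' := by ext v; simp
  map_mul' := fun t u => by ext v; simp [mul_assoc]

theorem conjAct_apply (V T : Subgroup H) (hTV : T ≤ normalizer (V : Set H)) (t : ↥T) (v : ↥V) :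
    ((conjAct V T hTV t v : ↥V) : H) = (t : H) * v * (t : H)⁻¹ := rfl

theorem conjAct_eq_one_iff (V T : Subgroup H) (hTV : T ≤ normalizer (V : Set H)) (t : ↥T) :
    conjAct V T hTV t = 1 ↔ (t : H) ∈ centralizer (V : Set H) := by
  constructor
  · intro h
    rw [mem_centralizer_iff]
    intro v hv
    have h1 : ((conjAct V T hTV t ⟨v, hv⟩ : ↥V) : H) = v := by rw [h]; rfl
    rw [conjAct_apply] at h1
    have : (t : H) * v = v * (t : H) := by
      calc (t : H) * v = (t : H) * v * (t : H)⁻¹ * (t : H) := by group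
        _ = v * (t : H) := by rw [h1]
    exact this.symm
  · intro h
    ext v
    rw [conjAct_apply]
    have h1 := mem_centralizer_iff.mp h v v.2
    simp only [MulAut.one_apply]
    rw [← h1]; group

section
variable [Finite H]

theorem gen_aux {s : ℕ} [Fact s.Prime] (T S0 : Subgroup H) (hS0T : S0 ≤ T)
    (hcomm : ∀ t ∈ T, ∀ u ∈ T, t * u * t⁻¹ * u⁻¹ ∈ S0) (hpow : ∀ t ∈ T, t ^ s ∈ S0) :
    ∀ n : ℕ, ∀ V : Subgroup H, Nat.card V ≤ n → (∀ u ∈ V, ∀ v ∈ V, u * v = v * u) →
      T ≤ normalizer (V : Set H) → (Nat.card V).Coprime s → S0 ≤ centralizer (V : Set H) →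
      V ≤ (V ⊓ centralizer (T : Set H)) ⊔
        ⨆ D : {D : Subgroup H // S0 ≤ D ∧ D ≤ T ∧ D.relIndex T = s},
          V ⊓ centralizer ((D : Subgroup H) : Set H) := by
  have hsp : s.Prime := Fact.out
  intro n
  induction n with
  | zero =>
    intro V hV
    have : 0 < Nat.card V := Nat.card_pos
    omega
  | succ n ih =>
    intro V hVn hVab hTV hcop hS0
    set φ := conjAct V T hTV with hφ
    have hker : ∀ z : ↥T, (z : H) ∈ S0 → φ z = 1 := fun z hz =>
      (conjAct_eq_one_iff V T hTV z).mpr (hS0 hz)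
    have hDcomm : ∀ x ∈ φ.range, ∀ y ∈ φ.range, x * y = y * x := by
      rintro _ ⟨t, rfl⟩ _ ⟨u, rfl⟩
      rw [← map_mul, ← map_mul]
      have hz : (t * u * t⁻¹ * u⁻¹ : ↥T) * (u * t) = t * u := by group
      rw [← hz, map_mul, hker _ (by
        have := hcomm t t.2 u u.2
        simpa using this), one_mul]
    have hDexp : ∀ d ∈ φ.range, d ^ s = 1 := by
      rintro _ ⟨t, rfl⟩
      rw [← map_pow]
      exact hker _ (by
        have := hpow t t.2
        simpa using this)
    by_cases hcase : s ^ 2 ≤ Nat.card φ.range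
    · -- big case
      have hpY : ¬ s ∣ Nat.card (⊤ : Subgroup ↥V) := by
        rw [Subgroup.card_top]
        intro hd
        have := Nat.Coprime.eq_one_of_dvd hcop.symm hd
        exact hsp.one_lt.ne' this
      have hgen := Cfsg.Agent.Helper50.le_iSup_fixSub (p := s) φ.range hDcomm hDexp hcase ⊤ hpY
        (fun _ _ _ _ => Subgroup.mem_top _)
      intro v hv
      have h1 : (⟨v, hv⟩ : ↥V) ∈ ⨆ d : {d : MulAut ↥V // d ∈ φ.range ∧ d ≠ 1},
          (⊤ : Subgroup ↥V) ⊓ Cfsg.Agent.Helper50.fixSub (d : MulAut ↥V) := hgen (Subgroup.mem_top _)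
      have h2 : v ∈ (⨆ d : {d : MulAut ↥V // d ∈ φ.range ∧ d ≠ 1},
          (⊤ : Subgroup ↥V) ⊓ Cfsg.Agent.Helper50.fixSub (d : MulAut ↥V)).map V.subtype :=
        ⟨⟨v, hv⟩, h1, rfl⟩
      rw [Subgroup.map_iSup] at h2
      refine SetLike.le_def.mp (iSup_le ?_) h2
      rintro ⟨d, ⟨t, rfl⟩, hd1⟩
      -- the term is inside `V ⊓ C(t)`
      have hle : ((⊤ : Subgroup ↥V) ⊓ Cfsg.Agent.Helper50.fixSub (φ t)).map V.subtype ≤
          V ⊓ centralizer ({(t : H)} : Set H) := by
        rintro _ ⟨w, ⟨-, hw⟩, rfl⟩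
        refine ⟨w.2, ?_⟩
        show (w : H) ∈ centralizer ({(t : H)} : Set H)
        rw [mem_centralizer_iff]
        intro x hx
        rw [Set.mem_singleton_iff] at hx
        subst hx
        have h3 : ((φ t w : ↥V) : H) = w := by
          have : φ t w = w := hw
          rw [this]
        rw [hφ, conjAct_apply] at h3
        have : (t : H) * (w : H) = (w : H) * (t : H) := by
          calc (t : H) * (w : H) = (t : H) * w * (t : H)⁻¹ * (t : H) := by group
            _ = (w : H) * (t : H) := by rw [h3]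
        exact this
      refine hle.trans ?_
      -- apply the induction hypothesis to `V ⊓ C(t)`
      have hlt : Nat.card ↥(V ⊓ centralizer ({(t : H)} : Set H)) ≤ n := by
        have hne : V ⊓ centralizer ({(t : H)} : Set H) ≠ V := by
          intro h
          apply hd1
          rw [hφ, conjAct_eq_one_iff]
          rw [mem_centralizer_iff]
          intro v hv
          have : v ∈ V ⊓ centralizer ({(t : H)} : Set H) := by rw [h]; exact hv
          exact (mem_centralizer_iff.mp this.2 (t : H) (Set.mem_singleton _)).symm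
        have h5 : Nat.card ↥(V ⊓ centralizer ({(t : H)} : Set H)) < Nat.card ↥V :=
          lt_of_le_of_ne (Subgroup.card_le_of_le inf_le_left)
            (fun h => hne (Subgroup.eq_of_le_of_card_ge inf_le_left h.ge))
        omega
      have hVe := ih (V ⊓ centralizer ({(t : H)} : Set H)) hlt
        (fun u hu v hv => hVab u hu.1 v hv.1) ?_ ?_
        (hS0.trans (Subgroup.centralizer_le (SetLike.coe_subset_coe.mpr inf_le_left)))
      · refine hVe.trans (sup_le_sup (inf_le_inf_right _ inf_le_left) ?_)
        exact iSup_mono fun D => inf_le_inf_right _ inf_le_left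
      · -- `T` normalizes `V ⊓ C(t)`
        intro x hx
        rw [mem_normalizer_iff]
        have key : ∀ y ∈ T, ∀ v ∈ V ⊓ centralizer ({(t : H)} : Set H),
            y * v * y⁻¹ ∈ V ⊓ centralizer ({(t : H)} : Set H) := by
          intro y hy v hv
          have hyv : y * v * y⁻¹ ∈ V := (mem_normalizer_iff.mp (hTV hy) v).mp hv.1
          refine ⟨hyv, ?_⟩
          show y * v * y⁻¹ ∈ centralizer ({(t : H)} : Set H)
          rw [mem_centralizer_iff]
          intro z hz
          rw [Set.mem_singleton_iff] at hz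
          subst hz
          -- `y⁻¹ t y = z' t` with `z' ∈ S0`
          have hz' : y⁻¹ * (t : H) * y⁻¹⁻¹ * (t : H)⁻¹ ∈ S0 := hcomm y⁻¹ (T.inv_mem hy) t t.2
          have hzc := mem_centralizer_iff.mp (hS0 hz') v hv.1
          have htv : (t : H) * v = v * (t : H) :=
            (mem_centralizer_iff.mp hv.2 (t : H) (Set.mem_singleton _))
          -- compute
          have e1 : (t : H) * (y * v * y⁻¹) =
              y * ((y⁻¹ * (t : H) * y⁻¹⁻¹ * (t : H)⁻¹) * ((t : H) * v)) * y⁻¹ := by group
          rw [e1, htv]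
          have e3 : (y⁻¹ * (t : H) * y⁻¹⁻¹ * (t : H)⁻¹) * (v * (t : H)) =
              v * ((y⁻¹ * (t : H) * y⁻¹⁻¹ * (t : H)⁻¹) * (t : H)) := by
            rw [← mul_assoc, ← hzc, mul_assoc]
          rw [e3]
          group
        intro v
        constructor
        · exact key x hx v
        · intro hv
          have := key x⁻¹ (T.inv_mem hx) _ hv
          have e : x⁻¹ * (x * v * x⁻¹) * x⁻¹⁻¹ = v := by group
          rwa [e] at this
      · exact Nat.Coprime.coprime_dvd_left (Subgroup.card_dvd_of_le inf_le_left) hcop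
    · -- small case
      have hDp : IsPGroup s ↥φ.range := by
        intro d
        refine ⟨1, ?_⟩
        rw [pow_one]
        apply Subtype.ext
        simpa using hDexp d d.2
      obtain ⟨k, hk⟩ := hDp.exists_card_eq
      have hk2 : k < 2 := by
        by_contra h
        apply hcase
        rw [hk]
        exact Nat.pow_le_pow_right hsp.pos (by omega)
      rcases (by omega : k = 0 ∨ k = 1) with h0 | h1
      · -- `T` centralizes `V`
        rw [h0, pow_zero] at hk
        have hTC : T ≤ centralizer (V : Set H) := by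
          intro t ht
          have h2 : φ ⟨t, ht⟩ = 1 := by
            have hsub : Subsingleton ↥φ.range := (Nat.card_eq_one_iff_unique.mp hk).1
            have := Subsingleton.elim (⟨φ ⟨t, ht⟩, ⟨_, rfl⟩⟩ : ↥φ.range) 1
            exact congrArg Subtype.val this
          exact (conjAct_eq_one_iff V T hTV ⟨t, ht⟩).mp h2
        refine le_trans ?_ le_sup_left
        exact le_inf le_rfl (Subgroup.le_centralizer_iff.mp hTC)
      · -- the kernel is a hyperplane
        rw [h1, pow_one] at hk
        have hD0 : S0 ≤ φ.ker.map T.subtype ∧ φ.ker.map T.subtype ≤ T ∧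
            (φ.ker.map T.subtype).relIndex T = s := by
          refine ⟨?_, Subgroup.map_subtype_le _, ?_⟩
          · intro z hz
            exact ⟨⟨z, hS0T hz⟩, MonoidHom.mem_ker.mpr (hker _ hz), rfl⟩
          · rw [Subgroup.relIndex, Subgroup.subgroupOf,
              Subgroup.comap_map_eq_self_of_injective T.subtype_injective, Subgroup.index_ker, hk]
        refine le_trans ?_ le_sup_right
        refine le_trans ?_ (le_iSup (fun D : {D : Subgroup H // S0 ≤ D ∧ D ≤ T ∧ D.relIndex T = s} =>
          V ⊓ centralizer ((D : Subgroup H) : Set H)) ⟨φ.ker.map T.subtype, hD0⟩)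
        refine le_inf le_rfl ?_
        rw [Subgroup.le_centralizer_iff]
        rintro _ ⟨t, ht, rfl⟩
        exact (conjAct_eq_one_iff V T hTV t).mp (MonoidHom.mem_ker.mp ht)

/-- **(W2) hyperplane generation** -/
theorem gen_hyperplanes {s : ℕ} [Fact s.Prime] (V T S0 : Subgroup H)
    (hVab : ∀ u ∈ V, ∀ v ∈ V, u * v = v * u) (hTV : T ≤ normalizer (V : Set H))
    (hcop : (Nat.card V).Coprime s) (hS0T : S0 ≤ T) (hS0 : S0 ≤ centralizer (V : Set H))
    (hcomm : ∀ t ∈ T, ∀ u ∈ T, t * u * t⁻¹ * u⁻¹ ∈ S0) (hpow : ∀ t ∈ T, t ^ s ∈ S0)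
    (hfix : V ⊓ centralizer (T : Set H) = ⊥) :
    V ≤ ⨆ D : {D : Subgroup H // S0 ≤ D ∧ D ≤ T ∧ D.relIndex T = s},
      V ⊓ centralizer ((D : Subgroup H) : Set H) := by
  have h := gen_aux T S0 hS0T hcomm hpow (Nat.card V) V le_rfl hVab hTV hcop hS0
  rwa [hfix, bot_sup_eq] at h

end

end Cfsg.Agent.Helper60.WardW2
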