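-- helper60: pieces (O0)-(O3) of helper1's WANTED #4604 for S4305 (Shult's theorem for S3): conjugates of hyperplanes,
-- and the three orbit types of hyperplanes under `⟨σ, τ⟩`.
import Mathlib
import Cfsg.Agent.Helper1.ShultDefs
import Cfsg.Agent.Helper31.WardW34

set_option autoImplicit false

namespace Cfsg.Agent.Helper60.Shult

open Subgroup Cfsg.Agent.Helper1.Shult

variable {H : Type*} [Group H] [Finite H]

theorem map_conj_eq_of_mem_normalizer (T : Subgroup H) (g : H) (hg : g ∈ normalizer (T : Set H)) :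
    T.map (MulAut.conj g).toMonoidHom = T := by
  ext x
  rw [mem_map]
  constructor
  · rintro ⟨t, ht, rfl⟩
    exact (mem_normalizer_iff.mp hg t).mp ht
  · intro hx
    refine ⟨g⁻¹ * x * g, ?_, ?_⟩
    · have h1 := (mem_normalizer_iff.mp (inv_mem hg) x).mp hx
      rwa [inv_inv] at h1
    · show g * (g⁻¹ * x * g) * g⁻¹ = x
      group

theorem mem_normalizer_of_map_conj_eq (D : Subgroup H) (a : H)
    (h : D.map (MulAut.conj a).toMonoidHom = D) : a ∈ normalizer (D : Set H) := by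
  rw [mem_normalizer_iff]
  intro d
  constructor
  · intro hd
    rw [← h]
    exact mem_map.mpr ⟨d, hd, rfl⟩
  · intro hd
    rw [← h] at hd
    obtain ⟨d', hd', he⟩ := mem_map.mp hd
    have h1 : a * d' * a⁻¹ = a * d * a⁻¹ := he
    have h2 : d' = d := mul_left_cancel (mul_right_cancel h1)
    rw [← h2]
    exact hd'

/-- (O0) conjugates of hyperplanes -/
theorem isHyp_conj {s : ℕ} {T S0 D : Subgroup H} (hD : IsHyp s T S0 D) (g : H)
    (hgT : g ∈ normalizer (T : Set H)) (hgS0 : g ∈ normalizer (S0 : Set H)) :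
    IsHyp s T S0 (D.map (MulAut.conj g).toMonoidHom) := by
  obtain ⟨h1, h2, h3⟩ := hD
  refine ⟨?_, ?_, ?_⟩
  · rw [← map_conj_eq_of_mem_normalizer S0 g hgS0]
    exact map_mono h1
  · rw [← map_conj_eq_of_mem_normalizer T g hgT]
    exact map_mono h2
  · have h4 := relIndex_map_map_of_injective (f := (MulAut.conj g).toMonoidHom) D T
      (MulAut.conj g).injective
    rw [map_conj_eq_of_mem_normalizer T g hgT] at h4
    rw [← h3]
    exact h4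

/-- (O0) conjugates of the fixed points of a hyperplane -/
theorem fix_conj (V D : Subgroup H) (g : H) (hgV : g ∈ normalizer (V : Set H)) (v : H) :
    v ∈ V ⊓ centralizer (D : Set H) ↔
      g * v * g⁻¹ ∈ V ⊓ centralizer ((D.map (MulAut.conj g).toMonoidHom : Subgroup H) : Set H) := by
  rw [mem_inf, mem_inf]
  constructor
  · rintro ⟨hvV, hvC⟩
    refine ⟨(mem_normalizer_iff.mp hgV v).mp hvV, ?_⟩
    rw [mem_centralizer_iff]
    rintro _ ⟨d, hd, rfl⟩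
    have h1 := mem_centralizer_iff.mp hvC d hd
    show g * d * g⁻¹ * (g * v * g⁻¹) = g * v * g⁻¹ * (g * d * g⁻¹)
    calc g * d * g⁻¹ * (g * v * g⁻¹) = g * (d * v) * g⁻¹ := by group
      _ = g * (v * d) * g⁻¹ := by rw [h1]
      _ = g * v * g⁻¹ * (g * d * g⁻¹) := by group
  · rintro ⟨hvV, hvC⟩
    refine ⟨(mem_normalizer_iff.mp hgV v).mpr hvV, ?_⟩
    rw [mem_centralizer_iff]
    intro d hd
    have h1 := mem_centralizer_iff.mp hvC (g * d * g⁻¹) (mem_map.mpr ⟨d, hd, rfl⟩)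
    have h2 : g * (d * v) * g⁻¹ = g * (v * d) * g⁻¹ := by
      calc g * (d * v) * g⁻¹ = g * d * g⁻¹ * (g * v * g⁻¹) := by group
        _ = g * v * g⁻¹ * (g * d * g⁻¹) := h1
        _ = g * (v * d) * g⁻¹ := by group
    exact mul_left_cancel (mul_right_cancel h2)

/-- the fixed points of the other hyperplanes -/
def others (s : ℕ) (V T S0 D : Subgroup H) : Subgroup H :=
  ⨆ D' : {D' : Subgroup H // (S0 ≤ D' ∧ D' ≤ T ∧ D'.relIndex T = s) ∧ D' ≠ D},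
    V ⊓ centralizer ((D' : Subgroup H) : Set H)

theorem inf_others {s : ℕ} [Fact s.Prime] {V T S0 : Subgroup H} (hs : HypSet s V T S0)
    (D : Subgroup H) (hD : IsHyp s T S0 D) :
    (V ⊓ centralizer (D : Set H)) ⊓ others s V T S0 D = ⊥ :=
  Cfsg.Agent.Helper31.Ward.ind_hyperplanes V T S0 hs.hVab hs.hTV hs.hTs hs.hcop hs.hS0T hs.hS0
    hs.hcomm hs.hfix D hD

theorem conj_mem_others {s : ℕ} {V T S0 : Subgroup H} (D : Subgroup H) (hD : IsHyp s T S0 D)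
    (a : H) (haV : a ∈ normalizer (V : Set H)) (haT : a ∈ normalizer (T : Set H))
    (haS0 : a ∈ normalizer (S0 : Set H)) (haD : a ∉ normalizer (D : Set H)) (u : H)
    (hu : u ∈ V ⊓ centralizer (D : Set H)) : a * u * a⁻¹ ∈ others s V T S0 D := by
  have h1 := (fix_conj V D a haV u).mp hu
  have h2 := isHyp_conj hD a haT haS0
  have h3 : D.map (MulAut.conj a).toMonoidHom ≠ D := fun e =>
    haD (mem_normalizer_of_map_conj_eq D a e)
  exact le_iSup (fun D' : {D' : Subgroup H // (S0 ≤ D' ∧ D' ≤ T ∧ D'.relIndex T = s) ∧ D' ≠ D} =>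
    V ⊓ centralizer ((D' : Subgroup H) : Set H)) ⟨D.map (MulAut.conj a).toMonoidHom, h2, h3⟩ h1

theorem eq_one_of_mul_mem_others {s : ℕ} [Fact s.Prime] {V T S0 : Subgroup H}
    (hs : HypSet s V T S0) (D : Subgroup H) (hD : IsHyp s T S0 D) (u y : H)
    (hu : u ∈ V ⊓ centralizer (D : Set H)) (hy : y ∈ others s V T S0 D) (h1 : u * y = 1) :
    u = 1 := by
  have h2 : u = y⁻¹ := eq_inv_of_mul_eq_one_left h1
  have h3 : u ∈ (V ⊓ centralizer (D : Set H)) ⊓ others s V T S0 D :=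
    mem_inf.mpr ⟨hu, by rw [h2]; exact inv_mem hy⟩
  rw [inf_others hs D hD] at h3
  exact mem_bot.mp h3

section s3

variable {σ τ : H}

theorem sq_sigma (h : S3Pair σ τ) : σ * σ = σ⁻¹ := by
  have h3 : σ ^ 3 = 1 := by rw [← h.oσ]; exact pow_orderOf_eq_one σ
  apply eq_inv_of_mul_eq_one_left
  rw [← h3, pow_succ, pow_two]

theorem inv_tau (h : S3Pair σ τ) : τ⁻¹ = τ := by
  have h2 : τ ^ 2 = 1 := by rw [← h.oτ]; exact pow_orderOf_eq_one τ
  apply inv_eq_of_mul_eq_one_right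
  rw [← h2, pow_two]

theorem tau_sigma (h : S3Pair σ τ) : τ * σ = σ⁻¹ * τ := by
  calc τ * σ = (τ * σ * τ⁻¹) * τ := by group
    _ = σ⁻¹ * τ := by rw [h.rel]

theorem tau_sigma_inv (h : S3Pair σ τ) : τ * σ⁻¹ = σ * τ := by
  calc τ * σ⁻¹ = (τ * σ * τ⁻¹)⁻¹ * τ := by group
    _ = σ * τ := by rw [h.rel, inv_inv]

/-- `τ σ = σ τ σ⁻¹` -/
theorem tau_sigma_eq (h : S3Pair σ τ) : τ * σ = σ ^ 1 * τ * σ⁻¹ ^ 1 := by
  rw [pow_one, pow_one]
  calc τ * σ = σ⁻¹ * τ := tau_sigma h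
    _ = (σ * σ) * τ := by rw [sq_sigma h]
    _ = σ * (σ * τ) := by group
    _ = σ * (τ * σ⁻¹) := by rw [tau_sigma_inv h]
    _ = σ * τ * σ⁻¹ := by group

/-- `τ σ⁻¹ = σ² τ σ⁻²` -/
theorem tau_sigma_inv_eq (h : S3Pair σ τ) : τ * σ⁻¹ = σ ^ 2 * τ * σ⁻¹ ^ 2 := by
  rw [pow_two, pow_two]
  calc τ * σ⁻¹ = σ * τ := tau_sigma_inv h
    _ = σ * (τ * σ) * σ⁻¹ := by group
    _ = σ * (σ * τ * σ⁻¹) * σ⁻¹ := by
        have := tau_sigma_eq h
        rw [pow_one, pow_one] at this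
        rw [this]
    _ = σ * σ * τ * (σ⁻¹ * σ⁻¹) := by group

/-- the `σ`-norm of an element of an abelian `σ`-invariant subgroup is `σ`-fixed -/
theorem sigma_norm_fixed (h : S3Pair σ τ) (V : Subgroup H) (hVab : ∀ u ∈ V, ∀ v ∈ V, u * v = v * u)
    (hσV : σ ∈ normalizer (V : Set H)) (u : H) (hu : u ∈ V) :
    σ * (u * (σ * u * σ⁻¹) * (σ⁻¹ * u * σ)) * σ⁻¹ = u * (σ * u * σ⁻¹) * (σ⁻¹ * u * σ) := by
  have h1 : σ * u * σ⁻¹ ∈ V := (mem_normalizer_iff.mp hσV u).mp hu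
  have h2 : σ⁻¹ * u * σ ∈ V := by
    have := (mem_normalizer_iff.mp (inv_mem hσV) u).mp hu
    rwa [inv_inv] at this
  have e1 : σ * (σ * u * σ⁻¹) * σ⁻¹ = σ⁻¹ * u * σ := by
    calc σ * (σ * u * σ⁻¹) * σ⁻¹ = (σ * σ) * u * (σ * σ)⁻¹ := by group
      _ = σ⁻¹ * u * σ := by rw [sq_sigma h, inv_inv]
  have e2 : σ * (σ⁻¹ * u * σ) * σ⁻¹ = u := by group
  calc σ * (u * (σ * u * σ⁻¹) * (σ⁻¹ * u * σ)) * σ⁻¹
      = (σ * u * σ⁻¹) * (σ * (σ * u * σ⁻¹) * σ⁻¹) * (σ * (σ⁻¹ * u * σ) * σ⁻¹) := by group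
    _ = (σ * u * σ⁻¹) * (σ⁻¹ * u * σ) * u := by rw [e1, e2]
    _ = u * ((σ * u * σ⁻¹) * (σ⁻¹ * u * σ)) := (hVab _ hu _ (V.mul_mem h1 h2)).symm
    _ = u * (σ * u * σ⁻¹) * (σ⁻¹ * u * σ) := by group

/-- the `τ`-conjugate of a `σ`-fixed element is `σ`-fixed -/
theorem tau_conj_sigma_fixed (h : S3Pair σ τ) (w : H) (hw : σ * w * σ⁻¹ = w) :
    σ * (τ * w * τ⁻¹) * σ⁻¹ = τ * w * τ⁻¹ := by
  have hw' : σ⁻¹ * w * σ = w := by
    calc σ⁻¹ * w * σ = σ⁻¹ * (σ * w * σ⁻¹) * σ := by rw [hw]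
      _ = w := by group
  have e1 : σ * τ = τ * σ⁻¹ := (tau_sigma_inv h).symm
  calc σ * (τ * w * τ⁻¹) * σ⁻¹ = (σ * τ) * w * (σ * τ)⁻¹ := by group
    _ = (τ * σ⁻¹) * w * (τ * σ⁻¹)⁻¹ := by rw [e1]
    _ = τ * (σ⁻¹ * w * σ) * τ⁻¹ := by group
    _ = τ * w * τ⁻¹ := by rw [hw']

/-- `w * τ w τ⁻¹` is `τ`-fixed -/
theorem tau_norm_fixed (h : S3Pair σ τ) (V : Subgroup H) (hVab : ∀ u ∈ V, ∀ v ∈ V, u * v = v * u)
    (hτV : τ ∈ normalizer (V : Set H)) (w : H) (hw : w ∈ V) :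
    τ * (w * (τ * w * τ⁻¹)) * τ⁻¹ = w * (τ * w * τ⁻¹) := by
  have h1 : τ * w * τ⁻¹ ∈ V := (mem_normalizer_iff.mp hτV w).mp hw
  have e1 : τ * (τ * w * τ⁻¹) * τ⁻¹ = w := by
    rw [inv_tau h]
    have h2 : τ * τ = 1 := by
      have := inv_tau h
      calc τ * τ = τ⁻¹ * τ := by rw [this]
        _ = 1 := by group
    calc τ * (τ * w * τ) * τ = (τ * τ) * w * (τ * τ) := by group
      _ = w := by rw [h2, one_mul, mul_one]
  calc τ * (w * (τ * w * τ⁻¹)) * τ⁻¹ = (τ * w * τ⁻¹) * (τ * (τ * w * τ⁻¹) * τ⁻¹) := by group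
    _ = (τ * w * τ⁻¹) * w := by rw [e1]
    _ = w * (τ * w * τ⁻¹) := hVab _ h1 _ hw

theorem mem_fix_of (V : Subgroup H) (x : H) (hx : x ∈ V) (h1 : σ * x * σ⁻¹ = x)
    (h2 : τ * x * τ⁻¹ = x) : x ∈ Fix σ τ V := by
  unfold Cfsg.Agent.Helper1.Shult.Fix
  refine mem_inf.mpr ⟨hx, mem_centralizer_iff.mpr ?_⟩
  intro y hy
  rcases hy with hy | hy
  · rw [hy]
    calc σ * x = (σ * x * σ⁻¹) * σ := by group
      _ = x * σ := by rw [h1]
  · rw [Set.mem_singleton_iff] at hy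
    rw [hy]
    calc τ * x = (τ * x * τ⁻¹) * τ := by group
      _ = x * τ := by rw [h2]

end s3

/-- (O1) a hyperplane with regular `⟨σ,τ⟩`-orbit has no fixed points on `V`. -/
theorem orbit_regular {s : ℕ} [Fact s.Prime] {σ τ : H} (h : S3Pair σ τ) {V T S0 : Subgroup H}
    (hs : HypSet s V T S0) (hVinv : Inv σ τ V) (hTinv : Inv σ τ T) (hS0inv : Inv σ τ S0)
    (hfixV : Fix σ τ V = ⊥) (D : Subgroup H) (hD : IsHyp s T S0 D)
    (hσD : σ ∉ normalizer (D : Set H)) (hτD : ∀ i : ℕ, σ ^ i * τ * σ⁻¹ ^ i ∉ normalizer (D : Set H)) :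
    V ⊓ centralizer (D : Set H) = ⊥ := by
  rw [eq_bot_iff_forall]
  intro u hu
  have huV : u ∈ V := hu.1
  have hσV := hVinv.1
  have hτV := hVinv.2
  -- the elements
  set u1 := σ * u * σ⁻¹ with hu1
  set u2 := σ⁻¹ * u * σ with hu2
  have hu1V : u1 ∈ V := (mem_normalizer_iff.mp hσV u).mp huV
  have hu2V : u2 ∈ V := by
    have := (mem_normalizer_iff.mp (inv_mem hσV) u).mp huV
    rwa [inv_inv] at this
  set w := u * u1 * u2 with hw
  have hwV : w ∈ V := V.mul_mem (V.mul_mem huV hu1V) hu2V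
  have hwσ : σ * w * σ⁻¹ = w := sigma_norm_fixed h V hs.hVab hσV u huV
  set x := w * (τ * w * τ⁻¹) with hx
  have hτwV : τ * w * τ⁻¹ ∈ V := (mem_normalizer_iff.mp hτV w).mp hwV
  have hxV : x ∈ V := V.mul_mem hwV hτwV
  have hxτ : τ * x * τ⁻¹ = x := tau_norm_fixed h V hs.hVab hτV w hwV
  have hxσ : σ * x * σ⁻¹ = x := by
    have h1 := tau_conj_sigma_fixed h w hwσ
    calc σ * x * σ⁻¹ = (σ * w * σ⁻¹) * (σ * (τ * w * τ⁻¹) * σ⁻¹) := by rw [hx]; group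
      _ = x := by rw [hwσ, h1]
  have hx1 : x = 1 := by
    have := mem_fix_of V x hxV hxσ hxτ
    rw [hfixV] at this
    exact mem_bot.mp this
  -- the five other factors lie in `others`
  have hσinvD : σ⁻¹ ∉ normalizer (D : Set H) := fun hh => hσD (by simpa using inv_mem hh)
  have m1 : u1 ∈ others s V T S0 D :=
    conj_mem_others D hD σ hσV hTinv.1 hS0inv.1 hσD u hu
  have m2 : u2 ∈ others s V T S0 D := by
    have := conj_mem_others D hD σ⁻¹ (inv_mem hσV) (inv_mem hTinv.1) (inv_mem hS0inv.1) hσinvD u hu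
    rwa [inv_inv] at this
  have hτ0 : τ ∉ normalizer (D : Set H) := by
    have := hτD 0
    simpa using this
  have hτ1 : τ * σ ∉ normalizer (D : Set H) := by
    rw [tau_sigma_eq h]
    exact hτD 1
  have hτ2 : τ * σ⁻¹ ∉ normalizer (D : Set H) := by
    rw [tau_sigma_inv_eq h]
    exact hτD 2
  have m3 : τ * u * τ⁻¹ ∈ others s V T S0 D :=
    conj_mem_others D hD τ hτV hTinv.2 hS0inv.2 hτ0 u hu
  have m4 : τ * u1 * τ⁻¹ ∈ others s V T S0 D := by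
    have := conj_mem_others D hD (τ * σ) (mul_mem hτV hσV) (mul_mem hTinv.2 hTinv.1)
      (mul_mem hS0inv.2 hS0inv.1) hτ1 u hu
    have e : τ * σ * u * (τ * σ)⁻¹ = τ * u1 * τ⁻¹ := by rw [hu1]; group
    rwa [e] at this
  have m5 : τ * u2 * τ⁻¹ ∈ others s V T S0 D := by
    have := conj_mem_others D hD (τ * σ⁻¹) (mul_mem hτV (inv_mem hσV))
      (mul_mem hTinv.2 (inv_mem hTinv.1)) (mul_mem hS0inv.2 (inv_mem hS0inv.1)) hτ2 u hu
    have e : τ * σ⁻¹ * u * (τ * σ⁻¹)⁻¹ = τ * u2 * τ⁻¹ := by rw [hu2]; group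
    rwa [e] at this
  set y := u1 * u2 * ((τ * u * τ⁻¹) * (τ * u1 * τ⁻¹) * (τ * u2 * τ⁻¹)) with hy
  have hyO : y ∈ others s V T S0 D :=
    mul_mem (mul_mem m1 m2) (mul_mem (mul_mem m3 m4) m5)
  have huy : u * y = 1 := by
    rw [← hx1, hx, hw, hy]
    group
  exact eq_one_of_mul_mem_others hs D hD u y hu hyO huy

/-- (O2) a `σ`-invariant, non-`τ`-invariant hyperplane: `σ` has no fixed points on `C_V(D)`. -/
theorem orbit_sigma {s : ℕ} [Fact s.Prime] {σ τ : H} (h : S3Pair σ τ) {V T S0 : Subgroup H}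
    (hs : HypSet s V T S0) (hVinv : Inv σ τ V) (hTinv : Inv σ τ T) (hS0inv : Inv σ τ S0)
    (hfixV : Fix σ τ V = ⊥) (D : Subgroup H) (hD : IsHyp s T S0 D)
    (hσD : σ ∈ normalizer (D : Set H)) (hτD : τ ∉ normalizer (D : Set H)) :
    ∀ v ∈ V ⊓ centralizer (D : Set H), σ * v * σ⁻¹ = v → v = 1 := by
  intro u hu huσ
  have huV : u ∈ V := hu.1
  have hτV := hVinv.2
  set x := u * (τ * u * τ⁻¹) with hx
  have hτuV : τ * u * τ⁻¹ ∈ V := (mem_normalizer_iff.mp hτV u).mp huV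
  have hxV : x ∈ V := V.mul_mem huV hτuV
  have hxτ : τ * x * τ⁻¹ = x := tau_norm_fixed h V hs.hVab hτV u huV
  have hxσ : σ * x * σ⁻¹ = x := by
    have h1 := tau_conj_sigma_fixed h u huσ
    calc σ * x * σ⁻¹ = (σ * u * σ⁻¹) * (σ * (τ * u * τ⁻¹) * σ⁻¹) := by rw [hx]; group
      _ = x := by rw [huσ, h1]
  have hx1 : x = 1 := by
    have := mem_fix_of V x hxV hxσ hxτ
    rw [hfixV] at this
    exact mem_bot.mp this
  have m : τ * u * τ⁻¹ ∈ others s V T S0 D :=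
    conj_mem_others D hD τ hτV hTinv.2 hS0inv.2 hτD u hu
  exact eq_one_of_mul_mem_others hs D hD u _ hu m (by rw [← hx1])

/-- (O3) a `τ`-invariant, non-`σ`-invariant hyperplane: `τ` inverts `C_V(D)`. -/
theorem orbit_tau {s : ℕ} [Fact s.Prime] {σ τ : H} (h : S3Pair σ τ) {V T S0 : Subgroup H}
    (hs : HypSet s V T S0) (hVinv : Inv σ τ V) (hTinv : Inv σ τ T) (hS0inv : Inv σ τ S0)
    (hfixV : Fix σ τ V = ⊥) (D : Subgroup H) (hD : IsHyp s T S0 D)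
    (hτD : τ ∈ normalizer (D : Set H)) (hσD : σ ∉ normalizer (D : Set H)) :
    ∀ v ∈ V ⊓ centralizer (D : Set H), τ * v * τ⁻¹ = v⁻¹ := by
  intro v hv
  have hvV : v ∈ V := hv.1
  have hσV := hVinv.1
  have hτV := hVinv.2
  -- `v' := v * τ v τ⁻¹` lies in `C_V(D)` and is `τ`-fixed
  have hτv : τ * v * τ⁻¹ ∈ V ⊓ centralizer (D : Set H) := by
    have := (fix_conj V D τ hτV v).mp hv
    rwa [map_conj_eq_of_mem_normalizer D τ hτD] at this
  set v' := v * (τ * v * τ⁻¹) with hv'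
  have hv'U : v' ∈ V ⊓ centralizer (D : Set H) := mul_mem hv hτv
  have hv'V : v' ∈ V := hv'U.1
  have hv'τ : τ * v' * τ⁻¹ = v' := tau_norm_fixed h V hs.hVab hτV v hvV
  -- the `σ`-norm of `v'`
  set u1 := σ * v' * σ⁻¹ with hu1
  set u2 := σ⁻¹ * v' * σ with hu2
  have hu1V : u1 ∈ V := (mem_normalizer_iff.mp hσV v').mp hv'V
  have hu2V : u2 ∈ V := by
    have := (mem_normalizer_iff.mp (inv_mem hσV) v').mp hv'V
    rwa [inv_inv] at this
  set x := v' * u1 * u2 with hx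
  have hxV : x ∈ V := V.mul_mem (V.mul_mem hv'V hu1V) hu2V
  have hxσ : σ * x * σ⁻¹ = x := sigma_norm_fixed h V hs.hVab hσV v' hv'V
  have hxτ : τ * x * τ⁻¹ = x := by
    have e1 : τ * u1 * τ⁻¹ = u2 := by
      calc τ * u1 * τ⁻¹ = (τ * σ) * v' * (τ * σ)⁻¹ := by rw [hu1]; group
        _ = (σ⁻¹ * τ) * v' * (σ⁻¹ * τ)⁻¹ := by rw [tau_sigma h]
        _ = σ⁻¹ * (τ * v' * τ⁻¹) * σ := by group
        _ = u2 := by rw [hv'τ]
    have e2 : τ * u2 * τ⁻¹ = u1 := by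
      calc τ * u2 * τ⁻¹ = (τ * σ⁻¹) * v' * (τ * σ⁻¹)⁻¹ := by rw [hu2]; group
        _ = (σ * τ) * v' * (σ * τ)⁻¹ := by rw [tau_sigma_inv h]
        _ = σ * (τ * v' * τ⁻¹) * σ⁻¹ := by group
        _ = u1 := by rw [hv'τ]
    calc τ * x * τ⁻¹ = (τ * v' * τ⁻¹) * (τ * u1 * τ⁻¹) * (τ * u2 * τ⁻¹) := by rw [hx]; group
      _ = v' * u2 * u1 := by rw [hv'τ, e1, e2]
      _ = v' * (u2 * u1) := by group
      _ = v' * (u1 * u2) := by rw [hs.hVab _ hu2V _ hu1V]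
      _ = x := by rw [hx]; group
  have hx1 : x = 1 := by
    have := mem_fix_of V x hxV hxσ hxτ
    rw [hfixV] at this
    exact mem_bot.mp this
  have hσinvD : σ⁻¹ ∉ normalizer (D : Set H) := fun hh => hσD (by simpa using inv_mem hh)
  have m1 : u1 ∈ others s V T S0 D :=
    conj_mem_others D hD σ hσV hTinv.1 hS0inv.1 hσD v' hv'U
  have m2 : u2 ∈ others s V T S0 D := by
    have := conj_mem_others D hD σ⁻¹ (inv_mem hσV) (inv_mem hTinv.1) (inv_mem hS0inv.1) hσinvD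
      v' hv'U
    rwa [inv_inv] at this
  have hv'1 : v' = 1 :=
    eq_one_of_mul_mem_others hs D hD v' (u1 * u2) hv'U (mul_mem m1 m2)
      (by rw [← hx1, hx]; group)
  -- conclude
  have : v * (τ * v * τ⁻¹) = 1 := hv'1
  exact (eq_inv_of_mul_eq_one_right this)

end Cfsg.Agent.Helper60.Shult
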