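import Cfsg.Agent.Helper60.Zassenhaus
import Cfsg.Agent.Helper61.FrobAction

set_option autoImplicit false

namespace Cfsg.Agent.Helper60.Zass2Trans

open MulAction Cfsg.Agent.Helper60.Zassenhaus

variable {G Ω : Type*} [Group G] [MulAction G Ω]

/-- The Frobenius kernel of a point stabilizer in a 2-transitive group in which only the identity
fixes three points (and some nonidentity element fixes two). -/
theorem exists_kernel_of_two_trans [Finite G] [Finite Ω]
    (h2 : IsMultiplyPretransitive G Ω 2)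
    (h3f : ∀ g : G, ∀ a b c : Ω, a ≠ b → b ≠ c → a ≠ c → g • a = a → g • b = b → g • c = c → g = 1)
    {a b : Ω} (hab : a ≠ b) (h3c : 3 ≤ Nat.card Ω)
    {y1 : G} (hy11 : y1 ≠ 1) (hy1a : y1 • a = a) (hy1b : y1 • b = b) :
    ∃ K : Subgroup G, K ≤ stabilizer G a ∧
      (∀ g ∈ stabilizer G a, ∀ k ∈ K, g * k * g⁻¹ ∈ K) ∧
      (∀ k ∈ K, ∀ x : Ω, x ≠ a → k • x = x → k = 1) ∧
      (∀ x y : Ω, x ≠ a → y ≠ a → ∃ k ∈ K, k • x = y) := by
  classical
  have hΩ : 1 < Nat.card (SubMulAction.ofStabilizer G a) := by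
    rw [SubMulAction.nat_card_ofStabilizer_eq]; omega
  have hval : ∀ (g : stabilizer G a) (x : SubMulAction.ofStabilizer G a),
      ((g • x : SubMulAction.ofStabilizer G a) : Ω) = (g : G) • (x : Ω) := fun g x => rfl
  have htrans : ∀ x y : SubMulAction.ofStabilizer G a, ∃ g : stabilizer G a, g • x = y := by
    intro x y
    have hx : (x : Ω) ≠ a := (SubMulAction.mem_ofStabilizer_iff G a).mp x.2
    have hy : (y : Ω) ≠ a := (SubMulAction.mem_ofStabilizer_iff G a).mp y.2
    obtain ⟨g, hga, hgx⟩ := exists_map2 h2 hx.symm hy.symm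
    refine ⟨⟨g, hga⟩, ?_⟩
    apply Subtype.ext
    rw [hval]
    exact hgx
  let bb : SubMulAction.ofStabilizer G a := ⟨b, (SubMulAction.mem_ofStabilizer_iff G a).mpr hab.symm⟩
  have hnreg : ∃ g : stabilizer G a, g ≠ 1 ∧ ∃ x : SubMulAction.ofStabilizer G a, g • x = x := by
    refine ⟨⟨y1, hy1a⟩, ?_, bb, ?_⟩
    · intro h
      apply hy11
      exact congrArg Subtype.val h
    · apply Subtype.ext
      rw [hval]
      exact hy1b
  have hfix : ∀ g : stabilizer G a, g ≠ 1 → ∀ x y : SubMulAction.ofStabilizer G a,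
      g • x = x → g • y = y → x = y := by
    intro g hg x y hx hy
    by_contra hne
    have hx' : (x : Ω) ≠ a := (SubMulAction.mem_ofStabilizer_iff G a).mp x.2
    have hy' : (y : Ω) ≠ a := (SubMulAction.mem_ofStabilizer_iff G a).mp y.2
    have hxy : (x : Ω) ≠ y := fun h => hne (Subtype.ext h)
    apply hg
    apply Subtype.ext
    refine h3f g.1 a x y hx'.symm hxy hy'.symm g.2 ?_ ?_
    · have := congrArg Subtype.val hx
      rwa [hval] at this
    · have := congrArg Subtype.val hy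
      rwa [hval] at this
  obtain ⟨K, hKchar, hmem, htr, -⟩ :=
    Cfsg.Agent.Helper61.FrobAction.exists_kernel hΩ htrans hnreg hfix
  have hKn : K.Normal := inferInstance
  refine ⟨K.map (stabilizer G a).subtype, ?_, ?_, ?_, ?_⟩
  · rintro _ ⟨k, -, rfl⟩
    exact k.2
  · rintro g hg _ ⟨k, hk, rfl⟩
    refine ⟨⟨g, hg⟩ * k * ⟨g, hg⟩⁻¹, hKn.conj_mem k hk ⟨g, hg⟩, rfl⟩
  · rintro _ ⟨k, hk, rfl⟩ x hx hkx
    rcases (hmem k).1 hk with h | h
    · rw [h]; rfl
    · exfalso
      apply h ⟨x, (SubMulAction.mem_ofStabilizer_iff G a).mpr hx⟩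
      apply Subtype.ext
      rw [hval]
      exact hkx
  · intro x y hx hy
    obtain ⟨k, hk, hkb⟩ := htr ⟨x, (SubMulAction.mem_ofStabilizer_iff G a).mpr hx⟩
      ⟨y, (SubMulAction.mem_ofStabilizer_iff G a).mpr hy⟩
    refine ⟨k.1, ⟨k, hk, rfl⟩, ?_⟩
    have := congrArg Subtype.val hkb
    rwa [hval] at this

end Cfsg.Agent.Helper60.Zass2Trans
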