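import Mathlib
import Cfsg.Agent.Helper11.Spec5.Defs
import Cfsg.Agent.Helper43.SpRegEx
import Cfsg.Agent.Helper37.RegUniA

/-!
# (RU) for S2512 (helper11): `Sp_{2m}(q)` has an element of order `p ^ t` whenever `t = 0` or
`p ^ (t - 1) < 2 m`.
-/

set_option autoImplicit false

namespace Cfsg.Agent.Helper60.Spec5

open Matrix Polynomial Cfsg.Agent.Helper43.SpReg Cfsg.Agent.Helper11.Spec5 Cfsg.Agent.S0246

section sp

variable {F : Type*} [Field F] [Fintype F] {n : ℕ}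

/-- (RU) -/
theorem unipotent_exists {p : ℕ} [Fact p.Prime] [CharP F p] (m : ℕ) (hm : 1 ≤ m) (t : ℕ)
    (ht : t = 0 ∨ p ^ (t - 1) < 2 * m) : ∃ u : Sp m F, orderOf u = p ^ t := by
  classical
  have hp : p.Prime := Fact.out
  obtain ⟨k, rfl⟩ : ∃ k, m = k + 1 := ⟨m - 1, by omega⟩
  obtain ⟨u, hu, hnil, hrank⟩ := exists_regUnip_sp F k
  have hcard : Fintype.card (Fin (k + 1) ⊕ Fin (k + 1)) = 2 * (k + 1) := by
    rw [Fintype.card_sum, Fintype.card_fin, two_mul]
  have hne : (u - 1) ^ (2 * (k + 1) - 1) ≠ 0 := by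
    have := Cfsg.Agent.Helper37.RegUni.pow_pred_ne_zero_of_rank (u - 1) (by rw [hcard]; omega)
      (by rw [hcard]; exact hrank)
    rwa [hcard] at this
  have : CharP (Matrix (Fin (k + 1) ⊕ Fin (k + 1)) (Fin (k + 1) ⊕ Fin (k + 1)) F) p :=
    Matrix.charP _
  have key : ∀ j, u ^ p ^ j = 1 ↔ 2 * (k + 1) ≤ p ^ j := by
    intro j
    have h1 : (u - 1) ^ p ^ j = u ^ p ^ j - 1 := by
      have := sub_pow_char_pow_of_commute (p := p) (n := j) (Commute.one_right u)
      rwa [one_pow] at this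
    constructor
    · intro h
      by_contra hlt
      push Not at hlt
      have h0 : (u - 1) ^ (p ^ j) = 0 := by rw [h1, h, sub_self]
      apply hne
      rw [show 2 * (k + 1) - 1 = p ^ j + (2 * (k + 1) - 1 - p ^ j) by omega, pow_add, h0, zero_mul]
    · intro h
      have h0 : (u - 1) ^ (p ^ j) = 0 := by
        rw [show p ^ j = 2 * (k + 1) + (p ^ j - 2 * (k + 1)) by omega, pow_add, hnil, zero_mul]
      rw [h1] at h0
      exact sub_eq_zero.mp h0
  let U : Sp (k + 1) F := ⟨u, hu⟩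
  have keyU : ∀ j, U ^ p ^ j = 1 ↔ 2 * (k + 1) ≤ p ^ j := by
    intro j
    rw [← key j]
    constructor
    · intro h
      have := congrArg (fun x : Sp (k + 1) F => (x : Mat (k + 1) F)) h
      simpa [U] using this
    · intro h
      apply Subtype.ext
      simpa [U] using h
  have hex : ∃ T, 2 * (k + 1) ≤ p ^ T := ⟨2 * (k + 1), (Nat.lt_pow_self hp.one_lt).le⟩
  obtain ⟨T, hT, hTmin⟩ : ∃ T, 2 * (k + 1) ≤ p ^ T ∧ ∀ j, j < T → ¬ 2 * (k + 1) ≤ p ^ j :=
    ⟨Nat.find hex, Nat.find_spec hex, fun j hj => Nat.find_min hex hj⟩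
  have hT0 : T ≠ 0 := by
    rintro rfl
    rw [pow_zero] at hT
    omega
  obtain ⟨T', rfl⟩ : ∃ T', T = T' + 1 := ⟨T - 1, by omega⟩
  have hord : orderOf U = p ^ (T' + 1) :=
    orderOf_eq_prime_pow (fun h => hTmin T' (Nat.lt_succ_self _) ((keyU T').mp h))
      ((keyU (T' + 1)).mpr hT)
  have htT : t ≤ T' + 1 := by
    rcases ht with rfl | h
    · omega
    · have h2 : p ^ (t - 1) < p ^ (T' + 1) := lt_of_lt_of_le h hT
      have := (Nat.pow_lt_pow_iff_right hp.one_lt).mp h2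
      omega
  refine ⟨U ^ p ^ (T' + 1 - t), ?_⟩
  rw [orderOf_pow_of_dvd (pow_ne_zero _ hp.ne_zero) (by rw [hord]; exact pow_dvd_pow _ (by omega)),
    hord, Nat.pow_div (by omega) hp.pos]
  congr 1
  omega

end sp

end Cfsg.Agent.Helper60.Spec5
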