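import Mathlib
import Cfsg.Agent.Helper11.Spec5.Defs

/-!
# (T1a) for S2512 (helper11): a semisimple symplectic element of odd order with irreducible minimal
polynomial of degree `D` has `D = 2 e'` and `s ^ (q ^ e' + 1) = 1`.
-/

set_option autoImplicit false

namespace Cfsg.Agent.Helper60.Spec5

open Matrix Polynomial Cfsg.Agent.Helper43.SpReg Cfsg.Agent.Helper11.Spec5 Cfsg.Agent.S0246

section adjaeval

variable {F : Type*} [Field F] {l : Type*} [Fintype l] [DecidableEq l]

theorem adj_pow (g : Matrix (l ⊕ l) (l ⊕ l) F) (k : ℕ) : adj (g ^ k) = adj g ^ k := by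
  induction k with
  | zero => rw [pow_zero, pow_zero, adj_one]
  | succ k ih => rw [pow_succ, adj_mul, ih, pow_succ']

/-- `adj` commutes with polynomial evaluation -/
theorem adj_aeval (g : Matrix (l ⊕ l) (l ⊕ l) F) (P : F[X]) :
    adj (aeval g P) = aeval (adj g) P := by
  induction P using Polynomial.induction_on with
  | C a =>
    rw [aeval_C, aeval_C, Algebra.algebraMap_eq_smul_one, adj_smul, adj_one]
  | add p q hp hq => rw [map_add, map_add, adj_add, hp, hq]
  | monomial k a _ =>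
    rw [map_mul, map_mul, aeval_C, aeval_C, map_pow, map_pow, aeval_X, aeval_X,
      Algebra.algebraMap_eq_smul_one, smul_mul_assoc, one_mul,
      smul_mul_assoc, one_mul, adj_smul, adj_pow]

end adjaeval

section field

/-- in a finite extension `K / F` of finite fields, an `F`-endomorphism `σ` of `K` with `σ ∘ σ = id`, `σ ≠ id`
is `x ↦ x ^ q ^ e'` with `2 e' = [K : F]` -/
theorem exists_half_frobenius {F K : Type*} [Field F] [Fintype F] [Field K] [Algebra F K] [Finite K]
    (σ : K →ₐ[F] K) (h2 : σ.comp σ = AlgHom.id F K) (h1 : σ ≠ AlgHom.id F K) :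
    ∃ e' : ℕ, Module.finrank F K = 2 * e' ∧ ∀ x : K, σ x = x ^ Fintype.card F ^ e' := by
  obtain ⟨⟨i, hi⟩, hσ⟩ := (FiniteField.bijective_frobeniusAlgHom_pow F K).2 σ
  simp only at hσ
  have hord := FiniteField.orderOf_frobeniusAlgHom F K
  have happly : ∀ x : K, σ x = x ^ Fintype.card F ^ i := by
    intro x
    rw [← hσ, AlgHom.coe_pow, FiniteField.coe_frobeniusAlgHom, pow_iterate]
  have hsq : FiniteField.frobeniusAlgHom F K ^ (2 * i) = 1 := by
    rw [two_mul, pow_add, hσ]
    exact h2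
  have hdvd : Module.finrank F K ∣ 2 * i := by
    rw [← hord]
    exact orderOf_dvd_of_pow_eq_one hsq
  have hi0 : i ≠ 0 := by
    rintro rfl
    apply h1
    rw [← hσ, pow_zero]
    rfl
  refine ⟨i, ?_, happly⟩
  obtain ⟨c, hc⟩ := hdvd
  have hpos : 0 < Module.finrank F K := Module.finrank_pos
  have hc1 : c = 1 := by
    rcases Nat.lt_or_ge c 2 with h | h
    · interval_cases c
      · omega
      · rfl
    · exfalso
      have : 2 * Module.finrank F K ≤ Module.finrank F K * c := by nlinarith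
      omega
  rw [hc1, mul_one] at hc
  exact hc.symm

end field

section sp

variable {F : Type*} [Field F] [Fintype F] {n : ℕ}

/-- (T1a) -/
theorem selfdual_order (hn : 1 ≤ n) (s : Mat n F) (hs : s ∈ symplecticGroup (Fin n) F) (m : ℕ)
    (hmodd : Odd m) (hsm : s ^ m = 1) (hirr : Irreducible (minpoly F s)) (hs1 : s ≠ 1) :
    ∃ e' : ℕ, (minpoly F s).natDegree = 2 * e' ∧ s ^ (Fintype.card F ^ e' + 1) = 1 := by
  classical
  have : Nonempty (Fin n ⊕ Fin n) := ⟨Sum.inl ⟨0, hn⟩⟩
  have : Fact (Irreducible (minpoly F s)) := ⟨hirr⟩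
  have hμ0 : minpoly F s ≠ 0 := hirr.ne_zero
  have : Module.Finite F (AdjoinRoot (minpoly F s)) := (AdjoinRoot.powerBasis hμ0).finite
  have : Finite (AdjoinRoot (minpoly F s)) := Module.finite_of_finite F
  have hfr : Module.finrank F (AdjoinRoot (minpoly F s)) = (minpoly F s).natDegree := by
    rw [(AdjoinRoot.powerBasis hμ0).finrank, AdjoinRoot.powerBasis_dim]
  -- the embedding of `K = F[s]`
  let φ : AdjoinRoot (minpoly F s) →ₐ[F] Mat n F :=
    Ideal.Quotient.liftₐ (Ideal.span {minpoly F s}) (aeval s) (fun a ha => by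
      obtain ⟨c, rfl⟩ := Ideal.mem_span_singleton.mp ha
      rw [map_mul, minpoly.aeval, zero_mul])
  have hφroot : φ (AdjoinRoot.root (minpoly F s)) = s := by
    have h0 : φ (AdjoinRoot.mk (minpoly F s) X) = aeval s X := rfl
    rw [AdjoinRoot.root, h0, aeval_X]
  have hφinj : Function.Injective φ := (φ : AdjoinRoot (minpoly F s) →+* Mat n F).injective
  obtain ⟨α, hα⟩ : ∃ α : AdjoinRoot (minpoly F s), α = AdjoinRoot.root (minpoly F s) := ⟨_, rfl⟩
  have hφα : φ α = s := by rw [hα, hφroot]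
  have hφpow : ∀ N : ℕ, φ (α ^ N) = s ^ N := fun N => by rw [map_pow, hφα]
  have hαm : α ^ m = 1 := by
    apply hφinj
    rw [hφpow, hsm, map_one]
  have hm0 : m ≠ 0 := by
    obtain ⟨c, hc⟩ := hmodd
    omega
  have hα0 : α ≠ 0 := by
    rintro h
    rw [h, zero_pow hm0] at hαm
    exact zero_ne_one hαm
  -- `φ α⁻¹ = adj s`
  have h1 : adj s * s = 1 := adj_mul_self_of_mem hs
  have h1' : s * adj s = 1 := mul_eq_one_comm.mp h1
  have hφinv : φ α⁻¹ = adj s := by
    have h3 : φ α⁻¹ * φ α = 1 := by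
      rw [← map_mul, inv_mul_cancel₀ hα0, map_one]
    rw [hφα] at h3
    calc φ α⁻¹ = φ α⁻¹ * (s * adj s) := by rw [h1', mul_one]
      _ = (φ α⁻¹ * s) * adj s := by rw [mul_assoc]
      _ = adj s := by rw [h3, one_mul]
  -- `α⁻¹` is a root of `μ`
  have hroot : aeval α⁻¹ (minpoly F s) = 0 := by
    apply hφinj
    rw [map_zero, ← Polynomial.aeval_algHom_apply, hφinv, ← adj_aeval, minpoly.aeval]
    unfold adj
    simp
  -- the automorphism `σ : α ↦ α⁻¹`
  let σ : AdjoinRoot (minpoly F s) →ₐ[F] AdjoinRoot (minpoly F s) :=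
    AdjoinRoot.liftAlgHom (minpoly F s) (Algebra.ofId F _) α⁻¹ hroot
  have hσroot : σ α = α⁻¹ := by
    have h0 : σ (AdjoinRoot.root (minpoly F s)) = α⁻¹ :=
      AdjoinRoot.liftAlgHom_root (minpoly F s) (Algebra.ofId F (AdjoinRoot (minpoly F s))) α⁻¹ hroot
    rwa [← hα] at h0
  have hσ2 : σ.comp σ = AlgHom.id F _ := by
    apply AdjoinRoot.algHom_ext
    rw [AlgHom.comp_apply, ← hα, hσroot, map_inv₀, hσroot, inv_inv]
    rfl
  have hσ1 : σ ≠ AlgHom.id F _ := by
    intro h
    have h4 : α⁻¹ = α := by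
      rw [← hσroot, h]
      rfl
    have h5 : α ^ 2 = 1 := by
      rw [pow_two]
      nth_rw 1 [← h4]
      exact inv_mul_cancel₀ hα0
    have h6 : α = 1 := by
      obtain ⟨c, hc⟩ := hmodd
      have : α ^ m = α := by
        rw [hc, pow_succ, pow_mul, h5, one_pow, one_mul]
      rw [← this, hαm]
    apply hs1
    calc s = φ α := hφα.symm
      _ = φ 1 := by rw [h6]
      _ = 1 := map_one φ
  obtain ⟨e', he', hfrob⟩ := exists_half_frobenius σ hσ2 hσ1
  refine ⟨e', by rw [← hfr, he'], ?_⟩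
  have h7 : α ^ (Fintype.card F ^ e' + 1) = 1 := by
    rw [pow_succ, ← hfrob α, hσroot, inv_mul_cancel₀ hα0]
  rw [← hφpow, h7, map_one]

end sp

end Cfsg.Agent.Helper60.Spec5
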