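import Mathlib
import Cfsg.Agent.Helper5.OmBN.Defs

/-!
# (L1) of helper5's S2549 farm (#11709): an isometry of the minus-type form whose first `m` columns are upper
triangular is block upper triangular (no inverse formula: adjointness of the polar form)
-/

set_option autoImplicit false

namespace Cfsg.Agent.Helper60.OmBN

open Matrix Cfsg.Agent.Helper5.OmBN

variable {F : Type*} [Field F] {m : ℕ} {α β : F}

/-- (L1) an isometry whose first `m` columns are upper triangular is block upper triangular -/
theorem Pj_half_subset_Bfull (g : OG m α β) (hg : g ∈ Pj m) : g ∈ Bfull m α β := by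
  rw [mem_Bfull_iff]
  intro r s hrs
  by_cases hs : s.val < m
  · exact hg r s hs ((pos_lt_iff_of_lt r s hs).1 hrs)
  · have hginv := inv_mem_Pj m g hg
    have hposs : m ≤ pos s := by
      unfold pos
      split_ifs <;> omega
    rcases pos_cases r with ⟨j, rfl⟩ | ⟨j, rfl⟩ | rfl | rfl
    · exfalso
      rw [pos_lo] at hrs
      have := j.2
      omega
    · have key : mat g (hi j) s =
          Bm α β (Pi.single s 1) (mat g⁻¹ *ᵥ Pi.single (lo j) 1) := by
        rw [← Bm_mulVec_inv, Bm_single_lo, Helper5.OmBN.mulVec_single_one]
      rw [key, Bm_comm, Helper5.OmBN.mulVec_single_one]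
      have hj := j.2
      rcases pos_cases s with ⟨i, rfl⟩ | ⟨i, rfl⟩ | rfl | rfl
      · exfalso
        exact hs i.2
      · rw [Bm_single_hi]
        apply hginv
        · rw [val_lo]; exact hj
        · rw [pos_hi, pos_hi] at hrs
          rw [Fin.lt_def, val_lo, val_lo]
          have := i.2
          omega
      · rw [Bm_single_c1]
        have e1 : mat g⁻¹ c1 (lo j) = 0 := by
          apply hginv
          · rw [val_lo]; exact hj
          · rw [Fin.lt_def, val_lo, val_c1]; exact hj
        have e2 : mat g⁻¹ c2 (lo j) = 0 := by
          apply hginv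
          · rw [val_lo]; exact hj
          · rw [Fin.lt_def, val_lo, val_c2]; omega
        rw [e1, e2]
        ring
      · rw [Bm_single_c2]
        have e1 : mat g⁻¹ c1 (lo j) = 0 := by
          apply hginv
          · rw [val_lo]; exact hj
          · rw [Fin.lt_def, val_lo, val_c1]; exact hj
        have e2 : mat g⁻¹ c2 (lo j) = 0 := by
          apply hginv
          · rw [val_lo]; exact hj
          · rw [Fin.lt_def, val_lo, val_c2]; omega
        rw [e1, e2]
        ring
    · exfalso
      rw [pos_c1] at hrs
      omega
    · exfalso
      rw [pos_c2] at hrs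
      omega

end Cfsg.Agent.Helper60.OmBN
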