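import Mathlib
import Cfsg.Agent.Helper5.OmBN.Defs

/-!
# (STEP2-V) of helper5's S2549 farm (#11709): the reduction step for the root of kind V
(the last nonzero coordinate of the singular vector is `m + 2`): a Siegel element followed by `s_{m-1}`
-/

set_option autoImplicit false

namespace Cfsg.Agent.Helper60.OmBN

open Matrix Cfsg.Agent.Helper5.OmBN

variable {F : Type*} [Field F] {m : ℕ} {α β : F}

/-- the action of a Siegel element on a vector -/
theorem sgMat_mulVec (e : Fin (2 * m + 2)) (w1 w2 : F) (v : Fin (2 * m + 2) → F)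
    (i : Fin (2 * m + 2)) :
    (sgMat α β e w1 w2 *ᵥ v) i = v i
      + (if e = i then (2 * w1 + α * w2) * v c1 else 0)
      + (if e = i then (α * w1 + 2 * β * w2) * v c2 else 0)
      - (if c1 = i then w1 * v (Fin.rev e) else 0)
      - (if c2 = i then w2 * v (Fin.rev e) else 0)
      - (if e = i then Nf α β w1 w2 * v (Fin.rev e) else 0) := by
  simp only [Matrix.mulVec, dotProduct, sgMat_apply, add_mul, sub_mul, Finset.sum_add_distrib,
    Finset.sum_sub_distrib, ite_mul, zero_mul, one_mul, ite_and, Finset.sum_ite_eq,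
    Finset.mem_univ, if_true]
  have hA : ∀ (c : Prop) [Decidable c] (f : Fin (2 * m + 2) → F),
      (∑ x, if c then f x else 0) = if c then ∑ x, f x else 0 := by
    intro c _ f
    split_ifs <;> simp
  simp only [hA, Finset.sum_ite_eq, Finset.mem_univ, if_true]

/-- the action of `sVMat α k` on a vector: rows outside the middle -/
theorem sVMat_mulVec (k : Fin m) (u : Fin (2 * m + 2) → F) (i : Fin (2 * m + 2))
    (h1 : i ≠ c1) (h2 : i ≠ c2) :
    (sVMat α k *ᵥ u) i = u (Equiv.swap (lo k) (hi k) i) := by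
  simp only [Matrix.mulVec, dotProduct, sVMat_apply]
  rw [Finset.sum_eq_single (Equiv.swap (lo k) (hi k) i)]
  · have hne : Equiv.swap (lo k) (hi k) i ≠ c2 := by
      intro h
      apply h2
      have := congrArg (Equiv.swap (lo k) (hi k)) h
      rw [Equiv.swap_apply_self, Equiv.swap_apply_of_ne_of_ne (lo_ne_c2 k).symm
        (hi_ne_c2 k).symm] at this
      exact this
    rw [if_neg hne, Equiv.swap_apply_self, if_pos rfl, one_mul]
  · intro b _ hb
    by_cases hb2 : b = c2
    · rw [if_pos hb2, if_neg h1, if_neg h2, zero_mul]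
    · rw [if_neg hb2, if_neg, zero_mul]
      intro h
      apply hb
      rw [h, Equiv.swap_apply_self]
  · intro h; exact absurd (Finset.mem_univ _) h

/-- (STEP2-V) the last nonzero coordinate is `A = m + 2`: use the Siegel element `E_{e,w}`, `e = m - 1`,
`w = v_mid / v_A`, and the reflection `s_{m-1}` -/
theorem step_second_V (hSG : HasSG m α β) (hS : HasS m α β)
    (j : ℕ) (hj : j + 1 ≤ m) (v : Fin (2 * m + 2) → F) (hv : Qm α β v = 0)
    (hvA : ∀ r : Fin (2 * m + 2), m + 2 < r.val → v r = 0) (a : Fin (2 * m + 2))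
    (ha : a.val = m + 2) (hva : v a ≠ 0) :
    ∃ h ∈ G1 m α β, Fixj j h ∧ ∀ r : Fin (2 * m + 2), m + 2 ≤ r.val → (mat h *ᵥ v) r = 0 := by
  -- the root
  let k : Fin m := ⟨m - 1, by omega⟩
  have hkv : k.val = m - 1 := rfl
  have hk : k.val + 1 = m := by rw [hkv]; omega
  have hfa : hi k = a := by
    apply Fin.ext; rw [val_hi, ha, hkv]; omega
  have hre : Fin.rev (lo k) = a := by rw [rev_lo, hfa]
  have hev : (lo k).val = m - 1 := rfl
  have hac1 : a ≠ c1 := by rw [← hfa]; exact hi_ne_c1 k
  have hac2 : a ≠ c2 := by rw [← hfa]; exact hi_ne_c2 k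
  have hae : lo k ≠ a := by rw [← hfa]; exact lo_ne_hi k k
  -- the isotropy relation
  have hiso : v (lo k) * v a + Nf α β (v c1) (v c2) = 0 := by
    have hsum : ∑ i : Fin m, v (lo i) * v (hi i) = v (lo k) * v a := by
      rw [Finset.sum_eq_single k, hfa]
      · intro i _ hik
        have hik' : i.val ≠ m - 1 := fun h => hik (Fin.ext h)
        have := i.2
        rw [hvA (hi i) (by rw [val_hi]; omega), mul_zero]
      · intro h; exact absurd (Finset.mem_univ _) h
    have hv' := hv
    unfold Qm at hv'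
    rw [hsum] at hv'
    exact hv'
  -- the parameters
  set w1 : F := v c1 / v a with hw1
  set w2 : F := v c2 / v a with hw2
  obtain ⟨x, hx⟩ := hSG (lo k) (lo_ne_c1 k) (lo_ne_c2 k) w1 w2
  obtain ⟨s, hs0⟩ := hS k
  have hs : mat s = sVMat α k := by rw [hs0, sMat_of_eq α k hk]
  -- membership
  have hxB : x ∈ Bsub m α β := by
    rw [mem_Bsub_iff]
    have hmid : ∀ r t : Fin (2 * m + 2), (r = c1 ∨ r = c2) → (t = c1 ∨ t = c2) →
        mat x r t = if r = t then 1 else 0 := by
      intro r t hr ht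
      rw [hx, sgMat_apply, hre]
      have e1 : lo k ≠ r := by
        rcases hr with rfl | rfl
        · exact lo_ne_c1 k
        · exact lo_ne_c2 k
      have e2 : a ≠ t := by
        rcases ht with rfl | rfl
        · exact hac1
        · exact hac2
      have f1 : ¬ (lo k = r ∧ c1 = t) := fun h => e1 h.1
      have f2 : ¬ (lo k = r ∧ c2 = t) := fun h => e1 h.1
      have f3 : ¬ (c1 = r ∧ a = t) := fun h => e2 h.2
      have f4 : ¬ (c2 = r ∧ a = t) := fun h => e2 h.2
      have f5 : ¬ (lo k = r ∧ a = t) := fun h => e1 h.1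
      rw [if_neg f1, if_neg f2, if_neg f3, if_neg f4, if_neg f5]
      ring
    constructor
    · intro r t hrt
      rw [hx, sgMat_apply, hre]
      have e0 : ¬ r = t := fun h => by rw [h] at hrt; exact lt_irrefl _ hrt
      have e1 : ¬ (lo k = r ∧ c1 = t) := by
        rintro ⟨rfl, rfl⟩
        rw [pos_lo, pos_c1] at hrt; omega
      have e2 : ¬ (lo k = r ∧ c2 = t) := by
        rintro ⟨rfl, rfl⟩
        rw [pos_lo, pos_c2] at hrt; omega
      have e3 : ¬ (c1 = r ∧ a = t) := by
        rintro ⟨rfl, rfl⟩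
        rw [← hfa, pos_hi, pos_c1] at hrt; omega
      have e4 : ¬ (c2 = r ∧ a = t) := by
        rintro ⟨rfl, rfl⟩
        rw [← hfa, pos_hi, pos_c2] at hrt; omega
      have e5 : ¬ (lo k = r ∧ a = t) := by
        rintro ⟨rfl, rfl⟩
        rw [← hfa, pos_hi, pos_lo] at hrt; omega
      rw [if_neg e0, if_neg e1, if_neg e2, if_neg e3, if_neg e4, if_neg e5]
      ring
    · constructor
      · rw [hmid c1 c2 (Or.inl rfl) (Or.inr rfl), hmid c2 c1 (Or.inr rfl) (Or.inl rfl),
          if_neg c1_ne_c2, if_neg c1_ne_c2.symm, mul_zero]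
      · rw [hmid c2 c2 (Or.inr rfl) (Or.inr rfl), hmid c1 c1 (Or.inl rfl) (Or.inl rfl),
          hmid c2 c1 (Or.inr rfl) (Or.inl rfl), if_pos rfl, if_pos rfl, if_neg c1_ne_c2.symm,
          mul_zero, add_zero]
  have hsN : s ∈ Nsub m α β := Sset_subset_Nsub ⟨k, hs0⟩
  refine ⟨s * x, Subgroup.mul_mem _ (Nsub_le_G1 hsN) (Bsub_le_G1 hxB), ?_, ?_⟩
  · -- the first `j` columns
    intro r t ht
    have htk : t.val < m - 1 := by omega
    have htc1 : t ≠ c1 := fun h => by rw [h, val_c1] at htk; omega
    have htc2 : t ≠ c2 := fun h => by rw [h, val_c2] at htk; omega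
    have hta : t ≠ a := fun h => by rw [h, ha] at htk; omega
    have hte : t ≠ lo k := fun h => by rw [h, hev] at htk; omega
    have hxcol : ∀ c' : Fin (2 * m + 2), mat x c' t = if c' = t then 1 else 0 := by
      intro c'
      rw [hx, sgMat_apply, hre]
      have f1 : ¬ (lo k = c' ∧ c1 = t) := fun h => htc1 h.2.symm
      have f2 : ¬ (lo k = c' ∧ c2 = t) := fun h => htc2 h.2.symm
      have f3 : ¬ (c1 = c' ∧ a = t) := fun h => hta h.2.symm
      have f4 : ¬ (c2 = c' ∧ a = t) := fun h => hta h.2.symm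
      have f5 : ¬ (lo k = c' ∧ a = t) := fun h => hta h.2.symm
      rw [if_neg f1, if_neg f2, if_neg f3, if_neg f4, if_neg f5]
      ring
    rw [mat_mul, Matrix.mul_apply, Finset.sum_eq_single t]
    · rw [hxcol, if_pos rfl, mul_one, hs, sVMat_apply, if_neg htc2,
        Equiv.swap_apply_of_ne_of_ne hte (by rw [hfa]; exact hta)]
    · intro c' _ hc'
      rw [hxcol, if_neg hc', mul_zero]
    · intro h; exact absurd (Finset.mem_univ _) h
  · -- the coordinates `≥ m + 2` vanish
    intro i hi'
    have hic1 : i ≠ c1 := fun h => by rw [h, val_c1] at hi'; omega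
    have hic2 : i ≠ c2 := fun h => by rw [h, val_c2] at hi'; omega
    have hie : lo k ≠ i := fun h => by rw [← h, hev] at hi'; omega
    rw [mat_mul, ← Matrix.mulVec_mulVec, hs, sVMat_mulVec k _ i hic1 hic2, hx]
    by_cases hia : i = a
    · rw [hia, ← hfa, Equiv.swap_apply_right, sgMat_mulVec, if_pos rfl, if_pos rfl, if_pos rfl,
        if_neg (lo_ne_c1 k).symm, if_neg (lo_ne_c2 k).symm, hre, hw1, hw2]
      unfold Nf at hiso ⊢
      field_simp
      linear_combination hiso
    · have hi2 : m + 2 < i.val := by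
        rcases Nat.lt_or_ge (m + 2) i.val with h | h
        · exact h
        · exfalso; apply hia; apply Fin.ext; rw [ha]; omega
      rw [Equiv.swap_apply_of_ne_of_ne (fun h => hie h.symm) (by rw [hfa]; exact hia),
        sgMat_mulVec, if_neg hie, if_neg hie, if_neg hie, if_neg (fun h => hic1 h.symm),
        if_neg (fun h => hic2 h.symm), hvA i hi2]
      ring

end Cfsg.Agent.Helper60.OmBN
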