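import Mathlib
import Cfsg.Prelude.Def_LieExceptional

set_option autoImplicit false

namespace Cfsg.Agent.Helper60.Zassenhaus

open MulAction

variable {G Ω : Type*} [Group G] [MulAction G Ω]

theorem injective_vec2 {a1 a2 : Ω} (h12 : a1 ≠ a2) : Function.Injective ![a1, a2] := by
  intro i j h
  fin_cases i <;> fin_cases j <;> simp_all

/-- 2-transitivity in terms of points -/
theorem exists_map2 (h2 : IsMultiplyPretransitive G Ω 2) {a1 a2 b1 b2 : Ω}
    (h12 : a1 ≠ a2) (k12 : b1 ≠ b2) : ∃ g : G, g • a1 = b1 ∧ g • a2 = b2 := by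
  let a : Fin 2 ↪ Ω := ⟨![a1, a2], injective_vec2 h12⟩
  let b : Fin 2 ↪ Ω := ⟨![b1, b2], injective_vec2 k12⟩
  obtain ⟨g, hg⟩ := h2.exists_smul_eq a b
  refine ⟨g, ?_, ?_⟩
  · simpa [a, b] using DFunLike.congr_fun hg 0
  · simpa [a, b] using DFunLike.congr_fun hg 1

/-- a nonidentity element fixing `a, b, c, d` with `a ≠ b`, `c ≠ d` has `{c, d} = {a, b}`. -/
theorem pair_eq_of_fix
    (h3 : ∀ g : G, ∀ a b c : Ω, a ≠ b → b ≠ c → a ≠ c → g • a = a → g • b = b → g • c = c → g = 1)
    {y : G} (hy : y ≠ 1) {a b c d : Ω} (hab : a ≠ b) (hcd : c ≠ d)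
    (ya : y • a = a) (yb : y • b = b) (yc : y • c = c) (yd : y • d = d) :
    (c = a ∧ d = b) ∨ (c = b ∧ d = a) := by
  have hc : c = a ∨ c = b := by
    by_contra hcon
    push Not at hcon
    exact hy (h3 y a b c hab (Ne.symm hcon.2) (Ne.symm hcon.1) ya yb yc)
  have hd : d = a ∨ d = b := by
    by_contra hcon
    push Not at hcon
    exact hy (h3 y a b d hab (Ne.symm hcon.2) (Ne.symm hcon.1) ya yb yd)
  rcases hc with rfl | rfl <;> rcases hd with rfl | rfl
  · exact absurd rfl hcd
  · exact Or.inl ⟨rfl, rfl⟩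
  · exact Or.inr ⟨rfl, rfl⟩
  · exact absurd rfl hcd

/-- elements preserving the pair `{a, b}` normalize the two-point stabilizer. -/
theorem mem_normalizer_of_pair {a b : Ω} {g : G}
    (h : (g • a = a ∧ g • b = b) ∨ (g • a = b ∧ g • b = a)) :
    g ∈ Subgroup.normalizer ((stabilizer G a ⊓ stabilizer G b : Subgroup G) : Set G) := by
  rw [Subgroup.mem_set_normalizer_iff]
  intro x
  simp only [SetLike.mem_coe, Subgroup.mem_inf, mem_stabilizer_iff, mul_smul]
  have ia : ∀ {c d : Ω}, g • c = d → g⁻¹ • d = c := fun h => by rw [inv_smul_eq_iff, h]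
  rcases h with ⟨ga, gb⟩ | ⟨ga, gb⟩
  · rw [ia ga, ia gb]
    constructor
    · rintro ⟨xa, xb⟩
      rw [xa, xb]; exact ⟨ga, gb⟩
    · rintro ⟨h1, h2⟩
      constructor
      · apply MulAction.injective g
        show g • x • a = g • a
        rw [h1, ga]
      · apply MulAction.injective g
        show g • x • b = g • b
        rw [h2, gb]
  · rw [ia ga, ia gb]
    constructor
    · rintro ⟨xa, xb⟩
      rw [xa, xb]; exact ⟨gb, ga⟩
    · rintro ⟨h1, h2⟩
      constructor
      · apply MulAction.injective g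
        show g • x • a = g • a
        rw [h2, ga]
      · apply MulAction.injective g
        show g • x • b = g • b
        rw [h1, gb]

/-- the two point stabilizers of a Zassenhaus group are nontrivial -/
theorem exists_ne_one_fix (hZ : Cfsg.IsZassenhausGroup G Ω) {a b : Ω} (hab : a ≠ b) :
    ∃ y : G, y ≠ 1 ∧ y • a = a ∧ y • b = b := by
  obtain ⟨-, h2, -, ⟨g₀, hg₀, a₀, b₀, hab₀, ga₀, gb₀⟩, -⟩ := hZ
  obtain ⟨h, ha, hb⟩ := exists_map2 h2 hab₀ hab
  refine ⟨h * g₀ * h⁻¹, ?_, ?_, ?_⟩
  · intro hcon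
    apply hg₀
    have : g₀ = h⁻¹ * (h * g₀ * h⁻¹) * h := by group
    rw [this, hcon]; group
  · rw [mul_smul, mul_smul, ← ha, inv_smul_smul, ga₀]
  · rw [mul_smul, mul_smul, ← hb, inv_smul_smul, gb₀]

/-- elements of the normalizer preserve the pair -/
theorem pair_of_mem_normalizer (hZ : Cfsg.IsZassenhausGroup G Ω) {a b : Ω} (hab : a ≠ b) {g : G}
    (hg : g ∈ Subgroup.normalizer ((stabilizer G a ⊓ stabilizer G b : Subgroup G) : Set G)) :
    (g • a = a ∧ g • b = b) ∨ (g • a = b ∧ g • b = a) := by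
  obtain ⟨y, hy1, ya, yb⟩ := exists_ne_one_fix hZ hab
  obtain ⟨-, h2, h3, -, -⟩ := hZ
  rw [Subgroup.mem_set_normalizer_iff] at hg
  have hyE : y ∈ ((stabilizer G a ⊓ stabilizer G b : Subgroup G) : Set G) := by
    simp only [SetLike.mem_coe, Subgroup.mem_inf, mem_stabilizer_iff]
    exact ⟨ya, yb⟩
  have hconj := (hg y).mp hyE
  simp only [SetLike.mem_coe, Subgroup.mem_inf, mem_stabilizer_iff] at hconj
  have hne : g * y * g⁻¹ ≠ 1 := by
    intro hcon
    apply hy1
    have : y = g⁻¹ * (g * y * g⁻¹) * g := by group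
    rw [this, hcon]; group
  have hga : (g * y * g⁻¹) • (g • a) = g • a := by
    rw [mul_smul, mul_smul, inv_smul_smul, ya]
  have hgb : (g * y * g⁻¹) • (g • b) = g • b := by
    rw [mul_smul, mul_smul, inv_smul_smul, yb]
  have hgab : g • a ≠ g • b := fun h => hab (MulAction.injective g h)
  exact pair_eq_of_fix h3 hne hab hgab hconj.1 hconj.2 hga hgb

/-- The Frobenius count: in the point stabilizer `X` of a Zassenhaus group of degree `n`, the set
of elements which are trivial or fix no further point has at most `n - 1` elements. -/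
theorem card_kernel_le [Finite G] [Fintype Ω]
    (h2 : IsMultiplyPretransitive G Ω 2)
    (h3 : ∀ g : G, ∀ a b c : Ω, a ≠ b → b ≠ c → a ≠ c → g • a = a → g • b = b → g • c = c → g = 1)
    (hn : 2 ≤ Fintype.card Ω) (a : Ω) :
    Nat.card {x : stabilizer G a | x = 1 ∨ ∀ y : SubMulAction.ofStabilizer G a, x • y ≠ y} + 1
      ≤ Fintype.card Ω := by
  classical
  have : Fintype G := Fintype.ofFinite G
  set X := stabilizer G a
  set Y := SubMulAction.ofStabilizer G a
  have hYcard : Fintype.card Y + 1 = Fintype.card Ω := by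
    have := SubMulAction.nat_card_ofStabilizer_add_one_eq G a
    rwa [Nat.card_eq_fintype_card, Nat.card_eq_fintype_card] at this
  -- transitivity
  have htrans : IsPretransitive X Y := by
    constructor
    intro y y'
    have hy : (y : Ω) ≠ a := SubMulAction.neq_of_mem_ofStabilizer G a
    have hy' : (y' : Ω) ≠ a := SubMulAction.neq_of_mem_ofStabilizer G a
    obtain ⟨g, ga, gy⟩ := exists_map2 h2 (Ne.symm hy) (Ne.symm hy')
    refine ⟨⟨g, ga⟩, ?_⟩
    apply Subtype.ext
    exact gy
  have hYne : Nonempty Y := by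
    rw [← Fintype.card_pos_iff]; omega
  have horb : Fintype.card (Quotient (orbitRel X Y)) = 1 := by
    rw [Fintype.card_eq_one_iff_nonempty_unique]
    have hs : Subsingleton (Quotient (orbitRel X Y)) :=
      (pretransitive_iff_subsingleton_quotient X Y).mp htrans
    obtain ⟨y⟩ := hYne
    exact ⟨@Unique.mk' _ ⟨Quotient.mk'' y⟩ hs⟩
  have hburn := sum_card_fixedBy_eq_card_orbits_mul_card_group X Y
  rw [horb, one_mul] at hburn
  -- bound the summands
  set K : Finset X := Finset.univ.filter (fun x => x = 1 ∨ ∀ y : Y, x • y ≠ y) with hK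
  have hbound : ∀ x : X, Fintype.card (fixedBy Y x) ≤
      (if x = 1 then Fintype.card Y else 0) + (if x ∈ K then 0 else 1) := by
    intro x
    by_cases hx1 : x = 1
    · rw [if_pos hx1]
      exact le_trans (Fintype.card_subtype_le _) (Nat.le_add_right _ _)
    · rw [if_neg hx1, zero_add]
      by_cases hxK : x ∈ K
      · rw [if_pos hxK]
        rw [hK, Finset.mem_filter] at hxK
        rcases hxK.2 with h | h
        · exact absurd h hx1
        · rw [Nat.le_zero, Fintype.card_eq_zero_iff]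
          exact ⟨fun ⟨y, hy⟩ => h y hy⟩
      · rw [if_neg hxK, Fintype.card_le_one_iff_subsingleton]
        constructor
        rintro ⟨y, hy⟩ ⟨y', hy'⟩
        apply Subtype.ext
        by_contra hyy
        apply hx1
        have hya : (y : Ω) ≠ a := SubMulAction.neq_of_mem_ofStabilizer G a
        have hy'a : (y' : Ω) ≠ a := SubMulAction.neq_of_mem_ofStabilizer G a
        have hyy' : (y : Ω) ≠ (y' : Ω) := fun h => hyy (Subtype.ext h)
        have e1 : (x : G) • (y : Ω) = y := congrArg Subtype.val hy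
        have e2 : (x : G) • (y' : Ω) = y' := congrArg Subtype.val hy'
        have := h3 (x : G) a y y' (Ne.symm hya) hyy' (Ne.symm hy'a) x.2 e1 e2
        exact Subtype.ext this
  have hsum := Finset.sum_le_sum (fun x (_ : x ∈ (Finset.univ : Finset X)) => hbound x)
  rw [hburn, Finset.sum_add_distrib, Finset.sum_ite_eq' Finset.univ (1 : X)] at hsum
  simp only [Finset.mem_univ, if_true] at hsum
  have hsum2 : (∑ x : X, if x ∈ K then 0 else 1) = Fintype.card X - K.card := by
    rw [← Finset.card_compl, Finset.sum_ite, Finset.sum_const_zero, zero_add, Finset.sum_const,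
      smul_eq_mul, mul_one]
    congr 1
    ext x
    simp
  rw [hsum2] at hsum
  have hKle : K.card ≤ Fintype.card X := Finset.card_le_univ K
  have hKcard : Nat.card {x : X | x = 1 ∨ ∀ y : Y, x • y ≠ y} = K.card := by
    rw [Nat.card_eq_fintype_card, hK, ← Fintype.card_subtype]
    rfl
  rw [hKcard]
  omega

/-- a Zassenhaus group has degree at least 3 -/
theorem three_le_card [Fintype Ω] (hZ : Cfsg.IsZassenhausGroup G Ω) : 3 ≤ Fintype.card Ω := by
  obtain ⟨hfaith, -, -, ⟨g₀, hg₀, a₀, b₀, hab₀, ga₀, gb₀⟩, -⟩ := hZ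
  have : ∃ c : Ω, g₀ • c ≠ c := by
    by_contra hcon
    push Not at hcon
    apply hg₀
    apply hfaith.eq_of_smul_eq_smul
    intro c
    rw [hcon c, one_smul]
  obtain ⟨c, hc⟩ := this
  have h1 : a₀ ≠ c := by rintro rfl; exact hc ga₀
  have h2 : b₀ ≠ c := by rintro rfl; exact hc gb₀
  exact Nat.succ_le_of_lt (Fintype.two_lt_card_iff.mpr ⟨a₀, b₀, c, hab₀, h1, h2⟩)

/-- the Frobenius kernel of the point stabilizer is normalized by the point stabilizer -/
theorem conj_mem_kernel [Finite G] [Fintype Ω] (hZ : Cfsg.IsZassenhausGroup G Ω) (a : Ω)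
    (H : Subgroup G) (hHa : H ≤ stabilizer G a) (hHcard : Nat.card H + 1 = Fintype.card Ω)
    (hHfix : ∀ u ∈ H, u ≠ 1 → ∀ c : Ω, u • c = c → c = a) {g u : G} (hg : g ∈ stabilizer G a)
    (hu : u ∈ H) : g * u * g⁻¹ ∈ H := by
  have hn := three_le_card hZ
  obtain ⟨-, h2, h3, -, -⟩ := hZ
  set X := stabilizer G a
  set Y := SubMulAction.ofStabilizer G a
  set Kset : Set X := {x : X | x = 1 ∨ ∀ y : Y, x • y ≠ y} with hKset
  set H' : Set X := {x : X | (x : G) ∈ H} with hH'
  have hsub : H' ⊆ Kset := by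
    intro x hx
    by_cases hx1 : x = 1
    · exact Or.inl hx1
    · right
      intro y hy
      have hya : (y : Ω) ≠ a := SubMulAction.neq_of_mem_ofStabilizer G a
      have hx1' : (x : G) ≠ 1 := fun h => hx1 (Subtype.ext h)
      exact hya (hHfix x hx hx1' y (congrArg Subtype.val hy))
  have hcardH' : Nat.card H' = Nat.card H := by
    apply Nat.card_congr
    exact {
      toFun := fun x => ⟨(x.1 : G), x.2⟩
      invFun := fun u => ⟨⟨u.1, hHa u.2⟩, u.2⟩
      left_inv := fun x => rfl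
      right_inv := fun u => rfl }
  have hK := card_kernel_le h2 h3 (by omega) a
  have heq : H' = Kset := by
    apply Set.eq_of_subset_of_ncard_le hsub _ (Set.toFinite _)
    rw [← Nat.card_coe_set_eq, ← Nat.card_coe_set_eq, hcardH']
    have : Nat.card Kset + 1 ≤ Fintype.card Ω := hK
    omega
  have hxK : (⟨u, hHa hu⟩ : X) ∈ Kset := by rw [← heq]; exact hu
  have hconj : (⟨g, hg⟩ : X) * ⟨u, hHa hu⟩ * (⟨g, hg⟩ : X)⁻¹ ∈ Kset := by
    rcases hxK with h | h
    · left
      rw [h]; group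
    · right
      intro y hy
      apply h ((⟨g, hg⟩ : X)⁻¹ • y)
      rw [mul_smul, mul_smul] at hy
      calc (⟨u, hHa hu⟩ : X) • (⟨g, hg⟩ : X)⁻¹ • y
          = (⟨g, hg⟩ : X)⁻¹ • ((⟨g, hg⟩ : X) • (⟨u, hHa hu⟩ : X) • (⟨g, hg⟩ : X)⁻¹ • y) := by
            rw [inv_smul_smul]
        _ = (⟨g, hg⟩ : X)⁻¹ • y := by rw [hy]
  rw [← heq] at hconj
  exact hconj

end Cfsg.Agent.Helper60.Zassenhaus
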