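import Mathlib

set_option autoImplicit false

/-! A finite group `H` of odd order with cyclic Sylow subgroups, normalized by an element `s`
with `s² ∈ H`, such that no Sylow subgroup of `H` is central in its normalizer in `H⟨s⟩`, is cyclic
and inverted by `s`. -/

namespace Cfsg.Agent.Helper60.InvertZ


/-- arithmetic: modulo an odd prime power, a square root of one is `±1`. -/
theorem dvd_sub_or_dvd_add {q e : ℕ} (hq : q.Prime) (hq2 : q ≠ 2) {k : ℤ}
    (h : ((q : ℤ) ^ e) ∣ k * k - 1) : ((q : ℤ) ^ e) ∣ k - 1 ∨ ((q : ℤ) ^ e) ∣ k + 1 := by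
  have hqi : Prime (q : ℤ) := Nat.prime_iff_prime_int.1 hq
  have hfac : k * k - 1 = (k - 1) * (k + 1) := by ring
  rw [hfac] at h
  by_cases hd : (q : ℤ) ∣ k - 1
  · left
    have hnd : ¬ (q : ℤ) ∣ k + 1 := by
      intro h2
      have h3 : (q : ℤ) ∣ 2 := by
        have := dvd_sub h2 hd
        have e2 : k + 1 - (k - 1) = 2 := by ring
        rwa [e2] at this
      have h4 : q ∣ 2 := by exact_mod_cast h3
      exact hq2 ((Nat.prime_dvd_prime_iff_eq hq Nat.prime_two).1 h4)
    have hc : IsCoprime ((q : ℤ) ^ e) (k + 1) :=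
      IsCoprime.pow_left ((Irreducible.coprime_iff_not_dvd hqi.irreducible).2 hnd)
    exact hc.dvd_of_dvd_mul_right h
  · right
    have hc : IsCoprime ((q : ℤ) ^ e) (k - 1) :=
      IsCoprime.pow_left ((Irreducible.coprime_iff_not_dvd hqi.irreducible).2 hd)
    exact hc.dvd_of_dvd_mul_left h

/-- An element normalizing a cyclic `q`-group (`q` odd), whose square centralizes it and which does
not centralize it, inverts it. -/
theorem conj_inv_of_cyclic {G : Type*} [Group G] {q : ℕ} [Fact q.Prime] (hq2 : q ≠ 2)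
    (P : Subgroup G) [Finite P] [IsCyclic P] (hP : IsPGroup q P) {g : G}
    (hgN : ∀ u ∈ P, g * u * g⁻¹ ∈ P) (hg2 : ∀ u ∈ P, (g * g) * u * (g * g)⁻¹ = u)
    (hgC : ∃ u ∈ P, g * u * g⁻¹ ≠ u) : ∀ u ∈ P, g * u * g⁻¹ = u⁻¹ := by
  have hq : q.Prime := Fact.out
  obtain ⟨⟨w, hwP⟩, hw⟩ := IsCyclic.exists_generator (α := P)
  have hgen : ∀ u ∈ P, ∃ j : ℤ, w ^ j = u := by
    intro u hu
    obtain ⟨j, hj⟩ := Subgroup.mem_zpowers_iff.1 (hw ⟨u, hu⟩)
    exact ⟨j, by simpa using congrArg Subtype.val hj⟩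
  obtain ⟨k, hk⟩ := hgen _ (hgN w hwP)
  have hconj : ∀ (x : G) (j : ℤ), g * x ^ j * g⁻¹ = (g * x * g⁻¹) ^ j := by
    intro x j
    rw [← MulAut.conj_apply, ← MulAut.conj_apply, map_zpow]
  have hkk : w ^ (k * k - 1) = 1 := by
    have h1 : (g * g) * w * (g * g)⁻¹ = w ^ (k * k) := by
      have : (g * g) * w * (g * g)⁻¹ = g * (g * w * g⁻¹) * g⁻¹ := by group
      rw [this, ← hk, hconj, ← hk, ← zpow_mul]
    rw [hg2 w hwP] at h1
    rw [zpow_sub, ← h1, zpow_one, mul_inv_cancel]
  obtain ⟨e, he⟩ : ∃ e, orderOf w = q ^ e := by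
    obtain ⟨e, he⟩ := (IsPGroup.iff_orderOf.1 hP) ⟨w, hwP⟩
    refine ⟨e, ?_⟩
    rw [← he, Subgroup.orderOf_mk]
  have hdvd : ((q : ℤ) ^ e) ∣ k * k - 1 := by
    have := (orderOf_dvd_iff_zpow_eq_one).2 hkk
    rw [he] at this
    exact_mod_cast this
  rcases dvd_sub_or_dvd_add hq hq2 hdvd with h1 | h1
  · exfalso
    have hw1 : w ^ (k - 1) = 1 := by
      apply (orderOf_dvd_iff_zpow_eq_one).1
      rw [he]; exact_mod_cast h1
    have hwk : w ^ k = w := by
      have : w ^ k = w ^ (k - 1) * w := by rw [← zpow_add_one]; congr 1; ring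
      rw [this, hw1, one_mul]
    obtain ⟨u, hu, hne⟩ := hgC
    apply hne
    obtain ⟨j, rfl⟩ := hgen u hu
    rw [hconj, ← hk, hwk]
  · have hw1 : w ^ (k + 1) = 1 := by
      apply (orderOf_dvd_iff_zpow_eq_one).1
      rw [he]; exact_mod_cast h1
    have hwk : w ^ k = w⁻¹ := by
      have : w ^ (k + 1) = w ^ k * w := by rw [zpow_add_one]
      rw [this] at hw1
      exact eq_inv_of_mul_eq_one_left hw1
    intro u hu
    obtain ⟨j, rfl⟩ := hgen u hu
    rw [hconj, ← hk, hwk, inv_zpow]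



theorem eq_top_of_sylow_le {K : Type*} [Group K] [Finite K] (I : Subgroup K)
    (h : ∀ (q : ℕ) [Fact q.Prime] (P : Sylow q K), (P : Subgroup K) ≤ I) : I = ⊤ := by
  apply Subgroup.eq_top_of_card_eq
  apply Nat.dvd_antisymm (Subgroup.card_subgroup_dvd_card I)
  rw [← Nat.factorization_prime_le_iff_dvd (Nat.card_pos.ne') (Nat.card_pos.ne')]
  intro q hq
  have := Fact.mk hq
  let P : Sylow q K := default
  have h1 : Nat.card P ∣ Nat.card I := Subgroup.card_dvd_of_le (h q P)
  rw [Sylow.card_eq_multiplicity] at h1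
  exact (hq.pow_dvd_iff_le_factorization (Nat.card_pos.ne')).1 h1

theorem mem_zpowers_sq_of_odd {K : Type*} [Group K] [Finite K] (hodd : Odd (Nat.card K)) (k : K) :
    ∃ j : ℕ, (k * k) ^ j = k := by
  have h1 : Odd (orderOf k) := Odd.of_dvd_nat hodd (orderOf_dvd_natCard k)
  obtain ⟨m, hm⟩ := h1
  refine ⟨m + 1, ?_⟩
  rw [← pow_two, ← pow_mul]
  have : 2 * (m + 1) = orderOf k + 1 := by omega
  rw [this, pow_succ, pow_orderOf_eq_one, one_mul]

/-- two endomorphisms preserving a cyclic subgroup commute on its generator. -/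
theorem comm_on_generator {K : Type*} [Group K] (y₀ : K) (α β : K →* K)
    (hα : α y₀ ∈ Subgroup.zpowers y₀) (hβ : β y₀ ∈ Subgroup.zpowers y₀) :
    α (β y₀) = β (α y₀) := by
  obtain ⟨i, hi⟩ := Subgroup.mem_zpowers_iff.1 hα
  obtain ⟨j, hj⟩ := Subgroup.mem_zpowers_iff.1 hβ
  rw [← hi, ← hj, map_zpow, map_zpow, ← hi, ← hj, ← zpow_mul, ← zpow_mul, mul_comm]

/-- the main lemma: Burnside-type hypothesis forces inversion. -/
theorem inverted_of_burnside {G : Type*} [Group G] (H : Subgroup G) [Finite H]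
    (hodd : Odd (Nat.card H)) [IsZGroup H]
    (s : G) (hsN : s ∈ Subgroup.normalizer (H : Set G)) (hs2 : s * s ∈ H)
    (hB : ∀ (q : ℕ) [Fact q.Prime] (P : Sylow q H), (P : Subgroup H) ≠ ⊥ →
        ∃ g : G, (g ∈ H ∨ s⁻¹ * g ∈ H) ∧
          (∀ u ∈ (P : Subgroup H).map H.subtype, g * u * g⁻¹ ∈ (P : Subgroup H).map H.subtype) ∧
          ∃ u ∈ (P : Subgroup H).map H.subtype, g * u * g⁻¹ ≠ u) :
    IsCyclic H ∧ ∀ h ∈ H, s * h * s⁻¹ = h⁻¹ := by
  classical
  -- conjugation by `s` as an automorphism of `H`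
  let φ : MulAut H := H.normalizerMonoidHom ⟨s, hsN⟩
  have hφ : ∀ k : H, ((φ k : H) : G) = s * k * s⁻¹ := fun k => rfl
  have hsinvH : ∀ h ∈ H, s⁻¹ * h * s ∈ H := by
    intro h hh
    have h1 : s⁻¹ ∈ Subgroup.normalizer (H : Set G) := Subgroup.inv_mem _ hsN
    have := (Subgroup.mem_set_normalizer_iff.1 h1 h).1 hh
    rwa [inv_inv] at this
  set Y : Subgroup H := commutator H with hY
  have hYchar : Y.Characteristic := by rw [hY]; infer_instance
  have hYn : Y.Normal := by rw [hY]; infer_instance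
  have hφY : ∀ k : H, k ∈ Y → φ k ∈ Y := by
    intro k hk
    exact (Subgroup.characteristic_iff_map_le.1 hYchar φ) (Subgroup.mem_map_of_mem _ hk)
  have hφsY : ∀ k : H, k ∈ Y → φ.symm k ∈ Y := by
    intro k hk
    exact (Subgroup.characteristic_iff_map_le.1 hYchar φ.symm) (Subgroup.mem_map_of_mem _ hk)
  let ab : H →* Abelianization H := Abelianization.of
  have hab1 : ∀ k : H, ab k = 1 ↔ k ∈ Y := by
    intro k
    rw [← MonoidHom.mem_ker, Abelianization.ker_of]
  let I : Subgroup H := MonoidHom.eqLocus (ab.comp φ.toMonoidHom) (invMonoidHom.comp ab)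
  have hI : ∀ k : H, k ∈ I ↔ ab (φ k) = (ab k)⁻¹ := fun k => Iff.rfl
  have hItop : I = ⊤ := by
    apply eq_top_of_sylow_le
    intro q _ P
    have hq : q.Prime := Fact.out
    rcases P.normalizer_le_centralizer_or_le_commutator with hNC | hle
    · by_cases hPbot : (P : Subgroup H) = ⊥
      · rw [hPbot]; exact bot_le
      · obtain ⟨g, hgD, hgN, hgC⟩ := hB q P hPbot
        set PG : Subgroup G := (P : Subgroup H).map H.subtype with hPG
        have hPGH : ∀ u ∈ PG, u ∈ H := by
          rintro u ⟨k, -, rfl⟩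
          exact k.2
        have hPGmem : ∀ u : G, ∀ hu : u ∈ H, u ∈ PG ↔ (⟨u, hu⟩ : H) ∈ (P : Subgroup H) := by
          intro u hu
          constructor
          · rintro ⟨k, hk, hku⟩
            have : k = ⟨u, hu⟩ := Subtype.ext hku
            rwa [← this]
          · intro hk
            exact ⟨⟨u, hu⟩, hk, rfl⟩
        -- elements of `H` normalizing `PG` centralize it
        have hstep : ∀ g₁ : G, g₁ ∈ H → (∀ u ∈ PG, g₁ * u * g₁⁻¹ ∈ PG) →
            ∀ u ∈ PG, g₁ * u * g₁⁻¹ = u := by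
          intro g₁ hg₁ hn u hu
          have h1 : (⟨g₁, hg₁⟩ : H) ∈ Subgroup.normalizer ((P : Subgroup H) : Set H) := by
            apply Subgroup.mem_normalizer_fintype
            intro n hn'
            have h2 := hn (n : G) ((hPGmem _ n.2).2 hn')
            exact (hPGmem _ (H.mul_mem (H.mul_mem hg₁ n.2) (H.inv_mem hg₁))).1 h2
          have h3 := hNC h1
          rw [Subgroup.mem_centralizer_iff] at h3
          have h4 := h3 ⟨u, hPGH u hu⟩ ((hPGmem u (hPGH u hu)).1 hu)
          have h5 : u * g₁ = g₁ * u := congrArg Subtype.val h4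
          rw [← h5]; group
        have hgH : g ∉ H := by
          intro hg
          obtain ⟨u, hu, hne⟩ := hgC
          exact hne (hstep g hg hgN u hu)
        have hh₀ : s⁻¹ * g ∈ H := hgD.resolve_left hgH
        have hggH : g * g ∈ H := by
          have e1 : g * g = (s * s) * (s⁻¹ * (s⁻¹ * g) * s) * (s⁻¹ * g) := by group
          rw [e1]
          exact H.mul_mem (H.mul_mem hs2 (hsinvH _ hh₀)) hh₀
        have hggN : ∀ u ∈ PG, (g * g) * u * (g * g)⁻¹ ∈ PG := by
          intro u hu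
          have e1 : (g * g) * u * (g * g)⁻¹ = g * (g * u * g⁻¹) * g⁻¹ := by group
          rw [e1]
          exact hgN _ (hgN u hu)
        have hgg := hstep (g * g) hggH hggN
        have hPne : Nat.card (P : Subgroup H) ≠ 1 := by
          intro h
          exact hPbot (Subgroup.card_eq_one.1 h)
        have hqH : q ∣ Nat.card H := by
          obtain ⟨n, hn⟩ := IsPGroup.iff_card.1 P.isPGroup'
          have hn0 : n ≠ 0 := by
            rintro rfl
            exact hPne (by rw [hn, pow_zero])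
          have h1 : q ∣ Nat.card (P : Subgroup H) := by
            rw [hn]; exact dvd_pow_self q hn0
          exact h1.trans (Subgroup.card_subgroup_dvd_card _)
        have hq2 : q ≠ 2 := by
          rintro rfl
          exact (Nat.not_even_iff_odd.2 hodd) (even_iff_two_dvd.2 hqH)
        have hPGp : IsPGroup q PG := P.isPGroup'.map _
        have : Finite PG := by
          apply Finite.of_injective (fun u : PG => (⟨u.1, hPGH u.1 u.2⟩ : H))
          intro u v huv
          apply Subtype.ext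
          exact congrArg (fun x : H => (x : G)) huv
        have : IsCyclic PG :=
          isCyclic_of_surjective _
            ((P : Subgroup H).equivMapOfInjective H.subtype H.subtype_injective).surjective
        have hinv := conj_inv_of_cyclic hq2 PG hPGp hgN hgg hgC
        intro k hk
        rw [hI]
        let h₀' : H := ⟨s⁻¹ * g, hh₀⟩
        have e1 : φ (h₀' * k * h₀'⁻¹) = k⁻¹ := by
          apply Subtype.ext
          rw [hφ]
          have h1 := hinv (k : G) ((hPGmem _ k.2).2 hk)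
          have e2 : s * ((h₀' * k * h₀'⁻¹ : H) : G) * s⁻¹ = g * (k : G) * g⁻¹ := by
            show s * ((s⁻¹ * g) * (k : G) * (s⁻¹ * g)⁻¹) * s⁻¹ = g * (k : G) * g⁻¹
            group
          rw [e2, h1]
          rfl
        have e3 : ab (φ (h₀' * k * h₀'⁻¹)) = ab (φ k) := by
          rw [map_mul, map_mul, map_mul, map_mul, map_inv, map_inv]
          rw [mul_comm (ab (φ h₀')), mul_assoc, mul_inv_cancel, mul_one]
        rw [← e3, e1, map_inv]
    · intro k hk
      rw [hI]
      have h1 : ab k = 1 := (hab1 k).2 (hle hk)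
      have h2 : ab (φ k) = 1 := (hab1 _).2 (hφY k (hle hk))
      rw [h1, h2, inv_one]
  have hkey : ∀ k : H, φ k * k ∈ Y := by
    intro k
    have hk : k ∈ I := by rw [hItop]; exact Subgroup.mem_top k
    rw [hI] at hk
    rw [← hab1, map_mul, hk, inv_mul_cancel]
  -- `Y` is central
  have hYcyc : IsCyclic Y := IsZGroup.isCyclic_commutator H
  obtain ⟨⟨y₀, hy₀Y⟩, hgen⟩ := IsCyclic.exists_generator (α := Y)
  have hYz : ∀ y ∈ Y, y ∈ Subgroup.zpowers y₀ := by
    intro y hy
    obtain ⟨j, hj⟩ := Subgroup.mem_zpowers_iff.1 (hgen ⟨y, hy⟩)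
    exact Subgroup.mem_zpowers_iff.2 ⟨j, by simpa using congrArg Subtype.val hj⟩
  have hcent : ∀ k : H, k * y₀ = y₀ * k := by
    intro k
    have h1 := comm_on_generator y₀ φ.symm.toMonoidHom (MulAut.conj k).toMonoidHom
      (hYz _ (hφsY _ hy₀Y)) (hYz _ (hYn.conj_mem y₀ hy₀Y k))
    have h2 : k * y₀ * k⁻¹ = φ k * y₀ * (φ k)⁻¹ := by
      have h3 := congrArg φ h1
      simp only [MulEquiv.coe_toMonoidHom, MulEquiv.apply_symm_apply, MulAut.conj_apply,
        map_mul, map_inv] at h3
      exact h3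
    obtain ⟨i, hi⟩ := Subgroup.mem_zpowers_iff.1 (hYz _ (hkey k))
    obtain ⟨j, hj⟩ := Subgroup.mem_zpowers_iff.1
      (hYz _ (hYn.conj_mem y₀ hy₀Y k⁻¹))
    rw [inv_inv] at hj
    have h4 : φ k = y₀ ^ i * k⁻¹ := by rw [hi]; group
    have h5 : k * y₀ * k⁻¹ = k⁻¹ * y₀ * k := by
      rw [h2, h4]
      have : y₀ ^ i * k⁻¹ * y₀ * (y₀ ^ i * k⁻¹)⁻¹ = y₀ ^ i * (k⁻¹ * y₀ * k) * (y₀ ^ i)⁻¹ := by
        group
      rw [this, ← hj]
      group
    have h6 : (k * k) * y₀ = y₀ * (k * k) := by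
      have : (k * k) * y₀ = k * (k * y₀ * k⁻¹) * k := by group
      rw [this, h5]; group
    obtain ⟨m, hm⟩ := mem_zpowers_sq_of_odd hodd k
    rw [← hm]
    exact ((Commute.pow_left (show Commute (k * k) y₀ from h6) m)).eq
  have hYcenter : Y ≤ Subgroup.center H := by
    intro y hy
    rw [Subgroup.mem_center_iff]
    intro k
    obtain ⟨j, rfl⟩ := Subgroup.mem_zpowers_iff.1 (hYz y hy)
    exact ((Commute.zpow_right (show Commute k y₀ from hcent k) j)).eq
  have hcomm : ∀ a b : H, a * b = b * a := fun a b =>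
    (MonoidHom.isMulCommutative_of_isCyclic_of_ker_le_center ab
      (by rw [Abelianization.ker_of]; exact hYcenter)).is_comm.comm a b
  have hYbot : Y = ⊥ := by
    rw [hY, commutator_def, Subgroup.commutator_eq_bot_iff_le_centralizer]
    intro a _
    rw [Subgroup.mem_centralizer_iff]
    intro b _
    exact hcomm b a
  constructor
  · apply isCyclic_of_injective ab
    rw [← MonoidHom.ker_eq_bot_iff, Abelianization.ker_of, ← hY, hYbot]
  · intro h hh
    have h1 := hkey ⟨h, hh⟩
    rw [hYbot, Subgroup.mem_bot] at h1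
    have h2 := congrArg Subtype.val h1
    have h3 : s * h * s⁻¹ * h = 1 := h2
    exact eq_inv_of_mul_eq_one_left h3

end Cfsg.Agent.Helper60.InvertZ
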