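import Cfsg.Agent.Helper60.Zassenhaus
import Cfsg.Agent.Helper60.InvertZ
import Cfsg.Agent.Helper61.Zassenhaus
import Cfsg.Agent.S0040

set_option autoImplicit false

namespace Cfsg.Agent.Helper60.ZassOdd

open MulAction Cfsg.Agent.Helper60.Zassenhaus

variable {G Ω : Type*} [Group G] [MulAction G Ω]

/-- if `y ≠ 1` fixes `a, b` and its conjugate by `g` fixes `a, b`, then `g` preserves `{a, b}`. -/
theorem pair_of_conj_fix
    (h3 : ∀ g : G, ∀ a b c : Ω, a ≠ b → b ≠ c → a ≠ c → g • a = a → g • b = b → g • c = c → g = 1)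
    {a b : Ω} (hab : a ≠ b) {y g : G} (hy1 : y ≠ 1) (ya : y • a = a) (yb : y • b = b)
    (hca : (g * y * g⁻¹) • a = a) (hcb : (g * y * g⁻¹) • b = b) :
    (g • a = a ∧ g • b = b) ∨ (g • a = b ∧ g • b = a) := by
  have hne : g * y * g⁻¹ ≠ 1 := by
    intro hcon
    apply hy1
    have : y = g⁻¹ * (g * y * g⁻¹) * g := by group
    rw [this, hcon]; group
  have hga : (g * y * g⁻¹) • (g • a) = g • a := by
    rw [mul_smul, mul_smul, inv_smul_smul, ya]
  have hgb : (g * y * g⁻¹) • (g • b) = g • b := by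
    rw [mul_smul, mul_smul, inv_smul_smul, yb]
  have hgab : g • a ≠ g • b := fun h => hab (MulAction.injective g h)
  exact pair_eq_of_fix h3 hne hab hgab hca hcb hga hgb

/-- an element of odd order preserving `{a, b}` fixes both points. -/
theorem fix_of_odd_of_pair {a b : Ω} (hab : a ≠ b) {g : G} (hodd : Odd (orderOf g))
    (h : (g • a = a ∧ g • b = b) ∨ (g • a = b ∧ g • b = a)) : g • a = a ∧ g • b = b := by
  rcases h with h | ⟨ga, gb⟩
  · exact h
  · exfalso
    have hpow : ∀ j : ℕ, g ^ (2 * j + 1) • a = b := by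
      intro j
      induction j with
      | zero => simpa using ga
      | succ j ih =>
        have : 2 * (j + 1) + 1 = 2 + (2 * j + 1) := by ring
        rw [this, pow_add, mul_smul, ih, pow_two, mul_smul, gb, ga]
    obtain ⟨m, hm⟩ := hodd
    have := hpow m
    rw [← hm, pow_orderOf_eq_one, one_smul] at this
    exact hab this

/-- the two-point stabilizer of a Zassenhaus group, when of odd order, has cyclic Sylow subgroups. -/
theorem isZGroup_stab2 [Finite G] [Finite Ω] (hZ : Cfsg.IsZassenhausGroup G Ω) {a b : Ω}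
    (hab : a ≠ b) (hodd : Odd (Nat.card ↥(stabilizer G a ⊓ stabilizer G b))) :
    IsZGroup ↥(stabilizer G a ⊓ stabilizer G b) := by
  classical
  have h3c := Cfsg.Agent.Helper61.Zassenhaus.three_le_card hZ
  obtain ⟨y1, hy11, hy1a, hy1b⟩ := exists_ne_one_fix hZ hab
  obtain ⟨hf, h2, h3f, h4, h5⟩ := hZ
  -- the action of the stabilizer on the other points
  have hΩ : 1 < Nat.card (SubMulAction.ofStabilizer G a) := by
    rw [SubMulAction.nat_card_ofStabilizer_eq]; omega
  have hval : ∀ (g : stabilizer G a) (x : SubMulAction.ofStabilizer G a),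
      ((g • x : SubMulAction.ofStabilizer G a) : Ω) = (g : G) • (x : Ω) := fun g x => rfl
  have htrans : ∀ x y : SubMulAction.ofStabilizer G a, ∃ g : stabilizer G a, g • x = y := by
    intro x y
    have hx : (x : Ω) ≠ a := (SubMulAction.mem_ofStabilizer_iff G a).mp x.2
    have hy : (y : Ω) ≠ a := (SubMulAction.mem_ofStabilizer_iff G a).mp y.2
    obtain ⟨g, hga, hgx⟩ := exists_map2 h2 hx.symm hy.symm
    refine ⟨⟨g, hga⟩, ?_⟩
    apply Subtype.ext
    rw [hval]
    exact hgx
  let bb : SubMulAction.ofStabilizer G a := ⟨b, (SubMulAction.mem_ofStabilizer_iff G a).mpr hab.symm⟩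
  have hnreg : ∃ g : stabilizer G a, g ≠ 1 ∧ ∃ x : SubMulAction.ofStabilizer G a, g • x = x := by
    refine ⟨⟨y1, hy1a⟩, ?_, bb, ?_⟩
    · intro h
      apply hy11
      exact congrArg Subtype.val h
    · apply Subtype.ext
      rw [hval]
      exact hy1b
  have hfix : ∀ g : stabilizer G a, g ≠ 1 → ∀ x y : SubMulAction.ofStabilizer G a,
      g • x = x → g • y = y → x = y := by
    intro g hg x y hx hy
    by_contra hne
    have hx' : (x : Ω) ≠ a := (SubMulAction.mem_ofStabilizer_iff G a).mp x.2
    have hy' : (y : Ω) ≠ a := (SubMulAction.mem_ofStabilizer_iff G a).mp y.2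
    have hxy : (x : Ω) ≠ y := fun h => hne (Subtype.ext h)
    apply hg
    apply Subtype.ext
    refine h3f g.1 a x y hx'.symm hxy hy'.symm g.2 ?_ ?_
    · have := congrArg Subtype.val hx
      rwa [hval] at this
    · have := congrArg Subtype.val hy
      rwa [hval] at this
  obtain ⟨K, hKchar, hmem, htr, -⟩ :=
    Cfsg.Agent.Helper61.FrobAction.exists_kernel hΩ htrans hnreg hfix
  have hKn : K.Normal := inferInstance
  let HA : Subgroup (stabilizer G a) :=
    (stabilizer G a ⊓ stabilizer G b).subgroupOf (stabilizer G a)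
  have hHA : ∀ g : stabilizer G a, g ∈ HA ↔ g • bb = bb := by
    intro g
    rw [Subgroup.mem_subgroupOf, Subgroup.mem_inf, mem_stabilizer_iff, mem_stabilizer_iff]
    constructor
    · rintro ⟨-, hb⟩
      apply Subtype.ext
      rw [hval]
      exact hb
    · intro h
      refine ⟨g.2, ?_⟩
      have := congrArg Subtype.val h
      rwa [hval] at this
  have hKfix : ∀ k ∈ K, ∀ x : SubMulAction.ofStabilizer G a, k • x = x → k = 1 := by
    intro k hk x hx
    rcases (hmem k).1 hk with h | h
    · exact h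
    · exact absurd hx (h x)
  have hc : Subgroup.IsComplement' K HA := by
    apply Subgroup.isComplement'_of_disjoint_and_mul_eq_univ
    · rw [Subgroup.disjoint_def]
      intro g hgK hgH
      exact hKfix g hgK bb ((hHA g).1 hgH)
    · rw [Set.eq_univ_iff_forall]
      intro g
      obtain ⟨k, hk, hkb⟩ := htr bb (g • bb)
      refine ⟨k, hk, k⁻¹ * g, ?_, by group⟩
      rw [SetLike.mem_coe, hHA, mul_smul, ← hkb, inv_smul_smul]
  have hK : K ≠ ⊥ := by
    intro hKbot
    have hnt : Nontrivial (SubMulAction.ofStabilizer G a) := by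
      rw [← Finite.one_lt_card_iff_nontrivial]; exact hΩ
    obtain ⟨x, hx⟩ := exists_ne bb
    obtain ⟨k, hk, hkb⟩ := htr bb x
    rw [hKbot, Subgroup.mem_bot] at hk
    rw [hk, one_smul] at hkb
    exact hx hkb.symm
  have hfpf : ∀ h ∈ HA, h ≠ 1 → K ⊓ Subgroup.centralizer {h} = ⊥ := by
    intro h hh hh1
    rw [eq_bot_iff]
    intro k hk
    rw [Subgroup.mem_inf, Subgroup.mem_centralizer_singleton_iff] at hk
    obtain ⟨hkK, hkc⟩ := hk
    rw [Subgroup.mem_bot]
    apply hKfix k hkK bb
    have h1 : h • (k • bb) = k • bb := by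
      rw [← mul_smul, ← hkc, mul_smul, (hHA h).1 hh]
    exact hfix h hh1 _ _ h1 ((hHA h).1 hh)
  have hcardHA : Nat.card HA = Nat.card ↥(stabilizer G a ⊓ stabilizer G b) :=
    Nat.card_congr (Subgroup.subgroupOfEquivOfLe inf_le_left).toEquiv
  have hZA : IsZGroup HA := by
    rw [isZGroup_iff]
    intro p hp P
    have := Fact.mk hp
    rcases Cfsg.Agent.S0040.result K HA hc hK hfpf p P with h | ⟨n, ⟨e⟩⟩
    · exact h
    · exfalso
      have h1 : Nat.card (P : Subgroup HA) = 4 * 2 ^ n := by
        rw [Nat.card_congr e.toEquiv, Nat.card_eq_fintype_card, QuaternionGroup.card]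
      have h2 : Nat.card (P : Subgroup HA) ∣ Nat.card HA := Subgroup.card_subgroup_dvd_card _
      rw [h1, hcardHA] at h2
      have h3 : Even (Nat.card ↥(stabilizer G a ⊓ stabilizer G b)) :=
        (even_iff_two_dvd.2 (Dvd.dvd.mul_right (by norm_num) _)).trans_dvd h2
      exact (Nat.not_even_iff_odd.2 hodd) h3
  exact IsZGroup.of_injective
    (f := (Subgroup.subgroupOfEquivOfLe
      (inf_le_left : stabilizer G a ⊓ stabilizer G b ≤ stabilizer G a)).symm.toMonoidHom)
    (MulEquiv.injective _)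

end Cfsg.Agent.Helper60.ZassOdd
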