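import Cfsg.Agent.Helper18.E8Odd.Defs
import Cfsg.Agent.Helper89.G2InvR1
import Cfsg.Agent.Helper72.G2InvR2
import Cfsg.Agent.Helper72.G2InvFF1
import Cfsg.Agent.Helper89.G2InvFF2
import Cfsg.Agent.S1025

/-!
# (FL) for S4281 (helper18, #14274): the flip reduction in `E₈(F)`, `|F|` odd
(port of helper50's `Cfsg.Agent.Helper50.F4OddFL.flip_reduce`, itself a port of helper55's `G₂` version).
-/

set_option autoImplicit false
set_option maxRecDepth 100000

namespace Cfsg.Agent.Helper60.E8Inv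

open Cfsg Cfsg.Lie Cfsg.Agent.Helper18 Cfsg.Agent.Helper18.E8Odd Cfsg.Agent.Helper36.E8Odd Cfsg.Agent.Helper40.SL2Hom

variable {F : Type*} [Field F]

/-- (FL) flip in `E₈`: if `m` sends `X_r(t)` to `X_{-r}(c t)` and `-c⁻¹ = f²`, then `m` is conjugate
to `m h_r(-1)`. -/
theorem flip_reduce [Fintype F] (hF : Odd (Fintype.card F)) (r : ℕ) (hr : r < 240) (m : GL chevE8.Idx F)
    (hmm : m * m = 1) (c f : F) (hf : f ≠ 0) (hc : c * (f * f) = -1)
    (hx : ∀ t : F, m * X r t * m⁻¹ = X (239 - r) (c * t)) :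
    ConjG m (m * hh r (-1)) := by
  obtain ⟨p, ρ, hs⟩ := Cfsg.Agent.Helper72.G2Inv.exists_sq_add_sq_eq_neg_one hF
  have hminv : m⁻¹ = m := inv_eq_of_mul_eq_one_left hmm
  have hc0 : c ≠ 0 := by
    rintro rfl
    rw [zero_mul] at hc
    exact absurd hc (by norm_num)
  have hy : ∀ t : F, m * X (239 - r) t * m⁻¹ = X r (c⁻¹ * t) := by
    intro t
    have h1 := hx (c⁻¹ * t)
    rw [mul_inv_cancel_left₀ hc0] at h1
    rw [← h1, hminv]
    have h2 : m * (m * X r (c⁻¹ * t) * m) * m = (m * m) * X r (c⁻¹ * t) * (m * m) := by group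
    rw [h2, hmm, one_mul, mul_one]
  obtain ⟨g, hg, hgm⟩ := Cfsg.Agent.Helper72.G2Inv.rank1_flip (relX r hr) m c f p ρ hf hc hs hx hy
  refine ⟨g, ?_, hgm⟩
  refine (Subgroup.closure_le _).mpr ?_ hg
  rintro k (⟨t, rfl⟩ | ⟨t, rfl⟩) <;> exact X_mem_group _ _

end Cfsg.Agent.Helper60.E8Inv
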