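import Cfsg.Agent.Helper18.E8Odd.Defs
import Cfsg.Agent.Helper89.G2InvR1
import Cfsg.Agent.Helper72.G2InvR2
import Cfsg.Agent.Helper72.G2InvFF1
import Cfsg.Agent.Helper89.G2InvFF2
import Cfsg.Agent.S1025

/-!
# (SP) for S4281 (helper18, #14274): the split step for the involutions of `N` in `E₈(F)`, `|F|` odd
(port of `Cfsg.Agent.Helper60.F4Odd.split_step`).
-/

set_option autoImplicit false
set_option maxRecDepth 100000

namespace Cfsg.Agent.Helper60.E8Inv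

open Cfsg Cfsg.Lie Cfsg.Agent.Helper18 Cfsg.Agent.Helper18.E8Odd Cfsg.Agent.Helper36.E8Odd Cfsg.Agent.Helper40.SL2Hom

variable {F : Type*} [Field F]

theorem SP_simple_pos (ι : ℕ) (hι : ι < 8) : 120 ≤ chevE8.simple ι ∧ chevE8.simple ι < 240 := by
  interval_cases ι <;> decide

/-- `n_{p_ι}² ∈ H` -/
theorem SP_nn_simple_sq (ι : ℕ) (hι : ι < 8) :
    nn (F := F) (chevE8.simple ι) * nn (chevE8.simple ι) ∈ chevE8.diagonalSubgroup F := by
  rw [nn_eq _ (simple_lt240 ι hι)]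
  exact nGL_sq_mem chevE8 hE8 _ (simple_lt240 ι hι)

/-- (SP) the split step: an involution `m = k n_w` which is a square at the fundamental root `p_ι` is conjugate to an
involution `k' n_{s_ι w}`. -/
theorem split_step [Fintype F] (hF : Odd (Fintype.card F)) (ι : ℕ) (hι : ι < 8) (w : List ℕ) (hw : ∀ i ∈ w, i < 8)
    (k : GL chevE8.Idx F) (hk : k ∈ chevE8.diagonalSubgroup F) (hmm : (k * nW w) * (k * nW w) = 1)
    (hsq : SqAt (k * nW w) (chevE8.simple ι)) :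
    ∃ k' ∈ chevE8.diagonalSubgroup F, (k' * nW (ι :: w)) * (k' * nW (ι :: w)) = 1 ∧
      ConjG (k * nW w) (k' * nW (ι :: w)) := by
  obtain ⟨e, he, hx⟩ := hsq
  have hr : 120 ≤ chevE8.simple ι ∧ chevE8.simple ι < 240 := SP_simple_pos ι hι
  have hminv : (k * nW w)⁻¹ = k * nW w := inv_eq_of_mul_eq_one_left hmm
  have hee : e * e ≠ 0 := mul_ne_zero he he
  have hy : ∀ t : F, (k * nW w) * X (239 - chevE8.simple ι) t * (k * nW w)⁻¹ =
      X (chevE8.simple ι) ((e * e)⁻¹ * t) := by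
    intro t
    have h1 := hx ((e * e)⁻¹ * t)
    rw [← mul_assoc, mul_inv_cancel₀ hee, one_mul] at h1
    rw [← h1, hminv]
    calc (k * nW w) * ((k * nW w) * X (chevE8.simple ι) ((e * e)⁻¹ * t) * (k * nW w)) * (k * nW w)
        = ((k * nW w) * (k * nW w)) * X (chevE8.simple ι) ((e * e)⁻¹ * t) * ((k * nW w) * (k * nW w)) := by
          group
      _ = X (chevE8.simple ι) ((e * e)⁻¹ * t) := by rw [hmm, one_mul, mul_one]
  have h := Cfsg.Agent.Helper89.G2Inv.rank1_split (relX (F := F) (chevE8.simple ι) hr.2) (k * nW w) e he hx hy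
  -- the pieces
  have hmN : k * nW w ∈ chevE8.monomialSubgroup F := mul_mem (diagonal_le_monomial hk) (nW_mem w hw)
  have hnnN : nn (F := F) (chevE8.simple ι) ∈ chevE8.monomialSubgroup F := nn_mem_monomial _ hr.2
  have hn₀N : (nn (chevE8.simple ι))⁻¹ * (k * nW w) ∈ chevE8.monomialSubgroup F := mul_mem (inv_mem hnnN) hmN
  have hbB : hh (chevE8.simple ι) e⁻¹ * X (chevE8.simple ι) e ∈ chevE8.borelSubgroup F :=
    mul_mem (diagonal_le_borel (F := F) chevE8 hE8 (hh_mem_diagonal _ hr.2 e⁻¹ (inv_ne_zero he)))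
      (posUnipotent_le_borel (F := F) chevE8 hE8 (X_mem_pos _ hr e))
  have hgG : (nn (chevE8.simple ι))⁻¹ * X (chevE8.simple ι) e⁻¹ ∈ chevE8.group F :=
    mul_mem (inv_mem (monomial_le_group hnnN)) (X_mem_group _ e⁻¹)
  have hconj : ((nn (chevE8.simple ι))⁻¹ * X (chevE8.simple ι) e⁻¹) * (k * nW w) *
      ((nn (chevE8.simple ι))⁻¹ * X (chevE8.simple ι) e⁻¹)⁻¹ =
      1 * ((nn (chevE8.simple ι))⁻¹ * (k * nW w)) * (hh (chevE8.simple ι) e⁻¹ * X (chevE8.simple ι) e) := by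
    rw [one_mul, ← mul_assoc ((nn (chevE8.simple ι))⁻¹ * (k * nW w))]
    exact h
  have h2 : (1 * ((nn (chevE8.simple ι))⁻¹ * (k * nW w)) * (hh (chevE8.simple ι) e⁻¹ * X (chevE8.simple ι) e)) *
      (1 * ((nn (chevE8.simple ι))⁻¹ * (k * nW w)) * (hh (chevE8.simple ι) e⁻¹ * X (chevE8.simple ι) e)) = 1 := by
    rw [← hconj]
    calc ((nn (chevE8.simple ι))⁻¹ * X (chevE8.simple ι) e⁻¹) * (k * nW w) *
          ((nn (chevE8.simple ι))⁻¹ * X (chevE8.simple ι) e⁻¹)⁻¹ *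
          (((nn (chevE8.simple ι))⁻¹ * X (chevE8.simple ι) e⁻¹) * (k * nW w) *
          ((nn (chevE8.simple ι))⁻¹ * X (chevE8.simple ι) e⁻¹)⁻¹)
        = ((nn (chevE8.simple ι))⁻¹ * X (chevE8.simple ι) e⁻¹) * ((k * nW w) * (k * nW w)) *
          ((nn (chevE8.simple ι))⁻¹ * X (chevE8.simple ι) e⁻¹)⁻¹ := by group
      _ = 1 := by rw [hmm]; group
  obtain ⟨k₂, hk₂, hk₂n, hc⟩ := invol_cell hF 1 _ _ (one_mem _) hn₀N hbB h2
  -- rewrite `k₂ * n₀`
  have hsqH : nn (F := F) (chevE8.simple ι) * nn (chevE8.simple ι) ∈ chevE8.diagonalSubgroup F := SP_nn_simple_sq ι hι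
  have hcons : nn (F := F) (chevE8.simple ι) * nW w = nW (ι :: w) := by
    rw [nW_cons, nn_eq _ hr.2]
  have hkey : k₂ * ((nn (chevE8.simple ι))⁻¹ * (k * nW w)) =
      (k₂ * (nn (chevE8.simple ι) * nn (chevE8.simple ι))⁻¹ *
        (nn (chevE8.simple ι) * k * (nn (chevE8.simple ι))⁻¹)) * nW (ι :: w) := by
    rw [← hcons]
    group
  have hk' : k₂ * (nn (chevE8.simple ι) * nn (chevE8.simple ι))⁻¹ *
      (nn (chevE8.simple ι) * k * (nn (chevE8.simple ι))⁻¹) ∈ chevE8.diagonalSubgroup F :=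
    mul_mem (mul_mem hk₂ (inv_mem hsqH)) (conj_mem_diagonal _ _ hnnN hk)
  refine ⟨_, hk', ?_, ?_⟩
  · rw [← hkey]
    exact hk₂n
  · rw [← hkey]
    exact ConjG.trans ⟨_, hgG, hconj⟩ hc

end Cfsg.Agent.Helper60.E8Inv
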