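import Cfsg.Agent.Helper18.InvOdd.G2D

/-!
# (C2) for S4279 (helper18, #11843): the centraliser of the involution `τ` in the unipotent group `U` of `G₂(F)`.
-/

set_option autoImplicit false
set_option maxRecDepth 100000

namespace Cfsg.Agent.Helper60.G2Inv

open Cfsg Cfsg.Lie Cfsg.Agent.Helper18 Cfsg.Agent.Helper18.G2Odd Cfsg.Agent.Helper40.SL2Hom

variable {F : Type*} [Field F]

/-- conjugation by `τ` on an ordered product of positive root elements -/
theorem tau_conj_uprod (t : ℕ → F) :
    tau * uprod t * tau⁻¹ = uprod (fun r => (tsign r : F) * t r) := by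
  have e : tau * uprod t * tau⁻¹ =
      (tau * X 6 (t 6) * tau⁻¹) * (tau * X 7 (t 7) * tau⁻¹) * (tau * X 8 (t 8) * tau⁻¹) *
        (tau * X 9 (t 9) * tau⁻¹) * (tau * X 10 (t 10) * tau⁻¹) * (tau * X 11 (t 11) * tau⁻¹) := by
    unfold uprod
    group
  rw [e, tau_conj 6 (by decide), tau_conj 7 (by decide), tau_conj 8 (by decide), tau_conj 9 (by decide),
    tau_conj 10 (by decide), tau_conj 11 (by decide)]
  rfl

/-- (C2) the centraliser of `τ` in `U` is `X_b X_{2a+b}` (`2 ≠ 0`). -/
theorem cent_U (h2 : (2 : F) ≠ 0) (u : GL chevG2.Idx F) (hu : u ∈ chevG2.posUnipotent F) (hc : u * tau = tau * u) :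
    ∃ s s' : F, u = X 6 s * X 9 s' := by
  obtain ⟨t, rfl⟩ := U_expr u hu
  have h1 : tau * uprod t * tau⁻¹ = uprod t := by
    rw [← hc]
    group
  rw [tau_conj_uprod] at h1
  have key := uprod_inj _ _ h1
  have hz : ∀ r, 6 ≤ r → r < 12 → tsign r = -1 → t r = 0 := by
    intro r h6 h12 hs
    have h3 := key r h6 h12
    simp only [hs] at h3
    have h4 : (2 : F) * t r = 0 := by
      have : -t r = t r := by simpa using h3
      linear_combination -this
    rcases mul_eq_zero.mp h4 with h | h
    · exact absurd h h2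
    · exact h
  have h7 := hz 7 (by decide) (by decide) (by decide)
  have h8 := hz 8 (by decide) (by decide) (by decide)
  have h10 := hz 10 (by decide) (by decide) (by decide)
  have h11 := hz 11 (by decide) (by decide) (by decide)
  refine ⟨t 6, t 9, ?_⟩
  unfold uprod
  rw [h7, h8, h10, h11, X_zero, X_zero, X_zero, X_zero, mul_one, mul_one, mul_one, mul_one]

end Cfsg.Agent.Helper60.G2Inv
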