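import Cfsg.Agent.Helper18.InvOdd.G2D

/-!
# (C3) for S4279 (helper18, #11843): the centraliser of the involution `τ` in the monomial group `N` of `G₂(F)`.
-/

set_option autoImplicit false
set_option maxRecDepth 100000

namespace Cfsg.Agent.Helper60.G2Inv

open Cfsg Cfsg.Lie Cfsg.Agent.Helper18 Cfsg.Agent.Helper18.G2Odd Cfsg.Agent.Helper40.SL2Hom

variable {F : Type*} [Field F]

/-- an element commuting with `τ` which sends `X_s` (with `tsign s = 1`) to `X_{s'}` (up to a nonzero scalar) has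
`tsign s' = 1` (`2 ≠ 0`) -/
theorem tsign_eq_one_of_comm (h2 : (2 : F) ≠ 0) (ν : GL chevG2.Idx F) (hν : ν * tau = tau * ν)
    (s s' : ℕ) (hs : s < 12) (hs' : s' < 12) (hts : tsign s = 1) (η : F) (hη : η ≠ 0)
    (hconj : ∀ t : F, ν * X s t * ν⁻¹ = X s' (η * t)) : tsign s' = 1 := by
  have h1 : tau * (ν * X s 1 * ν⁻¹) * tau⁻¹ = ν * (tau * X s 1 * tau⁻¹) * ν⁻¹ := by
    have e1 : tau * (ν * X s 1 * ν⁻¹) * tau⁻¹ = (tau * ν) * X s 1 * (tau * ν)⁻¹ := by group
    have e2 : ν * (tau * X s 1 * tau⁻¹) * ν⁻¹ = (ν * tau) * X s 1 * (ν * tau)⁻¹ := by group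
    rw [e1, e2, hν]
  rw [tau_conj s hs, hts, hconj, hconj, tau_conj s' hs'] at h1
  have h3 := X_injective s' hs' _ _ h1
  unfold tsign at h3 ⊢
  split_ifs at h3 ⊢ with h
  · rfl
  · exfalso
    apply h2
    have h4 : (2 : F) * η = 0 := by
      have : -η = η := by simpa using h3
      linear_combination -this
    rcases mul_eq_zero.mp h4 with h | h
    · exact h
    · exact absurd h hη

theorem canon_cent : ∀ w ∈ canon12, tsign (rho chevG2 w 6) = 1 → tsign (rho chevG2 w 9) = 1 →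
    w ∈ [[], [1], [0, 1, 0, 1, 0], [0, 1, 0, 1, 0, 1]] := by decide

/-- (C3) the centraliser of `τ` in `N` (`2 ≠ 0`). -/
theorem cent_N (h2 : (2 : F) ≠ 0) (n : GL chevG2.Idx F) (hn : n ∈ chevG2.monomialSubgroup F) (hc : n * tau = tau * n) :
    ∃ k ∈ chevG2.diagonalSubgroup F, ∃ w ∈ [[], [1], [0, 1, 0, 1, 0], [0, 1, 0, 1, 0, 1]], n = k * nW w := by
  obtain ⟨k, hk, w, hw, rfl⟩ := monomial_canon n hn
  have hkτ : k * tau = tau * k := diag_comm k tau hk tau_mem_diagonal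
  have hν : nW (F := F) w * tau = tau * nW w := by
    have e1 : nW (F := F) w * tau = k⁻¹ * (k * nW w * tau) := by group
    rw [e1, hc]
    have e2 : k⁻¹ * (tau * (k * nW (F := F) w)) = k⁻¹ * (tau * k) * nW w := by group
    rw [e2, ← hkτ]
    group
  have hwlt := canon_lt w hw
  obtain ⟨hlt6, η6, hη6, h6⟩ := nW_conj (F := F) w hwlt 6 (by decide)
  obtain ⟨hlt9, η9, hη9, h9⟩ := nW_conj (F := F) w hwlt 9 (by decide)
  have hη6' : η6 ≠ 0 := by rcases hη6 with h | h <;> rw [h] <;> simp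
  have hη9' : η9 ≠ 0 := by rcases hη9 with h | h <;> rw [h] <;> simp
  have t6 := tsign_eq_one_of_comm h2 (nW w) hν 6 _ (by decide) hlt6 (by decide) η6 hη6' h6
  have t9 := tsign_eq_one_of_comm h2 (nW w) hν 9 _ (by decide) hlt9 (by decide) η9 hη9' h9
  exact ⟨k, hk, w, canon_cent w hw t6 t9, rfl⟩

end Cfsg.Agent.Helper60.G2Inv
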