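import Cfsg.Agent.Helper18.InvOdd.G2B

/-!
# (F) for S4278/S4279 (helper18): the involutions of the torus `H` of `G₂(F)` are conjugate.
-/

set_option autoImplicit false
set_option maxRecDepth 100000

namespace Cfsg.Agent.Helper60.G2Inv

open Cfsg Cfsg.Lie Cfsg.Agent.Helper18 Cfsg.Agent.Helper18.G2Odd Cfsg.Agent.Helper40.SL2Hom

variable {F : Type*} [Field F]

theorem chr4 (c₀ c₁ : Fˣ) : chr 4 c₀ c₁ = c₀ ^ (-2 : ℤ) * c₁ ^ (1 : ℤ) := rfl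

theorem chr10 (c₀ c₁ : Fˣ) : chr 10 c₀ c₁ = c₀ ^ (3 : ℤ) * c₁ ^ (-1 : ℤ) := rfl

theorem chr5 (c₀ c₁ : Fˣ) : chr 5 c₀ c₁ = c₀ ^ (3 : ℤ) * c₁ ^ (-2 : ℤ) := rfl

theorem chr8 (c₀ c₁ : Fˣ) : chr 8 c₀ c₁ = c₀ ^ (-1 : ℤ) * c₁ ^ (1 : ℤ) := rfl

/-- the torus parameters are determined by the values of the two fundamental characters -/
theorem eq_of_chr (c₀ c₁ d₀ d₁ : Fˣ) (h7 : chr 7 c₀ c₁ = chr 7 d₀ d₁) (h6 : chr 6 c₀ c₁ = chr 6 d₀ d₁) :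
    c₀ = d₀ ∧ c₁ = d₁ := by
  rw [chr7, chr7] at h7
  rw [chr6, chr6] at h6
  have e0 : ∀ a b : Fˣ, a = (a ^ (2 : ℤ) * b ^ (-1 : ℤ)) ^ (2 : ℤ) * (a ^ (-3 : ℤ) * b ^ (2 : ℤ)) := by
    intro a b
    rw [mul_zpow, ← zpow_mul, ← zpow_mul, mul_mul_mul_comm, ← zpow_add, ← zpow_add]
    norm_num
  have e1 : ∀ a b : Fˣ, b = (a ^ (2 : ℤ) * b ^ (-1 : ℤ)) ^ (3 : ℤ) * (a ^ (-3 : ℤ) * b ^ (2 : ℤ)) ^ (2 : ℤ) := by
    intro a b
    rw [mul_zpow, mul_zpow, ← zpow_mul, ← zpow_mul, ← zpow_mul, ← zpow_mul, mul_mul_mul_comm, ← zpow_add,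
      ← zpow_add]
    norm_num
  constructor
  · rw [e0 c₀ c₁, h7, h6, ← e0]
  · rw [e1 c₀ c₁, h7, h6, ← e1]

/-- transport of the characters under conjugation by an element normalising the torus -/
theorem chr_conj (n : GL chevG2.Idx F) (c₀ c₁ d₀ d₁ : Fˣ) (hn : n * tor c₀ c₁ * n⁻¹ = tor d₀ d₁)
    (s' s : ℕ) (hs' : s' < 12) (hs : s < 12) (η : F) (hη : η ≠ 0)
    (hc : ∀ t : F, n * X s' t * n⁻¹ = X s (η * t)) : chr s d₀ d₁ = chr s' c₀ c₁ := by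
  have h1 := tor_conj d₀ d₁ s hs (η * 1)
  have h2 : tor d₀ d₁ * X s (η * 1) * (tor d₀ d₁)⁻¹ =
      n * (tor c₀ c₁ * X s' 1 * (tor c₀ c₁)⁻¹) * n⁻¹ := by
    rw [← hn, ← hc 1]
    group
  rw [h2, tor_conj c₀ c₁ s' hs' 1, hc] at h1
  have h3 := X_injective s hs _ _ h1
  rw [mul_one, mul_one] at h3
  apply Units.ext
  have h4 : η * ((chr s' c₀ c₁ : Fˣ) : F) = η * ((chr s d₀ d₁ : Fˣ) : F) := by
    rw [h3, mul_comm]
  exact (mul_left_cancel₀ hη h4).symm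

theorem nn7_eq : nn (F := F) 7 = nW [0] := by
  rw [nW_cons, nW_nil, mul_one, nn_eq 7 (by decide)]
  rfl

theorem nn6_eq : nn (F := F) 6 = nW [1] := by
  rw [nW_cons, nW_nil, mul_one, nn_eq 6 (by decide)]
  rfl

theorem neg_one_zpow_neg_one : ((-1 : Fˣ)) ^ (-1 : ℤ) = -1 := by
  rw [zpow_neg_one, inv_neg_one]

theorem neg_one_zpow_three : ((-1 : Fˣ)) ^ (3 : ℤ) = -1 := by
  have : ((-1 : Fˣ)) ^ (3 : ℤ) = (-1 : Fˣ) ^ (3 : ℕ) := by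
    rw [← zpow_natCast]; rfl
  rw [this, Odd.neg_one_pow (by decide)]

/-- `n₇ · tor 1 (-1) · n₇⁻¹ = tor (-1) (-1)` -/
theorem nn7_conj : nW (F := F) [0] * tor 1 (-1) * (nW [0])⁻¹ = tor (-1) (-1) := by
  have hw : ∀ i ∈ [0], i < 2 := by decide
  have hmem := conj_mem_diagonal (F := F) (nW [0]) (tor 1 (-1)) (nW_mem _ hw) (tor_mem _ _)
  obtain ⟨d₀, d₁, hd⟩ := (mem_diagonal_iff _).mp hmem
  obtain ⟨-, η4, hη4, h4⟩ := nW_conj (F := F) [0] hw 4 (by decide)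
  obtain ⟨-, η10, hη10, h10⟩ := nW_conj (F := F) [0] hw 10 (by decide)
  have r4 : rho chevG2 [0] 4 = 7 := by decide
  have r10 : rho chevG2 [0] 10 = 6 := by decide
  rw [r4] at h4
  rw [r10] at h10
  have hη4' : η4 ≠ 0 := by rcases hη4 with rfl | rfl <;> simp
  have hη10' : η10 ≠ 0 := by rcases hη10 with rfl | rfl <;> simp
  have c7 := chr_conj (nW [0]) 1 (-1) d₀ d₁ hd 4 7 (by decide) (by decide) η4 hη4' h4
  have c6 := chr_conj (nW [0]) 1 (-1) d₀ d₁ hd 10 6 (by decide) (by decide) η10 hη10' h10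
  have v4 : chr 4 (1 : Fˣ) (-1) = -1 := by rw [chr4, one_zpow, one_mul, zpow_one]
  have v10 : chr 10 (1 : Fˣ) (-1) = -1 := by rw [chr10, one_zpow, one_mul, neg_one_zpow_neg_one]
  have w7 : chr 7 (-1 : Fˣ) (-1) = -1 := by
    rw [chr7, neg_one_zpow_neg_one]
    have : ((-1 : Fˣ)) ^ (2 : ℤ) = 1 := by
      have : ((-1 : Fˣ)) ^ (2 : ℤ) = (-1 : Fˣ) ^ (2 : ℕ) := by rw [← zpow_natCast]; rfl
      rw [this, neg_one_sq]
    rw [this, one_mul]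
  have w6 : chr 6 (-1 : Fˣ) (-1) = -1 := by
    rw [chr6]
    have h2 : ((-1 : Fˣ)) ^ (2 : ℤ) = 1 := by
      have : ((-1 : Fˣ)) ^ (2 : ℤ) = (-1 : Fˣ) ^ (2 : ℕ) := by rw [← zpow_natCast]; rfl
      rw [this, neg_one_sq]
    have h3 : ((-1 : Fˣ)) ^ (-3 : ℤ) = -1 := by
      rw [show (-3 : ℤ) = -(3 : ℤ) by norm_num, zpow_neg, neg_one_zpow_three, inv_neg_one]
    rw [h2, h3, mul_one]
  obtain ⟨e0, e1⟩ := eq_of_chr d₀ d₁ (-1) (-1) (by rw [c7, v4, w7]) (by rw [c6, v10, w6])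
  rw [hd, e0, e1]

/-- `n₆ · tor (-1) 1 · n₆⁻¹ = tor (-1) (-1)` -/
theorem nn6_conj : nW (F := F) [1] * tor (-1) 1 * (nW [1])⁻¹ = tor (-1) (-1) := by
  have hw : ∀ i ∈ [1], i < 2 := by decide
  have hmem := conj_mem_diagonal (F := F) (nW [1]) (tor (-1) 1) (nW_mem _ hw) (tor_mem _ _)
  obtain ⟨d₀, d₁, hd⟩ := (mem_diagonal_iff _).mp hmem
  obtain ⟨-, η8, hη8, h8⟩ := nW_conj (F := F) [1] hw 8 (by decide)
  obtain ⟨-, η5, hη5, h5⟩ := nW_conj (F := F) [1] hw 5 (by decide)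
  have r8 : rho chevG2 [1] 8 = 7 := by decide
  have r5 : rho chevG2 [1] 5 = 6 := by decide
  rw [r8] at h8
  rw [r5] at h5
  have hη8' : η8 ≠ 0 := by rcases hη8 with rfl | rfl <;> simp
  have hη5' : η5 ≠ 0 := by rcases hη5 with rfl | rfl <;> simp
  have c7 := chr_conj (nW [1]) (-1) 1 d₀ d₁ hd 8 7 (by decide) (by decide) η8 hη8' h8
  have c6 := chr_conj (nW [1]) (-1) 1 d₀ d₁ hd 5 6 (by decide) (by decide) η5 hη5' h5
  have v8 : chr 8 (-1 : Fˣ) 1 = -1 := by rw [chr8, one_zpow, mul_one, neg_one_zpow_neg_one]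
  have v5 : chr 5 (-1 : Fˣ) 1 = -1 := by rw [chr5, one_zpow, mul_one, neg_one_zpow_three]
  have h2 : ((-1 : Fˣ)) ^ (2 : ℤ) = 1 := by
    have : ((-1 : Fˣ)) ^ (2 : ℤ) = (-1 : Fˣ) ^ (2 : ℕ) := by rw [← zpow_natCast]; rfl
    rw [this, neg_one_sq]
  have w7 : chr 7 (-1 : Fˣ) (-1) = -1 := by
    rw [chr7, neg_one_zpow_neg_one, h2, one_mul]
  have w6 : chr 6 (-1 : Fˣ) (-1) = -1 := by
    rw [chr6]
    have h3 : ((-1 : Fˣ)) ^ (-3 : ℤ) = -1 := by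
      rw [show (-3 : ℤ) = -(3 : ℤ) by norm_num, zpow_neg, neg_one_zpow_three, inv_neg_one]
    rw [h2, h3, mul_one]
  obtain ⟨e0, e1⟩ := eq_of_chr d₀ d₁ (-1) (-1) (by rw [c7, v8, w7]) (by rw [c6, v5, w6])
  rw [hd, e0, e1]

theorem unit_sq_eq_one (c : Fˣ) (h : c * c = 1) : c = 1 ∨ c = -1 := by
  have h' : (c : F) * (c : F) = 1 := by
    have := congrArg (fun u : Fˣ => (u : F)) h
    simpa using this
  rcases mul_self_eq_one_iff.mp h' with h1 | h1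
  · left; exact Units.ext (by simpa using h1)
  · right; exact Units.ext (by simpa using h1)

/-- (F) the involutions of `H` are conjugate. -/
theorem diag_invol_conj (k : GL chevG2.Idx F) (hk : k ∈ chevG2.diagonalSubgroup F) (h2 : k * k = 1) (h1 : k ≠ 1) :
    ConjG k (tor 1 (-1)) := by
  obtain ⟨c₀, c₁, rfl⟩ := (mem_diagonal_iff k).mp hk
  rw [tor_mul, ← tor_one] at h2
  obtain ⟨hc0, hc1⟩ := tor_inj _ _ _ _ h2
  -- `tor (-1) (-1)` is conjugate to `tor 1 (-1)`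
  have hA : ConjG (tor (F := F) (-1) (-1)) (tor 1 (-1)) := by
    refine ⟨(nW [0])⁻¹, inv_mem (monomial_le_group (nW_mem _ (by decide))), ?_⟩
    rw [← nn7_conj]
    group
  have hB : ConjG (tor (F := F) (-1) 1) (tor (-1) (-1)) :=
    ⟨nW [1], monomial_le_group (nW_mem _ (by decide)), nn6_conj⟩
  rcases unit_sq_eq_one c₀ hc0 with rfl | rfl <;> rcases unit_sq_eq_one c₁ hc1 with rfl | rfl
  · exact absurd tor_one h1
  · exact ConjG.refl _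
  · exact hB.trans hA
  · exact hA

end Cfsg.Agent.Helper60.G2Inv
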