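import Cfsg.Agent.Helper19.FH.BNDefs

/-!
# Piece (A2) of #5717 (helper60, for helper19's S1142 Feit-Higman): the product rule
`hm (s) * hm (w) = hm (s w)` for the Hecke matrices of a (B,N)-pair when `l(s w) > l(w)`.
-/

set_option autoImplicit false

namespace Cfsg.Agent.Helper60.FH

open Cfsg.Agent.Helper19.FH Cfsg.Agent.Helper6 Cfsg.Agent.Helper19.Stein Matrix

variable {G : Type*} [Group G] (P : Cfsg.BNPair G)

/-- left multiplication by an element of type `s`: the type is multiplied by `s` or unchanged -/
theorem tau_mul_cases (s : P.S) {a : G} (ha : tau P a = wf P s) (c : G) :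
    tau P (a * c) = wf P s * tau P c ∨ tau P (a * c) = tau P c := by
  have hmem : a ∈ dc P s.1 := mem_dc_of_tau P (P.subset s.2) (by rw [ha]; rfl)
  rw [mem_dc] at hmem
  obtain ⟨b, hb, b', hb', rfl⟩ := hmem
  have e : b * s.1 * b' * c = b * (s.1 * (b' * c)) := by group
  rw [e, tau_B_mul P hb]
  have := tau_S_mul P s (b' * c)
  rw [tau_B_mul P hb'] at this
  exact this

/-- left multiplication by an element of type `s` which lengthens the type -/
theorem tau_mul_of_lt (s : P.S) {a : G} (ha : tau P a = wf P s) (c : G)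
    (h : wl (wf P) (tau P c) < wl (wf P) (wf P s * tau P c)) :
    tau P (a * c) = wf P s * tau P c := by
  have hmem : a ∈ dc P s.1 := mem_dc_of_tau P (P.subset s.2) (by rw [ha]; rfl)
  rw [mem_dc] at hmem
  obtain ⟨b, hb, b', hb', rfl⟩ := hmem
  have e : b * s.1 * b' * c = b * (s.1 * (b' * c)) := by group
  rw [e, tau_B_mul P hb]
  have h' : wl (wf P) (tau P (b' * c)) < wl (wf P) (wf P s * tau P (b' * c)) := by
    rw [tau_B_mul P hb']; exact h
  have := tau_S_mul_of_lt P s (b' * c) h'
  rw [tau_B_mul P hb'] at this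
  exact this

theorem tau_inv_of_eq_wf (s : P.S) {a : G} (ha : tau P a = wf P s) : tau P a⁻¹ = wf P s := by
  rw [tau_inv, ha]
  exact inv_gen (exchData_wf P) s

/-- composition: positions `s` then `w` give `s w` -/
theorem relPos_comp (s : P.S) (w : P.N ⧸ (P.B ⊓ P.N).subgroupOf P.N)
    (h : wl (wf P) w < wl (wf P) (wf P s * w)) (x y z : G ⧸ P.B)
    (h1 : relPos P x y = wf P s) (h2 : relPos P y z = w) : relPos P x z = wf P s * w := by
  induction x using QuotientGroup.induction_on with
  | _ g =>
    induction y using QuotientGroup.induction_on with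
    | _ t =>
      induction z using QuotientGroup.induction_on with
      | _ k =>
        rw [relPos_mk] at h1 h2 ⊢
        have e : g⁻¹ * k = (g⁻¹ * t) * (t⁻¹ * k) := by group
        rw [e, ← h2]
        apply tau_mul_of_lt P s h1
        rw [h2]
        exact h

/-- existence of the intermediate coset -/
theorem relPos_exists (s : P.S) (w : P.N ⧸ (P.B ⊓ P.N).subgroupOf P.N) (x z : G ⧸ P.B)
    (hxz : relPos P x z = wf P s * w) :
    ∃ y, relPos P x y = wf P s ∧ relPos P y z = w := by
  induction x using QuotientGroup.induction_on with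
  | _ g =>
    induction z using QuotientGroup.induction_on with
    | _ k =>
      rw [relPos_mk] at hxz
      obtain ⟨n, hn, rfl⟩ := mkW_surjective P w
      have hmem : g⁻¹ * k ∈ dc P (s.1 * n) := by
        apply mem_dc_of_tau P (P.N.mul_mem (P.subset s.2) hn)
        rw [hxz]
        rfl
      rw [mem_dc] at hmem
      obtain ⟨b, hb, b', hb', hc⟩ := hmem
      refine ⟨QuotientGroup.mk (g * (b * s.1)), ?_, ?_⟩
      · rw [relPos_mk]
        have e : g⁻¹ * (g * (b * s.1)) = b * s.1 := by group
        rw [e, tau_B_mul P hb, tau_of_mem_N P (P.subset s.2)]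
        rfl
      · rw [relPos_mk]
        have e : (g * (b * s.1))⁻¹ * k = s.1⁻¹ * b⁻¹ * (g⁻¹ * k) := by group
        rw [e, hc]
        have e2 : s.1⁻¹ * b⁻¹ * (b * (s.1 * n) * b') = n * b' := by group
        rw [e2, tau_mul_B P hb', tau_of_mem_N P hn]

/-- uniqueness of the intermediate coset -/
theorem relPos_unique (s : P.S) (w : P.N ⧸ (P.B ⊓ P.N).subgroupOf P.N)
    (h : wl (wf P) w < wl (wf P) (wf P s * w)) (x y₁ y₂ z : G ⧸ P.B)
    (h1 : relPos P x y₁ = wf P s) (h2 : relPos P y₁ z = w)
    (h3 : relPos P x y₂ = wf P s) (h4 : relPos P y₂ z = w) : y₁ = y₂ := by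
  have hE := exchData_wf P
  rw [← relPos_eq_one_iff P]
  have hx1 : relPos P y₁ x = wf P s := by
    rw [relPos_symm P x y₁, h1]
    exact inv_gen hE s
  -- the position of `y₁, y₂` is `1` or `s`
  have hcases : relPos P y₁ y₂ = 1 ∨ relPos P y₁ y₂ = wf P s := by
    induction x using QuotientGroup.induction_on with
    | _ g =>
      induction y₁ using QuotientGroup.induction_on with
      | _ t₁ =>
        induction y₂ using QuotientGroup.induction_on with
        | _ t₂ =>
          rw [relPos_mk] at hx1 h3 ⊢
          have e : t₁⁻¹ * t₂ = (t₁⁻¹ * g) * (g⁻¹ * t₂) := by group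
          rw [e]
          rcases tau_mul_cases P s hx1 (g⁻¹ * t₂) with h5 | h5
          · left
            rw [h5, h3]
            exact hE.inv s
          · right
            rw [h5, h3]
  rcases hcases with h5 | h5
  · exact h5
  · exfalso
    have h6 := relPos_comp P s w h y₁ y₂ z h5 h4
    rw [h2] at h6
    rw [← h6] at h
    exact lt_irrefl _ h

theorem hm_mul [Fintype (G ⧸ P.B)] (s : P.S) (w : P.N ⧸ (P.B ⊓ P.N).subgroupOf P.N)
    (h : wl (wf P) w < wl (wf P) (wf P s * w)) :
    hm P (wf P s) * hm P w = hm P (wf P s * w) := by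
  classical
  ext x z
  rw [Matrix.mul_apply]
  simp only [hm_apply]
  by_cases hxz : relPos P x z = wf P s * w
  · rw [if_pos hxz]
    obtain ⟨y₀, hy1, hy2⟩ := relPos_exists P s w x z hxz
    rw [Finset.sum_eq_single y₀]
    · rw [if_pos hy1, if_pos hy2, mul_one]
    · intro y _ hne
      by_cases h1 : relPos P x y = wf P s
      · by_cases h2 : relPos P y z = w
        · exact absurd (relPos_unique P s w h x y y₀ z h1 h2 hy1 hy2) hne
        · rw [if_neg h2, mul_zero]
      · rw [if_neg h1, zero_mul]
    · intro hh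
      exact absurd (Finset.mem_univ _) hh
  · rw [if_neg hxz]
    apply Finset.sum_eq_zero
    intro y _
    by_cases h1 : relPos P x y = wf P s
    · by_cases h2 : relPos P y z = w
      · exact absurd (relPos_comp P s w h x y z h1 h2) hxz
      · rw [if_neg h2, mul_zero]
    · rw [if_neg h1, zero_mul]

end Cfsg.Agent.Helper60.FH
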