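import Mathlib

/-!
# Piece (K2) of #5796 (helper60, for helper3's S3805): the shape of the pair `(A, B)`

Two integer vectors of norm `3` with inner product `1`, both orthogonal to a positive vector `d`:
their supports meet in exactly one point, where they agree.
-/

set_option autoImplicit false

namespace Cfsg.Agent.Helper60.S3S3

open Finset

variable {ι : Type*} [Fintype ι] [DecidableEq ι]

omit [DecidableEq ι] in
/-- the entries of an integer vector of norm `3` are `0, 1, -1` -/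
theorem k2_pm (f : ι → ℤ) (hf : ∑ i, f i ^ 2 = 3) (i : ι) : f i = 0 ∨ f i = 1 ∨ f i = -1 := by
  have h1 : f i ^ 2 ≤ ∑ j, f j ^ 2 :=
    Finset.single_le_sum (f := fun j => f j ^ 2) (fun j _ => sq_nonneg _) (Finset.mem_univ i)
  rw [hf] at h1
  have h2 : -1 ≤ f i := by nlinarith
  have h3 : f i ≤ 1 := by nlinarith
  omega

omit [DecidableEq ι] in
/-- the support of an integer vector of norm `3` has three elements -/
theorem k2_card_support (f : ι → ℤ) (hf : ∑ i, f i ^ 2 = 3) :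
    (Finset.univ.filter (fun i => f i ≠ 0)).card = 3 := by
  have h : ∀ i, f i ^ 2 = if f i ≠ 0 then 1 else 0 := by
    intro i
    rcases k2_pm f hf i with h | h | h <;> rw [h] <;> norm_num
  have h2 : ∑ i, f i ^ 2 = ((Finset.univ.filter (fun i => f i ≠ 0)).card : ℤ) := by
    rw [Finset.sum_congr rfl (fun i _ => h i), Finset.sum_boole]
  rw [hf] at h2
  exact_mod_cast h2.symm

/-- (K2) the shape of the pair `(A, B)`. -/
theorem shape_AB (d : ι → ℕ) (A B : ι → ℤ) (hd : ∀ i, 0 < d i)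
    (hAA : ∑ i, A i ^ 2 = 3) (hBB : ∑ i, B i ^ 2 = 3) (hAB : ∑ i, A i * B i = 1)
    (hdA : ∑ i, (d i : ℤ) * A i = 0) (hdB : ∑ i, (d i : ℤ) * B i = 0) :
    ∃ θ α₁ α₂ β₁ β₂ : ι, [θ, α₁, α₂, β₁, β₂].Nodup ∧
      A θ = B θ ∧ (A θ = 1 ∨ A θ = -1) ∧
      (A α₁ = 1 ∨ A α₁ = -1) ∧ (A α₂ = 1 ∨ A α₂ = -1) ∧
      (B β₁ = 1 ∨ B β₁ = -1) ∧ (B β₂ = 1 ∨ B β₂ = -1) ∧
      (∀ l, l ≠ θ → l ≠ α₁ → l ≠ α₂ → A l = 0) ∧
      (∀ l, l ≠ θ → l ≠ β₁ → l ≠ β₂ → B l = 0) := by
  have hA := k2_pm A hAA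
  have hB := k2_pm B hBB
  have hdiff : ∑ i, (A i - B i) ^ 2 = 4 := by
    have h1 : ∀ i, (A i - B i) ^ 2 = A i ^ 2 + B i ^ 2 - 2 * (A i * B i) := fun i => by ring
    simp_rw [h1, Finset.sum_sub_distrib, Finset.sum_add_distrib, ← Finset.mul_sum, hAA, hBB, hAB]
    norm_num
  have hdAB : ∑ i, (d i : ℤ) * (A i - B i) = 0 := by
    simp_rw [mul_sub, Finset.sum_sub_distrib, hdA, hdB]
    norm_num
  -- the two vectors are never opposite at a point of the support
  have hclaim : ∀ k, A k ≠ 0 → A k ≠ -B k := by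
    intro k hk0 hk
    have hk4 : (A k - B k) ^ 2 = 4 := by
      rcases hA k with h | h | h
      · exact absurd h hk0
      · have hb : B k = -1 := by linarith
        rw [h, hb]; norm_num
      · have hb : B k = 1 := by linarith
        rw [h, hb]; norm_num
    have hothers : ∀ i, i ≠ k → A i - B i = 0 := by
      intro i hik
      have hsplit := Finset.add_sum_erase Finset.univ (fun i => (A i - B i) ^ 2)
        (Finset.mem_univ k)
      rw [hdiff, hk4] at hsplit
      have hz : ∑ i ∈ Finset.univ.erase k, (A i - B i) ^ 2 = 0 := by linarith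
      have h0 := (Finset.sum_eq_zero_iff_of_nonneg (fun i _ => sq_nonneg (A i - B i))).mp hz i
        (Finset.mem_erase.mpr ⟨hik, Finset.mem_univ i⟩)
      exact pow_eq_zero_iff (two_ne_zero) |>.mp h0
    have hsum : ∑ i, (d i : ℤ) * (A i - B i) = (d k : ℤ) * (A k - B k) := by
      apply Finset.sum_eq_single k
      · intro i _ hik
        rw [hothers i hik, mul_zero]
      · intro h
        exact absurd (Finset.mem_univ k) h
    rw [hdAB] at hsum
    have hdk : (0 : ℤ) < d k := by exact_mod_cast hd k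
    have hne : A k - B k ≠ 0 := by
      intro h0
      rw [h0] at hk4
      norm_num at hk4
    rcases mul_eq_zero.mp hsum.symm with h | h
    · omega
    · exact hne h
  -- the terms of the inner product
  have hterm : ∀ i, A i * B i = if (A i ≠ 0 ∧ A i = B i) then 1 else 0 := by
    intro i
    rcases hA i with h | h | h
    · rw [h]; simp
    · rcases hB i with h' | h' | h'
      · rw [h, h']; simp
      · rw [h, h']; simp
      · exfalso
        exact hclaim i (by rw [h]; norm_num) (by rw [h, h']; norm_num)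
    · rcases hB i with h' | h' | h'
      · rw [h, h']; simp
      · exfalso
        exact hclaim i (by rw [h]; norm_num) (by rw [h, h'])
      · rw [h, h']; simp
  have hcard1 : (Finset.univ.filter (fun i => A i ≠ 0 ∧ A i = B i)).card = 1 := by
    have h2 : ∑ i, A i * B i =
        ((Finset.univ.filter (fun i => A i ≠ 0 ∧ A i = B i)).card : ℤ) := by
      rw [Finset.sum_congr rfl (fun i _ => hterm i), Finset.sum_boole]
    rw [hAB] at h2
    exact_mod_cast h2.symm
  obtain ⟨θ, hθ⟩ := Finset.card_eq_one.mp hcard1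
  have hθmem : A θ ≠ 0 ∧ A θ = B θ := by
    have h1 : θ ∈ Finset.univ.filter (fun i => A i ≠ 0 ∧ A i = B i) := by
      rw [hθ]; exact Finset.mem_singleton_self θ
    exact (Finset.mem_filter.mp h1).2
  have hθuniq : ∀ i, A i ≠ 0 → A i = B i → i = θ := by
    intro i h1 h2
    have h3 : i ∈ Finset.univ.filter (fun i => A i ≠ 0 ∧ A i = B i) :=
      Finset.mem_filter.mpr ⟨Finset.mem_univ i, h1, h2⟩
    rw [hθ] at h3
    exact Finset.mem_singleton.mp h3
  have hboth : ∀ i, A i ≠ 0 → B i ≠ 0 → i = θ := by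
    intro i h1 h2
    apply hθuniq i h1
    have h3 := hclaim i h1
    rcases hA i with h | h | h
    · exact absurd h h1
    · rcases hB i with h' | h' | h'
      · exact absurd h' h2
      · rw [h, h']
      · exfalso; apply h3; rw [h, h']; norm_num
    · rcases hB i with h' | h' | h'
      · exact absurd h' h2
      · exfalso; apply h3; rw [h, h']
      · rw [h, h']
  -- the supports
  have hSA := k2_card_support A hAA
  have hSB := k2_card_support B hBB
  have hθA : θ ∈ Finset.univ.filter (fun i => A i ≠ 0) :=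
    Finset.mem_filter.mpr ⟨Finset.mem_univ _, hθmem.1⟩
  have hθB0 : B θ ≠ 0 := by rw [← hθmem.2]; exact hθmem.1
  have hθB : θ ∈ Finset.univ.filter (fun i => B i ≠ 0) :=
    Finset.mem_filter.mpr ⟨Finset.mem_univ _, hθB0⟩
  have hEA : ((Finset.univ.filter (fun i => A i ≠ 0)).erase θ).card = 2 := by
    rw [Finset.card_erase_of_mem hθA, hSA]
  have hEB : ((Finset.univ.filter (fun i => B i ≠ 0)).erase θ).card = 2 := by
    rw [Finset.card_erase_of_mem hθB, hSB]
  obtain ⟨α₁, α₂, hα, hαeq⟩ := Finset.card_eq_two.mp hEA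
  obtain ⟨β₁, β₂, hβ, hβeq⟩ := Finset.card_eq_two.mp hEB
  have memA : ∀ i, i ∈ (Finset.univ.filter (fun i => A i ≠ 0)).erase θ ↔ i ≠ θ ∧ A i ≠ 0 := by
    intro i
    simp [Finset.mem_erase, Finset.mem_filter]
  have memB : ∀ i, i ∈ (Finset.univ.filter (fun i => B i ≠ 0)).erase θ ↔ i ≠ θ ∧ B i ≠ 0 := by
    intro i
    simp [Finset.mem_erase, Finset.mem_filter]
  have hα₁ : α₁ ≠ θ ∧ A α₁ ≠ 0 := (memA α₁).mp (by rw [hαeq]; simp)
  have hα₂ : α₂ ≠ θ ∧ A α₂ ≠ 0 := (memA α₂).mp (by rw [hαeq]; simp)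
  have hβ₁ : β₁ ≠ θ ∧ B β₁ ≠ 0 := (memB β₁).mp (by rw [hβeq]; simp)
  have hβ₂ : β₂ ≠ θ ∧ B β₂ ≠ 0 := (memB β₂).mp (by rw [hβeq]; simp)
  have hαβ : ∀ a b : ι, a ≠ θ → A a ≠ 0 → B b ≠ 0 → a ≠ b := by
    intro a b ha1 ha2 hb2 hab
    apply ha1
    apply hboth a ha2
    rw [hab]
    exact hb2
  have hpm : ∀ (f : ι → ℤ), (∀ i, f i = 0 ∨ f i = 1 ∨ f i = -1) → ∀ i, f i ≠ 0 →
      (f i = 1 ∨ f i = -1) := by
    intro f hf i hi
    rcases hf i with h | h | h
    · exact absurd h hi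
    · exact Or.inl h
    · exact Or.inr h
  refine ⟨θ, α₁, α₂, β₁, β₂, ?_, hθmem.2, hpm A hA θ hθmem.1, hpm A hA α₁ hα₁.2,
    hpm A hA α₂ hα₂.2, hpm B hB β₁ hβ₁.2, hpm B hB β₂ hβ₂.2, ?_, ?_⟩
  · simp only [List.nodup_cons, List.mem_cons, List.not_mem_nil, or_false, not_or,
      List.nodup_nil, and_true, not_false_eq_true]
    exact ⟨⟨hα₁.1.symm, hα₂.1.symm, hβ₁.1.symm, hβ₂.1.symm⟩,
      ⟨hα, hαβ α₁ β₁ hα₁.1 hα₁.2 hβ₁.2, hαβ α₁ β₂ hα₁.1 hα₁.2 hβ₂.2⟩,
      ⟨hαβ α₂ β₁ hα₂.1 hα₂.2 hβ₁.2, hαβ α₂ β₂ hα₂.1 hα₂.2 hβ₂.2⟩, hβ⟩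
  · intro l h1 h2 h3
    by_contra hl
    have hmem : l ∈ (Finset.univ.filter (fun i => A i ≠ 0)).erase θ := (memA l).mpr ⟨h1, hl⟩
    rw [hαeq] at hmem
    simp only [Finset.mem_insert, Finset.mem_singleton] at hmem
    rcases hmem with h | h
    · exact h2 h
    · exact h3 h
  · intro l h1 h2 h3
    by_contra hl
    have hmem : l ∈ (Finset.univ.filter (fun i => B i ≠ 0)).erase θ := (memB l).mpr ⟨h1, hl⟩
    rw [hβeq] at hmem
    simp only [Finset.mem_insert, Finset.mem_singleton] at hmem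
    rcases hmem with h | h
    · exact h2 h
    · exact h3 h

end Cfsg.Agent.Helper60.S3S3
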