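import Mathlib

/-!
# Piece (G3a) of #5796 (helper60, for helper3's S3805): the (3,3,3) triangle group is
abelian-by-cyclic.
-/

set_option autoImplicit false

namespace Cfsg.Agent.Helper60.S3S3

universe u

variable {G : Type u} [Group G]

/-- (G3a) the (3,3,3) triangle group is abelian-by-cyclic. -/
theorem tri333 (u v : G) (hu : u ^ 3 = 1) (hv : v ^ 3 = 1) (huv : (u * v) ^ 3 = 1) :
    ∃ A : Subgroup G, (∀ s ∈ A, ∀ t ∈ A, s * t = t * s) ∧
      u ∈ Subgroup.normalizer (A : Set G) ∧ u * v⁻¹ ∈ A := by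
  have hv2 : v⁻¹ * v⁻¹ = v := by
    have : v * v * v = 1 := by rw [← hv]; simp [pow_succ]
    calc v⁻¹ * v⁻¹ = v⁻¹ * v⁻¹ * (v * v * v) := by rw [this, mul_one]
      _ = v := by group
  have hu2 : u * u = u⁻¹ := by
    have : u * u * u = 1 := by rw [← hu]; simp [pow_succ]
    calc u * u = u * u * u * u⁻¹ := by group
      _ = u⁻¹ := by rw [this, one_mul]
  have huv6 : u * v * (u * v) * (u * v) = 1 := by rw [← huv]; simp [pow_succ]
  -- the generators commute
  have hpq : (u * v⁻¹) * (v⁻¹ * u) = (v⁻¹ * u) * (u * v⁻¹) := by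
    have e1 : (u * v⁻¹) * (v⁻¹ * u) = u * v * u := by
      calc (u * v⁻¹) * (v⁻¹ * u) = u * (v⁻¹ * v⁻¹) * u := by group
        _ = u * v * u := by rw [hv2]
    have e2 : (v⁻¹ * u) * (u * v⁻¹) = v⁻¹ * u⁻¹ * v⁻¹ := by
      calc (v⁻¹ * u) * (u * v⁻¹) = v⁻¹ * (u * u) * v⁻¹ := by group
        _ = v⁻¹ * u⁻¹ * v⁻¹ := by rw [hu2]
    rw [e1, e2]
    have e3 : (u * v * u) * (v * u * v) = 1 := by
      calc (u * v * u) * (v * u * v) = u * v * (u * v) * (u * v) := by group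
        _ = 1 := huv6
    calc u * v * u = u * v * u * ((v * u * v) * (v⁻¹ * u⁻¹ * v⁻¹)) := by group
      _ = (u * v * u) * (v * u * v) * (v⁻¹ * u⁻¹ * v⁻¹) := by group
      _ = v⁻¹ * u⁻¹ * v⁻¹ := by rw [e3, one_mul]
  set A : Subgroup G := Subgroup.closure {u * v⁻¹, v⁻¹ * u} with hA
  have hp : u * v⁻¹ ∈ A := Subgroup.subset_closure (by simp)
  have hq : v⁻¹ * u ∈ A := Subgroup.subset_closure (by simp)
  have hcommgen : ∀ x ∈ ({u * v⁻¹, v⁻¹ * u} : Set G), ∀ y ∈ ({u * v⁻¹, v⁻¹ * u} : Set G),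
      x * y = y * x := by
    intro x hx y hy
    simp only [Set.mem_insert_iff, Set.mem_singleton_iff] at hx hy
    rcases hx with rfl | rfl <;> rcases hy with rfl | rfl
    · rfl
    · exact hpq
    · exact hpq.symm
    · rfl
  have hcomm : ∀ s ∈ A, ∀ t ∈ A, s * t = t * s := by
    intro s hs t ht
    have hc : IsMulCommutative (Subgroup.closure {u * v⁻¹, v⁻¹ * u}) :=
      Subgroup.isMulCommutative_closure hcommgen
    have := hc.is_comm.comm (⟨s, hs⟩ : Subgroup.closure {u * v⁻¹, v⁻¹ * u}) ⟨t, ht⟩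
    exact congrArg Subtype.val this
  -- conjugation by `u⁻¹` maps `A` into itself
  have hconj : ∀ h ∈ A, u⁻¹ * h * u ∈ A := by
    intro h hh
    induction hh using Subgroup.closure_induction with
    | mem x hx =>
      simp only [Set.mem_insert_iff, Set.mem_singleton_iff] at hx
      rcases hx with rfl | rfl
      · have : u⁻¹ * (u * v⁻¹) * u = v⁻¹ * u := by group
        rw [this]; exact hq
      · have : u⁻¹ * (v⁻¹ * u) * u = ((u * v⁻¹) * (v⁻¹ * u))⁻¹ := by
          calc u⁻¹ * (v⁻¹ * u) * u = u⁻¹ * v⁻¹ * (u * u) := by group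
            _ = u⁻¹ * v⁻¹ * u⁻¹ := by rw [hu2]
            _ = (u * (v⁻¹ * v⁻¹) * u)⁻¹ := by rw [hv2]; group
            _ = ((u * v⁻¹) * (v⁻¹ * u))⁻¹ := by group
        rw [this]
        exact A.inv_mem (A.mul_mem hp hq)
    | one => simp
    | mul x y _ _ ihx ihy =>
      have : u⁻¹ * (x * y) * u = (u⁻¹ * x * u) * (u⁻¹ * y * u) := by group
      rw [this]; exact A.mul_mem ihx ihy
    | inv x _ ih =>
      have : u⁻¹ * x⁻¹ * u = (u⁻¹ * x * u)⁻¹ := by group
      rw [this]; exact A.inv_mem ih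
  refine ⟨A, hcomm, ?_, hp⟩
  rw [Subgroup.mem_normalizer_iff]
  intro h
  constructor
  · intro hh
    have h2 := hconj _ (hconj h hh)
    have e : u⁻¹ * (u⁻¹ * h * u) * u = u * h * u⁻¹ := by
      calc u⁻¹ * (u⁻¹ * h * u) * u = (u * u)⁻¹ * h * (u * u) := by group
        _ = u * h * u⁻¹ := by rw [hu2, inv_inv]
    rw [e] at h2
    exact h2
  · intro hh
    have h2 := hconj _ hh
    have e : u⁻¹ * (u * h * u⁻¹) * u = h := by group
    rw [e] at h2
    exact h2

end Cfsg.Agent.Helper60.S3S3
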