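import Mathlib

set_option autoImplicit false

namespace Cfsg.Agent.Helper60.FpfAction

variable {Γ : Type*} [Group Γ]

/-- conjugacy under the subgroup `E` -/
def EConj (E : Subgroup Γ) (u v : Γ) : Prop := ∃ h ∈ E, h * u * h⁻¹ = v

theorem EConj.refl (E : Subgroup Γ) (u : Γ) : EConj E u u := ⟨1, E.one_mem, by group⟩

theorem EConj.symm {E : Subgroup Γ} {u v : Γ} (h : EConj E u v) : EConj E v u := by
  obtain ⟨g, hg, rfl⟩ := h
  exact ⟨g⁻¹, E.inv_mem hg, by group⟩

theorem EConj.trans {E : Subgroup Γ} {u v w : Γ} (h₁ : EConj E u v) (h₂ : EConj E v w) :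
    EConj E u w := by
  obtain ⟨g, hg, rfl⟩ := h₁
  obtain ⟨g', hg', rfl⟩ := h₂
  exact ⟨g' * g, E.mul_mem hg' hg, by group⟩

theorem EConj.orderOf_eq {E : Subgroup Γ} {u v : Γ} (h : EConj E u v) : orderOf u = orderOf v := by
  obtain ⟨g, -, rfl⟩ := h
  have hs : SemiconjBy g u (g * u * g⁻¹) := by unfold SemiconjBy; group
  exact hs.orderOf_eq

theorem EConj.inv {E : Subgroup Γ} {u v : Γ} (h : EConj E u v) : EConj E u⁻¹ v⁻¹ := by
  obtain ⟨g, hg, rfl⟩ := h
  exact ⟨g, hg, by group⟩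

theorem EConj.ne_one {E : Subgroup Γ} {u v : Γ} (h : EConj E u v) (hu : u ≠ 1) : v ≠ 1 := by
  obtain ⟨g, -, rfl⟩ := h
  intro hcon
  apply hu
  have : u = g⁻¹ * (g * u * g⁻¹) * g := by group
  rw [this, hcon]; group

section

variable (F E : Subgroup Γ) [Finite F] [Finite E]
  (hnorm : ∀ h ∈ E, ∀ u ∈ F, h * u * h⁻¹ ∈ F)
  (hfpf : ∀ h ∈ E, ∀ u ∈ F, u ≠ 1 → h * u * h⁻¹ = u → h = 1)

open Classical in
/-- the orbit of `u` under `E`, as a finset -/
noncomputable def orbitFinset (u : Γ) : Finset Γ :=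
  haveI := Fintype.ofFinite E
  Finset.univ.image (fun h : E => (h : Γ) * u * (h : Γ)⁻¹)

theorem mem_orbitFinset {u v : Γ} : v ∈ orbitFinset E u ↔ EConj E u v := by
  classical
  unfold orbitFinset EConj
  simp only [Finset.mem_image, Finset.mem_univ, true_and]
  constructor
  · rintro ⟨h, rfl⟩; exact ⟨h, h.2, rfl⟩
  · rintro ⟨h, hh, rfl⟩; exact ⟨⟨h, hh⟩, rfl⟩

omit [Finite F] in
include hfpf in
theorem card_orbitFinset {u : Γ} (hu : u ∈ F) (hu1 : u ≠ 1) :
    (orbitFinset E u).card = Nat.card E := by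
  classical
  let _ := Fintype.ofFinite E
  unfold orbitFinset
  rw [Finset.card_image_of_injective, Finset.card_univ, Nat.card_eq_fintype_card]
  intro h₁ h₂ h
  simp only at h
  have key : (h₂ : Γ)⁻¹ * h₁ = 1 := by
    apply hfpf _ (E.mul_mem (E.inv_mem h₂.2) h₁.2) u hu hu1
    calc (h₂ : Γ)⁻¹ * h₁ * u * ((h₂ : Γ)⁻¹ * h₁)⁻¹
        = (h₂ : Γ)⁻¹ * ((h₁ : Γ) * u * (h₁ : Γ)⁻¹) * h₂ := by group
      _ = (h₂ : Γ)⁻¹ * ((h₂ : Γ) * u * (h₂ : Γ)⁻¹) * h₂ := by rw [h]
      _ = u := by group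
  apply Subtype.ext
  rw [inv_mul_eq_one] at key
  exact key.symm

open Classical in
/-- `F` as a finset -/
noncomputable def toFinset' : Finset Γ :=
  haveI := Fintype.ofFinite F
  Finset.univ.image (fun u : F => (u : Γ))

theorem mem_toFinset' {u : Γ} : u ∈ toFinset' F ↔ u ∈ F := by
  classical
  unfold toFinset'
  simp

theorem card_toFinset' : (toFinset' F).card = Nat.card F := by
  classical
  let _ := Fintype.ofFinite F
  unfold toFinset'
  rw [Finset.card_image_of_injective _ Subtype.val_injective, Finset.card_univ,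
    Nat.card_eq_fintype_card]

end

/-- a fixed-point-free involutory automorphism (given by conjugation by `τ`) inverts `F`. -/
theorem inv_of_fpf_involution (F : Subgroup Γ) [Finite F] {τ : Γ} (hτ2 : τ * τ = 1)
    (hτF : ∀ u ∈ F, τ * u * τ⁻¹ ∈ F)
    (hτfpf : ∀ u ∈ F, τ * u * τ⁻¹ = u → u = 1) :
    ∀ u ∈ F, τ * u * τ⁻¹ = u⁻¹ := by
  have hτinv : τ⁻¹ = τ := inv_eq_of_mul_eq_one_left hτ2
  let φ : F → F := fun x => ⟨(x : Γ)⁻¹ * (τ * x * τ⁻¹), F.mul_mem (F.inv_mem x.2) (hτF x x.2)⟩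
  have hinj : Function.Injective φ := by
    intro x y hxy
    have h : (x : Γ)⁻¹ * (τ * x * τ⁻¹) = (y : Γ)⁻¹ * (τ * y * τ⁻¹) := congrArg Subtype.val hxy
    have h1 : τ * ((y : Γ) * (x : Γ)⁻¹) * τ⁻¹ = (y : Γ) * (x : Γ)⁻¹ := by
      calc τ * ((y : Γ) * (x : Γ)⁻¹) * τ⁻¹
          = (τ * y * τ⁻¹) * (τ * x * τ⁻¹)⁻¹ := by group
        _ = (y : Γ) * ((y : Γ)⁻¹ * (τ * y * τ⁻¹)) * (τ * x * τ⁻¹)⁻¹ := by group
        _ = (y : Γ) * ((x : Γ)⁻¹ * (τ * x * τ⁻¹)) * (τ * x * τ⁻¹)⁻¹ := by rw [h]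
        _ = (y : Γ) * (x : Γ)⁻¹ := by group
    have h2 := hτfpf _ (F.mul_mem y.2 (F.inv_mem x.2)) h1
    apply Subtype.ext
    rw [mul_inv_eq_one] at h2
    exact h2.symm
  have hsurj : Function.Surjective φ := Finite.injective_iff_surjective.mp hinj
  intro u hu
  obtain ⟨x, hx⟩ := hsurj ⟨u, hu⟩
  have hxu : (x : Γ)⁻¹ * (τ * x * τ⁻¹) = u := congrArg Subtype.val hx
  rw [← hxu, hτinv]
  have e1 : τ * ((x : Γ)⁻¹ * (τ * x * τ)) * τ = τ * (x : Γ)⁻¹ * τ * x * (τ * τ) := by group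
  have e2 : ((x : Γ)⁻¹ * (τ * x * τ))⁻¹ = τ⁻¹ * (x : Γ)⁻¹ * τ⁻¹ * x := by group
  rw [e1, e2, hτ2, mul_one, hτinv]

/-- a group inverted by an automorphism is abelian -/
theorem comm_of_inverted (F : Subgroup Γ) {τ : Γ} (hinv : ∀ u ∈ F, τ * u * τ⁻¹ = u⁻¹) :
    ∀ u ∈ F, ∀ v ∈ F, u * v = v * u := by
  intro u hu v hv
  have h1 := hinv (u * v) (F.mul_mem hu hv)
  have h2 : τ * (u * v) * τ⁻¹ = (τ * u * τ⁻¹) * (τ * v * τ⁻¹) := by group
  rw [h2, hinv u hu, hinv v hv] at h1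
  -- u⁻¹ v⁻¹ = (u v)⁻¹ = v⁻¹ u⁻¹
  have h3 : (u⁻¹ * v⁻¹)⁻¹ = ((u * v)⁻¹)⁻¹ := by rw [h1]
  rw [mul_inv_rev, inv_inv, inv_inv, inv_inv] at h3
  exact h3.symm

section

variable (F E : Subgroup Γ) [Finite F] [Finite E]
  (hnorm : ∀ h ∈ E, ∀ u ∈ F, h * u * h⁻¹ ∈ F)
  (hfpf : ∀ h ∈ E, ∀ u ∈ F, u ≠ 1 → h * u * h⁻¹ = u → h = 1)
  (hcard : Nat.card F ≤ 2 * Nat.card E + 1)

include hfpf hcard in
/-- an `E`-invariant subgroup of `F` is trivial or everything -/
theorem invariant_subgroup_eq (S : Subgroup Γ) (hSF : S ≤ F)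
    (hSinv : ∀ h ∈ E, ∀ s ∈ S, h * s * h⁻¹ ∈ S) (hS : S ≠ ⊥) : S = F := by
  classical
  by_contra hne
  have hfinS : Finite S := Finite.of_injective (fun s : S => (⟨s.1, hSF s.2⟩ : F))
    (fun s t h => Subtype.ext (congrArg (fun x : F => (x : Γ)) h))
  -- 2 |S| ≤ |F|
  have hdvd : Nat.card S ∣ Nat.card F := Subgroup.card_dvd_of_le hSF
  have hlt : Nat.card S ≠ Nat.card F := by
    intro h
    exact hne (Subgroup.eq_of_le_of_card_ge hSF (le_of_eq h.symm))
  have hFpos : 0 < Nat.card F := Nat.card_pos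
  have h2 : 2 * Nat.card S ≤ Nat.card F := by
    obtain ⟨c, hc⟩ := hdvd
    have hc0 : c ≠ 0 := by rintro rfl; omega
    have hc1 : c ≠ 1 := by rintro rfl; omega
    have : 2 ≤ c := by omega
    calc 2 * Nat.card S ≤ c * Nat.card S := Nat.mul_le_mul_right _ this
      _ = Nat.card F := by rw [hc, mul_comm]
  -- |S| ≥ 1 + |E|
  obtain ⟨s, hs, hs1⟩ := (Subgroup.ne_bot_iff_exists_ne_one).mp hS |>.elim
    (fun s hs => (⟨(s : Γ), s.2, fun h => hs (Subtype.ext h)⟩ : ∃ s ∈ S, s ≠ 1))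
  have hsub : insert 1 (orbitFinset E s) ⊆ toFinset' S := by
    intro x hx
    rw [mem_toFinset']
    rw [Finset.mem_insert] at hx
    rcases hx with rfl | hx
    · exact S.one_mem
    · rw [mem_orbitFinset] at hx
      obtain ⟨h, hh, rfl⟩ := hx
      exact hSinv h hh s hs
  have h1 : (1 : Γ) ∉ orbitFinset E s := by
    rw [mem_orbitFinset]
    intro hcon
    exact hcon.ne_one hs1 rfl
  have h3 := Finset.card_le_card hsub
  rw [Finset.card_insert_of_notMem h1, card_orbitFinset F E hfpf (hSF hs) hs1, card_toFinset'] at h3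
  omega

include hfpf hcard in
/-- among three non-identity elements of `F`, two are `E`-conjugate. -/
theorem econj_of_three {u v w : Γ} (hu : u ∈ F) (hv : v ∈ F) (hw : w ∈ F) (hu1 : u ≠ 1)
    (hv1 : v ≠ 1) (hw1 : w ≠ 1) (hnorm : ∀ h ∈ E, ∀ u ∈ F, h * u * h⁻¹ ∈ F) :
    EConj E u v ∨ EConj E u w ∨ EConj E v w := by
  classical
  by_contra hcon
  push Not at hcon
  obtain ⟨huv, huw, hvw⟩ := hcon
  have hdisj : ∀ {x y : Γ}, ¬ EConj E x y → Disjoint (orbitFinset E x) (orbitFinset E y) := by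
    intro x y hxy
    rw [Finset.disjoint_left]
    intro z hzx hzy
    rw [mem_orbitFinset] at hzx hzy
    exact hxy (hzx.trans hzy.symm)
  have hsubF : ∀ {x : Γ}, x ∈ F → x ≠ 1 → orbitFinset E x ⊆ (toFinset' F).erase 1 := by
    intro x hx hx1 z hz
    rw [mem_orbitFinset] at hz
    rw [Finset.mem_erase, mem_toFinset']
    refine ⟨hz.ne_one hx1, ?_⟩
    obtain ⟨h, hh, rfl⟩ := hz
    exact hnorm h hh x hx
  have hunion : orbitFinset E u ∪ orbitFinset E v ∪ orbitFinset E w ⊆ (toFinset' F).erase 1 :=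
    Finset.union_subset (Finset.union_subset (hsubF hu hu1) (hsubF hv hv1)) (hsubF hw hw1)
  have hc := Finset.card_le_card hunion
  rw [Finset.card_union_of_disjoint, Finset.card_union_of_disjoint (hdisj huv),
    card_orbitFinset F E hfpf hu hu1, card_orbitFinset F E hfpf hv hv1,
    card_orbitFinset F E hfpf hw hw1,
    Finset.card_erase_of_mem ((mem_toFinset' F).mpr F.one_mem), card_toFinset'] at hc
  · have hE : 0 < Nat.card E := Nat.card_pos
    omega
  · rw [Finset.disjoint_union_left]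
    exact ⟨hdisj huw, hdisj hvw⟩

include hnorm hfpf hcard in
/-- `F` is abelian -/
theorem comm_of_fpf (hF : F ≠ ⊥) : ∀ u ∈ F, ∀ v ∈ F, u * v = v * u := by
  by_cases hev : Even (Nat.card E)
  · -- an involution in E
    obtain ⟨τ', hτ'⟩ := exists_prime_orderOf_dvd_card' (G := E) 2 (even_iff_two_dvd.mp hev)
    have hτo : orderOf (τ' : Γ) = 2 := by rw [Subgroup.orderOf_coe, hτ']
    have hτ2 : (τ' : Γ) * τ' = 1 := by rw [← pow_two, ← hτo, pow_orderOf_eq_one]
    have hτ1 : (τ' : Γ) ≠ 1 := by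
      intro h
      rw [h, orderOf_one] at hτo
      omega
    have hτfpf : ∀ u ∈ F, (τ' : Γ) * u * (τ' : Γ)⁻¹ = u → u = 1 := by
      intro u hu h
      by_contra hu1
      exact hτ1 (hfpf _ τ'.2 u hu hu1 h)
    exact comm_of_inverted F (inv_of_fpf_involution F hτ2 (hnorm _ τ'.2) hτfpf)
  · by_cases hex2 : ∀ u ∈ F, u * u = 1
    · intro u hu v hv
      have h1 := hex2 (u * v) (F.mul_mem hu hv)
      have h2 := hex2 u hu
      have h3 := hex2 v hv
      calc u * v = u * v * (v * u * (v * u)) * (u * v)⁻¹ * (u * v) := by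
            rw [hex2 (v * u) (F.mul_mem hv hu)]; group
        _ = u * (v * v) * u * (v * u) * (u * v)⁻¹ * (u * v) := by group
        _ = v * u := by rw [h3, mul_one, h2]; group
    · push Not at hex2
      obtain ⟨u₀, hu₀, hu₀2⟩ := hex2
      have hu₀1 : u₀ ≠ 1 := by rintro rfl; exact hu₀2 (mul_one 1)
      have hu₀i1 : u₀⁻¹ ≠ 1 := fun h => hu₀1 (inv_eq_one.mp h)
      have hu₀i : u₀⁻¹ ∈ F := F.inv_mem hu₀
      -- u₀ is not conjugate to its inverse
      have hnc : ¬ EConj E u₀ u₀⁻¹ := by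
        rintro ⟨h, hh, hconj⟩
        have h2 : (h * h) * u₀ * (h * h)⁻¹ = u₀ := by
          calc (h * h) * u₀ * (h * h)⁻¹ = h * (h * u₀ * h⁻¹) * h⁻¹ := by group
            _ = h * u₀⁻¹ * h⁻¹ := by rw [hconj]
            _ = (h * u₀ * h⁻¹)⁻¹ := by group
            _ = u₀ := by rw [hconj, inv_inv]
        have hhh : h * h = 1 := hfpf _ (E.mul_mem hh hh) u₀ hu₀ hu₀1 h2
        have ho2 : orderOf h ∣ 2 := orderOf_dvd_of_pow_eq_one (by rw [pow_two, hhh])
        have hoE : orderOf h ∣ Nat.card E := by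
          have := orderOf_dvd_natCard (⟨h, hh⟩ : E)
          rwa [Subgroup.orderOf_mk] at this
        have ho1 : orderOf h = 1 := by
          have hodd : ¬ 2 ∣ Nat.card E := fun h => hev (even_iff_two_dvd.mpr h)
          rcases (Nat.dvd_prime Nat.prime_two).mp ho2 with h1 | h2'
          · exact h1
          · rw [h2'] at hoE; exact absurd hoE hodd
        rw [orderOf_eq_one_iff] at ho1
        rw [ho1] at hconj
        apply hu₀2
        have : u₀ = u₀⁻¹ := by rw [← hconj]; group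
        calc u₀ * u₀ = u₀ * u₀⁻¹ := by rw [← this]
          _ = 1 := mul_inv_cancel u₀
      -- all elements have the same order
      have hord : ∀ w ∈ F, w ≠ 1 → orderOf w = orderOf u₀ := by
        intro w hw hw1
        rcases econj_of_three F E hfpf hcard hu₀ hu₀i hw hu₀1 hu₀i1 hw1 hnorm with h | h | h
        · exact absurd h hnc
        · exact h.orderOf_eq.symm
        · rw [← h.orderOf_eq, orderOf_inv]
      set m := orderOf u₀ with hm
      have hm0 : 0 < m := by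
        have : IsOfFinOrder (⟨u₀, hu₀⟩ : F) := isOfFinOrder_of_finite _
        rw [hm, ← Subgroup.orderOf_mk u₀ hu₀]
        exact this.orderOf_pos
      have hm1 : m ≠ 1 := by
        intro h
        rw [hm, orderOf_eq_one_iff] at h
        exact hu₀1 h
      -- m is prime
      have hp : (m.minFac).Prime := Nat.minFac_prime hm1
      obtain ⟨c, hc⟩ := Nat.minFac_dvd m
      have hc0 : c ≠ 0 := by rintro rfl; omega
      have hw₀o : orderOf (u₀ ^ c) = m.minFac := by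
        have hdvd : c ∣ orderOf u₀ := ⟨m.minFac, by rw [← hm, mul_comm]; exact hc⟩
        rw [orderOf_pow_of_dvd hc0 hdvd, ← hm]
        exact Nat.div_eq_of_eq_mul_left (Nat.pos_of_ne_zero hc0) hc
      have hw₀1 : u₀ ^ c ≠ 1 := by
        intro h
        rw [h, orderOf_one] at hw₀o
        exact hp.one_lt.ne hw₀o
      have hmp : m.minFac = m := by
        rw [← hw₀o]
        exact hord _ (F.pow_mem hu₀ c) hw₀1
      rw [hmp] at hp
      have : Fact m.Prime := ⟨hp⟩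
      have hexp : ∀ w ∈ F, w ^ m = 1 := by
        intro w hw
        by_cases hw1 : w = 1
        · rw [hw1, one_pow]
        · rw [← hord w hw hw1, pow_orderOf_eq_one]
      -- F is a p-group with nontrivial center
      have hpg : IsPGroup m F := fun g => ⟨1, by
        rw [pow_one]
        exact Subtype.ext (hexp g g.2)⟩
      have hnt : Nontrivial F := by
        rw [Subgroup.nontrivial_iff_ne_bot]
        exact hF
      have hcen := hpg.center_nontrivial
      set S := (Subgroup.center F).map F.subtype with hS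
      have hSF : S ≤ F := by
        rintro x ⟨z, -, rfl⟩
        exact z.2
      have hSne : S ≠ ⊥ := by
        obtain ⟨z, hz⟩ := (Subgroup.nontrivial_iff_exists_ne_one _).mp hcen
        intro hbot
        have : (z : Γ) ∈ S := ⟨z, hz.1, rfl⟩
        rw [hbot, Subgroup.mem_bot] at this
        exact hz.2 (Subtype.ext this)
      have hSinv : ∀ h ∈ E, ∀ s ∈ S, h * s * h⁻¹ ∈ S := by
        rintro h hh s ⟨z, hz, rfl⟩
        refine ⟨⟨h * z * h⁻¹, hnorm h hh z z.2⟩, ?_, rfl⟩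
        rw [SetLike.mem_coe, Subgroup.mem_center_iff] at hz ⊢
        intro x
        apply Subtype.ext
        have hx' : h⁻¹ * x * h ∈ F := by
          have := hnorm h⁻¹ (E.inv_mem hh) x x.2
          rwa [inv_inv] at this
        have hcomm := congrArg Subtype.val (hz ⟨h⁻¹ * x * h, hx'⟩)
        simp only [Subgroup.coe_mul] at hcomm ⊢
        calc (x : Γ) * (h * z * h⁻¹) = h * ((h⁻¹ * x * h) * z) * h⁻¹ := by group
          _ = h * (z * (h⁻¹ * x * h)) * h⁻¹ := by rw [hcomm]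
          _ = h * z * h⁻¹ * x := by group
      have hSeq := invariant_subgroup_eq F E hfpf hcard S hSF hSinv hSne
      intro u hu v hv
      have huS : u ∈ S := by rw [hSeq]; exact hu
      obtain ⟨z, hz, rfl⟩ := huS
      rw [SetLike.mem_coe, Subgroup.mem_center_iff] at hz
      have := congrArg Subtype.val (hz ⟨v, hv⟩)
      simp only [Subgroup.coe_mul] at this
      exact this.symm

include hnorm hfpf hcard in
/-- `F` is elementary abelian -/
theorem elementary_abelian_of_fpf (hF : F ≠ ⊥) :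
    (∀ u ∈ F, ∀ v ∈ F, u * v = v * u) ∧ ∃ p : ℕ, p.Prime ∧ ∀ u ∈ F, u ^ p = 1 := by
  have hab := comm_of_fpf F E hnorm hfpf hcard hF
  refine ⟨hab, ?_⟩
  have hF1 : Nat.card F ≠ 1 := by
    intro h
    exact hF ((Subgroup.card_eq_one).mp h)
  set p := (Nat.card F).minFac with hp
  have hpp : p.Prime := Nat.minFac_prime hF1
  have : Fact p.Prime := ⟨hpp⟩
  obtain ⟨u₁, hu₁⟩ := exists_prime_orderOf_dvd_card' (G := F) p (Nat.minFac_dvd _)
  refine ⟨p, hpp, ?_⟩
  -- the subgroup of elements of order dividing p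
  let S : Subgroup Γ :=
    { carrier := {x | x ∈ F ∧ x ^ p = 1}
      mul_mem' := by
        rintro x y ⟨hx, hxp⟩ ⟨hy, hyp⟩
        refine ⟨F.mul_mem hx hy, ?_⟩
        have hc : Commute x y := hab x hx y hy
        rw [hc.mul_pow, hxp, hyp, one_mul]
      one_mem' := ⟨F.one_mem, one_pow _⟩
      inv_mem' := by
        rintro x ⟨hx, hxp⟩
        exact ⟨F.inv_mem hx, by rw [inv_pow, hxp, inv_one]⟩ }
  have hSmem : ∀ x, x ∈ S ↔ x ∈ F ∧ x ^ p = 1 := fun x => Iff.rfl
  have hSF : S ≤ F := fun x hx => hx.1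
  have hSinv : ∀ h ∈ E, ∀ s ∈ S, h * s * h⁻¹ ∈ S := by
    intro h hh s hs
    rw [hSmem] at hs ⊢
    refine ⟨hnorm h hh s hs.1, ?_⟩
    rw [conj_pow, hs.2]; group
  have hSne : S ≠ ⊥ := by
    intro hbot
    have h1 : (u₁ : Γ) ∈ S := by
      rw [hSmem]
      refine ⟨u₁.2, ?_⟩
      rw [← hu₁, ← Subgroup.orderOf_coe, pow_orderOf_eq_one]
    rw [hbot, Subgroup.mem_bot] at h1
    have : u₁ = 1 := Subtype.ext h1
    rw [this, orderOf_one] at hu₁
    exact hpp.one_lt.ne hu₁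
  have hSeq := invariant_subgroup_eq F E hfpf hcard S hSF hSinv hSne
  intro u hu
  have : u ∈ S := by rw [hSeq]; exact hu
  exact this.2

end

end Cfsg.Agent.Helper60.FpfAction
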