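import Mathlib

/-!
# Small generic lemmas for the B-G "assembly" statements (helper60)
-/

set_option autoImplicit false
open Subgroup

namespace Cfsg.Agent.Helper60.BGAsm

variable {G : Type*} [Group G]

/-- a nontrivial element of a finite group has a power of prime order -/
theorem exists_prime_card_le_zpowers [Finite G] {k : G} (hk1 : k ≠ 1) :
    ∃ X : Subgroup G, X ≤ zpowers k ∧ (Nat.card X).Prime := by
  have h1 : orderOf k ≠ 1 := fun h => hk1 (orderOf_eq_one_iff.mp h)
  obtain ⟨p, hp, hpk⟩ := Nat.exists_prime_and_dvd h1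
  have h0 : orderOf k ≠ 0 := (orderOf_pos k).ne'
  refine ⟨zpowers (k ^ (orderOf k / p)), ?_, ?_⟩
  · rw [zpowers_le]
    exact pow_mem (mem_zpowers k) _
  · rw [Nat.card_zpowers, orderOf_pow_orderOf_div h0 hpk]
    exact hp

/-- an element commuting with `k` normalizes every subgroup of `⟨k⟩` -/
theorem mem_normalizer_of_commute_of_le_zpowers {k u : G} {X : Subgroup G} (hX : X ≤ zpowers k)
    (hu : u * k = k * u) : u ∈ normalizer (X : Set G) := by
  have key : ∀ x ∈ X, u * x * u⁻¹ = x := by
    intro x hx
    obtain ⟨n, rfl⟩ := mem_zpowers_iff.mp (hX hx)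
    have h1 : Commute u k := hu
    have h2 : Commute u (k ^ n) := h1.zpow_right n
    rw [h2.eq, mul_inv_cancel_right]
  rw [mem_normalizer_iff]
  intro x
  constructor
  · intro hx
    rw [key x hx]; exact hx
  · intro hx
    have h2 := key _ hx
    have h3 : u * x * u⁻¹ = x := by
      have : u * (u * x * u⁻¹) * u⁻¹ = u * x * u⁻¹ := h2
      have h4 : u * x * u⁻¹ = u⁻¹ * (u * (u * x * u⁻¹) * u⁻¹) * u := by group
      rw [this] at h4
      have h5 : u⁻¹ * (u * x * u⁻¹) * u = x := by group
      rw [h5] at h4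
      exact h4
    rw [← h3]; exact hx

/-- a subgroup of index prime to `p` contains a Sylow `p`-subgroup -/
theorem exists_sylow_le_of_not_dvd_index {H : Type*} [Group H] [Finite H] {p : ℕ} [Fact p.Prime]
    (K : Subgroup H) (hK : ¬ p ∣ K.index) : ∃ P : Sylow p H, (P : Subgroup H) ≤ K := by
  have hp : p.Prime := Fact.out
  obtain ⟨Q⟩ : Nonempty (Sylow p K) := inferInstance
  have hQ' : IsPGroup p ((Q : Subgroup K).map K.subtype) := Q.2.map K.subtype
  obtain ⟨P, hP⟩ := hQ'.exists_le_sylow
  refine ⟨P, ?_⟩
  have h1 : Nat.card ((Q : Subgroup K).map K.subtype) = p ^ (Nat.card K).factorization p := by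
    rw [Subgroup.card_subtype]; exact Q.card_eq_multiplicity
  have h2 : Nat.card (P : Subgroup H) = p ^ (Nat.card H).factorization p := P.card_eq_multiplicity
  have h3 : (Nat.card H).factorization p = (Nat.card K).factorization p := by
    rw [← K.card_mul_index, Nat.factorization_mul Nat.card_pos.ne' K.index_ne_zero_of_finite]
    simp [Nat.factorization_eq_zero_of_not_dvd hK]
  have h4 : (Q : Subgroup K).map K.subtype = (P : Subgroup H) := by
    apply Subgroup.eq_of_le_of_card_ge hP
    rw [h1, h2, h3]
  rw [← h4]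
  exact Subgroup.map_subtype_le _

end Cfsg.Agent.Helper60.BGAsm
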