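import Mathlib
import Cfsg.Prelude.Def_OddOrderLocal
import Cfsg.Prelude.Def_OddOrder
import Cfsg.Agent.Lib.Hall
import Cfsg.Agent.Helper1.Carter
import Cfsg.Agent.Helper2.SubSZ
import Cfsg.Agent.Helper60.BGAsmB
import Cfsg.Agent.Helper60.BGAsmD

/-!
# Bender--Glauberman Theorem 15.1-type fusion statement (S1438, part (b)): generic part (helper60)

Let `T` be a finite solvable group, `F ≤ L` normal subgroups of `T` with `F` nilpotent and the image
of `L` in `T ⧸ F` nilpotent, and let `H` be a Hall subgroup of `L`.  Then `N_T(H)` controls fusion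
in `H` with respect to `T` (`fusion_in_hall`).
-/

set_option autoImplicit false
set_option linter.unusedVariables false
set_option linter.style.haveILetI false
set_option linter.unusedSectionVars false

namespace Cfsg.Agent.Helper60.BG151

open Subgroup Cfsg.Agent.Helper60.BGAsm
open scoped Pointwise

universe u

variable {T : Type u} [Group T]

/-- the conjugate subgroup `m H m⁻¹` -/
theorem mem_map_conj_iff {A : Subgroup T} {m x : T} :
    x ∈ A.map (MulAut.conj m).toMonoidHom ↔ m⁻¹ * x * m ∈ A := by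
  constructor
  · rintro ⟨a, ha, rfl⟩
    have : m⁻¹ * ((MulAut.conj m).toMonoidHom a) * m = a := by
      simp [MulAut.conj_apply, mul_assoc]
    rw [this]; exact ha
  · intro h
    refine ⟨m⁻¹ * x * m, h, ?_⟩
    simp [MulAut.conj_apply, mul_assoc]

theorem card_map_conj (A : Subgroup T) (m : T) :
    Nat.card (A.map (MulAut.conj m).toMonoidHom) = Nat.card A :=
  Subgroup.card_map_of_injective (MulAut.conj m).injective

theorem conj_smul_eq_map' (g : T) (A : Subgroup T) :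
    MulAut.conj g • A = A.map (MulAut.conj g).toMonoidHom := by
  ext x
  rw [Subgroup.mem_smul_pointwise_iff_exists, Subgroup.mem_map]
  rfl

/-- a Hall subgroup of prescribed order of a nilpotent subgroup `F`; it is normalized by `F` -/
theorem exists_hall_of_nilpotent [Finite T] (F : Subgroup T) (hF : Group.IsNilpotent F) (a b : ℕ)
    (hab : Nat.card F = b * a) (hcop : b.Coprime a) :
    ∃ N0 : Subgroup T, N0 ≤ F ∧ Nat.card N0 = b ∧ F ≤ normalizer (N0 : Set T) := by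
  haveI := hF
  haveI : Group.IsSolvable F := inferInstance
  obtain ⟨N0', hN0'⟩ := Cfsg.Agent.Lib.hall_exists (G := ↥F) b a hab hcop
  have hb0 : 0 < b := by
    rcases Nat.eq_zero_or_pos b with h | h
    · rw [h, zero_mul] at hab
      exact absurd hab (Nat.card_pos).ne'
    · exact h
  have hidx : N0'.index = a := by
    have h1 := Subgroup.card_mul_index N0'
    rw [hN0', hab] at h1
    exact Nat.eq_of_mul_eq_mul_left hb0 h1
  have hn : N0'.Normal :=
    Cfsg.Agent.Helper1.normal_of_hall_of_isNilpotent N0' (by rw [hN0', hidx]; exact hcop)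
  refine ⟨N0'.map F.subtype, Subgroup.map_subtype_le _, ?_, ?_⟩
  · rw [Subgroup.card_map_of_injective F.subtype_injective, hN0']
  · apply le_normalizer_of_forall_conj_mem
    rintro f hf _ ⟨x, hx, rfl⟩
    exact ⟨⟨f, hf⟩ * x * ⟨f, hf⟩⁻¹, hn.conj_mem x hx _, rfl⟩

/-- a Hall subgroup `N0` of a normal subgroup `F` of `T` which is normal in `F` is normal in `T` -/
theorem normal_of_normal_hall [Finite T] {F N0 : Subgroup T} [hFn : F.Normal] (hN0F : N0 ≤ F)
    (hFN : F ≤ normalizer (N0 : Set T)) (hcop : (Nat.card N0).Coprime (N0.relIndex F)) :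
    N0.Normal := by
  constructor
  intro n hn t
  have h1 : N0.map (MulAut.conj t).toMonoidHom ≤ F := by
    rintro _ ⟨y, hy, rfl⟩
    exact hFn.conj_mem y (hN0F hy) t
  have h2 : N0.map (MulAut.conj t).toMonoidHom ≤ N0 :=
    le_of_coprime_relIndex hFN h1 (by rw [card_map_conj]; exact hcop)
  exact h2 ⟨n, hn, rfl⟩

/-- the quotient step: `m H m⁻¹ ≤ H F` -/
theorem map_conj_le_sup [Finite T] (F L H : Subgroup T) [hFn : F.Normal] [hLn : L.Normal]
    (hFL : F ≤ L)
    (hLnil : Group.IsNilpotent (L.map (QuotientGroup.mk' F))) (hHL : H ≤ L)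
    (hHall : (Nat.card H).Coprime (H.relIndex L)) (m : T) :
    H.map (MulAut.conj m).toMonoidHom ≤ H ⊔ F := by
  obtain ⟨π, hπ⟩ : ∃ π : T →* T ⧸ F, π = QuotientGroup.mk' F := ⟨_, rfl⟩
  rw [← hπ] at hLnil
  have hker : π.ker = F := by rw [hπ]; exact QuotientGroup.ker_mk' F
  have hle : H.map π ≤ L.map π := Subgroup.map_mono hHL
  have hrel : (H.map π).relIndex (L.map π) ∣ H.relIndex L := by
    rw [Subgroup.relIndex_map_map, hker, sup_eq_left.mpr hFL]
    exact Subgroup.relIndex_dvd_of_le_left L le_sup_left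
  have hcop : (Nat.card (H.map π)).Coprime ((H.map π).relIndex (L.map π)) :=
    Nat.Coprime.coprime_dvd_left (Subgroup.card_map_dvd H π)
      (Nat.Coprime.coprime_dvd_right hrel hHall)
  -- `H̄` is normal in the nilpotent group `L̄`
  have hnorm : L.map π ≤ normalizer ((H.map π : Subgroup (T ⧸ F)) : Set (T ⧸ F)) := by
    haveI := hLnil
    have hQ : ((H.map π).subgroupOf (L.map π)).Normal := by
      apply Cfsg.Agent.Helper1.normal_of_hall_of_isNilpotent
      rw [Nat.card_congr (Subgroup.subgroupOfEquivOfLe hle).toEquiv]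
      exact hcop
    exact (Subgroup.normal_subgroupOf_iff_le_normalizer hle).mp hQ
  have hmL : (H.map (MulAut.conj m).toMonoidHom).map π ≤ L.map π := by
    apply Subgroup.map_mono
    rintro _ ⟨y, hy, rfl⟩
    exact hLn.conj_mem y (hHL hy) m
  have hcop2 : (Nat.card ((H.map (MulAut.conj m).toMonoidHom).map π)).Coprime
      ((H.map π).relIndex (L.map π)) := by
    apply Nat.Coprime.coprime_dvd_left (Subgroup.card_map_dvd _ π)
    rw [card_map_conj]
    exact Nat.Coprime.coprime_dvd_right hrel hHall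
  have h3 : (H.map (MulAut.conj m).toMonoidHom).map π ≤ H.map π :=
    le_of_coprime_relIndex hnorm hmL hcop2
  rw [Subgroup.map_le_iff_le_comap, Subgroup.comap_map_eq, hker] at h3
  exact h3

/-- `[F : H ∩ F]` divides `[L : H]` when `F ≤ L` is normal and `H ≤ L` -/
theorem relIndex_inf_dvd_of_normal [Finite T] {H F L : Subgroup T} [hFn : F.Normal] (hHL : H ≤ L)
    (hFL : F ≤ L) : (H ⊓ F).relIndex F ∣ H.relIndex L := by
  have c1 := card_mul_relIndex_of_le (inf_le_right : H ⊓ F ≤ F)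
  have c2 := card_mul_relIndex_of_le (inf_le_left : H ⊓ F ≤ H)
  have c3 := card_mul_relIndex_of_le (le_sup_right : F ≤ H ⊔ F)
  have c4 : F.relIndex (H ⊔ F) = F.relIndex H := Subgroup.relIndex_sup_right H F
  have c5 : F.relIndex H = (H ⊓ F).relIndex H := by
    rw [inf_comm]; exact (Subgroup.inf_relIndex_right F H).symm
  have c6 := card_mul_relIndex_of_le (le_sup_left : H ≤ H ⊔ F)
  have c7 := Subgroup.relIndex_mul_relIndex H (H ⊔ F) L le_sup_left (sup_le hHL hFL)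
  have key : H.relIndex (H ⊔ F) = (H ⊓ F).relIndex F := by
    have hpos : 0 < Nat.card H := Nat.card_pos
    apply Nat.eq_of_mul_eq_mul_left hpos
    rw [c6, ← c3, c4, c5, ← c1, ← c2]
    ring
  rw [← key, ← c7]
  exact Dvd.intro _ rfl

/-- the order of `N ⊔ K` for `N` normal and `N ⊓ K = ⊥` -/
theorem card_sup_of_normal_of_disjoint [Finite T] {N K : Subgroup T} [hNn : N.Normal]
    (h : N ⊓ K = ⊥) : Nat.card ↥(N ⊔ K) = Nat.card N * Nat.card K := by
  have c1 := card_mul_relIndex_of_le (le_sup_left : N ≤ N ⊔ K)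
  have c2 : N.relIndex (N ⊔ K) = N.relIndex K := Subgroup.relIndex_sup_left K N
  have c3 : N.relIndex K = Nat.card K := by
    rw [← Subgroup.inf_relIndex_right, h, Subgroup.relIndex_bot_left]
  rw [← c1, c2, c3]

/-- **Fusion in a Hall subgroup.**  `F ≤ L` normal in `T`, `F` nilpotent, `L F / F` nilpotent,
`H` a Hall subgroup of `L`: two elements of `H` conjugate in `T` are conjugate in `N_T(H)`. -/
theorem fusion_in_hall [Finite T] [Group.IsSolvable T] (F L H : Subgroup T) [hFn : F.Normal]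
    [hLn : L.Normal] (hFnil : Group.IsNilpotent F) (hFL : F ≤ L)
    (hLnil : Group.IsNilpotent (L.map (QuotientGroup.mk' F))) (hHL : H ≤ L)
    (hHall : (Nat.card H).Coprime (H.relIndex L))
    {x : T} (hx : x ∈ H) (m : T) (hy : m * x * m⁻¹ ∈ H) :
    ∃ n ∈ normalizer (H : Set T), n * x * n⁻¹ = m * x * m⁻¹ := by
  obtain ⟨a, ha⟩ : ∃ a, a = Nat.card ↥(H ⊓ F) := ⟨_, rfl⟩
  obtain ⟨b, hb⟩ : ∃ b, b = (H ⊓ F).relIndex F := ⟨_, rfl⟩
  have hbdvd : b ∣ H.relIndex L := hb ▸ relIndex_inf_dvd_of_normal hHL hFL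
  have hadvd : a ∣ Nat.card H := ha ▸ Subgroup.card_dvd_of_le inf_le_left
  have hcopHb : (Nat.card H).Coprime b := Nat.Coprime.coprime_dvd_right hbdvd hHall
  have hcopab : b.Coprime a := (Nat.Coprime.coprime_dvd_left hadvd hcopHb).symm
  have hcardF : Nat.card F = b * a := by
    rw [ha, hb, mul_comm]; exact (card_mul_relIndex_of_le inf_le_right).symm
  have hb0 : 0 < b := by
    rcases Nat.eq_zero_or_pos b with h | h
    · rw [h, zero_mul] at hcardF
      exact absurd hcardF (Nat.card_pos).ne'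
    · exact h
  obtain ⟨N0, hN0F, hN0card, hFN0⟩ := exists_hall_of_nilpotent F hFnil a b hcardF hcopab
  have hN0rel : N0.relIndex F = a := by
    have h1 := card_mul_relIndex_of_le hN0F
    rw [hN0card, hcardF] at h1
    exact Nat.eq_of_mul_eq_mul_left hb0 h1
  haveI hN0n : N0.Normal :=
    normal_of_normal_hall hN0F hFN0 (by rw [hN0card, hN0rel]; exact hcopab)
  have hdisj : N0 ⊓ H = ⊥ :=
    inf_eq_bot_of_coprime_card (by rw [hN0card]; exact hcopHb.symm)
  -- `F ≤ N0 H`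
  have hFJ : F ≤ N0 ⊔ H := by
    have h1 : N0 ⊔ (H ⊓ F) ≤ F := sup_le hN0F inf_le_right
    have h0 : N0 ⊓ (H ⊓ F) = ⊥ := by
      rw [← inf_assoc, hdisj, bot_inf_eq]
    have h2 : Nat.card ↥(N0 ⊔ (H ⊓ F)) = b * a := by
      rw [card_sup_of_normal_of_disjoint h0, hN0card, ← ha]
    have h3 : N0 ⊔ (H ⊓ F) = F := Subgroup.eq_of_le_of_card_ge h1 (by rw [h2, hcardF])
    rw [← h3]; exact sup_le_sup_left inf_le_left _
  obtain ⟨J, hJ⟩ : ∃ J, J = N0 ⊔ H := ⟨_, rfl⟩
  obtain ⟨Hm, hHmdef⟩ : ∃ Hm, Hm = H.map (MulAut.conj m).toMonoidHom := ⟨_, rfl⟩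
  have hN0J : N0 ≤ J := hJ ▸ le_sup_left
  have hHJ : H ≤ J := hJ ▸ le_sup_right
  have hHm : Hm ≤ J := by
    rw [hHmdef]
    refine (map_conj_le_sup F L H hFL hLnil hHL hHall m).trans ?_
    rw [hJ]; exact sup_le le_sup_right hFJ
  have hcardHm : Nat.card Hm = Nat.card H := by rw [hHmdef, card_map_conj]
  have hcardJ : Nat.card J = Nat.card N0 * Nat.card H := by
    rw [hJ, card_sup_of_normal_of_disjoint hdisj]
  have hdisj2 : N0 ⊓ Hm = ⊥ :=
    inf_eq_bot_of_coprime_card (by rw [hN0card, hcardHm]; exact hcopHb.symm)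
  have hJ2 : N0 ⊔ Hm = J :=
    Subgroup.eq_of_le_of_card_ge (sup_le hN0J hHm)
      (by rw [card_sup_of_normal_of_disjoint hdisj2, hcardHm, hcardJ])
  have hp1 : ∀ j ∈ J, ∃ a ∈ N0, ∃ c ∈ H, j = a * c := by
    intro j hj
    rw [hJ] at hj
    have hj' : j ∈ ((N0 ⊔ H : Subgroup T) : Set T) := hj
    rw [Subgroup.normal_mul] at hj'
    obtain ⟨a, ha, c, hc, rfl⟩ := hj'
    exact ⟨a, ha, c, hc, rfl⟩
  have hp2 : ∀ j ∈ J, ∃ a ∈ N0, ∃ c ∈ Hm, j = a * c := by
    intro j hj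
    rw [← hJ2] at hj
    have hj' : j ∈ ((N0 ⊔ Hm : Subgroup T) : Set T) := hj
    rw [Subgroup.normal_mul] at hj'
    obtain ⟨a, ha, c, hc, rfl⟩ := hj'
    exact ⟨a, ha, c, hc, rfl⟩
  have hrelJ : N0.relIndex J = Nat.card H := by
    have h1 := card_mul_relIndex_of_le hN0J
    rw [hcardJ] at h1
    exact Nat.eq_of_mul_eq_mul_left Nat.card_pos h1
  have hJn : J ≤ normalizer (N0 : Set T) := by
    rw [Subgroup.normalizer_eq_top_iff.mpr hN0n]; exact le_top
  obtain ⟨j, hjJ, hj⟩ := Cfsg.Agent.Helper2.exists_conj_of_compl N0 J H Hm hN0J hJn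
    (by rw [hrelJ, hN0card]; exact hcopHb.symm) inferInstance hHJ hdisj hp1 hHm hdisj2 hp2
  obtain ⟨a0, ha0, c0, hc0, rfl⟩ := hp1 j hjJ
  rw [conj_smul_eq_map', hHmdef] at hj
  -- the key equivalence
  have key : ∀ z : T, (a0 * c0)⁻¹ * z * (a0 * c0) ∈ H ↔ m⁻¹ * z * m ∈ H := by
    intro z
    rw [← mem_map_conj_iff, ← mem_map_conj_iff, hj]
  have hcH : ∀ w : T, c0⁻¹ * w * c0 ∈ H ↔ w ∈ H := by
    intro w
    constructor
    · intro h
      have := H.mul_mem (H.mul_mem hc0 h) (H.inv_mem hc0)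
      simpa [mul_assoc] using this
    · intro h
      exact H.mul_mem (H.mul_mem (H.inv_mem hc0) h) hc0
  have key2 : ∀ z : T, a0⁻¹ * z * a0 ∈ H ↔ m⁻¹ * z * m ∈ H := by
    intro z
    rw [← key z, ← hcH (a0⁻¹ * z * a0)]
    have : c0⁻¹ * (a0⁻¹ * z * a0) * c0 = (a0 * c0)⁻¹ * z * (a0 * c0) := by group
    rw [this]
  -- `a0` centralizes `y`
  have hyH : a0⁻¹ * (m * x * m⁻¹) * a0 ∈ H := by
    rw [key2]
    have : m⁻¹ * (m * x * m⁻¹) * m = x := by group
    rw [this]; exact hx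
  have hz1 : a0⁻¹ * (m * x * m⁻¹) * a0 * (m * x * m⁻¹)⁻¹ ∈ H := H.mul_mem hyH (H.inv_mem hy)
  have hz2 : a0⁻¹ * (m * x * m⁻¹) * a0 * (m * x * m⁻¹)⁻¹ ∈ N0 := by
    have h1 : (m * x * m⁻¹) * a0 * (m * x * m⁻¹)⁻¹ ∈ N0 := hN0n.conj_mem a0 ha0 _
    have h2 := N0.mul_mem (N0.inv_mem ha0) h1
    have : a0⁻¹ * ((m * x * m⁻¹) * a0 * (m * x * m⁻¹)⁻¹) =
        a0⁻¹ * (m * x * m⁻¹) * a0 * (m * x * m⁻¹)⁻¹ := by group
    rwa [this] at h2
  have hz : a0⁻¹ * (m * x * m⁻¹) * a0 * (m * x * m⁻¹)⁻¹ = 1 := by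
    have : a0⁻¹ * (m * x * m⁻¹) * a0 * (m * x * m⁻¹)⁻¹ ∈ N0 ⊓ H := ⟨hz2, hz1⟩
    rwa [hdisj, Subgroup.mem_bot] at this
  have hcomm : a0⁻¹ * (m * x * m⁻¹) * a0 = m * x * m⁻¹ := by
    rwa [mul_inv_eq_one] at hz
  refine ⟨a0⁻¹ * m, ?_, ?_⟩
  · rw [Subgroup.mem_normalizer_iff]
    intro h
    have h1 := key2 (m * h * m⁻¹)
    have e1 : m⁻¹ * (m * h * m⁻¹) * m = h := by group
    have e2 : a0⁻¹ * (m * h * m⁻¹) * a0 = a0⁻¹ * m * h * (a0⁻¹ * m)⁻¹ := by group
    rw [e1, e2] at h1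
    exact h1.symm
  · have e : a0⁻¹ * m * x * (a0⁻¹ * m)⁻¹ = a0⁻¹ * (m * x * m⁻¹) * a0 := by group
    rw [e, hcomm]

end Cfsg.Agent.Helper60.BG151
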