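import Mathlib
import Cfsg.Prelude.Def_OddOrderLocal
import Cfsg.Agent.Helper62.CoprimeHall
import Cfsg.Agent.Helper67.CyclicSub
import Cfsg.Agent.Helper71.BGHall
import Cfsg.Agent.Helper60.BGAsmD
import Cfsg.Agent.Helper60.BG151B

/-!
# Lemma J for THEOREM N3 (helper70 #3647), helper60

A pure finite-group lemma: in a solvable group `K` whose `t`- and `t'`-subgroups are cyclic, a
subgroup `Xt` of order `t` and a conjugate `X''` of a subgroup `X'` of order `t'` lie in a common
Hall `{t,t'}`-subgroup `J`, and `J` has a normal Sylow subgroup (Burnside's transfer theorem for the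
smallest prime); so `Xt` normalizes `X''` or conversely.
-/

set_option autoImplicit false
set_option linter.unusedVariables false
set_option linter.style.haveILetI false
set_option linter.unusedSectionVars false

namespace Cfsg.Agent.Helper60.BG14J

open Subgroup Cfsg.Agent.Helper60.BGAsm Cfsg.Agent.Helper60.BG151

/-- If the Sylow subgroup for the smallest prime `p` of `Γ` is cyclic, `|Γ|` involves only `p` and
`q`, and the `q`-subgroups are cyclic, then every subgroup of order `q` is normal. -/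
theorem normal_of_minFac_cyclic {Γ : Type*} [Group Γ] [Finite Γ] {p q : ℕ}
    (hp : (Nat.card Γ).minFac = p) (hq : q.Prime) (hpq : p ≠ q)
    (hpr : ∀ r : ℕ, r.Prime → r ∣ Nat.card Γ → r = p ∨ r = q)
    (hcycp : ∀ S : Subgroup Γ, IsPGroup p S → IsCyclic S)
    (hcycq : ∀ S : Subgroup Γ, IsPGroup q S → IsCyclic S)
    (B : Subgroup Γ) (hB : Nat.card B = q) : B.Normal := by
  have hqΓ : q ∣ Nat.card Γ := hB ▸ Subgroup.card_subgroup_dvd_card B
  have hΓ1 : Nat.card Γ ≠ 1 := by
    intro h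
    rw [h] at hqΓ
    exact hq.one_lt.ne' (Nat.dvd_one.mp hqΓ)
  have hpp : p.Prime := hp ▸ Nat.minFac_prime hΓ1
  haveI : Fact p.Prime := ⟨hpp⟩
  obtain ⟨P⟩ : Nonempty (Sylow p Γ) := inferInstance
  have hP : IsCyclic P := hcycp P P.isPGroup'
  obtain ⟨N, hNdef⟩ : ∃ N : Subgroup Γ,
      N = (MonoidHom.transferSylow P (hP.normalizer_le_centralizer hp)).ker := ⟨_, rfl⟩
  have hcompl : N.IsComplement' P := by
    rw [hNdef]; exact IsCyclic.isComplement' hp hP
  haveI hNn : N.Normal := by rw [hNdef]; infer_instance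
  have hNidx : N.index = Nat.card P := hcompl.symm.index_eq_card
  have hNcard : Nat.card N = (P : Subgroup Γ).index := (hcompl.index_eq_card).symm
  have hpN : ¬ p ∣ Nat.card N := by rw [hNcard]; exact P.not_dvd_index
  have hNq : IsPGroup q N := by
    have h1 : Nat.card N = q ^ (Nat.card N).primeFactorsList.length := by
      apply Nat.eq_prime_pow_of_unique_prime_dvd Nat.card_pos.ne'
      intro d hd hdN
      rcases hpr d hd (hdN.trans (Subgroup.card_subgroup_dvd_card N)) with h | h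
      · exact absurd (h ▸ hdN) hpN
      · exact h
    haveI : Fact q.Prime := ⟨hq⟩
    exact IsPGroup.of_card h1
  have hNc : IsCyclic N := hcycq N hNq
  have hBN : B ≤ N := by
    apply le_of_coprime_relIndex (M := ⊤) (by rw [Subgroup.normalizer_eq_top_iff.mpr hNn]) le_top
    rw [Subgroup.relIndex_top_right, hNidx, hB]
    obtain ⟨k, hk⟩ := P.isPGroup'.exists_card_eq
    rw [hk]
    exact Nat.Coprime.pow_right _ ((Nat.coprime_primes hq hpp).mpr (Ne.symm hpq))
  constructor
  intro b hb g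
  have h1 : B.map (MulAut.conj g).toMonoidHom ≤ N := by
    rintro _ ⟨y, hy, rfl⟩
    exact hNn.conj_mem y (hBN hy) g
  have h2 : B.map (MulAut.conj g).toMonoidHom = B :=
    Cfsg.Agent.Helper67.eq_of_card_eq_of_le_cyclic N _ _ h1 hBN (card_map_conj B g)
  have h3 : g * b * g⁻¹ ∈ B.map (MulAut.conj g).toMonoidHom := ⟨b, hb, rfl⟩
  rwa [h2] at h3

/-- a `{t,t'}`-group with cyclic Sylow subgroups: of two subgroups of orders `t` and `t'`, one is
normal -/
theorem normal_or_normal {Γ : Type*} [Group Γ] [Finite Γ] {t t' : ℕ} (ht : t.Prime)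
    (ht' : t'.Prime) (hne : t ≠ t')
    (hpr : ∀ r : ℕ, r.Prime → r ∣ Nat.card Γ → r = t ∨ r = t')
    (hcyc : ∀ S : Subgroup Γ, IsPGroup t S → IsCyclic S)
    (hcyc' : ∀ S : Subgroup Γ, IsPGroup t' S → IsCyclic S)
    (A B : Subgroup Γ) (hA : Nat.card A = t) (hB : Nat.card B = t') : A.Normal ∨ B.Normal := by
  have htΓ : t ∣ Nat.card Γ := hA ▸ Subgroup.card_subgroup_dvd_card A
  have hΓ1 : Nat.card Γ ≠ 1 := by
    intro h
    rw [h] at htΓ
    exact ht.one_lt.ne' (Nat.dvd_one.mp htΓ)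
  rcases hpr _ (Nat.minFac_prime hΓ1) (Nat.minFac_dvd _) with h | h
  · exact Or.inr (normal_of_minFac_cyclic h ht' hne hpr hcyc hcyc' B hB)
  · exact Or.inl (normal_of_minFac_cyclic h ht (Ne.symm hne)
      (fun r hr hrd => (hpr r hr hrd).symm) hcyc' hcyc A hA)

/-- **Lemma J** (helper70 #3647). -/
theorem lemma_J {X : Type*} [Group X] [Finite X] (K : Subgroup X) [Group.IsSolvable K]
    {t t' : ℕ} (ht : t.Prime) (ht' : t'.Prime) (hne : t ≠ t')
    (hcyc : ∀ S : Subgroup X, S ≤ K → IsPGroup t S → IsCyclic S)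
    (hcyc' : ∀ S : Subgroup X, S ≤ K → IsPGroup t' S → IsCyclic S)
    (Xt X' D' N N' : Subgroup X) (hXtK : Xt ≤ K) (hXt : Nat.card Xt = t) (hX'D : X' ≤ D')
    (hD'K : D' ≤ K) (hX' : Nat.card X' = t')
    (hN : K ⊓ Subgroup.normalizer (Xt : Set X) ≤ N)
    (hN' : K ⊓ Subgroup.normalizer (X' : Set X) ≤ N')
    (hcent : ∀ g ∈ N', orderOf g = t → g ∈ Subgroup.centralizer (D' : Set X)) :
    ∃ X'' : Subgroup X, X'' ≤ N ∧ Nat.card X'' = t' := by
  classical
  have hX'K : X' ≤ K := hX'D.trans hD'K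
  obtain ⟨J, hJ, hXtJ⟩ := Cfsg.Agent.Helper71.BGHall.exists_isPiHallOf_ge
    {r : ℕ | r = t ∨ r = t'} K hXtK (by
      intro p hp hpd
      rw [hXt] at hpd
      exact Or.inl ((Nat.prime_dvd_prime_iff_eq hp ht).mp hpd))
  obtain ⟨J', hJ', hX'J'⟩ := Cfsg.Agent.Helper71.BGHall.exists_isPiHallOf_ge
    {r : ℕ | r = t ∨ r = t'} K hX'K (by
      intro p hp hpd
      rw [hX'] at hpd
      exact Or.inr ((Nat.prime_dvd_prime_iff_eq hp ht').mp hpd))
  obtain ⟨c, hcK, hc⟩ := Cfsg.Agent.Helper62.isPiHallOf_conj_of_solvable hJ' hJ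
  obtain ⟨X'', hX''def⟩ : ∃ X'' : Subgroup X, X'' = X'.map (MulAut.conj c).toMonoidHom := ⟨_, rfl⟩
  have hX''J : X'' ≤ J := by
    rw [hX''def, ← hc, conj_smul_eq_map']
    exact Subgroup.map_mono hX'J'
  have hX''card : Nat.card X'' = t' := by rw [hX''def, card_map_conj, hX']
  have hJK : J ≤ K := hJ.1
  have hmemX'' : ∀ y : X, y ∈ X'' ↔ c⁻¹ * y * c ∈ X' := by
    intro y; rw [hX''def, mem_map_conj_iff]
  -- the group `↥J`
  have hprJ : ∀ r : ℕ, r.Prime → r ∣ Nat.card ↥J → r = t ∨ r = t' := fun r hr hrd => hJ.2.1 r hr hrd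
  have hcycJ : ∀ S : Subgroup ↥J, IsPGroup t S → IsCyclic S := by
    intro S hS
    have h1 : IsCyclic (S.map J.subtype) :=
      hcyc _ ((Subgroup.map_subtype_le S).trans hJK) (hS.map J.subtype)
    exact (S.equivMapOfInjective J.subtype J.subtype_injective).isCyclic.mpr h1
  have hcycJ' : ∀ S : Subgroup ↥J, IsPGroup t' S → IsCyclic S := by
    intro S hS
    have h1 : IsCyclic (S.map J.subtype) :=
      hcyc' _ ((Subgroup.map_subtype_le S).trans hJK) (hS.map J.subtype)
    exact (S.equivMapOfInjective J.subtype J.subtype_injective).isCyclic.mpr h1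
  have hcA : Nat.card (Xt.subgroupOf J) = t := by
    rw [Nat.card_congr (Subgroup.subgroupOfEquivOfLe hXtJ).toEquiv, hXt]
  have hcB : Nat.card (X''.subgroupOf J) = t' := by
    rw [Nat.card_congr (Subgroup.subgroupOfEquivOfLe hX''J).toEquiv, hX''card]
  rcases normal_or_normal ht ht' hne hprJ hcycJ hcycJ' (Xt.subgroupOf J) (X''.subgroupOf J)
    hcA hcB with hA | hB
  · have h1 : J ≤ normalizer (Xt : Set X) :=
      (Subgroup.normal_subgroupOf_iff_le_normalizer hXtJ).mp hA
    exact ⟨X'', fun x hx => hN ⟨hJK (hX''J hx), h1 (hX''J hx)⟩, hX''card⟩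
  · have h1 : J ≤ normalizer (X'' : Set X) :=
      (Subgroup.normal_subgroupOf_iff_le_normalizer hX''J).mp hB
    -- every nonidentity element of `Xt` centralizes `X''`
    have hcomm : ∀ g ∈ Xt, ∀ y ∈ X'', y * g = g * y := by
      intro g hg y hy
      by_cases hg1 : g = 1
      · rw [hg1, mul_one, one_mul]
      have hgord : orderOf g = t := by
        have hd : orderOf g ∣ t := hXt ▸ Subgroup.orderOf_dvd_natCard Xt hg
        rcases (Nat.dvd_prime ht).mp hd with h | h
        · exact absurd (orderOf_eq_one_iff.mp h) hg1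
        · exact h
      have hgN : g ∈ normalizer (X'' : Set X) := h1 (hXtJ hg)
      have hgK : g ∈ K := hXtK hg
      have hcgK : c⁻¹ * g * c ∈ K := K.mul_mem (K.mul_mem (K.inv_mem hcK) hgK) hcK
      have hcgN : c⁻¹ * g * c ∈ normalizer (X' : Set X) := by
        rw [Subgroup.mem_normalizer_iff]
        intro h
        have e1 := hmemX'' (c * h * c⁻¹)
        have e2 := hmemX'' (g * (c * h * c⁻¹) * g⁻¹)
        have e3 := (Subgroup.mem_normalizer_iff.mp hgN) (c * h * c⁻¹)
        have a1 : c⁻¹ * (c * h * c⁻¹) * c = h := by group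
        have a2 : c⁻¹ * (g * (c * h * c⁻¹) * g⁻¹) * c = c⁻¹ * g * c * h * (c⁻¹ * g * c)⁻¹ := by
          group
        rw [a1] at e1
        rw [a2] at e2
        rw [← e1, ← e2]
        exact e3
      have hord : orderOf (c⁻¹ * g * c) = t := by
        have : c⁻¹ * g * c = (MulAut.conj c⁻¹).toMonoidHom g := by
          simp [MulAut.conj_apply]
        rw [this, orderOf_injective _ (MulAut.conj c⁻¹).injective, hgord]
      have hcen := hcent _ (hN' ⟨hcgK, hcgN⟩) hord
      rw [Subgroup.mem_centralizer_iff] at hcen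
      have hy' : c⁻¹ * y * c ∈ D' := hX'D ((hmemX'' y).mp hy)
      have h5 := hcen _ hy'
      -- h5 : c⁻¹ * y * c * (c⁻¹ * g * c) = c⁻¹ * g * c * (c⁻¹ * y * c)
      have h6 : c * (c⁻¹ * y * c * (c⁻¹ * g * c)) * c⁻¹ = y * g := by group
      have h7 : c * (c⁻¹ * g * c * (c⁻¹ * y * c)) * c⁻¹ = g * y := by group
      rw [← h6, ← h7, h5]
    refine ⟨X'', ?_, hX''card⟩
    intro y hy
    have key : ∀ g ∈ Xt, y * g * y⁻¹ = g := by
      intro g hg
      rw [hcomm g hg y hy, mul_inv_cancel_right]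
    have hyN : y ∈ normalizer (Xt : Set X) := by
      rw [Subgroup.mem_normalizer_iff]
      intro g
      constructor
      · intro hg
        rw [key g hg]; exact hg
      · intro hg
        have h9 : y * (y * g * y⁻¹) * y⁻¹ = y * g * y⁻¹ := key _ hg
        have h10 : y * g * y⁻¹ = g := mul_left_cancel (mul_right_cancel h9)
        rw [← h10]; exact hg
    exact hN (Subgroup.mem_inf.mpr ⟨hJK (hX''J hy), hyN⟩)

end Cfsg.Agent.Helper60.BG14J
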