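import Cfsg.Agent.S1350
import Cfsg.Agent.S1430
import Cfsg.Agent.Helper60.BGAsmA
import Cfsg.Agent.Helper60.BGAsmB

/-!
# `K` and `K* = M_σ ∩ C_G(K)`: first consequences of S1350 and S1430 (helper60; conditional on S1430)
-/

set_option autoImplicit false
open Subgroup

namespace Cfsg.Agent.Helper60.BGAsm

variable {G : Type*} [Group G]

theorem commute_K_kstar (M K : Subgroup G) :
    ∀ a ∈ K, ∀ b ∈ Cfsg.sigmaCore M ⊓ Subgroup.centralizer (K : Set G), a * b = b * a :=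
  fun a ha b hb => (Subgroup.mem_centralizer_iff.mp hb.2) a ha

theorem exists_prime_card_le [Finite G] {K : Subgroup G} (hK1 : K ≠ ⊥) :
    ∃ X : Subgroup G, X ≤ K ∧ (Nat.card X).Prime := by
  obtain ⟨k, hk, hk1⟩ := K.bot_or_exists_ne_one.resolve_left hK1
  obtain ⟨X, hXk, hXp⟩ := exists_prime_card_le_zpowers hk1
  exact ⟨X, hXk.trans ((Subgroup.zpowers_le).mpr hk), hXp⟩

theorem coprime_K_kstar [Finite G] (hG : Cfsg.IsMinSimpleOddOrder G) {M : Subgroup G}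
    (hM : IsCoatom M) {K : Subgroup G} (hK : Cfsg.IsPiHallOf (Cfsg.kappa M) K M) :
    (Nat.card K).Coprime (Nat.card ↥(Cfsg.sigmaCore M ⊓ Subgroup.centralizer (K : Set G))) := by
  have h50 := (Cfsg.Agent.S1350.result hG M hM).1
  apply Nat.coprime_of_dvd
  intro q hq hq1 hq2
  have h1 : q ∈ Cfsg.kappa M := hK.2.1 q hq hq1
  have h2 : q ∣ Nat.card (Cfsg.sigmaCore M) := hq2.trans (Subgroup.card_dvd_of_le inf_le_left)
  exact h1.2.2.1 (h50.2.1 q hq h2)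

theorem kstar_ne_bot [Finite G] (hG : Cfsg.IsMinSimpleOddOrder G) {M : Subgroup G}
    (hM : IsCoatom M) {K : Subgroup G} (hK : Cfsg.IsPiHallOf (Cfsg.kappa M) K M) (hK1 : K ≠ ⊥) :
    Cfsg.sigmaCore M ⊓ Subgroup.centralizer (K : Set G) ≠ ⊥ := by
  have h30 := (Cfsg.Agent.S1430.result hG M hM K hK hK1).1
  have hcard : Nat.card K ≠ 1 := fun h => hK1 (Subgroup.card_eq_one.mp h)
  obtain ⟨p, hp, hpK⟩ := Nat.exists_prime_and_dvd hcard
  have : Fact p.Prime := ⟨hp⟩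
  have hpκ : p ∈ Cfsg.kappa M := hK.2.1 p hp hpK
  have hidx : ¬ p ∣ (K.subgroupOf M).index := hK.2.2 p hp hpκ
  obtain ⟨P, hP⟩ := exists_sylow_le_of_not_dvd_index (K.subgroupOf M) hidx
  obtain ⟨-, x, hxP, hx1, y, hy, hy1, hxy⟩ := hpκ.2.2.2 P
  have hxK : (x : G) ∈ K := Subgroup.mem_subgroupOf.mp (hP hxP)
  have hx1' : (x : G) ≠ 1 := fun h => hx1 (Subtype.ext h)
  have h1 := h30 (x : G) hxK hx1'
  intro hbot
  have h2 : y ∈ Cfsg.sigmaCore M ⊓ Subgroup.centralizer ({(x : G)} : Set G) := by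
    refine Subgroup.mem_inf.mpr ⟨hy, ?_⟩
    rw [Subgroup.mem_centralizer_iff]
    intro z hz
    rw [Set.mem_singleton_iff] at hz
    subst hz
    exact hxy
  rw [h1, hbot] at h2
  exact hy1 (Subgroup.mem_bot.mp h2)

/-- `M ∩ N_G(K) = K K*` -/
theorem inf_normalizer_K [Finite G] (hG : Cfsg.IsMinSimpleOddOrder G) {M : Subgroup G}
    (hM : IsCoatom M) {K : Subgroup G} (hK : Cfsg.IsPiHallOf (Cfsg.kappa M) K M) (hK1 : K ≠ ⊥) :
    M ⊓ Subgroup.normalizer (K : Set G) =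
      K ⊔ (Cfsg.sigmaCore M ⊓ Subgroup.centralizer (K : Set G)) := by
  obtain ⟨X, hXK, hXp⟩ := exists_prime_card_le hK1
  exact ((Cfsg.Agent.S1430.result hG M hM K hK hK1).2.2 X hXK hXp).2.1

theorem K_le_sup_le (M K : Subgroup G) (hKM : K ≤ M) :
    K ⊔ (Cfsg.sigmaCore M ⊓ Subgroup.centralizer (K : Set G)) ≤ M :=
  sup_le hKM (inf_le_left.trans (sigmaCore_le' M))

end Cfsg.Agent.Helper60.BGAsm
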