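import Cfsg.Agent.S1350
import Cfsg.Agent.Lib.Hall
import Cfsg.Agent.Helper60.BGAsmB
import Cfsg.Agent.Helper60.BGAsmD

/-!
# The standard factorisation `M = K U M_σ`: arithmetic and Hall conjugacy into `K` (helper60)

Unconditional (uses only the landed S1350 and the shared Hall library).
-/

set_option autoImplicit false
open Subgroup Pointwise

namespace Cfsg.Agent.Helper60.BGAsm

variable {G : Type*} [Group G]

/-- the order of `U` in a standard factorisation is prime to `κ(M) ∪ σ(M)` -/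
theorem not_mem_of_dvd_card_U' [Finite G] (hG : Cfsg.IsMinSimpleOddOrder G)
    {M : Subgroup G} (hM : IsCoatom M) {K U : Subgroup G} (hKU : Cfsg.IsSigmaDecomposition M K U)
    {q : ℕ} (hq : q.Prime) (hqU : q ∣ Nat.card U) : q ∉ Cfsg.kappa M ∧ q ∉ Cfsg.sigma M := by
  have h50 := (Cfsg.Agent.S1350.result hG M hM).1
  have hcard : Nat.card U = (K ⊔ Cfsg.sigmaCore M).relIndex M :=
    card_eq_relIndex_of_isComplIn hKU.compl
  rw [hcard] at hqU
  constructor
  · intro h
    exact hKU.hall.2.2 q hq h (hqU.trans (Subgroup.relIndex_dvd_of_le_left M le_sup_left))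
  · intro h
    exact h50.2.2 q hq h (hqU.trans (Subgroup.relIndex_dvd_of_le_left M le_sup_right))

/-- `|M : U| = |K M_σ|` -/
theorem relIndex_U_eq [Finite G] {M K U : Subgroup G} (hKU : Cfsg.IsSigmaDecomposition M K U) :
    U.relIndex M = Nat.card ↥(K ⊔ Cfsg.sigmaCore M) := by
  have h1 := card_mul_card_isComplIn hKU.compl
  have h2 := card_mul_relIndex_of_le hKU.compl.1
  have h3 : Nat.card U * U.relIndex M = Nat.card U * Nat.card ↥(K ⊔ Cfsg.sigmaCore M) := by
    rw [h1, h2]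
  exact Nat.eq_of_mul_eq_mul_left Nat.card_pos h3

/-- the primes dividing `|M : U M_σ|` lie in `κ(M)` -/
theorem mem_kappa_of_dvd_relIndex [Finite G] (hG : Cfsg.IsMinSimpleOddOrder G)
    {M : Subgroup G} (hM : IsCoatom M) {K U : Subgroup G} (hKU : Cfsg.IsSigmaDecomposition M K U)
    {q : ℕ} (hq : q.Prime) (hqd : q ∣ (U ⊔ Cfsg.sigmaCore M).relIndex M) : q ∈ Cfsg.kappa M := by
  have h50 := (Cfsg.Agent.S1350.result hG M hM).1
  have hK := hKU.hall
  by_contra h2
  by_cases h1 : q ∈ Cfsg.sigma M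
  · exact h50.2.2 q hq h1 (hqd.trans (Subgroup.relIndex_dvd_of_le_left M le_sup_right))
  · have h3 : q ∣ U.relIndex M := hqd.trans (Subgroup.relIndex_dvd_of_le_left M le_sup_left)
    rw [relIndex_U_eq hKU] at h3
    have hKσ : K ≤ Subgroup.normalizer ((Cfsg.sigmaCore M : Subgroup G) : Set G) :=
      hK.1.trans (le_normalizer_sigmaCore M)
    have h4 := h3.trans (Cfsg.Agent.Helper22.card_sup_dvd_of_le_normalizer K _ hKσ)
    rcases (Nat.Prime.dvd_mul hq).mp h4 with h5 | h5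
    · exact h2 (hK.2.1 q hq h5)
    · exact h1 (h50.2.1 q hq h5)

/-- `|U M_σ|` is prime to `|K|` -/
theorem coprime_card_N_K [Finite G] (hG : Cfsg.IsMinSimpleOddOrder G)
    {M : Subgroup G} (hM : IsCoatom M) {K U : Subgroup G} (hKU : Cfsg.IsSigmaDecomposition M K U) :
    (Nat.card ↥(U ⊔ Cfsg.sigmaCore M)).Coprime (Nat.card K) := by
  have h50 := (Cfsg.Agent.S1350.result hG M hM).1
  have hK := hKU.hall
  apply Nat.coprime_of_dvd
  intro q hq hq1 hq2
  have hqκ : q ∈ Cfsg.kappa M := hK.2.1 q hq hq2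
  have hUσ : U ≤ Subgroup.normalizer ((Cfsg.sigmaCore M : Subgroup G) : Set G) :=
    hKU.compl.1.trans (le_normalizer_sigmaCore M)
  have h4 := hq1.trans (Cfsg.Agent.Helper22.card_sup_dvd_of_le_normalizer U _ hUσ)
  rcases (Nat.Prime.dvd_mul hq).mp h4 with h5 | h5
  · exact (not_mem_of_dvd_card_U' hG hM hKU hq h5).1 hqκ
  · exact hqκ.2.2.1 (h50.2.1 q hq h5)

/-- normality of `U M_σ` in `M` -/
theorem normal_part' (M K U : Subgroup G)
    (hKU : Cfsg.IsSigmaDecomposition M K U) :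
    M ≤ Subgroup.normalizer ((U ⊔ Cfsg.sigmaCore M : Subgroup G) : Set G) := by
  have hσ := le_normalizer_sigmaCore M
  have hU : U ≤ Subgroup.normalizer ((U ⊔ Cfsg.sigmaCore M : Subgroup G) : Set G) :=
    le_sup_left.trans Subgroup.le_normalizer
  have hS : Cfsg.sigmaCore M ≤ Subgroup.normalizer ((U ⊔ Cfsg.sigmaCore M : Subgroup G) : Set G) :=
    le_sup_right.trans Subgroup.le_normalizer
  have hK : K ≤ Subgroup.normalizer ((U ⊔ Cfsg.sigmaCore M : Subgroup G) : Set G) := fun k hk =>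
    mem_normalizer_sup (hKU.normal hk) (hσ (hKU.hall.1 hk))
  intro m hm
  obtain ⟨a, ha, b, hb, rfl⟩ := hKU.compl.2.2.2 m hm
  exact Subgroup.mul_mem _ (hU ha) ((sup_le hK hS) hb)

/-- `|K|` is prime to `|M : K|` -/
theorem coprime_card_K_relIndex [Finite G] {M K : Subgroup G}
    (hK : Cfsg.IsPiHallOf (Cfsg.kappa M) K M) : (Nat.card K).Coprime (K.relIndex M) := by
  apply Nat.coprime_of_dvd
  intro q hq hq1 hq2
  exact hK.2.2 q hq (hK.2.1 q hq hq1) hq2

/-- an element of `M` whose `|M : K|`-th power is trivial lies in `U M_σ` -/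
theorem mem_N_of_pow_relIndex_eq_one [Finite G] (hG : Cfsg.IsMinSimpleOddOrder G)
    {M : Subgroup G} (hM : IsCoatom M) {K U : Subgroup G} (hKU : Cfsg.IsSigmaDecomposition M K U)
    {a : G} (ha : a ∈ M) (hpow : a ^ K.relIndex M = 1) : a ∈ U ⊔ Cfsg.sigmaCore M := by
  have hK := hKU.hall
  have hle : Subgroup.zpowers a ≤ U ⊔ Cfsg.sigmaCore M := by
    apply le_of_coprime_relIndex (normal_part' M K U hKU) (Subgroup.zpowers_le.mpr ha)
    apply Nat.coprime_of_dvd
    intro q hq hq1 hq2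
    have hqκ := mem_kappa_of_dvd_relIndex hG hM hKU hq hq2
    rw [Nat.card_zpowers] at hq1
    exact hK.2.2 q hq hqκ (hq1.trans (orderOf_dvd_of_pow_eq_one hpow))
  exact hle (Subgroup.mem_zpowers a)

/-- Hall's theorem in the solvable group `M`: an element of `M` whose order divides `|K|` is
`M`-conjugate into the Hall subgroup `K`. -/
theorem exists_conj_mem_K [Finite G] (hG : Cfsg.IsMinSimpleOddOrder G)
    {M : Subgroup G} (hM : IsCoatom M) {K : Subgroup G}
    (hK : Cfsg.IsPiHallOf (Cfsg.kappa M) K M) {b : G} (hb : b ∈ M) (hbk : b ^ Nat.card K = 1) :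
    ∃ g ∈ M, ∃ c ∈ K, b = g * c * g⁻¹ := by
  haveI : Group.IsSolvable ↥M := hG.2.2.2 M hM.1
  have hcard : Nat.card ↥M = Nat.card K * K.relIndex M := (card_mul_relIndex_of_le hK.1).symm
  have hcop := coprime_card_K_relIndex hK
  have hK' : Nat.card (K.subgroupOf M) = Nat.card K :=
    Nat.card_congr (Subgroup.subgroupOfEquivOfLe hK.1).toEquiv
  have hB : (Nat.card (Subgroup.zpowers (⟨b, hb⟩ : ↥M))).Coprime (K.relIndex M) := by
    rw [Nat.card_zpowers]
    have h1 : orderOf (⟨b, hb⟩ : ↥M) ∣ Nat.card K := by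
      apply orderOf_dvd_of_pow_eq_one
      apply Subtype.ext
      simpa using hbk
    exact Nat.Coprime.coprime_dvd_left h1 hcop
  obtain ⟨g, hg⟩ := (Cfsg.Agent.Lib.hall_main _ ↥M rfl (Nat.card K) (K.relIndex M) hcard hcop).2
    (K.subgroupOf M) (Subgroup.zpowers (⟨b, hb⟩ : ↥M)) hK' hB
  have h1 : (⟨b, hb⟩ : ↥M) ∈ MulAut.conj g • K.subgroupOf M := hg (Subgroup.mem_zpowers _)
  obtain ⟨c, hc, hcb⟩ := h1
  refine ⟨(g : G), g.2, (c : G), Subgroup.mem_subgroupOf.mp hc, ?_⟩
  have h2 := congrArg Subtype.val hcb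
  simp only [MulDistribMulAction.toMonoidEnd_apply, MulDistribMulAction.toMonoidHom_apply,
    MulAut.smul_def, MulAut.conj_apply, Subgroup.coe_mul, InvMemClass.coe_inv] at h2
  exact h2.symm

end Cfsg.Agent.Helper60.BGAsm
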