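import Mathlib
import Cfsg.Prelude.Def_Transfer

/-! Piece (REP-b) of #5147 (helper23, S3054/S3055): for an extraspecial group `E` of order `p³`
and exponent `p`, the determinant of the action of an automorphism on `E / Z(E) = 𝔽_p²` is its
action on the centre (helper60). -/

set_option autoImplicit false

namespace Cfsg.Agent.Helper60.ES3

open scoped commutatorElement

section class2

variable {E : Type*} [Group E]

/-- The commutator `u v u⁻¹ v⁻¹`. -/
def cm (u v : E) : E := u * v * u⁻¹ * v⁻¹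

theorem cm_self (u : E) : cm u u = 1 := by unfold cm; group

theorem cm_inv_swap (u v : E) : cm u v = (cm v u)⁻¹ := by unfold cm; group

theorem cm_one_left (v : E) : cm 1 v = 1 := by unfold cm; group

theorem cm_one_right (u : E) : cm u 1 = 1 := by unfold cm; group

theorem cm_central_left {z : E} (hz : z ∈ Subgroup.center E) (v : E) : cm z v = 1 := by
  unfold cm
  rw [← (Subgroup.mem_center_iff.mp hz v)]
  group

theorem cm_central_right {z : E} (hz : z ∈ Subgroup.center E) (u : E) : cm u z = 1 := by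
  rw [cm_inv_swap, cm_central_left hz, inv_one]

variable (hcen : ∀ u v : E, cm u v ∈ Subgroup.center E)
include hcen

theorem cm_mul_left (u u' v : E) : cm (u * u') v = cm u v * cm u' v := by
  have ht := Subgroup.mem_center_iff.mp (hcen u' v)
  calc cm (u * u') v = u * cm u' v * (v * u⁻¹ * v⁻¹) := by unfold cm; group
    _ = u * ((v * u⁻¹ * v⁻¹) * cm u' v) := by rw [mul_assoc, ← ht]
    _ = cm u v * cm u' v := by unfold cm; group

theorem cm_mul_right (u v v' : E) : cm u (v * v') = cm u v * cm u v' := by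
  rw [cm_inv_swap u (v * v'), cm_mul_left hcen, mul_inv_rev, ← cm_inv_swap, ← cm_inv_swap]
  exact Subgroup.mem_center_iff.mp (hcen u v) (cm u v')

theorem cm_pow_left (u v : E) (n : ℕ) : cm (u ^ n) v = cm u v ^ n := by
  induction n with
  | zero => rw [pow_zero, pow_zero, cm_one_left]
  | succ n ih => rw [pow_succ, pow_succ, cm_mul_left hcen, ih]

theorem cm_pow_right (u v : E) (n : ℕ) : cm u (v ^ n) = cm u v ^ n := by
  induction n with
  | zero => rw [pow_zero, pow_zero, cm_one_right]
  | succ n ih => rw [pow_succ, pow_succ, cm_mul_right hcen, ih]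

/-- The commutator of two elements written in "coordinates". -/
theorem cm_coord (x y z₁ z₂ : E) (hz₁ : z₁ ∈ Subgroup.center E) (hz₂ : z₂ ∈ Subgroup.center E)
    (i j i' j' : ℕ) :
    cm (x ^ i * y ^ j * z₁) (x ^ i' * y ^ j' * z₂)
      = (cm x y ^ j') ^ i * (((cm x y)⁻¹) ^ i') ^ j := by
  have h1 : ∀ V : E, cm (x ^ i * y ^ j * z₁) V = cm x V ^ i * cm y V ^ j := by
    intro V
    rw [cm_mul_left hcen, cm_mul_left hcen, cm_central_left hz₁, mul_one, cm_pow_left hcen,
      cm_pow_left hcen]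
  have h2 : ∀ X : E, cm X (x ^ i' * y ^ j' * z₂) = cm X x ^ i' * cm X y ^ j' := by
    intro X
    rw [cm_mul_right hcen, cm_mul_right hcen, cm_central_right hz₂, mul_one, cm_pow_right hcen,
      cm_pow_right hcen]
  rw [h1, h2 x, h2 y, cm_self, cm_self, one_pow, one_pow, one_mul, mul_one, cm_inv_swap y x]

end class2

open Matrix

theorem det_eq_of_center_action {E : Type*} [Group E] [Finite E] {p : ℕ} [Fact p.Prime]
    (hE : Cfsg.IsExtraspecial p E) (hcard : Nat.card E = p ^ 3) (hexp : ∀ x : E, x ^ p = 1)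
    (c : E → (Fin 2 → ZMod p)) (hc : Function.Surjective c)
    (hadd : ∀ x y, c (x * y) = c x + c y) (hker : ∀ x, c x = 0 ↔ x ∈ Subgroup.center E)
    (φ : MulAut E) (M : Matrix (Fin 2) (Fin 2) (ZMod p)) (hM : ∀ x, c (φ x) = M *ᵥ c x)
    (k : ℕ) (hk : ∀ z ∈ Subgroup.center E, φ z = z ^ k) : M.det = (k : ZMod p) := by
  have hp : p.Prime := Fact.out
  have hcen : ∀ u v : E, cm u v ∈ Subgroup.center E := by
    intro u v
    rw [← hE.1.2.2, _root_.commutator_def]
    have : cm u v = ⁅u, v⁆ := rfl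
    rw [this]
    exact Subgroup.commutator_mem_commutator (Subgroup.mem_top u) (Subgroup.mem_top v)
  -- elementary properties of `c`
  have c_one : c 1 = 0 := by
    have := hadd 1 1
    rw [mul_one] at this
    exact left_eq_add.mp this
  have c_pow : ∀ (u : E) (n : ℕ), c (u ^ n) = n • c u := by
    intro u n
    induction n with
    | zero => rw [pow_zero, zero_smul, c_one]
    | succ n ih => rw [pow_succ, hadd, ih, succ_nsmul]
  have c_inv : ∀ u : E, c u⁻¹ = - c u := by
    intro u
    have := hadd u⁻¹ u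
    rw [inv_mul_cancel, c_one] at this
    exact eq_neg_of_add_eq_zero_left this.symm
  obtain ⟨x, hx⟩ := hc ![1, 0]
  obtain ⟨y, hy⟩ := hc ![0, 1]
  -- decomposition
  have hdec : ∀ u : E, ∃ z₁ ∈ Subgroup.center E,
      u = x ^ (c u 0).val * y ^ (c u 1).val * z₁ := by
    intro u
    refine ⟨(x ^ (c u 0).val * y ^ (c u 1).val)⁻¹ * u, ?_, by group⟩
    rw [← hker, hadd, c_inv, hadd, c_pow, c_pow, hx, hy]
    funext t
    fin_cases t
    · simp
    · simp
  obtain ⟨w, hw⟩ : ∃ w : E, w = cm x y := ⟨_, rfl⟩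
  have hwZ : w ∈ Subgroup.center E := hw ▸ hcen x y
  -- `w ≠ 1`
  have hw1 : w ≠ 1 := by
    intro h1
    have hcomm : ∀ u v : E, cm u v = 1 := by
      intro u v
      obtain ⟨z₁, hz₁, hu⟩ := hdec u
      obtain ⟨z₂, hz₂, hv⟩ := hdec v
      rw [hu, hv, cm_coord hcen x y z₁ z₂ hz₁ hz₂, ← hw, h1]
      simp
    have htop : Subgroup.center E = ⊤ := by
      rw [eq_top_iff]
      intro u _
      rw [Subgroup.mem_center_iff]
      intro g
      have := hcomm g u
      unfold cm at this
      rw [mul_inv_eq_one, mul_inv_eq_iff_eq_mul] at this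
      exact this
    have h2 := hE.2
    rw [htop, Subgroup.card_top, hcard] at h2
    have h3 : p ^ 3 = p ^ 1 := by rw [pow_one]; exact h2
    have := Nat.pow_right_injective hp.two_le h3
    omega
  have hword : orderOf w = p := orderOf_eq_prime (hexp w) hw1
  -- images of `x`, `y`
  obtain ⟨z₁, hz₁, hφx⟩ := hdec (φ x)
  obtain ⟨z₂, hz₂, hφy⟩ := hdec (φ y)
  have hφw : φ w = cm (φ x) (φ y) := by
    rw [hw]
    unfold cm
    rw [map_mul, map_mul, map_mul, map_inv, map_inv]
  have h00 : c (φ x) 0 = M 0 0 := by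
    rw [hM, hx]; simp [Matrix.mulVec, dotProduct, Fin.sum_univ_two]
  have h10 : c (φ x) 1 = M 1 0 := by
    rw [hM, hx]; simp [Matrix.mulVec, dotProduct, Fin.sum_univ_two]
  have h01 : c (φ y) 0 = M 0 1 := by
    rw [hM, hy]; simp [Matrix.mulVec, dotProduct, Fin.sum_univ_two]
  have h11 : c (φ y) 1 = M 1 1 := by
    rw [hM, hy]; simp [Matrix.mulVec, dotProduct, Fin.sum_univ_two]
  have key : w ^ (k + (M 0 1).val * (M 1 0).val) = w ^ ((M 1 1).val * (M 0 0).val) := by
    have h1 : w ^ k = (w ^ (M 1 1).val) ^ (M 0 0).val * ((w⁻¹) ^ (M 0 1).val) ^ (M 1 0).val := by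
      rw [← hk w hwZ, hφw]
      nth_rewrite 1 [hφx]
      nth_rewrite 1 [hφy]
      rw [cm_coord hcen x y z₁ z₂ hz₁ hz₂, ← hw, h00, h10, h01, h11]
    rw [pow_add, h1, ← pow_mul, ← pow_mul, inv_pow, inv_mul_cancel_right]
  rw [pow_eq_pow_iff_modEq, hword, ← ZMod.natCast_eq_natCast_iff] at key
  push_cast at key
  rw [ZMod.natCast_zmod_val, ZMod.natCast_zmod_val, ZMod.natCast_zmod_val,
    ZMod.natCast_zmod_val] at key
  rw [Matrix.det_fin_two]
  linear_combination (-1 : ZMod p) * key

end Cfsg.Agent.Helper60.ES3
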