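import Mathlib

/-! Piece (TORUS-b) of #5147 (helper23, S3054/S3055): a Sylow argument moving an element that
acts diagonally on `⟨z, a⟩` into the normalizer of the Sylow subgroup (helper60). -/

set_option autoImplicit false

namespace Cfsg.Agent.Helper60.ES3

theorem pow_mul_eq_self {G : Type*} [Group G] {p : ℕ} (x : G) (hx : x ^ p = 1)
    (k l : ℕ) (hkl : (k : ZMod p) * (l : ZMod p) = 1) : x ^ (k * l) = x := by
  have h1 : ((k * l : ℕ) : ZMod p) = ((1 : ℕ) : ZMod p) := by push_cast; exact hkl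
  rw [ZMod.natCast_eq_natCast_iff] at h1
  have h2 : x ^ (k * l) = x ^ 1 := by
    rw [pow_eq_pow_iff_modEq]
    exact h1.of_dvd (orderOf_dvd_of_pow_eq_one hx)
  rw [h2, pow_one]

theorem commute_of_mem_zpowers {G : Type*} [Group G] {n z w : G} (h : Commute n z)
    (hw : w ∈ Subgroup.zpowers z) : Commute n w := by
  obtain ⟨i, rfl⟩ := Subgroup.mem_zpowers_iff.mp hw
  exact h.zpow_right i

theorem conj_eq_of_commute {G : Type*} [Group G] {n w : G} (h : Commute n w) :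
    n * w * n⁻¹ = w := by
  rw [h.eq, mul_inv_cancel_right]

/-- The subgroup of elements centralizing `z` and centralizing `a` modulo `⟨z⟩`. -/
def adjB {G : Type*} [Group G] (z a : G) : Subgroup G where
  carrier := {n | Commute n z ∧ n * a * n⁻¹ * a⁻¹ ∈ Subgroup.zpowers z}
  one_mem' := ⟨Commute.one_left z, by simp⟩
  mul_mem' := by
    rintro n m ⟨hn1, hn2⟩ ⟨hm1, hm2⟩
    refine ⟨hn1.mul_left hm1, ?_⟩
    have e : n * m * a * (n * m)⁻¹ * a⁻¹
        = (n * (m * a * m⁻¹ * a⁻¹) * n⁻¹) * (n * a * n⁻¹ * a⁻¹) := by group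
    rw [e, conj_eq_of_commute (commute_of_mem_zpowers hn1 hm2)]
    exact Subgroup.mul_mem _ hm2 hn2
  inv_mem' := by
    rintro n ⟨hn1, hn2⟩
    refine ⟨hn1.inv_left, ?_⟩
    have e : n⁻¹ * a * n⁻¹⁻¹ * a⁻¹ = n⁻¹ * (n * a * n⁻¹ * a⁻¹)⁻¹ * n⁻¹⁻¹ := by group
    rw [e, conj_eq_of_commute (commute_of_mem_zpowers hn1.inv_left (Subgroup.inv_mem _ hn2))]
    exact Subgroup.inv_mem _ hn2

theorem mem_adjB {G : Type*} [Group G] {z a n : G} :
    n ∈ adjB z a ↔ Commute n z ∧ n * a * n⁻¹ * a⁻¹ ∈ Subgroup.zpowers z := Iff.rfl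

theorem exists_normalizer_adjust {G : Type*} [Group G] [Finite G] {p : ℕ} [Fact p.Prime]
    (P : Sylow p G) (z a g : G)
    (hcomm : ∀ x ∈ (P : Subgroup G), ∀ y ∈ (P : Subgroup G),
      x * y * x⁻¹ * y⁻¹ ∈ Subgroup.zpowers z)
    (hzc : ∀ x ∈ (P : Subgroup G), x * z = z * x) (hz : z ^ p = 1)
    (haP : a ∈ (P : Subgroup G)) (ha : a ^ p = 1) (k l : ℕ)
    (hkl : (k : ZMod p) * (l : ZMod p) = 1) (hgz : g * z * g⁻¹ = z ^ k)
    (hga : g * a * g⁻¹ = a ^ l) :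
    ∃ h ∈ Subgroup.normalizer ((P : Subgroup G) : Set G),
      h * z * h⁻¹ = z ^ k ∧ h * a * h⁻¹ * (a ^ l)⁻¹ ∈ Subgroup.zpowers z := by
  have hzkl : z ^ (k * l) = z := pow_mul_eq_self z hz k l hkl
  have hakl : a ^ (k * l) = a := pow_mul_eq_self a ha k l hkl
  have haz : Commute a z := hzc a haP
  have hgz' : g⁻¹ * z * g = z ^ l := by
    have h1 : g * z ^ l * g⁻¹ = z := by rw [← conj_pow, hgz, ← pow_mul, hzkl]
    calc g⁻¹ * z * g = g⁻¹ * (g * z ^ l * g⁻¹) * g := by rw [h1]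
      _ = z ^ l := by group
  have hga' : g⁻¹ * a * g = a ^ k := by
    have h1 : g * a ^ k * g⁻¹ = a := by rw [← conj_pow, hga, ← pow_mul, mul_comm, hakl]
    calc g⁻¹ * a * g = g⁻¹ * (g * a ^ k * g⁻¹) * g := by rw [h1]
      _ = a ^ k := by group
  have hgZ : ∀ w ∈ Subgroup.zpowers z, g * w * g⁻¹ ∈ Subgroup.zpowers z := by
    intro w hw
    obtain ⟨i, rfl⟩ := Subgroup.mem_zpowers_iff.mp hw
    rw [← conj_zpow, hgz]
    exact Subgroup.zpow_mem _ (Subgroup.pow_mem _ (Subgroup.mem_zpowers z) k) i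
  -- `P ≤ B`
  have hPB : (P : Subgroup G) ≤ adjB z a := by
    intro x hx
    exact mem_adjB.mpr ⟨hzc x hx, hcomm x hx a haP⟩
  -- `g B g⁻¹ ≤ B`
  have hgB : ∀ n ∈ adjB z a, g * n * g⁻¹ ∈ adjB z a := by
    intro n hn
    obtain ⟨hn1, hn2⟩ := mem_adjB.mp hn
    refine mem_adjB.mpr ⟨?_, ?_⟩
    · have e1 : g * n * g⁻¹ * z * (g * n * g⁻¹)⁻¹ = g * (n * (g⁻¹ * z * g) * n⁻¹) * g⁻¹ := by
        group
      have e2 : g * n * g⁻¹ * z * (g * n * g⁻¹)⁻¹ = z := by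
        rw [e1, hgz', conj_eq_of_commute (hn1.pow_right l), ← conj_pow, hgz, ← pow_mul, hzkl]
      have := mul_inv_eq_iff_eq_mul.mp e2
      exact this
    · obtain ⟨w, hw⟩ : ∃ w, w = n * a * n⁻¹ * a⁻¹ := ⟨_, rfl⟩
      have hwZ : w ∈ Subgroup.zpowers z := hw ▸ hn2
      have hwa : Commute w a := (commute_of_mem_zpowers haz hwZ).symm
      have hna : n * a * n⁻¹ = w * a := by rw [hw]; group
      have e1 : g * n * g⁻¹ * a * (g * n * g⁻¹)⁻¹ * a⁻¹
          = g * (n * (g⁻¹ * a * g) * n⁻¹) * g⁻¹ * a⁻¹ := by group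
      have e2 : g * (w ^ k * a ^ k) * g⁻¹ = (g * w * g⁻¹) ^ k * (g * a * g⁻¹) ^ k := by
        rw [conj_pow, conj_pow]; group
      rw [e1, hga', ← conj_pow, hna, hwa.mul_pow, e2, hga, ← pow_mul, mul_comm l k, hakl,
        mul_inv_cancel_right]
      exact Subgroup.pow_mem _ (hgZ w hwZ) k
  have h2 : ((g • P : Sylow p G) : Subgroup G) ≤ adjB z a := by
    intro x hx
    rw [Sylow.coe_subgroup_smul, Subgroup.mem_smul_pointwise_iff_exists] at hx
    obtain ⟨s, hs, rfl⟩ := hx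
    have : MulAut.conj g • s = g * s * g⁻¹ := by
      rw [MulAut.smul_def, MulAut.conj_apply]
    rw [this]
    exact hgB s (hPB hs)
  obtain ⟨t, ht⟩ := MulAction.exists_smul_eq (adjB z a) ((g • P).subtype h2) (P.subtype hPB)
  rw [Sylow.smul_subtype] at ht
  have h4 : (t : G) • (g • P) = P := Sylow.subtype_injective ht
  rw [← mul_smul, Sylow.smul_eq_iff_mem_normalizer] at h4
  obtain ⟨ht1, ht2⟩ := mem_adjB.mp t.2
  refine ⟨(t : G) * g, h4, ?_, ?_⟩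
  · have e1 : (t : G) * g * z * ((t : G) * g)⁻¹ = (t : G) * (g * z * g⁻¹) * (t : G)⁻¹ := by group
    rw [e1, hgz, conj_eq_of_commute (ht1.pow_right k)]
  · obtain ⟨w, hw⟩ : ∃ w, w = (t : G) * a * (t : G)⁻¹ * a⁻¹ := ⟨_, rfl⟩
    have hwZ : w ∈ Subgroup.zpowers z := hw ▸ ht2
    have hwa : Commute w a := (commute_of_mem_zpowers haz hwZ).symm
    have hta : (t : G) * a * (t : G)⁻¹ = w * a := by rw [hw]; group
    have e1 : (t : G) * g * a * ((t : G) * g)⁻¹ * (a ^ l)⁻¹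
        = (t : G) * (g * a * g⁻¹) * (t : G)⁻¹ * (a ^ l)⁻¹ := by group
    rw [e1, hga, ← conj_pow, hta, hwa.mul_pow, mul_inv_cancel_right]
    exact Subgroup.pow_mem _ hwZ l

end Cfsg.Agent.Helper60.ES3
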