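import Mathlib
import Cfsg.Prelude.Def_Transfer

/-! Piece (TRANSV) of #5312 (helper23, S3055): if all nonidentity elements of the extraspecial
Sylow `p`-subgroup `P` (order `p³`, exponent `p`) are `G`-conjugate, then for a noncentral
`a ∈ P` both transvections of the plane `⟨z, a⟩` are induced by elements of `G` (helper60). -/

set_option autoImplicit false

namespace Cfsg.Agent.Helper60.ES3

open scoped commutatorElement

/-- Sylow conjugacy inside a subgroup. -/
theorem exists_conj_into_sylow_of_le {G : Type*} [Group G] [Finite G] {r : ℕ} [Fact r.Prime]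
    (S : Sylow r G) (N : Subgroup G) (hSN : (S : Subgroup G) ≤ N) (Q : Subgroup G) (hQN : Q ≤ N)
    (hQ : IsPGroup r Q) : ∃ n ∈ N, ∀ q ∈ Q, n * q * n⁻¹ ∈ (S : Subgroup G) := by
  have hQ' : IsPGroup r (Q.subgroupOf N) := hQ.comap_subtype
  obtain ⟨Q₁, hQ₁⟩ := hQ'.exists_le_sylow
  obtain ⟨n, hn⟩ := MulAction.exists_smul_eq N Q₁ (S.subtype hSN)
  refine ⟨(n : G), n.2, fun q hq => ?_⟩
  have h1 : (⟨q, hQN hq⟩ : N) ∈ (Q₁ : Subgroup N) :=
    hQ₁ (by rw [Subgroup.mem_subgroupOf]; exact hq)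
  have h2 : n * ⟨q, hQN hq⟩ * n⁻¹ ∈ ((n • Q₁ : Sylow r N) : Subgroup N) := by
    rw [Sylow.smul_def, Sylow.pointwise_smul_def]
    have := Subgroup.smul_mem_pointwise_smul _ (MulAut.conj n) _ h1
    simpa [MulAut.smul_def] using this
  rw [hn, Sylow.coe_subtype, Subgroup.mem_subgroupOf] at h2
  exact h2

theorem exists_transvections {G : Type*} [Group G] [Finite G] {p : ℕ} [Fact p.Prime]
    (P : Sylow p G) (hE : Cfsg.IsExtraspecial p ↥(P : Subgroup G))
    (hcard : Nat.card (P : Subgroup G) = p ^ 3) (hexp : ∀ x ∈ (P : Subgroup G), x ^ p = 1)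
    (hconj : ∀ x y : ↥(P : Subgroup G), x ≠ 1 → y ≠ 1 → ∃ g : G, g * (x : G) * g⁻¹ = (y : G))
    (A : Subgroup G) (hAP : A ≤ (P : Subgroup G)) (hAcard : Nat.card A = p ^ 2) (z a : G)
    (hzP : z ∈ (P : Subgroup G)) (hzc : ∀ x ∈ (P : Subgroup G), x * z = z * x) (hz1 : z ≠ 1)
    (haA : a ∈ A) (hanc : ∃ x ∈ (P : Subgroup G), x * a ≠ a * x) :
    ∃ (x y : G) (s t : ℕ), ¬ p ∣ s ∧ ¬ p ∣ t ∧ x * z * x⁻¹ = z ∧ x * a * x⁻¹ = z ^ s * a ∧
      y * z * y⁻¹ = z * a ^ t ∧ y * a * y⁻¹ = a := by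
  have hp : p.Prime := Fact.out
  have haP : a ∈ (P : Subgroup G) := hAP haA
  have hzp : z ^ p = 1 := hexp z hzP
  have hordz : orderOf z = p := orderOf_eq_prime hzp hz1
  -- central elements of `P` are powers of `z`
  have hcenZ : ∀ u ∈ (P : Subgroup G), (∀ x ∈ (P : Subgroup G), x * u = u * x) →
      u ∈ Subgroup.zpowers z := by
    intro u hu hucen
    have hzc' : (⟨z, hzP⟩ : ↥(P : Subgroup G)) ∈ Subgroup.center ↥(P : Subgroup G) := by
      rw [Subgroup.mem_center_iff]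
      intro x
      apply Subtype.ext
      exact hzc x x.2
    have huc' : (⟨u, hu⟩ : ↥(P : Subgroup G)) ∈ Subgroup.center ↥(P : Subgroup G) := by
      rw [Subgroup.mem_center_iff]
      intro x
      apply Subtype.ext
      exact hucen x x.2
    have hne : (⟨⟨z, hzP⟩, hzc'⟩ : Subgroup.center ↥(P : Subgroup G)) ≠ 1 := by
      intro h
      apply hz1
      have := congrArg (fun t : Subgroup.center ↥(P : Subgroup G) =>
        ((t : ↥(P : Subgroup G)) : G)) h
      simpa using this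
    have hmem := mem_zpowers_of_prime_card (hE.2) hne
      (g' := (⟨⟨u, hu⟩, huc'⟩ : Subgroup.center ↥(P : Subgroup G)))
    obtain ⟨i, hi⟩ := Subgroup.mem_zpowers_iff.mp hmem
    rw [Subgroup.mem_zpowers_iff]
    refine ⟨i, ?_⟩
    have := congrArg (fun t : Subgroup.center ↥(P : Subgroup G) =>
      ((t : ↥(P : Subgroup G)) : G)) hi
    simpa using this
  -- commutators of `P` are powers of `z`
  have hcomZ : ∀ x ∈ (P : Subgroup G), ∀ y ∈ (P : Subgroup G),
      x * y * x⁻¹ * y⁻¹ ∈ Subgroup.zpowers z := by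
    intro x hx y hy
    have h1 : ⁅(⟨x, hx⟩ : ↥(P : Subgroup G)), ⟨y, hy⟩⁆ ∈ commutator ↥(P : Subgroup G) := by
      rw [_root_.commutator_def]
      exact Subgroup.commutator_mem_commutator (Subgroup.mem_top _) (Subgroup.mem_top _)
    rw [hE.1.2.2, Subgroup.mem_center_iff] at h1
    apply hcenZ (x * y * x⁻¹ * y⁻¹)
      (mul_mem (mul_mem (mul_mem hx hy) (inv_mem hx)) (inv_mem hy))
    intro w hw
    have := congrArg Subtype.val (h1 ⟨w, hw⟩)
    simpa [commutatorElement_def] using this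
  -- a noncommuting pair gives a nontrivial power of `z`
  have hpair : ∀ x ∈ (P : Subgroup G), ∀ b ∈ (P : Subgroup G), x * b ≠ b * x →
      ∃ s : ℕ, ¬ p ∣ s ∧ x * b * x⁻¹ = z ^ s * b := by
    intro x hx b hb hne
    have h1 := hcomZ x hx b hb
    rw [← mem_powers_iff_mem_zpowers, Submonoid.mem_powers_iff] at h1
    obtain ⟨s, hs⟩ := h1
    refine ⟨s, ?_, ?_⟩
    · intro hdvd
      apply hne
      have h2 : z ^ s = 1 := by
        rw [← hordz] at hdvd
        exact orderOf_dvd_iff_pow_eq_one.mp hdvd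
      rw [h2] at hs
      have h3 := hs.symm
      rw [mul_inv_eq_one, mul_inv_eq_iff_eq_mul] at h3
      exact h3
    · rw [hs]; group
  obtain ⟨x0, hx0P, hx0⟩ := hanc
  obtain ⟨s, hs, hxs⟩ := hpair x0 hx0P a haP hx0
  have ha1 : a ≠ 1 := by
    intro h
    apply hx0
    rw [h, mul_one, one_mul]
  have hap : a ^ p = 1 := hexp a haP
  have horda : orderOf a = p := orderOf_eq_prime hap ha1
  have hcza : Commute a z := hzc a haP
  -- `z` is not a power of `a`
  have hza : z ∉ Subgroup.zpowers a := by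
    intro h
    rw [← mem_powers_iff_mem_zpowers, Submonoid.mem_powers_iff] at h
    obtain ⟨m, hm⟩ := h
    by_cases hd : p ∣ m
    · apply hz1
      rw [← hm]
      rw [← horda] at hd
      exact orderOf_dvd_iff_pow_eq_one.mp hd
    · have hcop : Nat.Coprime m p := ((Nat.Prime.coprime_iff_not_dvd hp).mpr hd).symm
      obtain ⟨r, -, hr⟩ := Nat.exists_mul_mod_eq_one_of_coprime hcop hp.one_lt
      have h1 : a ^ (m * r) = a := by
        rw [← pow_mod_orderOf, horda, hr, pow_one]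
      have h2 : a = z ^ r := by rw [← h1, pow_mul, hm]
      apply hx0
      rw [h2]
      have hc0 : Commute x0 z := hzc x0 hx0P
      exact (hc0.pow_right r).eq
  -- the conjugating element
  obtain ⟨g, hg⟩ := hconj ⟨z, hzP⟩ ⟨a, haP⟩
    (fun h => hz1 (congrArg Subtype.val h)) (fun h => ha1 (congrArg Subtype.val h))
  have hg : g * z * g⁻¹ = a := hg
  have hQC : ((g • P : Sylow p G) : Subgroup G) ≤ Subgroup.centralizer {a} := by
    intro q hq
    rw [Sylow.coe_subgroup_smul, Subgroup.mem_smul_pointwise_iff_exists] at hq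
    obtain ⟨u, hu, rfl⟩ := hq
    have e : MulAut.conj g • u = g * u * g⁻¹ := by rw [MulAut.smul_def, MulAut.conj_apply]
    rw [e, Subgroup.mem_centralizer_iff]
    intro h hh
    rw [Set.mem_singleton_iff] at hh
    rw [hh, ← hg]
    have := hzc u hu
    calc g * z * g⁻¹ * (g * u * g⁻¹) = g * (z * u) * g⁻¹ := by group
      _ = g * (u * z) * g⁻¹ := by rw [this]
      _ = g * u * g⁻¹ * (g * z * g⁻¹) := by group
  have hzC : Subgroup.zpowers z ≤ Subgroup.centralizer {a} := by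
    rw [Subgroup.zpowers_le, Subgroup.mem_centralizer_iff]
    intro h hh
    rw [Set.mem_singleton_iff] at hh
    rw [hh]
    exact hcza.eq
  have hPz : IsPGroup p (Subgroup.zpowers z) := by
    apply IsPGroup.of_card (n := 1)
    rw [Nat.card_zpowers, hordz, pow_one]
  obtain ⟨c, hcC, hc⟩ := exists_conj_into_sylow_of_le (g • P) (Subgroup.centralizer {a}) hQC
    (Subgroup.zpowers z) hzC hPz
  have hc1 := hc z (Subgroup.mem_zpowers z)
  rw [Sylow.coe_subgroup_smul, Subgroup.mem_smul_pointwise_iff_exists] at hc1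
  obtain ⟨u, hu, hu2⟩ := hc1
  have hu2 : g * u * g⁻¹ = c * z * c⁻¹ := by
    rw [← hu2, MulAut.smul_def, MulAut.conj_apply]
  have hca : a * c = c * a := by
    rw [Subgroup.mem_centralizer_iff] at hcC
    exact hcC a (Set.mem_singleton a)
  obtain ⟨g', hg'⟩ : ∃ g' : G, g' = c⁻¹ * g := ⟨_, rfl⟩
  have hg'z : g' * z * g'⁻¹ = a := by
    have e : g' * z * g'⁻¹ = c⁻¹ * (g * z * g⁻¹) * c := by rw [hg']; group
    rw [e, hg]
    calc c⁻¹ * a * c = c⁻¹ * (a * c) := by group
      _ = c⁻¹ * (c * a) := by rw [hca]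
      _ = a := by group
  have hg'u : g'⁻¹ * z * g' = u := by
    have e : g'⁻¹ * z * g' = g⁻¹ * (c * z * c⁻¹) * g := by rw [hg']; group
    rw [e, ← hu2]
    group
  have hg'u' : g' * u * g'⁻¹ = z := by rw [← hg'u]; group
  have hg'a : g'⁻¹ * a * g' = z := by rw [← hg'z]; group
  -- `u` is not central in `P`
  have hunc : ∃ x' ∈ (P : Subgroup G), x' * u ≠ u * x' := by
    by_contra hcon
    have hcon' : ∀ x ∈ (P : Subgroup G), x * u = u * x := by
      intro x hx
      by_contra hne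
      exact hcon ⟨x, hx, hne⟩
    have := hcenZ u hu hcon'
    obtain ⟨m, hm⟩ := Subgroup.mem_zpowers_iff.mp this
    apply hza
    rw [Subgroup.mem_zpowers_iff]
    refine ⟨m, ?_⟩
    rw [← hg'z, conj_zpow, hm, hg'u']
  obtain ⟨x', hx'P, hx'⟩ := hunc
  obtain ⟨t, ht, hxt⟩ := hpair x' hx'P u hu hx'
  refine ⟨x0, g' * x' * g'⁻¹, s, t, hs, ht, ?_, hxs, ?_, ?_⟩
  · rw [hzc x0 hx0P, mul_inv_cancel_right]
  · have e : g' * x' * g'⁻¹ * z * (g' * x' * g'⁻¹)⁻¹ = g' * (x' * (g'⁻¹ * z * g') * x'⁻¹) * g'⁻¹ := by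
      group
    have e2 : g' * (z ^ t * u) * g'⁻¹ = (g' * z * g'⁻¹) ^ t * (g' * u * g'⁻¹) := by
      rw [conj_pow]; group
    rw [e, hg'u, hxt, e2, hg'z, hg'u']
    exact ((hcza.pow_left t).eq)
  · have e : g' * x' * g'⁻¹ * a * (g' * x' * g'⁻¹)⁻¹ = g' * (x' * (g'⁻¹ * a * g') * x'⁻¹) * g'⁻¹ := by
      group
    rw [e, hg'a, hzc x' hx'P, mul_inv_cancel_right, hg'z]

end Cfsg.Agent.Helper60.ES3
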