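import Mathlib
import Cfsg.Agent.Helper6.SUrep2
import Cfsg.Agent.Helper72.ReeA
import Cfsg.Agent.Helper72.ReeC

/-!
# Piece (G1) of helper6's plan for S2334/S2335 (board #7278): algebra of the Fourier projections `fpr`
-/

set_option autoImplicit false

namespace Cfsg.Agent.Helper60.SUrep

open Cfsg.Agent.Helper6.SUrep Cfsg.Agent.Helper6.ReeH Module

section generic

variable {S : Type*} [AddCommGroup S] [Fintype S] {M : Type*} [AddCommGroup M] [Module ℂ M]

theorem g1_orth1 [DecidableEq (AddChar S ℂ)] (ψ ψ' : AddChar S ℂ) :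
    ∑ x : S, ψ x * ψ' (-x) = if ψ = ψ' then (Fintype.card S : ℂ) else 0 := by
  classical
  have h := AddChar.sum_eq_ite (ψ * ψ'⁻¹)
  have h2 : ∀ x : S, (ψ * ψ'⁻¹) x = ψ x * ψ' (-x) := by
    intro x
    rw [AddChar.mul_apply, AddChar.inv_apply]
  simp only [h2] at h
  rw [h]
  have h3 : (ψ * ψ'⁻¹ = 0) ↔ ψ = ψ' := by
    rw [← AddChar.one_eq_zero, mul_inv_eq_one]
  simp only [h3]

/-- (G1a) -/
theorem fpr_mul_fpr (s : S → Module.End ℂ M) (hs : ∀ x y, s (x + y) = s x * s y)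
    (ψ ψ' : AddChar S ℂ) :
    fpr s ψ * fpr s ψ' = if ψ = ψ' then fpr s ψ else 0 := by
  classical
  exact Cfsg.Agent.Helper72.ReeA.fproj_mul (fun ψ : AddChar S ℂ => ψ) s hs
    (fun p p' => g1_orth1 p p') ψ ψ'

/-- (G1b) -/
theorem sum_fpr (s : S → Module.End ℂ M) (hs0 : s 0 = 1) : ∑ ψ : AddChar S ℂ, fpr s ψ = 1 := by
  classical
  refine Cfsg.Agent.Helper72.ReeA.sum_fproj (fun ψ : AddChar S ℂ => ψ) s hs0 ?_
  intro x
  exact AddChar.sum_apply_eq_ite x

/-- (G1c) -/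
theorem mul_fpr' (s : S → Module.End ℂ M) (hs : ∀ x y, s (x + y) = s x * s y) (x : S)
    (ψ : AddChar S ℂ) : s x * fpr s ψ = ψ x • fpr s ψ := by
  classical
  exact Cfsg.Agent.Helper72.ReeA.mul_fproj (fun ψ : AddChar S ℂ => ψ) s hs x ψ

/-- (G1d) -/
theorem mem_range_fpr_iff (s : S → Module.End ℂ M) (hs0 : s 0 = 1)
    (hs : ∀ x y, s (x + y) = s x * s y) (ψ : AddChar S ℂ) (m : M) :
    m ∈ LinearMap.range (fpr s ψ) ↔ ∀ x, s x m = ψ x • m := by
  classical
  constructor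
  · rintro ⟨m', rfl⟩ x
    have h := mul_fpr' s hs x ψ
    have h2 := congrArg (fun E : Module.End ℂ M => E m') h
    simpa using h2
  · intro h
    have hN : (Fintype.card S : ℂ) ≠ 0 := by
      have : 0 < Fintype.card S := Fintype.card_pos
      exact_mod_cast this.ne'
    refine ⟨m, ?_⟩
    unfold fpr fproj
    rw [LinearMap.smul_apply, LinearMap.sum_apply]
    have h1 : ∀ x ∈ (Finset.univ : Finset S), (ψ (-x) • s x) m = m := by
      intro x _
      rw [LinearMap.smul_apply, h x, smul_smul, ← AddChar.map_add_eq_mul, neg_add_cancel,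
        AddChar.map_zero_eq_one, one_smul]
    rw [Finset.sum_congr rfl h1, Finset.sum_const, Finset.card_univ, ← Nat.cast_smul_eq_nsmul ℂ,
      smul_smul, inv_mul_cancel₀ hN, one_smul]

/-- (G1e) -/
theorem finrank_eq_sum_fpr [FiniteDimensional ℂ M] (s : S → Module.End ℂ M) (hs0 : s 0 = 1)
    (hs : ∀ x y, s (x + y) = s x * s y) :
    finrank ℂ M = ∑ ψ : AddChar S ℂ, finrank ℂ (LinearMap.range (fpr s ψ)) := by
  classical
  have h1 : LinearMap.trace ℂ M (∑ ψ : AddChar S ℂ, fpr s ψ) = LinearMap.trace ℂ M 1 := by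
    rw [sum_fpr s hs0]
  rw [map_sum, LinearMap.trace_one] at h1
  have h2 : ∀ ψ ∈ (Finset.univ : Finset (AddChar S ℂ)), LinearMap.trace ℂ M (fpr s ψ) =
      (finrank ℂ (LinearMap.range (fpr s ψ)) : ℂ) := by
    intro ψ _
    apply Cfsg.Agent.Helper72.ReeC.trace_idem
    have := fpr_mul_fpr s hs ψ ψ
    rwa [if_pos rfl] at this
  rw [Finset.sum_congr rfl h2] at h1
  have h3 : ((∑ ψ : AddChar S ℂ, finrank ℂ (LinearMap.range (fpr s ψ)) : ℕ) : ℂ) =
      (finrank ℂ M : ℂ) := by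
    rw [← h1]
    push_cast
    rfl
  exact_mod_cast h3.symm

/-- (G1f) -/
theorem finrank_range_fpr_conj [FiniteDimensional ℂ M] (s : S → Module.End ℂ M)
    (g g' : Module.End ℂ M) (hgg' : g * g' = 1) (hg'g : g' * g = 1) (σ : S ≃+ S)
    (hσ : ∀ x, g * s x * g' = s (σ x)) (ψ ψ' : AddChar S ℂ) (hψ : ∀ x, ψ' (σ x) = ψ x) :
    finrank ℂ (LinearMap.range (fpr s ψ)) = finrank ℂ (LinearMap.range (fpr s ψ')) := by
  classical
  have hc : g * fpr s ψ * g' = fpr s ψ' := by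
    refine Cfsg.Agent.Helper72.ReeA.conj_fproj (fun ψ : AddChar S ℂ => ψ) s g g' σ.toEquiv hσ ψ ψ' ?_
    intro x
    have : -(σ.toEquiv x) = σ (-x) := by
      rw [map_neg]
      rfl
    rw [this, hψ]
  let e : M ≃ₗ[ℂ] M := LinearEquiv.ofLinearMap g g' hgg' hg'g
  have hr : LinearMap.range (fpr s ψ') = (LinearMap.range (fpr s ψ)).map (e : M →ₗ[ℂ] M) := by
    ext m
    constructor
    · rintro ⟨m', rfl⟩
      rw [← hc]
      refine ⟨fpr s ψ (g' m'), ⟨g' m', rfl⟩, ?_⟩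
      rfl
    · rintro ⟨_, ⟨m', rfl⟩, rfl⟩
      refine ⟨g m', ?_⟩
      rw [← hc]
      change g (fpr s ψ (g' (g m'))) = g (fpr s ψ m')
      have : g' (g m') = m' := by
        have := congrArg (fun E : Module.End ℂ M => E m') hg'g
        simpa using this
      rw [this]
  rw [hr, LinearEquiv.finrank_map_eq]

/-- (G1g) an operator commuting with the family commutes with the projections -/
theorem commute_fpr (s : S → Module.End ℂ M) (g : Module.End ℂ M) (hg : ∀ x, g * s x = s x * g)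
    (ψ : AddChar S ℂ) : g * fpr s ψ = fpr s ψ * g := by
  unfold fpr fproj
  rw [mul_smul_comm, smul_mul_assoc, Finset.mul_sum, Finset.sum_mul]
  congr 1
  apply Finset.sum_congr rfl
  intro x _
  rw [mul_smul_comm, smul_mul_assoc, hg]

end generic

end Cfsg.Agent.Helper60.SUrep
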