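import Mathlib

set_option autoImplicit false

namespace Cfsg.Agent.Helper60

open Equiv Equiv.Perm MulAction

variable {α : Type*} [Fintype α] [DecidableEq α]

omit [Fintype α] [DecidableEq α] in
/-- In a `k`-transitive permutation group, any permutation can be matched on a set of `k` points
by an element of the group. -/
theorem exists_mem_agree_on {G : Subgroup (Perm α)} (S : Finset α)
    (hG : IsMultiplyPretransitive G α S.card) (t : Perm α) :
    ∃ x ∈ G, ∀ s ∈ S, x s = t s := by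
  let a : Fin S.card ↪ α := (S.equivFin.symm.toEmbedding).trans (Function.Embedding.subtype _)
  let b : Fin S.card ↪ α := a.trans t.toEmbedding
  obtain ⟨x, hx⟩ := hG.exists_smul_eq a b
  refine ⟨x, x.2, ?_⟩
  intro s hs
  have h1 : a (S.equivFin ⟨s, hs⟩) = s := by simp [a]
  have h2 := DFunLike.congr_fun hx (S.equivFin ⟨s, hs⟩)
  rw [Function.Embedding.smul_apply, h1] at h2
  rw [show (x : Perm α) s = x • s from rfl, h2]
  simp [b, h1]

/-- In a finite group whose order is not divisible by `p ^ 2`, any two elements of order `p`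
generate conjugate subgroups. -/
theorem exists_conj_mem_zpowers_of_not_sq_dvd {F : Type*} [Group F] [Finite F] {p : ℕ}
    [hp : Fact p.Prime] (hF : ¬ p ^ 2 ∣ Nat.card F) (g g' : F) (hog : orderOf g = p)
    (hog' : orderOf g' = p) : ∃ f : F, f * g' * f⁻¹ ∈ Subgroup.zpowers g := by
  have hP : ∀ h : F, orderOf h = p → IsPGroup p (Subgroup.zpowers h) := by
    intro h hh
    apply IsPGroup.of_card (n := 1)
    rw [Nat.card_zpowers, hh, pow_one]
  have key : ∀ h : F, orderOf h = p → ∀ Q : Sylow p F, Subgroup.zpowers h ≤ Q →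
      Subgroup.zpowers h = Q := by
    intro h hh Q hle
    apply Subgroup.eq_of_le_of_card_ge hle
    rw [Nat.card_zpowers, hh]
    obtain ⟨k, hk⟩ := IsPGroup.iff_card.mp Q.isPGroup'
    rw [hk]
    have hdvd : p ^ k ∣ Nat.card F := hk ▸ Subgroup.card_subgroup_dvd_card (Q : Subgroup F)
    have hk1 : k ≤ 1 := by
      by_contra hcon
      push Not at hcon
      exact hF ((pow_dvd_pow p hcon).trans hdvd)
    calc p ^ k ≤ p ^ 1 := Nat.pow_le_pow_right hp.out.pos hk1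
      _ = p := pow_one p
  obtain ⟨Q₁, hQ₁⟩ := (hP g hog).exists_le_sylow
  obtain ⟨Q₂, hQ₂⟩ := (hP g' hog').exists_le_sylow
  have e₁ := key g hog Q₁ hQ₁
  obtain ⟨f, hf⟩ := MulAction.exists_smul_eq F Q₂ Q₁
  refine ⟨f, ?_⟩
  rw [e₁, ← hf, Sylow.coe_subgroup_smul]
  have : g' ∈ (Q₂ : Subgroup F) := hQ₂ (Subgroup.mem_zpowers g')
  have h2 := Subgroup.smul_mem_pointwise_smul g' (MulAut.conj f) (Q₂ : Subgroup F) this
  simpa [MulAut.smul_def] using h2

/-- A subgroup of `Perm α` all of whose elements are supported in a set of prime size `p`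
has order not divisible by `p ^ 2`. -/
theorem not_sq_dvd_card_of_support_subset {F : Subgroup (Perm α)} {p : ℕ} (hp : p.Prime)
    (Γ : Finset α) (hΓ : Γ.card = p) (hF : ∀ x ∈ F, x.support ⊆ Γ) : ¬ p ^ 2 ∣ Nat.card F := by
  have hle : F ≤ (ofSubtype : Perm {x // x ∈ Γ} →* Perm α).range := by
    intro x hx
    rw [mem_range_ofSubtype_iff]
    intro y hy
    exact hF x hx hy
  have hcard : Nat.card (ofSubtype : Perm {x // x ∈ Γ} →* Perm α).range = p.factorial := by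
    rw [Nat.card_congr (MonoidHom.ofInjective (ofSubtype_injective)).symm.toEquiv,
      Nat.card_eq_fintype_card, Fintype.card_perm, Fintype.card_coe, hΓ]
  intro hdvd
  have h1 : p ^ 2 ∣ p.factorial := hcard ▸ hdvd.trans (Subgroup.card_dvd_of_le hle)
  obtain ⟨k, rfl⟩ : ∃ k, p = k + 1 := ⟨p - 1, by have := hp.pos; omega⟩
  rw [Nat.factorial_succ, pow_two] at h1
  have h2 : (k + 1) ∣ k.factorial := Nat.dvd_of_mul_dvd_mul_left (Nat.succ_pos k) h1
  have := (hp.dvd_factorial).mp h2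
  omega

/-- Witt-type lemma: if `G` is `|Δ|`-transitive where `Δ` is the fixed point set of a cycle `g ∈ G`
of prime length, then any permutation `t` of `α` preserving `Δ` is matched on `Δ` by an element of
`G` normalizing `⟨g⟩`. -/
theorem exists_mem_normalizing_agree_on {G : Subgroup (Perm α)} {p : ℕ} (hp : p.Prime)
    {g : Perm α} (hgc : g.IsCycle) (hgp : g.support.card = p) (hg : g ∈ G)
    (hG : IsMultiplyPretransitive G α (g.supportᶜ).card) (t : Perm α)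
    (ht : ∀ δ ∈ g.supportᶜ, t δ ∈ g.supportᶜ) :
    ∃ x ∈ G, (∀ δ ∈ g.supportᶜ, x δ = t δ) ∧ x * g * x⁻¹ ∈ Subgroup.zpowers g := by
  have : Fact p.Prime := ⟨hp⟩
  set Δ := g.supportᶜ with hΔ
  obtain ⟨x₀, hx₀G, hx₀⟩ := exists_mem_agree_on Δ hG t
  -- x₀ maps Δ onto Δ
  have hx₀Δ : ∀ δ ∈ Δ, x₀ δ ∈ Δ := fun δ hδ => by rw [hx₀ δ hδ]; exact ht δ hδ
  have hmap : Δ.map x₀.toEmbedding = Δ := by
    apply Finset.eq_of_subset_of_card_le
    · intro y hy
      rw [Finset.mem_map] at hy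
      obtain ⟨δ, hδ, rfl⟩ := hy
      exact hx₀Δ δ hδ
    · rw [Finset.card_map]
  have hx₀inv : ∀ δ ∈ Δ, x₀⁻¹ δ ∈ Δ := by
    intro δ hδ
    rw [← hmap, Finset.mem_map] at hδ
    obtain ⟨δ', hδ', rfl⟩ := hδ
    simpa using hδ'
  have hgfix : ∀ δ ∈ Δ, g δ = δ := by
    intro δ hδ
    rw [hΔ, Finset.mem_compl, notMem_support] at hδ
    exact hδ
  set g' := x₀ * g * x₀⁻¹ with hg'
  have hg'G : g' ∈ G := G.mul_mem (G.mul_mem hx₀G hg) (G.inv_mem hx₀G)
  have hg'fix : ∀ δ ∈ Δ, g' δ = δ := by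
    intro δ hδ
    simp only [hg', Perm.mul_apply]
    rw [hgfix _ (hx₀inv δ hδ)]
    simp
  -- the subgroup F
  let F : Subgroup (Perm α) :=
    { carrier := {x | x ∈ G ∧ ∀ δ ∈ Δ, x δ = δ}
      mul_mem' := by
        rintro a b ⟨ha, ha'⟩ ⟨hb, hb'⟩
        refine ⟨G.mul_mem ha hb, fun δ hδ => ?_⟩
        rw [Perm.mul_apply, hb' δ hδ, ha' δ hδ]
      one_mem' := ⟨G.one_mem, fun _ _ => rfl⟩
      inv_mem' := by
        rintro a ⟨ha, ha'⟩
        refine ⟨G.inv_mem ha, fun δ hδ => ?_⟩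
        rw [Perm.inv_eq_iff_eq, ha' δ hδ] }
  have hFmem : ∀ x, x ∈ F ↔ x ∈ G ∧ ∀ δ ∈ Δ, x δ = δ := fun x => Iff.rfl
  have hFsupp : ∀ x ∈ F, x.support ⊆ g.support := by
    intro x hx y hy
    by_contra hcon
    have : y ∈ Δ := by rw [hΔ, Finset.mem_compl]; exact hcon
    rw [mem_support] at hy
    exact hy (hx.2 y this)
  have hFcard := not_sq_dvd_card_of_support_subset hp g.support hgp hFsupp
  have hgF : g ∈ F := ⟨hg, hgfix⟩
  have hg'F : g' ∈ F := ⟨hg'G, hg'fix⟩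
  have hog : orderOf g = p := by rw [hgc.orderOf, hgp]
  have hog' : orderOf g' = p := by
    rw [← hog]
    have hs : SemiconjBy x₀ g g' := by
      unfold SemiconjBy
      rw [hg']; group
    exact (hs.orderOf_eq).symm
  have hogF : orderOf (⟨g, hgF⟩ : F) = p := by rw [Subgroup.orderOf_mk, hog]
  have hog'F : orderOf (⟨g', hg'F⟩ : F) = p := by rw [Subgroup.orderOf_mk, hog']
  obtain ⟨f, hf⟩ := exists_conj_mem_zpowers_of_not_sq_dvd hFcard (⟨g, hgF⟩ : F) ⟨g', hg'F⟩ hogF hog'F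
  rw [Subgroup.mem_zpowers_iff] at hf
  obtain ⟨k, hk⟩ := hf
  have hk' : g ^ k = (f : Perm α) * g' * (f : Perm α)⁻¹ := by
    have := congrArg Subtype.val hk
    simpa using this
  refine ⟨(f : Perm α) * x₀, G.mul_mem f.2.1 hx₀G, ?_, ?_⟩
  · intro δ hδ
    rw [Perm.mul_apply, hx₀ δ hδ]
    exact f.2.2 _ (ht δ hδ)
  · rw [Subgroup.mem_zpowers_iff]
    refine ⟨k, ?_⟩
    rw [hk', hg']
    group

/-- If `x₁, x₂` normalize `⟨g⟩` then their commutator commutes with `g`. -/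
theorem commute_commutator_of_normalizing {H : Type*} [Group H] {g x₁ x₂ : H}
    (h₁ : x₁ * g * x₁⁻¹ ∈ Subgroup.zpowers g) (h₂ : x₂ * g * x₂⁻¹ ∈ Subgroup.zpowers g) :
    Commute (x₁⁻¹ * x₂⁻¹ * x₁ * x₂) g := by
  rw [Subgroup.mem_zpowers_iff] at h₁ h₂
  obtain ⟨a, ha⟩ := h₁
  obtain ⟨b, hb⟩ := h₂
  -- (x₁x₂) g (x₁x₂)⁻¹ = g^(b*a) = (x₂x₁) g (x₂x₁)⁻¹
  have e1 : (x₁ * x₂) * g * (x₁ * x₂)⁻¹ = g ^ (a * b) := by
    calc (x₁ * x₂) * g * (x₁ * x₂)⁻¹ = x₁ * (x₂ * g * x₂⁻¹) * x₁⁻¹ := by group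
      _ = x₁ * g ^ b * x₁⁻¹ := by rw [hb]
      _ = (x₁ * g * x₁⁻¹) ^ b := by rw [conj_zpow]
      _ = (g ^ a) ^ b := by rw [ha]
      _ = g ^ (a * b) := by rw [zpow_mul]
  have e2 : (x₂ * x₁) * g * (x₂ * x₁)⁻¹ = g ^ (a * b) := by
    calc (x₂ * x₁) * g * (x₂ * x₁)⁻¹ = x₂ * (x₁ * g * x₁⁻¹) * x₂⁻¹ := by group
      _ = x₂ * g ^ a * x₂⁻¹ := by rw [ha]
      _ = (x₂ * g * x₂⁻¹) ^ a := by rw [conj_zpow]
      _ = (g ^ b) ^ a := by rw [hb]
      _ = g ^ (a * b) := by rw [← zpow_mul, mul_comm]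
  have e3 : (x₁ * x₂) * g * (x₁ * x₂)⁻¹ = (x₂ * x₁) * g * (x₂ * x₁)⁻¹ := by rw [e1, e2]
  unfold Commute SemiconjBy
  calc x₁⁻¹ * x₂⁻¹ * x₁ * x₂ * g
      = (x₂ * x₁)⁻¹ * ((x₁ * x₂) * g * (x₁ * x₂)⁻¹) * (x₁ * x₂) := by group
    _ = (x₂ * x₁)⁻¹ * ((x₂ * x₁) * g * (x₂ * x₁)⁻¹) * (x₁ * x₂) := by rw [e3]
    _ = g * (x₁⁻¹ * x₂⁻¹ * x₁ * x₂) := by group

/-- A permutation commuting with a cycle `g` can be corrected by a power of `g` so as to fix the
support of `g` pointwise. -/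
theorem exists_zpow_mul_fix_support {g c : Perm α} (hgc : g.IsCycle) (hc : Commute c g) :
    ∃ j : ℤ, ∀ y ∈ g.support, (g ^ j * c) y = y := by
  obtain ⟨a, ha⟩ := hgc.nonempty_support
  have hca : c a ∈ g.support := (mem_support_iff_of_commute hc a).mpr ha
  obtain ⟨i, hi⟩ := hgc.sameCycle (mem_support.mp ha) (mem_support.mp hca)
  refine ⟨-i, ?_⟩
  have hfa : (g ^ (-i) * c) a = a := by
    rw [Perm.mul_apply, ← hi, ← Perm.mul_apply, ← zpow_add]
    simp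
  have hcomm : Commute (g ^ (-i) * c) g := ((Commute.refl g).zpow_left (-i)).mul_left hc
  intro y hy
  obtain ⟨k, hk⟩ := hgc.sameCycle (mem_support.mp ha) (mem_support.mp hy)
  rw [← hk, ← Perm.mul_apply, (hcomm.zpow_right k).eq, Perm.mul_apply, hfa]

/-- Jordan: a primitive permutation group containing a cycle of prime length `p ≤ n - 3`
contains the alternating group. -/
theorem alternatingGroup_le_of_isPreprimitive_of_prime_cycle (G : Subgroup (Perm α))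
    (hG : IsPreprimitive G α) {p : ℕ} (hp : p.Prime) (hpn : p + 3 ≤ Fintype.card α)
    {g : Perm α} (hgc : g.IsCycle) (hgp : g.support.card = p) (hg : g ∈ G) :
    alternatingGroup α ≤ G := by
  classical
  have hp2 := hp.two_le
  set n := Fintype.card α with hn
  set Δ := g.supportᶜ with hΔ
  have hΔcard : Δ.card = n - p := by rw [hΔ, Finset.card_compl, hgp]
  -- multiple transitivity
  have hsc : ((g.support : Set α)ᶜ).ncard = (n - p - 1) + 1 := by
    have := Set.ncard_add_ncard_compl (g.support : Set α)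
    rw [Set.ncard_coe_finset, hgp, Nat.card_eq_fintype_card] at this
    omega
  have hlt : (n - p - 1) + 2 < Nat.card α := by
    rw [Nat.card_eq_fintype_card]; omega
  have htr := isPretransitive_of_isCycle_mem hgc hg
  have hprim : IsPreprimitive (fixingSubgroup G ((g.support : Set α)ᶜ))
      (SubMulAction.ofFixingSubgroup G ((g.support : Set α)ᶜ)) := by
    apply IsPreprimitive.of_prime_card
    convert hp
    rw [Nat.card_eq_fintype_card, Fintype.card_subtype, ← hgp]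
    apply congr_arg
    ext x
    simp [SubMulAction.mem_ofFixingSubgroup_iff]
  have hmp := hG.isMultiplyPreprimitive hsc hlt hprim
  have hmt : IsMultiplyPretransitive G α ((n - p - 1) + 2) :=
    IsMultiplyPreprimitive.isMultiplyPretransitive ..
  have hmt' : IsMultiplyPretransitive G α Δ.card := by
    rw [hΔcard]
    exact isMultiplyPretransitive_of_le (m := n - p) (n := (n - p - 1) + 2) (by omega)
      (by rw [Nat.card_eq_fintype_card]; omega)
  -- three points of Δ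
  have h3 : 2 < Δ.card := by rw [hΔcard]; omega
  obtain ⟨d₁, d₂, d₃, hd₁, hd₂, hd₃, h12, h13, h23⟩ := Finset.two_lt_card_iff.mp h3
  -- swaps preserve Δ
  have hswap : ∀ a b, a ∈ Δ → b ∈ Δ → ∀ δ ∈ Δ, swap a b δ ∈ Δ := by
    intro a b ha hb δ hδ
    rw [swap_apply_def]
    split_ifs <;> assumption
  have hfix : ∀ δ ∈ Δ, g δ = δ := by
    intro δ hδ
    rw [hΔ, Finset.mem_compl, notMem_support] at hδ
    exact hδ
  set t₁ := swap d₁ d₂ with ht₁
  set t₂ := swap d₁ d₃ with ht₂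
  obtain ⟨x₁, hx₁G, hx₁, hx₁n⟩ := exists_mem_normalizing_agree_on hp hgc hgp hg hmt' t₁
    (hswap d₁ d₂ hd₁ hd₂)
  obtain ⟨x₂, hx₂G, hx₂, hx₂n⟩ := exists_mem_normalizing_agree_on hp hgc hgp hg hmt' t₂
    (hswap d₁ d₃ hd₁ hd₃)
  -- inverses agree on Δ too
  have hinv : ∀ (x t : Perm α), (∀ δ ∈ Δ, x δ = t δ) → (∀ δ ∈ Δ, t⁻¹ δ ∈ Δ) →
      ∀ δ ∈ Δ, x⁻¹ δ = t⁻¹ δ := by
    intro x t hxt htinv δ hδ
    rw [Perm.inv_eq_iff_eq, hxt _ (htinv δ hδ)]
    simp
  have ht₁inv : t₁⁻¹ = t₁ := swap_inv d₁ d₂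
  have ht₂inv : t₂⁻¹ = t₂ := swap_inv d₁ d₃
  have hx₁inv := hinv x₁ t₁ hx₁ (by rw [ht₁inv]; exact hswap d₁ d₂ hd₁ hd₂)
  have hx₂inv := hinv x₂ t₂ hx₂ (by rw [ht₂inv]; exact hswap d₁ d₃ hd₁ hd₃)
  rw [ht₁inv] at hx₁inv
  rw [ht₂inv] at hx₂inv
  set c := x₁⁻¹ * x₂⁻¹ * x₁ * x₂ with hc
  have hcG : c ∈ G :=
    G.mul_mem (G.mul_mem (G.mul_mem (G.inv_mem hx₁G) (G.inv_mem hx₂G)) hx₁G) hx₂G
  have hcg : Commute c g := commute_commutator_of_normalizing hx₁n hx₂n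
  have hcΔ : ∀ δ ∈ Δ, c δ = (t₁ * t₂ * (t₁ * t₂)) δ := by
    intro δ hδ
    have m1 := hswap d₁ d₃ hd₁ hd₃ δ hδ
    have m2 := hswap d₁ d₂ hd₁ hd₂ _ m1
    have m3 := hswap d₁ d₃ hd₁ hd₃ _ m2
    simp only [hc, Perm.mul_apply]
    rw [hx₂ δ hδ, hx₁ _ m1, hx₂inv _ m2, hx₁inv _ m3]
  obtain ⟨j, hj⟩ := exists_zpow_mul_fix_support hgc hcg
  have hc'G : g ^ j * c ∈ G := G.mul_mem (G.zpow_mem hg j) hcG
  have hτ : (t₁ * t₂ * (t₁ * t₂)).IsThreeCycle :=
    (isThreeCycle_swap_mul_swap_same h12 h13 h23).isThreeCycle_sq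
  have heq : g ^ j * c = t₁ * t₂ * (t₁ * t₂) := by
    ext y
    by_cases hy : y ∈ g.support
    · rw [hj y hy]
      -- the swaps fix y
      have hyΔ : y ∉ Δ := by rw [hΔ, Finset.mem_compl]; exact fun h => h hy
      have hne : ∀ d ∈ Δ, y ≠ d := fun d hd h => hyΔ (h ▸ hd)
      have f1 : t₂ y = y := swap_apply_of_ne_of_ne (hne d₁ hd₁) (hne d₃ hd₃)
      have f2 : t₁ y = y := swap_apply_of_ne_of_ne (hne d₁ hd₁) (hne d₂ hd₂)
      simp only [Perm.mul_apply, f1, f2]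
    · have hyΔ : y ∈ Δ := by rw [hΔ, Finset.mem_compl]; exact hy
      rw [Perm.mul_apply, hcΔ y hyΔ]
      -- g^j fixes points of Δ
      have m1 := hswap d₁ d₃ hd₁ hd₃ y hyΔ
      have m2 := hswap d₁ d₂ hd₁ hd₂ _ m1
      have m3 := hswap d₁ d₃ hd₁ hd₃ _ m2
      have m4 := hswap d₁ d₂ hd₁ hd₂ _ m3
      have hz : ∀ δ ∈ Δ, (g ^ j) δ = δ := by
        intro δ hδ
        have : δ ∉ (g ^ j).support := fun h => by
          have := support_zpow_le g j h
          rw [hΔ, Finset.mem_compl] at hδ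
          exact hδ this
        exact notMem_support.mp this
      simp only [Perm.mul_apply] at m4 ⊢
      exact hz _ m4
  rw [← heq] at hτ
  exact alternatingGroup_le_of_isPreprimitive_of_isThreeCycle_mem hG hτ hc'G

end Cfsg.Agent.Helper60
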