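import Mathlib
import Cfsg.Prelude.Def_OddOrderLocal
import Cfsg.Prelude.Def_OddOrder
import Cfsg.Agent.S1403
import Cfsg.Agent.Helper29.BG11C

set_option autoImplicit false
open Subgroup

/-!
# `M_σ ≠ 1` unconditionally (helper60)

Thin wrapper: `Cfsg.Agent.Helper29.BG11.sigmaCore_ne_bot` with the Uniqueness Theorem hypothesis
discharged by the landed `S1403`.
-/

namespace Cfsg.Agent.Helper60.BGSigmaNe

theorem sigmaCore_ne_bot {G : Type*} [Group G] [Finite G] (hG : Cfsg.IsMinSimpleOddOrder G)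
    (M : Subgroup G) (hM : IsCoatom M) : Cfsg.sigmaCore M ≠ ⊥ := by
  have hU : Cfsg.Agent.Helper29.BG10.UniquenessThm G :=
    fun K hK hK2 hK3 => Cfsg.Agent.S1403.result hG K hK hK2 hK3
  exact Cfsg.Agent.Helper29.BG11.sigmaCore_ne_bot hG hU hM

end Cfsg.Agent.Helper60.BGSigmaNe
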