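import Mathlib
import Cfsg.Agent.Helper50.CyclicSylow

/-!
# Z-groups whose elements of prime order are central are cyclic (helper60)

Burnside's transfer: each Sylow subgroup `P` is cyclic with `Ω₁(P)` central, so `N(P) ≤ C(P)` and
`p ∤ |X'|`; hence `X' = 1`.
-/

set_option autoImplicit false
open Subgroup

namespace Cfsg.Agent.Helper60.ZCentral

open scoped IsMulCommutative in
/-- if `N(P) ≤ C(P)` for a Sylow `p`-subgroup then `p` does not divide the order of the derived group -/
theorem not_dvd_card_commutator {X : Type*} [Group X] [Finite X] {p : ℕ} [Fact p.Prime]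
    (P : Sylow p X)
    (hN : normalizer ((P : Subgroup X) : Set X) ≤ centralizer ((P : Subgroup X) : Set X)) :
    ¬ p ∣ Nat.card (commutator X) := by
  haveI : IsMulCommutative ↥(P : Subgroup X) :=
    ⟨⟨fun a b => Subtype.ext (hN (le_normalizer b.2) a a.2)⟩⟩
  intro hpd
  apply MonoidHom.not_dvd_card_ker_transferSylow P hN
  exact hpd.trans (Subgroup.card_dvd_of_le (Abelianization.commutator_subset_ker _))

/-- A finite group all of whose Sylow subgroups are cyclic and all of whose elements of prime order
are central is cyclic. -/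
theorem isCyclic_of_isZGroup_of_central {X : Type*} [Group X] [Finite X] [IsZGroup X]
    (h : ∀ y : X, ∀ q : ℕ, q.Prime → y ^ q = 1 → y ∈ Subgroup.center X) : IsCyclic X := by
  -- the commutator subgroup is trivial
  have hcard : Nat.card (commutator X) = 1 := by
    by_contra hne
    obtain ⟨p, hp, hpd⟩ := Nat.exists_prime_and_dvd hne
    haveI : Fact p.Prime := ⟨hp⟩
    obtain ⟨P⟩ : Nonempty (Sylow p X) := inferInstance
    have hPc : IsCyclic ↥(P : Subgroup X) := IsZGroup.isZGroup p hp P
    have hpX : p ∣ Nat.card X := hpd.trans (Subgroup.card_subgroup_dvd_card _)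
    have hpP : p ∣ Nat.card ↥(P : Subgroup X) := by
      rw [P.card_eq_multiplicity]
      exact dvd_pow_self p (Nat.pos_iff_ne_zero.mp
        ((Nat.Prime.factorization_pos_of_dvd hp Nat.card_pos.ne' hpX)))
    obtain ⟨x, hx⟩ := exists_prime_orderOf_dvd_card' p hpP
    have hxo : orderOf (x : X) = p := by rw [Subgroup.orderOf_coe]; exact hx
    have hxp : (x : X) ^ p = 1 := by
      have h1 := pow_orderOf_eq_one (x : X)
      rwa [hxo] at h1
    have hxc : (x : X) ∈ Subgroup.center X := h (x : X) p hp hxp
    have hN : normalizer ((P : Subgroup X) : Set X) ≤ centralizer ((P : Subgroup X) : Set X) :=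
      Cfsg.Agent.Helper50.normalizer_le_centralizer_of_cyclic P hPc (x : X) x.2 hxo
        (fun n _ => (Subgroup.mem_center_iff.mp hxc n))
    exact not_dvd_card_commutator P hN hpd
  have hbot : commutator X = ⊥ := Subgroup.card_eq_one.mp hcard
  have hcomm : ∀ a b : X, a * b = b * a := by
    intro a b
    have h1 : a * b * a⁻¹ * b⁻¹ ∈ commutator X := by
      rw [_root_.commutator_def]
      exact Subgroup.commutator_mem_commutator (Subgroup.mem_top a) (Subgroup.mem_top b)
    rw [hbot, Subgroup.mem_bot] at h1
    calc a * b = (a * b * a⁻¹ * b⁻¹) * (b * a) := by group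
      _ = b * a := by rw [h1, one_mul]
  letI : CommGroup X := { (inferInstance : Group X) with mul_comm := hcomm }
  exact inferInstance

end Cfsg.Agent.Helper60.ZCentral
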