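import Mathlib
import Cfsg.Prelude.Def_OddOrderLocal
import Cfsg.Agent.S1350
import Cfsg.Agent.S1403
import Cfsg.Agent.S1417
import Cfsg.Agent.S1418
import Cfsg.Agent.S1423
import Cfsg.Agent.Helper71.BG144
import Cfsg.Agent.Helper60.BGAsmA
import Cfsg.Agent.Helper60.BGAsmB
import Cfsg.Agent.Helper60.BGAsmD
import Cfsg.Agent.Helper60.ZCentral

/-!
# B-G Lemma 15.1(a) (statement S1438, first half): `C_M(H) = C_{M_σ}(H) X` with `X` a cyclic
`τ₂(M)`-group, for a nontrivial Hall subgroup `H` of `M_σ` (helper60; paper proofs helper33 #3196,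
helper35 #3105)

The inputs S1430 (first clause), S1431 (third clause), S1432 (the `κ`/`τ₂` dichotomy) enter as
hypotheses in statement shape; S1350, S1403, S1417, S1418, S1423 are imported (landed).
-/

set_option autoImplicit false
open Subgroup

namespace Cfsg.Agent.Helper60.BG151

open Cfsg Cfsg.Agent.Helper60.BGAsm

universe u

/-- S1432, weakened: the prime divisors of the order of a `σ(M)'`-element of `C_M(x)`,
`x ∈ M_σ#`, all lie in `κ(M)` or all lie in `τ₂(M)` -/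
def H1432k (G : Type u) [Group G] : Prop :=
  ∀ M : Subgroup G, IsCoatom M → ∀ x ∈ Cfsg.sigmaCore M, x ≠ 1 →
    ∀ x' ∈ M ⊓ Subgroup.centralizer ({x} : Set G), x' ≠ 1 →
      (∀ p : ℕ, p.Prime → p ∣ orderOf x' → p ∉ Cfsg.sigma M) →
        (∀ p : ℕ, p.Prime → p ∣ orderOf x' → p ∈ Cfsg.kappa M) ∨
          (∀ p : ℕ, p.Prime → p ∣ orderOf x' → p ∈ Cfsg.tau2 M)

/-- S1430, first clause -/
def H1430a (G : Type u) [Group G] : Prop :=
  ∀ M : Subgroup G, IsCoatom M → ∀ K : Subgroup G, Cfsg.IsPiHallOf (Cfsg.kappa M) K M → K ≠ ⊥ →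
    ∀ k ∈ K, k ≠ 1 → Cfsg.sigmaCore M ⊓ Subgroup.centralizer ({k} : Set G) =
      Cfsg.sigmaCore M ⊓ Subgroup.centralizer (K : Set G)

/-- S1431, third clause (the Sylow subgroups of `M_σ` for the primes of `K*` are not inside `K*`) -/
def H1431c (G : Type u) [Group G] : Prop :=
  ∀ M : Subgroup G, IsCoatom M → ∀ K : Subgroup G, Cfsg.IsPiHallOf (Cfsg.kappa M) K M → K ≠ ⊥ →
    ∀ p : ℕ, p.Prime → p ∣ Nat.card ↥(Cfsg.sigmaCore M ⊓ Subgroup.centralizer (K : Set G)) →
      ∀ S : Sylow p ↥(Cfsg.sigmaCore M),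
        ¬ (S : Subgroup ↥(Cfsg.sigmaCore M)).map (Cfsg.sigmaCore M).subtype ≤
          Cfsg.sigmaCore M ⊓ Subgroup.centralizer (K : Set G)

variable {G : Type u} [Group G]

/-! ### general lemmas -/

/-- a normal Hall subgroup of `C` has a complement in `C` -/
theorem exists_isComplIn_of_coprime [Finite G] {N C : Subgroup G} (hNC : N ≤ C)
    (hn : C ≤ normalizer (N : Set G)) (hcop : (Nat.card N).Coprime (N.relIndex C)) :
    ∃ X : Subgroup G, Cfsg.IsComplIn N X C := by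
  haveI : (N.subgroupOf C).Normal := Subgroup.normal_subgroupOf_of_le_normalizer hn
  have hcop' : (Nat.card (N.subgroupOf C)).Coprime (N.subgroupOf C).index := by
    rw [Nat.card_congr (Subgroup.subgroupOfEquivOfLe hNC).toEquiv]
    exact hcop
  obtain ⟨X', hX'⟩ := Subgroup.exists_right_complement'_of_coprime hcop'
  refine ⟨X'.map C.subtype, ?_⟩
  have h1 := isComplIn_of_isComplement' (N.subgroupOf C) X' hX'
  rwa [Subgroup.map_subgroupOf_eq_of_le hNC] at h1

/-- `|C : C ∩ N|` divides `|M : N|` for `N` normal in `M ≥ C` -/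
theorem relIndex_dvd_relIndex_of_le [Finite G] {N C M : Subgroup G} (hCM : C ≤ M)
    (hn : M ≤ normalizer (N : Set G)) : N.relIndex C ∣ N.relIndex M := by
  haveI : (N.subgroupOf M).Normal := Subgroup.normal_subgroupOf_of_le_normalizer hn
  have h1 : (N.subgroupOf M).relIndex (C.subgroupOf M) ∣ (N.subgroupOf M).index :=
    Subgroup.relIndex_dvd_index_of_normal _ _
  rwa [Subgroup.relIndex_subgroupOf hCM] at h1

/-- join of complements -/
theorem sup_eq_of_isComplIn {A B M : Subgroup G} (h : Cfsg.IsComplIn A B M) : A ⊔ B = M := by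
  apply le_antisymm (sup_le h.1 h.2.1)
  intro m hm
  obtain ⟨a, ha, b, hb, rfl⟩ := h.2.2.2 m hm
  exact Subgroup.mul_mem _ (Subgroup.mem_sup_left ha) (Subgroup.mem_sup_right hb)

/-- a subgroup of a group of order `p ^ 2`, proper, has order at most `p` -/
theorem card_le_of_lt_of_card_sq [Finite G] {p : ℕ} (hp : p.Prime) {A B : Subgroup G}
    (hBA : B ≤ A) (hne : B ≠ A) (hA : Nat.card A = p ^ 2) : Nat.card B ≤ p := by
  have h1 : Nat.card B ∣ p ^ 2 := hA ▸ Subgroup.card_dvd_of_le hBA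
  obtain ⟨i, hi, hBi⟩ := (Nat.dvd_prime_pow hp).mp h1
  have hi2 : i ≠ 2 := by
    rintro rfl
    apply hne
    exact Subgroup.eq_of_le_of_card_ge hBA (by rw [hA, hBi])
  have hi1 : i ≤ 1 := by omega
  rw [hBi]
  calc p ^ i ≤ p ^ 1 := Nat.pow_le_pow_right hp.pos hi1
    _ = p := pow_one p

/-- an element of order `p` generates a subgroup of order `p` -/
theorem card_zpowers_of_pow_eq_one {p : ℕ} (hp : p.Prime) {y : G} (hy : y ^ p = 1)
    (hy1 : y ≠ 1) : Nat.card (Subgroup.zpowers y) = p := by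
  rw [Nat.card_zpowers]
  haveI : Fact p.Prime := ⟨hp⟩
  exact orderOf_eq_prime hy hy1

/-! ### Claim 1: the primes of `X` lie in `τ₂(M)` -/

theorem mem_tau2_of_dvd_card [Finite G] (hG : Cfsg.IsMinSimpleOddOrder G) (h32 : H1432k G)
    (h30 : H1430a G) (h31 : H1431c G) {M : Subgroup G} (hM : IsCoatom M) {H : Subgroup G}
    (hH : H ≤ Cfsg.sigmaCore M) (hH1 : H ≠ ⊥)
    (hHall : (Nat.card H).Coprime (H.relIndex (Cfsg.sigmaCore M)))
    {X : Subgroup G} (hXM : X ≤ M) (hXH : X ≤ centralizer (H : Set G))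
    (hXσ : ∀ q : ℕ, q.Prime → q ∣ Nat.card X → q ∉ Cfsg.sigma M)
    {q : ℕ} (hq : q.Prime) (hqX : q ∣ Nat.card X) : q ∈ Cfsg.tau2 M := by
  haveI : Fact q.Prime := ⟨hq⟩
  haveI : Group.IsSolvable ↥M := hG.2.2.2 M hM.1
  obtain ⟨x', hx'⟩ := exists_prime_orderOf_dvd_card' q hqX
  have hx'o : orderOf (x' : G) = q := by rw [Subgroup.orderOf_coe]; exact hx'
  have hx'1 : (x' : G) ≠ 1 := by
    intro h
    rw [h, orderOf_one] at hx'o
    exact hq.one_lt.ne hx'o
  obtain ⟨h, hh, hh1⟩ := H.bot_or_exists_ne_one.resolve_left hH1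
  have hx'C : (x' : G) ∈ M ⊓ centralizer ({h} : Set G) := by
    have hc : (x' : G) ∈ centralizer ({h} : Set G) := by
      rw [mem_centralizer_iff]
      intro z hz
      rw [Set.mem_singleton_iff] at hz
      subst hz
      exact mem_centralizer_iff.mp (hXH x'.2) z hh
    exact Subgroup.mem_inf.mpr ⟨hXM x'.2, hc⟩
  have hprimes : ∀ p : ℕ, p.Prime → p ∣ orderOf (x' : G) → p = q := by
    rw [hx'o]
    exact fun p hp hpq => (Nat.prime_dvd_prime_iff_eq hp hq).mp hpq
  rcases h32 M hM h (hH hh) hh1 (x' : G) hx'C hx'1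
    (fun p hp hpd => by rw [hprimes p hp hpd]; exact hXσ q hq hqX) with hκ | hτ
  · exfalso
    have hqκ : q ∈ Cfsg.kappa M := hκ q hq (by rw [hx'o])
    obtain ⟨K, hK, hYK⟩ := Cfsg.Agent.Helper71.BGHall.exists_isPiHallOf_ge (Cfsg.kappa M) M
      (Y := zpowers (x' : G)) (zpowers_le.mpr (hXM x'.2)) (by
        intro p hp hpd
        rw [Nat.card_zpowers, hx'o] at hpd
        rw [(Nat.prime_dvd_prime_iff_eq hp hq).mp hpd]; exact hqκ)
    have hx'K : (x' : G) ∈ K := hYK (mem_zpowers _)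
    have hK1 : K ≠ ⊥ := fun hb => hx'1 (by rw [hb] at hx'K; exact mem_bot.mp hx'K)
    have h1 := h30 M hM K hK hK1 (x' : G) hx'K hx'1
    have hHKs : H ≤ Cfsg.sigmaCore M ⊓ centralizer (K : Set G) := by
      rw [← h1]
      intro y hy
      have hc : y ∈ centralizer ({(x' : G)} : Set G) := by
        rw [mem_centralizer_iff]
        intro z hz
        rw [Set.mem_singleton_iff] at hz
        subst hz
        exact (mem_centralizer_iff.mp (hXH x'.2) y hy).symm
      exact Subgroup.mem_inf.mpr ⟨hH hy, hc⟩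
    have hcardH : Nat.card H ≠ 1 := fun hc => hH1 (card_eq_one.mp hc)
    obtain ⟨p, hp, hpH⟩ := Nat.exists_prime_and_dvd hcardH
    haveI : Fact p.Prime := ⟨hp⟩
    have hpKs : p ∣ Nat.card ↥(Cfsg.sigmaCore M ⊓ centralizer (K : Set G)) :=
      hpH.trans (card_dvd_of_le hHKs)
    have hidx : ¬ p ∣ (H.subgroupOf (Cfsg.sigmaCore M)).index := by
      intro hd
      have hd' : p ∣ H.relIndex (Cfsg.sigmaCore M) := hd
      exact (Nat.Prime.not_coprime_iff_dvd.mpr ⟨p, hp, hpH, hd'⟩) hHall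
    obtain ⟨S, hS⟩ := exists_sylow_le_of_not_dvd_index (H.subgroupOf (Cfsg.sigmaCore M)) hidx
    apply h31 M hM K hK hK1 p hp hpKs S
    rintro y ⟨z, hz, rfl⟩
    exact hHKs (mem_subgroupOf.mp (hS hz))
  · exact hτ q hq (by rw [hx'o])

/-! ### the main theorem of part (a) -/

/-- S1418 in the shape used by `Helper71.BG14` -/
theorem h1418_of [Finite G] (hG : Cfsg.IsMinSimpleOddOrder G) : Cfsg.Agent.Helper71.BG14.H1418 G := by
  intro M hM E hE p hp hpτ A hAE hAe hAc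
  haveI : Fact p.Prime := ⟨hp⟩
  have h := Cfsg.Agent.S1418.result hG M hM E hE p hpτ A ⟨hAE, hAe, hAc⟩
  exact ⟨h.1.1, h.2.1.2.1, h.2.1.2.2⟩

theorem centralizer_structure [Finite G] (hG : Cfsg.IsMinSimpleOddOrder G) (h32 : H1432k G)
    (h30 : H1430a G) (h31 : H1431c G) {M : Subgroup G} (hM : IsCoatom M) {H : Subgroup G}
    (hH : H ≤ Cfsg.sigmaCore M) (hH1 : H ≠ ⊥)
    (hHall : (Nat.card H).Coprime (H.relIndex (Cfsg.sigmaCore M))) :
    ∃ X : Subgroup G, IsCyclic X ∧ (∀ p : ℕ, p.Prime → p ∣ Nat.card X → p ∈ Cfsg.tau2 M) ∧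
      M ⊓ centralizer (H : Set G) = (Cfsg.sigmaCore M ⊓ centralizer (H : Set G)) ⊔ X := by
  have hU : Cfsg.Agent.Helper29.BG10.UniquenessThm G :=
    fun K hK hK2 hK3 => Cfsg.Agent.S1403.result hG K hK hK2 hK3
  have h1418 := h1418_of hG
  have h50 := (Cfsg.Agent.S1350.result hG M hM).1
  have hσ := le_normalizer_sigmaCore M
  have hC0C : Cfsg.sigmaCore M ⊓ centralizer (H : Set G) ≤ M ⊓ centralizer (H : Set G) :=
    inf_le_inf_right _ (sigmaCore_le' M)
  have hCM : M ⊓ centralizer (H : Set G) ≤ M := inf_le_left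
  have hn : M ⊓ centralizer (H : Set G) ≤
      normalizer ((Cfsg.sigmaCore M ⊓ centralizer (H : Set G) : Subgroup G) : Set G) := by
    intro c hc
    exact mem_normalizer_inf (hσ hc.1) (le_normalizer hc.2)
  have hC0eq : Cfsg.sigmaCore M ⊓ centralizer (H : Set G) =
      Cfsg.sigmaCore M ⊓ (M ⊓ centralizer (H : Set G)) := by
    rw [← inf_assoc, inf_eq_left.mpr (sigmaCore_le' M)]
  have hrel : (Cfsg.sigmaCore M ⊓ centralizer (H : Set G)).relIndex (M ⊓ centralizer (H : Set G)) ∣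
      (Cfsg.sigmaCore M).relIndex M := by
    rw [hC0eq, Subgroup.inf_relIndex_right]
    exact relIndex_dvd_relIndex_of_le hCM hσ
  have hcop : (Nat.card ↥(Cfsg.sigmaCore M ⊓ centralizer (H : Set G))).Coprime
      ((Cfsg.sigmaCore M ⊓ centralizer (H : Set G)).relIndex (M ⊓ centralizer (H : Set G))) := by
    apply Nat.coprime_of_dvd
    intro q hq hq1 hq2
    have hqσ : q ∈ Cfsg.sigma M := h50.2.1 q hq (hq1.trans (card_dvd_of_le inf_le_left))
    exact h50.2.2 q hq hqσ (hq2.trans hrel)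
  obtain ⟨X, hX⟩ := exists_isComplIn_of_coprime hC0C hn hcop
  have hXC : X ≤ M ⊓ centralizer (H : Set G) := hX.2.1
  have hXM : X ≤ M := hXC.trans hCM
  have hXH : X ≤ centralizer (H : Set G) := hXC.trans inf_le_right
  have hXcard : Nat.card X =
      (Cfsg.sigmaCore M ⊓ centralizer (H : Set G)).relIndex (M ⊓ centralizer (H : Set G)) := by
    have h1 := card_mul_card_isComplIn hX
    have h2 := card_mul_relIndex_of_le hC0C
    exact Nat.eq_of_mul_eq_mul_left Nat.card_pos (h1.trans h2.symm)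
  have hXσ : ∀ q : ℕ, q.Prime → q ∣ Nat.card X → q ∉ Cfsg.sigma M := by
    intro q hq hqX hqσ
    rw [hXcard] at hqX
    exact h50.2.2 q hq hqσ (hqX.trans hrel)
  have hXτ : ∀ q : ℕ, q.Prime → q ∣ Nat.card X → q ∈ Cfsg.tau2 M := fun q hq hqX =>
    mem_tau2_of_dvd_card hG h32 h30 h31 hM hH hH1 hHall hXM hXH hXσ hq hqX
  refine ⟨X, ?_, hXτ, (sup_eq_of_isComplIn hX).symm⟩
  -- a complement `E` of `M_σ` containing `X`
  obtain ⟨E, hE, hXE⟩ :=
    Cfsg.Agent.Helper71.BGHall.exists_isComplIn_sigmaCore_ge hG hU hM hXM hXσ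
  have hctx := Cfsg.Agent.Helper68.BG12.eCtx_of hG hU hM hE
  -- the elementary abelian subgroups `A_p`
  have key : ∀ p : ℕ, p.Prime → p ∣ Nat.card X → ∃ A : Subgroup G, A ≤ E ∧
      Cfsg.IsElementaryAbelian p A ∧ Nat.card A = p ^ 2 ∧ Nat.card ↥(A ⊓ X) ≤ p ∧
      ∀ y ∈ X, y ^ p = 1 → y ∈ A := by
    intro p hp hpX
    haveI : Fact p.Prime := ⟨hp⟩
    have hpτ := hXτ p hp hpX
    obtain ⟨A, hAE, hAe, hAc⟩ :=
      Cfsg.Agent.Helper71.BGHall.exists_elementaryAbelian_sq_le_compl hctx hpτ.2.1 hpτ.2.2.1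
        hpτ.2.2.2
    have h18 := Cfsg.Agent.S1418.result hG M hM E hE p hpτ A ⟨hAE, hAe, hAc⟩
    have h17 := Cfsg.Agent.S1417.result hG M hM p hpτ A ⟨hAE.trans hE.1, hAe, hAc⟩
    have hAX : A ⊓ X ≠ A := by
      intro h
      have hAleX : A ≤ X := inf_eq_left.mp h
      apply hH1
      rw [eq_bot_iff, ← h17.2.2.2.1]
      intro z hz
      have hc : z ∈ centralizer (A : Set G) := by
        rw [mem_centralizer_iff]
        intro a ha
        exact (mem_centralizer_iff.mp (hXH (hAleX ha)) z hz).symm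
      exact Subgroup.mem_inf.mpr ⟨hH hz, hc⟩
    refine ⟨A, hAE, hAe, hAc, card_le_of_lt_of_card_sq hp inf_le_left hAX hAc, ?_⟩
    intro y hy hyp
    by_cases hy1 : y = 1
    · rw [hy1]; exact one_mem _
    · have h1 : zpowers y ≤ A :=
        h18.1.2 (zpowers y) (zpowers_le.mpr (hXE hy)) (card_zpowers_of_pow_eq_one hp hyp hy1)
      exact h1 (mem_zpowers y)
  -- `X` is a Z-group
  haveI : IsZGroup ↥X := ⟨fun p hp P => by
    haveI : Fact p.Prime := ⟨hp⟩
    by_cases hpX : p ∣ Nat.card X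
    · obtain ⟨A, hAE, hAe, hAc, hle, hmem⟩ := key p hp hpX
      have hp2 : p ≠ 2 := by
        rintro rfl
        have h2 : 2 ∣ Nat.card G := hpX.trans (Subgroup.card_subgroup_dvd_card X)
        exact (Nat.not_even_iff_odd.mpr hG.1) (even_iff_two_dvd.mpr h2)
      apply Cfsg.Agent.Helper50.sylow_isCyclic_of_pRankLE_one hp2 _ P
      intro A' _ hA'e
      have h1 : A'.map X.subtype ≤ A ⊓ X := by
        rintro y ⟨z, hz, rfl⟩
        have h2 : ((z : ↥X) : G) ^ p = 1 := by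
          have := congrArg Subtype.val (hA'e z hz)
          simpa using this
        exact Subgroup.mem_inf.mpr ⟨hmem (z : G) z.2 h2, z.2⟩
      calc Nat.card A' = Nat.card (A'.map X.subtype) :=
            (Subgroup.card_map_of_injective X.subtype_injective).symm
        _ ≤ Nat.card ↥(A ⊓ X) := Nat.le_of_dvd Nat.card_pos (card_dvd_of_le h1)
        _ ≤ p := hle
        _ = p ^ 1 := (pow_one p).symm
    · have h1 : Nat.card ↥(P : Subgroup ↥X) = 1 := by
        rw [P.card_eq_multiplicity, Nat.factorization_eq_zero_of_not_dvd hpX, pow_zero]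
      haveI : Subsingleton ↥(P : Subgroup ↥X) := (Nat.card_eq_one_iff_unique.mp h1).1
      exact isCyclic_of_subsingleton⟩
  -- elements of prime order are central
  apply Cfsg.Agent.Helper60.ZCentral.isCyclic_of_isZGroup_of_central
  intro y p hp hyp
  by_cases hy1 : y = 1
  · rw [hy1]; exact one_mem _
  haveI : Fact p.Prime := ⟨hp⟩
  have hyG : (y : G) ^ p = 1 := by
    have := congrArg Subtype.val hyp
    simpa using this
  have hyG1 : (y : G) ≠ 1 := fun h => hy1 (Subtype.ext h)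
  have hBc : Nat.card (zpowers (y : G)) = p := card_zpowers_of_pow_eq_one hp hyG hyG1
  have hpX : p ∣ Nat.card X := by
    rw [← hBc]; exact card_dvd_of_le (zpowers_le.mpr y.2)
  have hpτ := hXτ p hp hpX
  obtain ⟨A, hAE, hAe, hAc, hle, hmem⟩ := key p hp hpX
  rw [mem_center_iff]
  intro x
  by_contra hne
  have hBAX : zpowers (y : G) ≤ A ⊓ X :=
    zpowers_le.mpr (Subgroup.mem_inf.mpr ⟨hmem _ y.2 hyG, y.2⟩)
  have hBeq : zpowers (y : G) = A ⊓ X :=
    eq_of_le_of_card_ge hBAX (by rw [hBc]; exact hle)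
  have hxyX : (x : G) * y * (x : G)⁻¹ ∈ X := X.mul_mem (X.mul_mem x.2 y.2) (X.inv_mem x.2)
  have hconj : (x : G) * y * (x : G)⁻¹ ∈ zpowers (y : G) := by
    rw [hBeq]
    refine Subgroup.mem_inf.mpr ⟨hmem _ hxyX ?_, hxyX⟩
    rw [conj_pow, hyG]; group
  have hcB : (x : G) * y * (x : G)⁻¹ * (y : G)⁻¹ ∈ zpowers (y : G) :=
    (zpowers (y : G)).mul_mem hconj ((zpowers (y : G)).inv_mem (mem_zpowers _))
  have hc1 : (x : G) * y * (x : G)⁻¹ * (y : G)⁻¹ ≠ 1 := by
    intro h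
    apply hne
    apply Subtype.ext
    have h2 : (x : G) * y = y * x := by
      calc (x : G) * y = ((x : G) * y * (x : G)⁻¹ * (y : G)⁻¹) * (y * x) := by group
        _ = y * x := by rw [h, one_mul]
    simpa using h2
  have hcp : ((x : G) * y * (x : G)⁻¹ * (y : G)⁻¹) ^ p = 1 := by
    have := pow_card_eq_one' (G := ↥(zpowers (y : G))) (x := ⟨_, hcB⟩)
    rw [hBc] at this
    exact congrArg Subtype.val this
  have hBzc : zpowers (y : G) = zpowers ((x : G) * y * (x : G)⁻¹ * (y : G)⁻¹) :=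
    (eq_of_le_of_card_ge (zpowers_le.mpr hcB)
      (by rw [hBc, card_zpowers_of_pow_eq_one hp hcp hc1])).symm
  -- a maximal subgroup `L` over `N_G(A)`
  have hA1 : A ≠ ⊥ := Cfsg.Agent.Helper71.BG14.ne_bot_of_card_eq_sq hp hAc
  have hAtop : A ≠ ⊤ := by
    intro h
    apply hM.1
    rw [eq_top_iff, ← h]
    exact hAE.trans hE.1
  obtain ⟨L, hL, hNL⟩ := exists_coatom_normalizer_le hG hA1 hAtop
  have h18 := Cfsg.Agent.S1418.result hG M hM E hE p hpτ A ⟨hAE, hAe, hAc⟩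
  have hLM : L ≠ M := fun h => h18.2.1.2.2 (h ▸ hNL)
  have hEL : E ≤ L := h18.1.1.trans hNL
  have hXL : X ≤ L := hXE.trans hEL
  have h50L := (Cfsg.Agent.S1350.result hG L hL).1
  have hXLσ : X ≤ Cfsg.sigmaCore L := by
    apply le_of_coprime_relIndex (le_normalizer_sigmaCore L) hXL
    apply Nat.coprime_of_dvd
    intro q hq hq1 hq2
    have hqτ := hXτ q hq hq1
    have hqσL : q ∈ Cfsg.sigma L :=
      Cfsg.Agent.Helper71.BG14.tau2_subset_sigma hG hU h1418 hM hE hp hpτ hAE hAe hAc hL hNL hqτ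
    exact h50L.2.2 q hq hqσL hq2
  have hpσL : p ∈ Cfsg.sigma L :=
    Cfsg.Agent.Helper71.BG14.tau2_subset_sigma hG hU h1418 hM hE hp hpτ hAE hAe hAc hL hNL hpτ
  have hcL : (x : G) * y * (x : G)⁻¹ * (y : G)⁻¹ ∈ ⁅Cfsg.sigmaCore L, Cfsg.sigmaCore L⁆ :=
    Subgroup.commutator_mem_commutator (hXLσ x.2) (hXLσ y.2)
  have hBL' : zpowers (y : G) ≤ ⁅Cfsg.sigmaCore L, Cfsg.sigmaCore L⁆ := by
    rw [hBzc]; exact zpowers_le.mpr hcL
  obtain ⟨P⟩ : Nonempty (Sylow p ↥(Cfsg.sigmaCore L)) := inferInstance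
  have h23 := (Cfsg.Agent.S1423.result hG L hL p hpσL (zpowers (y : G))
    (hBAX.trans (inf_le_right.trans hXL)) hBc P (Or.inr hBL')).1
  have hBne : Cfsg.sigmaCore M ⊓ centralizer ((zpowers (y : G) : Subgroup G) : Set G) ≠ ⊥ := by
    intro hb
    apply hH1
    rw [eq_bot_iff, ← hb]
    intro z hz
    have hc : z ∈ centralizer ((zpowers (y : G) : Subgroup G) : Set G) := by
      rw [mem_centralizer_iff]
      intro b hb'
      exact (mem_centralizer_iff.mp (hXH ((hBAX.trans inf_le_right) hb')) z hz).symm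
    exact Subgroup.mem_inf.mpr ⟨hH hz, hc⟩
  have h18c := h18.2.2 (zpowers (y : G)) (hBAX.trans inf_le_left) hBc hBne
  exact hLM (h18c.2 L hL h23.1)

end Cfsg.Agent.Helper60.BG151
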