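import Mathlib
import Cfsg.Prelude.Def_OddOrderLocal
import Cfsg.Prelude.Def_OddOrder
import Cfsg.Agent.Helper60.BG151B
import Cfsg.Agent.Helper50.BG16A
import Cfsg.Agent.Helper54.BGUnique2

/-!
# Bender--Glauberman Theorem 15.1-type fusion statement (S1438, part (b)): the maximal subgroup (helper60)

`fusion_in_M`: fusion inside a maximal subgroup `M`, from the chain `M_F ≤ M_σ ≤ M'` with `M'/M_F`
nilpotent (statement S1355).  `fusion_part`: part (b) of S1438 from statement-shaped forms of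
S1374 (`H1374`) and S1355 (`H1355`).
-/

set_option autoImplicit false
set_option linter.unusedVariables false
set_option linter.style.haveILetI false
set_option linter.unusedSectionVars false

namespace Cfsg.Agent.Helper60.BG151

open Subgroup Cfsg.Agent.Helper60.BGAsm

universe u

variable {G : Type u} [Group G]

/-- the part of S1355 used for the fusion statement -/
def H1355 (M : Subgroup G) : Prop :=
  Cfsg.fittingHallOf M ≤ Cfsg.sigmaCore M ∧ Cfsg.sigmaCore M ≤ ⁅M, M⁆ ∧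
    Group.IsNilpotent ↥((commutator ↥M).map (QuotientGroup.mk' (Cfsg.fittingHall ↥M)))

/-- the part of S1374 used for the fusion statement -/
def H1374 (M : Subgroup G) : Prop :=
  ∀ x ∈ Cfsg.sigmaCore M, x ≠ 1 → ∃ R : Subgroup G, R ≤ Subgroup.centralizer ({x} : Set G) ∧
    ∀ g : G, x ∈ M.map (MulAut.conj g).toMonoidHom →
      ∃ r ∈ R, M.map (MulAut.conj r).toMonoidHom = M.map (MulAut.conj g).toMonoidHom

/-- fusion in a Hall subgroup `H` of `M_σ` with respect to `M` is controlled by `N_M(H)` -/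
theorem fusion_in_M [Finite G] (M : Subgroup G) [Group.IsSolvable M] (h55 : H1355 M)
    {H : Subgroup G} (hH : H ≤ Cfsg.sigmaCore M)
    (hHall : (Nat.card H).Coprime (H.relIndex (Cfsg.sigmaCore M)))
    {x : G} (hx : x ∈ H) {m : G} (hm : m ∈ M) (hy : m * x * m⁻¹ ∈ H) :
    ∃ n ∈ M ⊓ normalizer (H : Set G), n * x * n⁻¹ = m * x * m⁻¹ := by
  obtain ⟨hFS, hSc, hnil⟩ := h55
  have hSM : Cfsg.sigmaCore M ≤ M := sigmaCore_le' M
  have hHM : H ≤ M := hH.trans hSM
  haveI hLn : ((Cfsg.sigmaCore M).subgroupOf M).Normal :=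
    Subgroup.normal_subgroupOf_of_le_normalizer (le_normalizer_sigmaCore M)
  have hFnil : Group.IsNilpotent (Cfsg.fittingHall ↥M) :=
    Cfsg.Agent.Helper50.BG16.fittingHall_isNilpotent ↥M
  have hFL : Cfsg.fittingHall ↥M ≤ (Cfsg.sigmaCore M).subgroupOf M := by
    intro f hf
    rw [Subgroup.mem_subgroupOf]
    exact hFS ⟨f, hf, rfl⟩
  have hLc : (Cfsg.sigmaCore M).subgroupOf M ≤ commutator ↥M := by
    intro l hl
    rw [Subgroup.mem_subgroupOf] at hl
    have h1 : (l : G) ∈ ⁅M, M⁆ := hSc hl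
    rw [← Subgroup.map_subtype_commutator] at h1
    obtain ⟨l', hl', hll⟩ := h1
    have : l' = l := Subtype.ext hll
    rwa [← this]
  have hLnil : Group.IsNilpotent
      (((Cfsg.sigmaCore M).subgroupOf M).map (QuotientGroup.mk' (Cfsg.fittingHall ↥M))) :=
    Cfsg.Agent.S0581.nilpotent_of_le (Subgroup.map_mono hLc) hnil
  have hHL : H.subgroupOf M ≤ (Cfsg.sigmaCore M).subgroupOf M := by
    intro h hh
    rw [Subgroup.mem_subgroupOf] at hh ⊢
    exact hH hh
  have hHall' : (Nat.card (H.subgroupOf M)).Coprime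
      ((H.subgroupOf M).relIndex ((Cfsg.sigmaCore M).subgroupOf M)) := by
    rw [Nat.card_congr (Subgroup.subgroupOfEquivOfLe hHM).toEquiv,
      Subgroup.relIndex_subgroupOf hSM]
    exact hHall
  have hx' : (⟨x, hHM hx⟩ : ↥M) ∈ H.subgroupOf M := Subgroup.mem_subgroupOf.mpr hx
  have hy' : (⟨m, hm⟩ : ↥M) * ⟨x, hHM hx⟩ * (⟨m, hm⟩ : ↥M)⁻¹ ∈ H.subgroupOf M :=
    Subgroup.mem_subgroupOf.mpr hy
  obtain ⟨n, hn, hnx⟩ := fusion_in_hall (Cfsg.fittingHall ↥M) ((Cfsg.sigmaCore M).subgroupOf M)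
    (H.subgroupOf M) hFnil hFL hLnil hHL hHall' hx' ⟨m, hm⟩ hy'
  rw [← Subgroup.subgroupOf_normalizer_eq hHM, Subgroup.mem_subgroupOf] at hn
  refine ⟨(n : G), Subgroup.mem_inf.mpr ⟨n.2, hn⟩, ?_⟩
  have := congrArg Subtype.val hnx
  simpa using this

/-- **S1438, part (b)**, from `H1374` and `H1355`. -/
theorem fusion_part [Finite G] (hG : Cfsg.IsMinSimpleOddOrder G) {M : Subgroup G}
    (hM : IsCoatom M) (h74 : H1374 M) (h55 : H1355 M)
    {H : Subgroup G} (hH : H ≤ Cfsg.sigmaCore M)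
    (hHall : (Nat.card H).Coprime (H.relIndex (Cfsg.sigmaCore M))) :
    ∀ x ∈ H, ∀ g : G, g * x * g⁻¹ ∈ H →
      ∃ n ∈ M ⊓ Subgroup.normalizer (H : Set G), n * x * n⁻¹ = g * x * g⁻¹ := by
  intro x hx g hy
  haveI hs : IsSimpleGroup G := hG.2.1
  haveI : Group.IsSolvable ↥M := hG.2.2.2 M hM.1
  have hSM : Cfsg.sigmaCore M ≤ M := sigmaCore_le' M
  have hHM : H ≤ M := hH.trans hSM
  by_cases hx1 : x = 1
  · refine ⟨1, Subgroup.one_mem _, ?_⟩
    rw [hx1]; group
  obtain ⟨R, hRC, hR⟩ := h74 x (hH hx) hx1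
  have hxg : x ∈ M.map (MulAut.conj g⁻¹).toMonoidHom := by
    rw [mem_map_conj_iff, inv_inv]
    exact hHM hy
  obtain ⟨r, hrR, hr⟩ := hR g⁻¹ hxg
  have hrx : r * x = x * r := by
    have := (Subgroup.mem_centralizer_iff.mp (hRC hrR)) x (Set.mem_singleton x)
    exact this.symm
  -- `g r` normalizes `M`
  have hkey : ∀ z : G, r⁻¹ * z * r ∈ M ↔ g * z * g⁻¹ ∈ M := by
    intro z
    rw [← mem_map_conj_iff, hr, mem_map_conj_iff, inv_inv]
  have hM1 : M ≠ ⊥ := by
    intro h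
    apply hx1
    have : x ∈ M := hHM hx
    rwa [h, Subgroup.mem_bot] at this
  have hnorm : normalizer (M : Set G) = M :=
    Cfsg.Agent.Helper54.BGU.normalizer_eq_of_coatom hM hM1 le_rfl Subgroup.le_normalizer
  have hgr : g * r ∈ M := by
    rw [← hnorm, Subgroup.mem_normalizer_iff]
    intro z
    have h1 := hkey (r * z * r⁻¹)
    have e1 : r⁻¹ * (r * z * r⁻¹) * r = z := by group
    have e2 : g * (r * z * r⁻¹) * g⁻¹ = g * r * z * (g * r)⁻¹ := by group
    rw [e1, e2] at h1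
    exact h1
  have hconj : g * r * x * (g * r)⁻¹ = g * x * g⁻¹ := by
    have e : g * r * x * (g * r)⁻¹ = g * (r * x) * r⁻¹ * g⁻¹ := by group
    rw [e, hrx]; group
  have hy2 : g * r * x * (g * r)⁻¹ ∈ H := by rw [hconj]; exact hy
  obtain ⟨n, hn, hnx⟩ := fusion_in_M M h55 hH hHall hx hgr hy2
  exact ⟨n, hn, hnx.trans hconj⟩

end Cfsg.Agent.Helper60.BG151
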