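-- helper60: `U` is abelian in a standard factorisation `M = K U M_σ` with `K ≠ 1`
-- (first half of S1363, exported so that S1435 can use it without an import cycle).
-- Conditional on S1430 only (through BGAsmC); does NOT import S1435 / S1363.
import Cfsg.Agent.S1350
import Cfsg.Agent.S1430
import Cfsg.Agent.Helper60.BGAsmC
import Cfsg.Agent.Helper60.BGAsmD

set_option autoImplicit false
open Cfsg

namespace Cfsg.Agent.Helper60.BG147U

open Cfsg.Agent.Helper60.BGAsm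

/-- the order of `U` in a standard factorisation is prime to `κ(M) ∪ σ(M)` -/
theorem not_mem_of_dvd_card_U' {G : Type*} [Group G] [Finite G] (hG : Cfsg.IsMinSimpleOddOrder G)
    {M : Subgroup G} (hM : IsCoatom M) {K U : Subgroup G} (hKU : Cfsg.IsSigmaDecomposition M K U)
    {q : ℕ} (hq : q.Prime) (hqU : q ∣ Nat.card U) : q ∉ Cfsg.kappa M ∧ q ∉ Cfsg.sigma M := by
  have h50 := (Cfsg.Agent.S1350.result hG M hM).1
  have hcard : Nat.card U = (K ⊔ Cfsg.sigmaCore M).relIndex M :=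
    card_eq_relIndex_of_isComplIn hKU.compl
  rw [hcard] at hqU
  constructor
  · intro h
    exact hKU.hall.2.2 q hq h (hqU.trans (Subgroup.relIndex_dvd_of_le_left M le_sup_left))
  · intro h
    exact h50.2.2 q hq h (hqU.trans (Subgroup.relIndex_dvd_of_le_left M le_sup_right))

/-- In a standard factorisation `M = K U M_σ` with `K ≠ 1`, the subgroup `U` is abelian. -/
theorem isMulCommutative_U {G : Type*} [Group G] [Finite G] (hG : Cfsg.IsMinSimpleOddOrder G)
    (M : Subgroup G) (hM : IsCoatom M) (K U : Subgroup G) (hKU : Cfsg.IsSigmaDecomposition M K U)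
    (hK1 : K ≠ ⊥) : IsMulCommutative U := by
  have hK := hKU.hall
  have h50 := (Cfsg.Agent.S1350.result hG M hM).1
  have hσ := le_normalizer_sigmaCore M
  obtain ⟨U', hU'c, hU'H, hKU', -⟩ := (Cfsg.Agent.S1430.result hG M hM K hK hK1).2.1
  have hU'comm : ∀ a ∈ U', ∀ b ∈ U', a * b = b * a := fun a ha b hb =>
    congrArg Subtype.val (mul_comm' (⟨a, ha⟩ : ↥U') ⟨b, hb⟩)
  have hU'σ : U' ≤ Subgroup.normalizer ((Cfsg.sigmaCore M : Subgroup G) : Set G) := hU'H.1.trans hσ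
  -- `U' M_σ` is normal in `M`
  have hN'n : M ≤ Subgroup.normalizer ((U' ⊔ Cfsg.sigmaCore M : Subgroup G) : Set G) := by
    have hcover : M ≤ (U' ⊔ Cfsg.sigmaCore M) ⊔ K := by
      apply le_sup_of_hall_cover
      intro q hq
      by_cases h1 : q ∈ Cfsg.sigma M
      · exact ⟨Cfsg.sigmaCore M, le_sup_right.trans le_sup_left, h50.2.2 q hq h1⟩
      · by_cases h2 : q ∈ Cfsg.kappa M
        · exact ⟨K, le_sup_right, hK.2.2 q hq h2⟩
        · exact ⟨U', le_sup_left.trans le_sup_left, hU'H.2.2 q hq ⟨hq, h2, h1⟩⟩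
    refine hcover.trans (sup_le Subgroup.le_normalizer ?_)
    intro k hk
    exact mem_normalizer_sup (hKU' hk) (hσ (hK.1 hk))
  have hN'M : U' ⊔ Cfsg.sigmaCore M ≤ M := sup_le hU'H.1 (sigmaCore_le' M)
  -- `U ≤ U' M_σ`
  have hUle : U ≤ U' ⊔ Cfsg.sigmaCore M := by
    apply le_of_coprime_relIndex hN'n hKU.compl.1
    apply Nat.coprime_of_dvd
    intro q hq hq1 hq2
    have h1 := not_mem_of_dvd_card_U' hG hM hKU hq hq1
    exact hU'H.2.2 q hq ⟨hq, h1.1, h1.2⟩ (hq2.trans (Subgroup.relIndex_dvd_of_le_left M le_sup_left))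
  refine ⟨⟨fun a b => ?_⟩⟩
  apply Subtype.ext
  have h1 : (a : G) * (b : G) * (a : G)⁻¹ * (b : G)⁻¹ ∈ Cfsg.sigmaCore M :=
    commutator_mem_of_commute_sup hU'comm hU'σ (hUle a.2) (hUle b.2)
  have h2 : (a : G) * (b : G) * (a : G)⁻¹ * (b : G)⁻¹ ∈ U ⊓ (K ⊔ Cfsg.sigmaCore M) :=
    ⟨U.mul_mem (U.mul_mem (U.mul_mem a.2 b.2) (U.inv_mem a.2)) (U.inv_mem b.2),
      Subgroup.mem_sup_right h1⟩
  rw [hKU.compl.2.2.1, Subgroup.mem_bot] at h2
  have h3 : (a : G) * (b : G) = (b : G) * (a : G) := by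
    have h4 : (a : G) * (b : G) = ((a : G) * (b : G) * (a : G)⁻¹ * (b : G)⁻¹) * ((b : G) * (a : G)) := by
      group
    rw [h4, h2, one_mul]
  exact h3

end Cfsg.Agent.Helper60.BG147U
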