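-- helper60: piece (GT1) `exists_K` of helper25's farm for S4472.
import Mathlib
import Cfsg.Agent.Helper62.PSolvDual
import Cfsg.Agent.Helper25.PSolvLin.Defs

set_option autoImplicit false

namespace Cfsg.Agent.Helper60.PSolvLin

open Cfsg Cfsg.Agent.Lib

universe u

/-- **(GT1)** Hall–Higman 1.2.3 (dual form) pulled back from `G ⧸ O_p(G)`: with `D = O_p(G)` there is
`K ⊴ G`, `D ≤ K`, `|K : D|` prime to `p`, such that every `p`-element acting trivially on `K/D` lies in `D`. -/
theorem exists_K {G : Type u} [Group G] [Finite G] (p : ℕ) [Fact p.Prime] (hsolv : IsPSolvable p G) :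
    ∃ K : Subgroup G, K.Normal ∧ pCore p G ≤ K ∧ ((pCore p G).relIndex K).Coprime p ∧
      ∀ x : G, (∃ j : ℕ, x ^ (p ^ j) = 1) → (∀ k ∈ K, x * k * x⁻¹ * k⁻¹ ∈ pCore p G) →
        x ∈ pCore p G := by
  have hDc : (pCore p G).Characteristic := pCore_characteristic p
  have hDn : (pCore p G).Normal := Subgroup.normal_of_characteristic _
  have hQc : (pPrimeCore p (G ⧸ pCore p G)).Characteristic := pPrimeCore_characteristic p
  have hQn : (pPrimeCore p (G ⧸ pCore p G)).Normal := Subgroup.normal_of_characteristic _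
  have hQcard : (Nat.card (pPrimeCore p (G ⧸ pCore p G))).Coprime p := card_pPrimeCore_coprime p
  have hsurj : Function.Surjective (QuotientGroup.mk' (pCore p G)) := QuotientGroup.mk'_surjective _
  refine ⟨(pPrimeCore p (G ⧸ pCore p G)).comap (QuotientGroup.mk' (pCore p G)), hQn.comap _, ?_, ?_, ?_⟩
  · have h1 := Subgroup.ker_le_comap (QuotientGroup.mk' (pCore p G)) (pPrimeCore p (G ⧸ pCore p G))
    rwa [QuotientGroup.ker_mk'] at h1
  · have h1 := Subgroup.relIndex_comap (H := (⊥ : Subgroup (G ⧸ pCore p G)))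
      (QuotientGroup.mk' (pCore p G))
      ((pPrimeCore p (G ⧸ pCore p G)).comap (QuotientGroup.mk' (pCore p G)))
    rw [MonoidHom.comap_bot, QuotientGroup.ker_mk', Subgroup.map_comap_eq_self_of_surjective hsurj,
      Subgroup.relIndex_bot_left] at h1
    rw [h1]
    exact hQcard
  · rintro x ⟨j, hj⟩ hx
    have hcent : (QuotientGroup.mk' (pCore p G)) x ∈
        Subgroup.centralizer (pPrimeCore p (G ⧸ pCore p G) : Set (G ⧸ pCore p G)) := by
      rw [Subgroup.mem_centralizer_iff]
      intro q hq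
      obtain ⟨k, rfl⟩ := hsurj q
      have hk : k ∈ (pPrimeCore p (G ⧸ pCore p G)).comap (QuotientGroup.mk' (pCore p G)) := hq
      have h2 := hx k hk
      have h3 : (QuotientGroup.mk' (pCore p G)) (x * k * x⁻¹ * k⁻¹) = 1 := by
        rw [QuotientGroup.mk'_apply, QuotientGroup.eq_one_iff]; exact h2
      rw [map_mul, map_mul, map_mul, map_inv, map_inv] at h3
      -- x̄ k̄ x̄⁻¹ k̄⁻¹ = 1 → k̄ x̄ = x̄ k̄
      have h4 : (QuotientGroup.mk' (pCore p G)) x * (QuotientGroup.mk' (pCore p G)) k =
          (QuotientGroup.mk' (pCore p G)) k * (QuotientGroup.mk' (pCore p G)) x := by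
        have := mul_inv_eq_one.mp h3
        rw [mul_inv_eq_iff_eq_mul] at this
        exact this
      exact h4.symm
    have hmem := Cfsg.Agent.Helper62.centralizer_pPrimeCore_le_of_isPSolvable
      (Cfsg.Agent.Helper11.isPSolvable_quotient (pCore p G) hsolv)
      (Cfsg.Agent.Helper62.pCore_quotient_pCore_eq_bot p) hcent
    -- a `p`-element of a `p'`-group is trivial
    have hone : (QuotientGroup.mk' (pCore p G)) x = 1 := by
      have h5 : orderOf ((QuotientGroup.mk' (pCore p G)) x) ∣ p ^ j := by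
        apply orderOf_dvd_of_pow_eq_one
        rw [← map_pow, hj, map_one]
      have h6 : orderOf ((QuotientGroup.mk' (pCore p G)) x) ∣
          Nat.card (pPrimeCore p (G ⧸ pCore p G)) := by
        have := orderOf_dvd_natCard (⟨_, hmem⟩ : pPrimeCore p (G ⧸ pCore p G))
        rwa [Subgroup.orderOf_mk] at this
      have h7 : orderOf ((QuotientGroup.mk' (pCore p G)) x) ∣ 1 := by
        have hc : Nat.Coprime (p ^ j) (Nat.card (pPrimeCore p (G ⧸ pCore p G))) :=
          (Nat.Coprime.pow_left j hQcard.symm)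
        rw [← hc]
        exact Nat.dvd_gcd h5 h6
      exact orderOf_eq_one_iff.mp (Nat.dvd_one.mp h7)
    rwa [QuotientGroup.mk'_apply, QuotientGroup.eq_one_iff] at hone

end Cfsg.Agent.Helper60.PSolvLin
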