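import Mathlib
import Cfsg.Agent.S0754
import Cfsg.Agent.S0837
import Cfsg.Agent.Helper13.Herm
import Cfsg.Agent.Helper13.UGen1

/-!
# (5H1) for S2500 part 5 (helper3, #12490): the normal form of a regular unipotent element of `SU_3(q)`
-/

set_option autoImplicit false

namespace Cfsg.Agent.Helper60.Cov2P5

open Matrix Cfsg.Agent.Helper13

variable {F : Type*} [Field F] [Fintype F] {q : ℕ}

/-- the unitarity relation for `N = A - 1` -/
theorem unitary_rel (hF : Fintype.card F = q ^ 2) (A : Cfsg.SU 3 F q) (x y : Fin 3 → F) :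
    Cfsg.hermForm 3 F q (((A.1.1 : Matrix (Fin 3) (Fin 3) F) - 1) *ᵥ x) y +
      Cfsg.hermForm 3 F q x (((A.1.1 : Matrix (Fin 3) (Fin 3) F) - 1) *ᵥ y) +
      Cfsg.hermForm 3 F q (((A.1.1 : Matrix (Fin 3) (Fin 3) F) - 1) *ᵥ x)
        (((A.1.1 : Matrix (Fin 3) (Fin 3) F) - 1) *ᵥ y) = 0 := by
  have hA : Cfsg.hermForm 3 F q ((A.1.1 : Matrix (Fin 3) (Fin 3) F) *ᵥ x)
      ((A.1.1 : Matrix (Fin 3) (Fin 3) F) *ᵥ y) = Cfsg.hermForm 3 F q x y := A.2 x y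
  have e : ∀ z : Fin 3 → F, (A.1.1 : Matrix (Fin 3) (Fin 3) F) *ᵥ z =
      z + ((A.1.1 : Matrix (Fin 3) (Fin 3) F) - 1) *ᵥ z := by
    intro z
    rw [Matrix.sub_mulVec, Matrix.one_mulVec]
    abel
  rw [e x, e y, hermForm_add_left, hermForm_add_right hF, hermForm_add_right hF] at hA
  linear_combination hA

section abstract

variable (hF : Fintype.card F = q ^ 2) (N : Matrix (Fin 3) (Fin 3) F)
  (hU : ∀ x y : Fin 3 → F, Cfsg.hermForm 3 F q (N *ᵥ x) y + Cfsg.hermForm 3 F q x (N *ᵥ y) +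
    Cfsg.hermForm 3 F q (N *ᵥ x) (N *ᵥ y) = 0)
  (hN3 : ∀ x : Fin 3 → F, N *ᵥ (N *ᵥ (N *ᵥ x)) = 0)

include hF hU hN3

theorem rel_22 (x y : Fin 3 → F) : Cfsg.hermForm 3 F q (N *ᵥ (N *ᵥ x)) (N *ᵥ (N *ᵥ y)) = 0 := by
  have h := hU (N *ᵥ (N *ᵥ x)) (N *ᵥ y)
  rw [hN3 x, hermForm_zero_left, hermForm_zero_left] at h
  linear_combination h

theorem rel_12 (x y : Fin 3 → F) : Cfsg.hermForm 3 F q (N *ᵥ x) (N *ᵥ (N *ᵥ y)) = 0 := by
  have h := hU x (N *ᵥ (N *ᵥ y))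
  rw [hN3 y, hermForm_zero_right hF, hermForm_zero_right hF] at h
  linear_combination h

theorem rel_21 (x y : Fin 3 → F) : Cfsg.hermForm 3 F q (N *ᵥ (N *ᵥ x)) (N *ᵥ y) = 0 := by
  have h := hU (N *ᵥ (N *ᵥ x)) y
  rw [hN3 x, hermForm_zero_left, hermForm_zero_left] at h
  linear_combination h

theorem rel_20 (x y : Fin 3 → F) :
    Cfsg.hermForm 3 F q (N *ᵥ (N *ᵥ x)) y = -Cfsg.hermForm 3 F q (N *ᵥ x) (N *ᵥ y) := by
  have h := hU (N *ᵥ x) y
  rw [rel_21 hF N hU hN3 x y] at h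
  linear_combination h

/-- if `N² ≠ 0` there is `w` with `h(N w, N w) ≠ 0` -/
theorem exists_nonisotropic_image (c₀ : F) (hc₀ : c₀ + c₀ ^ q = 1)
    (hN2 : ∃ w : Fin 3 → F, N *ᵥ (N *ᵥ w) ≠ 0) :
    ∃ w : Fin 3 → F, Cfsg.hermForm 3 F q (N *ᵥ w) (N *ᵥ w) ≠ 0 := by
  by_contra hcon
  push Not at hcon
  obtain ⟨w, hw⟩ := hN2
  apply hw
  apply eq_zero_of_hermForm_eq_zero hF
  intro y
  rw [rel_20 hF N hU hN3 w y, neg_eq_zero]
  by_contra ht
  set t := Cfsg.hermForm 3 F q (N *ᵥ w) (N *ᵥ y) with htdef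
  set lam : F := (c₀ / t) ^ q with hlam
  have h1 := hcon (w + lam • y)
  rw [Matrix.mulVec_add, Matrix.mulVec_smul, hermForm_add_left, hermForm_add_right hF,
    hermForm_add_right hF, hermForm_smul_left, hermForm_smul_left, hermForm_smul_right,
    hermForm_smul_right, hcon w, hcon y, ← htdef] at h1
  have h2 : Cfsg.hermForm 3 F q (N *ᵥ y) (N *ᵥ w) = t ^ q := by
    rw [htdef, hermForm_conj hF]
  rw [h2] at h1
  have h3 : lam ^ q = c₀ / t := by rw [hlam, frob_frob hF]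
  have h4 : lam * t ^ q = c₀ ^ q := by
    rw [hlam, ← mul_pow, div_mul_cancel₀ _ ht]
  rw [h3] at h1
  have h5 : c₀ / t * t = c₀ := div_mul_cancel₀ _ ht
  rw [h5, h4] at h1
  have : (1 : F) = 0 := by
    rw [← hc₀]
    linear_combination h1
  exact one_ne_zero this

end abstract

/-- (5H1) -/
theorem regunip_normal_form (hF : Fintype.card F = q ^ 2) (A : Cfsg.SU 3 F q)
    (h1 : ((A.1.1 : Matrix (Fin 3) (Fin 3) F) - 1) ^ 3 = 0)
    (h2 : ((A.1.1 : Matrix (Fin 3) (Fin 3) F) - 1) ^ 2 ≠ 0)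
    (c₀ : F) (hc₀ : c₀ + c₀ ^ q = 1) :
    ∃ v3 : Fin 3 → F,
      Cfsg.hermForm 3 F q (((A.1.1 : Matrix (Fin 3) (Fin 3) F) - 1) *ᵥ
        (((A.1.1 : Matrix (Fin 3) (Fin 3) F) - 1) *ᵥ v3)) v3 = 1 ∧
      Cfsg.hermForm 3 F q (((A.1.1 : Matrix (Fin 3) (Fin 3) F) - 1) *ᵥ v3) v3 = c₀ ∧
      Cfsg.hermForm 3 F q v3 v3 = 0 := by
  have hU := unitary_rel hF A
  obtain ⟨N, hNdef⟩ : ∃ N : Matrix (Fin 3) (Fin 3) F, N = (A.1.1 : Matrix (Fin 3) (Fin 3) F) - 1 :=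
    ⟨_, rfl⟩
  rw [← hNdef] at h1 h2 hU ⊢
  have hN3 : ∀ x : Fin 3 → F, N *ᵥ (N *ᵥ (N *ᵥ x)) = 0 := by
    intro x
    have e3 : N * N * N = 0 := by
      rw [← h1, pow_succ, pow_succ, pow_one]
    rw [Matrix.mulVec_mulVec, Matrix.mulVec_mulVec, e3, Matrix.zero_mulVec]
  have hN2 : ∃ w : Fin 3 → F, N *ᵥ (N *ᵥ w) ≠ 0 := by
    by_contra hc
    push Not at hc
    apply h2
    rw [pow_two]
    apply mat_ext_mulVec
    intro x
    rw [← Matrix.mulVec_mulVec, hc x, Matrix.zero_mulVec]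
  obtain ⟨w, hw⟩ := exists_nonisotropic_image hF N hU hN3 c₀ hc₀ hN2
  -- the chain and its Gram values
  obtain ⟨v2, hv2⟩ : ∃ v2 : Fin 3 → F, v2 = N *ᵥ w := ⟨_, rfl⟩
  obtain ⟨v1, hv1⟩ : ∃ v1 : Fin 3 → F, v1 = N *ᵥ v2 := ⟨_, rfl⟩
  have hNw : N *ᵥ w = v2 := hv2.symm
  have hNv2 : N *ᵥ v2 = v1 := hv1.symm
  have hNv1 : N *ᵥ v1 = 0 := by rw [hv1, hv2]; exact hN3 w
  have g11 : Cfsg.hermForm 3 F q v1 v1 = 0 := by
    rw [hv1, hv2]; exact rel_22 hF N hU hN3 w w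
  have g12 : Cfsg.hermForm 3 F q v1 v2 = 0 := by
    rw [hv1, hv2]; exact rel_21 hF N hU hN3 w w
  have g21 : Cfsg.hermForm 3 F q v2 v1 = 0 := by
    rw [hv1, hv2]; exact rel_12 hF N hU hN3 w w
  obtain ⟨a, ha⟩ : ∃ a : F, a = Cfsg.hermForm 3 F q v1 w := ⟨_, rfl⟩
  have g13 : Cfsg.hermForm 3 F q v1 w = a := ha.symm
  have g22 : Cfsg.hermForm 3 F q v2 v2 = -a := by
    rw [ha, hv1, hv2, rel_20 hF N hU hN3 w w, neg_neg]
  have ha0 : a ≠ 0 := by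
    intro h0
    apply hw
    rw [hNw, g22, h0, neg_zero]
  have haq : a ^ q = a := by
    have e : (Cfsg.hermForm 3 F q v2 v2) ^ q = Cfsg.hermForm 3 F q v2 v2 := hermForm_conj hF v2 v2
    rw [g22, frob_neg' hF] at e
    linear_combination -e
  have g31 : Cfsg.hermForm 3 F q w v1 = a := by
    rw [← hermForm_conj hF v1 w, g13]
    exact haq
  obtain ⟨c, hc⟩ : ∃ c : F, c = Cfsg.hermForm 3 F q v2 w := ⟨_, rfl⟩
  have g23 : Cfsg.hermForm 3 F q v2 w = c := hc.symm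
  have g32 : Cfsg.hermForm 3 F q w v2 = c ^ q := by
    rw [← hermForm_conj hF v2 w, g23]
  have hcc : c + c ^ q = a := by
    have e := hU w w
    rw [hNw, g23, g32, g22] at e
    linear_combination e
  obtain ⟨d, hd⟩ : ∃ d : F, d = Cfsg.hermForm 3 F q w w := ⟨_, rfl⟩
  have g33 : Cfsg.hermForm 3 F q w w = d := hd.symm
  have hdq : d ^ q = d := by
    rw [hd]; exact hermForm_conj hF w w
  -- the scalar `r`
  have hainv : (a⁻¹) ^ q = a⁻¹ := by rw [inv_pow, haq]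
  have hcard := Cfsg.Agent.S0754.result hF a⁻¹ (inv_ne_zero ha0) hainv
  have hne : Nonempty {x : F // x ^ (q + 1) = a⁻¹} := by
    apply (Nat.card_pos_iff.mp _).1
    rw [hcard]
    omega
  obtain ⟨⟨r, hr⟩⟩ := hne
  have hr' : r * r ^ q * a = 1 := by
    rw [pow_succ] at hr
    rw [mul_comm r, hr, inv_mul_cancel₀ ha0]
  have hia : a * a⁻¹ = 1 := mul_inv_cancel₀ ha0
  -- the parameters
  obtain ⟨e, he⟩ : ∃ e : F, e = c₀ - c * a⁻¹ := ⟨_, rfl⟩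
  have heq : e ^ q = -e := by
    rw [he, frob_sub' hF, mul_pow, hainv]
    linear_combination hc₀ - a⁻¹ * hcc - hia
  obtain ⟨β, hβdef⟩ : ∃ β : F, β = e * c₀ := ⟨_, rfl⟩
  have hβ : β - β ^ q = e := by
    rw [hβdef, mul_pow, heq]
    linear_combination e * hc₀
  obtain ⟨D, hD⟩ : ∃ D : F, D = r * r ^ q * d + r * (r * β) ^ q * c ^ q + (r * β) * r ^ q * c
      - (r * β) * (r * β) ^ q * a := ⟨_, rfl⟩
  have hDq : D ^ q = D := by
    rw [hD]
    simp only [frob_sub' hF, frob_add hF, mul_pow, frob_frob hF, hdq, haq]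
    ring
  obtain ⟨γ, hγdef⟩ : ∃ γ : F, γ = -(D * c₀) := ⟨_, rfl⟩
  have hγ : γ + γ ^ q = -D := by
    rw [hγdef, frob_neg' hF, mul_pow, hDq]
    linear_combination -D * hc₀
  have hNv3 : N *ᵥ (r • w + (r * β) • v2 + (r * γ) • v1) = r • v2 + (r * β) • v1 := by
    rw [Matrix.mulVec_add, Matrix.mulVec_add, Matrix.mulVec_smul, Matrix.mulVec_smul,
      Matrix.mulVec_smul, hNw, hNv2, hNv1, smul_zero, add_zero]
  have hNNv3 : N *ᵥ (r • v2 + (r * β) • v1) = r • v1 := by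
    rw [Matrix.mulVec_add, Matrix.mulVec_smul, Matrix.mulVec_smul, hNv2, hNv1, smul_zero, add_zero]
  refine ⟨r • w + (r * β) • v2 + (r * γ) • v1, ?_, ?_, ?_⟩
  · rw [hNv3, hNNv3]
    simp only [hermForm_add_left, hermForm_add_right hF, hermForm_smul_left, hermForm_smul_right,
      g11, g12, g21, g13, g31, g22, g23, g32, g33]
    linear_combination hr'
  · rw [hNv3]
    simp only [hermForm_add_left, hermForm_add_right hF, hermForm_smul_left, hermForm_smul_right,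
      g11, g12, g21, g13, g31, g22, g23, g32, g33]
    linear_combination c₀ * hr' + (r * r ^ q * a) * he + (r * r ^ q * a) * hβ - (r * r ^ q * c) * hia
  · simp only [hermForm_add_left, hermForm_add_right hF, hermForm_smul_left, hermForm_smul_right,
      g11, g12, g21, g13, g31, g22, g23, g32, g33]
    linear_combination (γ + γ ^ q) * hr' + hγ - hD

end Cfsg.Agent.Helper60.Cov2P5
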