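import Mathlib
import Cfsg.Agent.S0837
import Cfsg.Agent.Helper13.Herm
import Cfsg.Agent.Helper13.UGen1
import Cfsg.Agent.Helper60.Cov2P55H1

/-!
# (5H2) for S2500 part 5 (helper3, #12490): regular unipotent elements of `SU_3(3^a)` with the same normal form are
conjugate in `SU_3`
-/

set_option autoImplicit false

namespace Cfsg.Agent.Helper60.Cov2P5

open Matrix Cfsg.Agent.Helper13 Cfsg.Agent.S0837

variable {F : Type*} [Field F] [Fintype F] {q : ℕ}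

/-- the matrix whose columns are `N² v`, `N v`, `v` -/
def chainMat (N : Matrix (Fin 3) (Fin 3) F) (v : Fin 3 → F) : Matrix (Fin 3) (Fin 3) F :=
  Matrix.of fun i j => (![N *ᵥ (N *ᵥ v), N *ᵥ v, v] : Fin 3 → Fin 3 → F) j i

/-- the forced Gram matrix -/
def gram0 (q : ℕ) (c₀ : F) : Matrix (Fin 3) (Fin 3) F := !![0, 0, 1; 0, -1, c₀; 1, c₀ ^ q, 0]

/-- the matrix of `1 + N` on the chain -/
def jord : Matrix (Fin 3) (Fin 3) F := !![1, 1, 0; 0, 1, 1; 0, 0, 1]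

omit [Fintype F] in
theorem chainMat_col (N : Matrix (Fin 3) (Fin 3) F) (v : Fin 3 → F) (j : Fin 3) :
    (fun i => chainMat N v i j) = (![N *ᵥ (N *ᵥ v), N *ᵥ v, v] : Fin 3 → Fin 3 → F) j := rfl

theorem gram_entry (hF : Fintype.card F = q ^ 2) (P : Matrix (Fin 3) (Fin 3) F) (i j : Fin 3) :
    (Pᵀ * P.map (frobHom hF)) i j = Cfsg.hermForm 3 F q (fun k => P k i) (fun k => P k j) := by
  rw [Matrix.mul_apply]
  rfl

omit [Fintype F] in
theorem det_gram0 (c₀ : F) : (gram0 q c₀).det = 1 := by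
  rw [gram0, Matrix.det_fin_three]
  simp

section abstract

variable (hF : Fintype.card F = q ^ 2) (N : Matrix (Fin 3) (Fin 3) F)
  (hU : ∀ x y : Fin 3 → F, Cfsg.hermForm 3 F q (N *ᵥ x) y + Cfsg.hermForm 3 F q x (N *ᵥ y) +
    Cfsg.hermForm 3 F q (N *ᵥ x) (N *ᵥ y) = 0)
  (hN3 : ∀ x : Fin 3 → F, N *ᵥ (N *ᵥ (N *ᵥ x)) = 0)

include hF hU hN3

theorem gram_chainMat (c₀ : F) (v : Fin 3 → F)
    (hv : Cfsg.hermForm 3 F q (N *ᵥ (N *ᵥ v)) v = 1 ∧ Cfsg.hermForm 3 F q (N *ᵥ v) v = c₀ ∧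
      Cfsg.hermForm 3 F q v v = 0) :
    (chainMat N v)ᵀ * (chainMat N v).map (frobHom hF) = gram0 q c₀ := by
  obtain ⟨h13, h23, h33⟩ := hv
  have h31 : Cfsg.hermForm 3 F q v (N *ᵥ (N *ᵥ v)) = 1 := by
    rw [← hermForm_conj hF, h13, one_pow]
  have h32 : Cfsg.hermForm 3 F q v (N *ᵥ v) = c₀ ^ q := by
    rw [← hermForm_conj hF, h23]
  have h22 : Cfsg.hermForm 3 F q (N *ᵥ v) (N *ᵥ v) = -1 := by
    have := rel_20 hF N hU hN3 v v
    rw [h13] at this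
    linear_combination this
  have h11 := rel_22 hF N hU hN3 v v
  have h12 := rel_21 hF N hU hN3 v v
  have h21 := rel_12 hF N hU hN3 v v
  ext i j
  rw [gram_entry hF, chainMat_col, chainMat_col]
  fin_cases i <;> fin_cases j
  · exact h11
  · exact h12
  · exact h13
  · exact h21
  · exact h22
  · exact h23
  · exact h31
  · exact h32
  · exact h33

omit hF hU in
theorem act_chainMat (v : Fin 3 → F) : (N + 1) * chainMat N v = chainMat N v * jord := by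
  ext i j
  have hL : ((N + 1) * chainMat N v) i j = ((N + 1) *ᵥ (fun k => chainMat N v k j)) i := rfl
  rw [hL, chainMat_col, Matrix.add_mulVec, Matrix.one_mulVec, Matrix.mul_apply, Fin.sum_univ_three]
  have h0 : (N * (N * N)) *ᵥ v = 0 := by
    rw [← Matrix.mulVec_mulVec, ← Matrix.mulVec_mulVec]
    exact hN3 v
  fin_cases j
  · simp [jord, chainMat, h0]
  · simp [jord, chainMat]
  · simp [jord, chainMat]

end abstract

/-- (5H2) -/
theorem regunip_conj_of_normal_form (hF : Fintype.card F = q ^ 2) (a : ℕ) (ha : 1 ≤ a)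
    (hq : q = 3 ^ a) (A A' : Cfsg.SU 3 F q)
    (h1 : ((A.1.1 : Matrix (Fin 3) (Fin 3) F) - 1) ^ 3 = 0)
    (h1' : ((A'.1.1 : Matrix (Fin 3) (Fin 3) F) - 1) ^ 3 = 0)
    (c₀ : F) (v3 v3' : Fin 3 → F)
    (hA : Cfsg.hermForm 3 F q (((A.1.1 : Matrix (Fin 3) (Fin 3) F) - 1) *ᵥ
        (((A.1.1 : Matrix (Fin 3) (Fin 3) F) - 1) *ᵥ v3)) v3 = 1 ∧
      Cfsg.hermForm 3 F q (((A.1.1 : Matrix (Fin 3) (Fin 3) F) - 1) *ᵥ v3) v3 = c₀ ∧
      Cfsg.hermForm 3 F q v3 v3 = 0)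
    (hA' : Cfsg.hermForm 3 F q (((A'.1.1 : Matrix (Fin 3) (Fin 3) F) - 1) *ᵥ
        (((A'.1.1 : Matrix (Fin 3) (Fin 3) F) - 1) *ᵥ v3')) v3' = 1 ∧
      Cfsg.hermForm 3 F q (((A'.1.1 : Matrix (Fin 3) (Fin 3) F) - 1) *ᵥ v3') v3' = c₀ ∧
      Cfsg.hermForm 3 F q v3' v3' = 0) :
    ∃ x : Cfsg.SU 3 F q, x * A * x⁻¹ = A' := by
  have hN3of : ∀ M : Matrix (Fin 3) (Fin 3) F, M ^ 3 = 0 → ∀ x : Fin 3 → F, M *ᵥ (M *ᵥ (M *ᵥ x)) = 0 := by
    intro M hM x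
    have e3 : M * M * M = 0 := by
      rw [← hM, pow_succ, pow_succ, pow_one]
    rw [Matrix.mulVec_mulVec, Matrix.mulVec_mulVec, e3, Matrix.zero_mulVec]
  obtain ⟨N, hN⟩ : ∃ N : Matrix (Fin 3) (Fin 3) F, N = (A.1.1 : Matrix (Fin 3) (Fin 3) F) - 1 := ⟨_, rfl⟩
  obtain ⟨N', hN'⟩ : ∃ N' : Matrix (Fin 3) (Fin 3) F, N' = (A'.1.1 : Matrix (Fin 3) (Fin 3) F) - 1 :=
    ⟨_, rfl⟩
  have hU := unitary_rel hF A
  have hU' := unitary_rel hF A'
  rw [← hN] at h1 hA hU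
  rw [← hN'] at h1' hA' hU'
  have hAN : (A.1.1 : Matrix (Fin 3) (Fin 3) F) = N + 1 := by rw [hN, sub_add_cancel]
  have hAN' : (A'.1.1 : Matrix (Fin 3) (Fin 3) F) = N' + 1 := by rw [hN', sub_add_cancel]
  have hN3 := hN3of N h1
  have hN3' := hN3of N' h1'
  -- the two chain matrices
  obtain ⟨P, hP⟩ : ∃ P : Matrix (Fin 3) (Fin 3) F, P = chainMat N v3 := ⟨_, rfl⟩
  obtain ⟨P', hP'⟩ : ∃ P' : Matrix (Fin 3) (Fin 3) F, P' = chainMat N' v3' := ⟨_, rfl⟩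
  have hG : Pᵀ * P.map (frobHom hF) = gram0 q c₀ := by
    rw [hP]; exact gram_chainMat hF N hU hN3 c₀ v3 hA
  have hG' : P'ᵀ * P'.map (frobHom hF) = gram0 q c₀ := by
    rw [hP']; exact gram_chainMat hF N' hU' hN3' c₀ v3' hA'
  have hJ : (A.1.1 : Matrix (Fin 3) (Fin 3) F) * P = P * jord := by
    rw [hAN, hP]; exact act_chainMat N hN3 v3
  have hJ' : (A'.1.1 : Matrix (Fin 3) (Fin 3) F) * P' = P' * jord := by
    rw [hAN', hP']; exact act_chainMat N' hN3' v3'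
  -- invertibility
  have hdetP : IsUnit P.det := by
    have h := congrArg Matrix.det hG
    rw [Matrix.det_mul, Matrix.det_transpose, det_gram0] at h
    exact IsUnit.of_mul_eq_one _ h
  obtain ⟨Q, hQ⟩ : ∃ Q : Matrix (Fin 3) (Fin 3) F, Q = P⁻¹ := ⟨_, rfl⟩
  have hPQ : P * Q = 1 := by rw [hQ]; exact Matrix.mul_nonsing_inv P hdetP
  have hQP : Q * P = 1 := by rw [hQ]; exact Matrix.nonsing_inv_mul P hdetP
  -- the isometry `Z`
  obtain ⟨Z, hZ⟩ : ∃ Z : Matrix (Fin 3) (Fin 3) F, Z = P' * Q := ⟨_, rfl⟩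
  have hZU : Zᵀ * Z.map (frobHom hF) = 1 := by
    rw [hZ, Matrix.transpose_mul, Matrix.map_mul]
    calc Qᵀ * P'ᵀ * (P'.map (frobHom hF) * Q.map (frobHom hF))
        = Qᵀ * (P'ᵀ * P'.map (frobHom hF)) * Q.map (frobHom hF) := by simp only [Matrix.mul_assoc]
      _ = Qᵀ * (Pᵀ * P.map (frobHom hF)) * Q.map (frobHom hF) := by rw [hG', hG]
      _ = (P * Q)ᵀ * (P * Q).map (frobHom hF) := by
          rw [Matrix.transpose_mul, Matrix.map_mul]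
          simp only [Matrix.mul_assoc]
      _ = 1 := by
          rw [hPQ, Matrix.transpose_one, Matrix.map_one _ (map_zero _) (map_one _), Matrix.one_mul]
  have hZA : Z * (A.1.1 : Matrix (Fin 3) (Fin 3) F) = (A'.1.1 : Matrix (Fin 3) (Fin 3) F) * Z := by
    have e1 : Q * (A.1.1 : Matrix (Fin 3) (Fin 3) F) = jord * Q := by
      calc Q * (A.1.1 : Matrix (Fin 3) (Fin 3) F)
          = Q * (A.1.1 : Matrix (Fin 3) (Fin 3) F) * (P * Q) := by rw [hPQ, Matrix.mul_one]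
        _ = Q * ((A.1.1 : Matrix (Fin 3) (Fin 3) F) * P) * Q := by simp only [Matrix.mul_assoc]
        _ = Q * (P * jord) * Q := by rw [hJ]
        _ = (Q * P) * jord * Q := by simp only [Matrix.mul_assoc]
        _ = jord * Q := by rw [hQP, Matrix.one_mul]
    rw [hZ, Matrix.mul_assoc, e1, ← Matrix.mul_assoc, ← hJ', Matrix.mul_assoc]
  -- the determinant
  obtain ⟨δ, hδ⟩ : ∃ δ : F, δ = Z.det := ⟨_, rfl⟩
  have hδ1 : δ * δ ^ q = 1 := by
    have h := congrArg Matrix.det hZU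
    rw [Matrix.det_mul, Matrix.det_transpose, Matrix.det_one, ← RingHom.mapMatrix_apply,
      ← RingHom.map_det, ← hδ, frobHom_apply] at h
    exact h
  obtain ⟨k, hk⟩ : ∃ k : ℕ, q = 3 * k := by
    obtain ⟨b, rfl⟩ : ∃ b, a = b + 1 := ⟨a - 1, by omega⟩
    exact ⟨3 ^ b, by rw [hq, pow_succ]; ring⟩
  obtain ⟨s, hs⟩ : ∃ s : F, s = δ ^ k := ⟨_, rfl⟩
  have hs3 : s ^ 3 * δ = 1 := by
    rw [hs, ← pow_mul, mul_comm k 3, ← hk, mul_comm]
    exact hδ1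
  have hsq : s * s ^ q = 1 := by
    rw [hs, ← pow_mul, mul_comm k q, pow_mul, ← mul_pow, hδ1, one_pow]
  -- the conjugating element
  have hZpres : ∀ u v : Fin 3 → F, Cfsg.hermForm 3 F q (Z *ᵥ u) (Z *ᵥ v) = Cfsg.hermForm 3 F q u v :=
    (preserves_iff hF Z).mpr hZU
  have hdet : (s • Z).det = 1 := by
    rw [Matrix.det_smul, Fintype.card_fin, ← hδ]
    exact hs3
  have hpres : ∀ u v : Fin 3 → F,
      Cfsg.hermForm 3 F q ((s • Z) *ᵥ u) ((s • Z) *ᵥ v) = Cfsg.hermForm 3 F q u v := by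
    intro u v
    rw [Matrix.smul_mulVec, Matrix.smul_mulVec, hermForm_smul_left, hermForm_smul_right, hZpres,
      ← mul_assoc, hsq, one_mul]
  refine ⟨⟨⟨s • Z, hdet⟩, hpres⟩, ?_⟩
  rw [mul_inv_eq_iff_eq_mul]
  apply Subtype.ext
  apply Subtype.ext
  show (s • Z) * (A.1.1 : Matrix (Fin 3) (Fin 3) F) = (A'.1.1 : Matrix (Fin 3) (Fin 3) F) * (s • Z)
  rw [Matrix.smul_mul, Matrix.mul_smul, hZA]

end Cfsg.Agent.Helper60.Cov2P5
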