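import Mathlib

/-!
# Piece (GAG-C1) of #5685 (helper60, for helper95's S4839): the dihedral lemma

An elementary abelian `2`-group `A` with a fixed-point-free automorphism `α` of odd order `m`
inverted by an automorphism `τ`: every `τ`-fixed `v` is of the form `w * τ w`.
-/

set_option autoImplicit false

namespace Cfsg.Agent.Helper60.Gagola

theorem exists_mul_of_fixed {A : Type*} [CommGroup A] (hexp : ∀ a : A, a * a = 1)
    (α τ : MulAut A) (m : ℕ) (hm : Odd m) (hαm : α ^ m = 1) (hinv : τ * α * τ⁻¹ = α⁻¹)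
    (hfpf : ∀ a : A, α a = a → a = 1) (v : A) (hv : τ v = v) : ∃ w : A, v = w * τ w := by
  obtain ⟨k, rfl⟩ := hm
  -- the `α`-norm of `v` is fixed by `α`, hence trivial
  have hσfix : α (∏ i ∈ Finset.range (2 * k + 1), (α ^ i) v) =
      ∏ i ∈ Finset.range (2 * k + 1), (α ^ i) v := by
    rw [map_prod]
    have h1 : ∀ i, α ((α ^ i) v) = (α ^ (i + 1)) v := by
      intro i
      rw [pow_succ', MulAut.mul_apply]
    simp_rw [h1]
    have h2 := Finset.prod_range_succ' (fun i => (α ^ i) v) (2 * k + 1)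
    have h3 := Finset.prod_range_succ (fun i => (α ^ i) v) (2 * k + 1)
    rw [h2] at h3
    simp only [hαm, pow_zero] at h3
    exact mul_right_cancel h3
  have hσ : ∏ i ∈ Finset.range (2 * k + 1), (α ^ i) v = 1 := hfpf _ hσfix
  have hτinv : τ⁻¹ v = v := by
    conv_lhs => rw [← hv]
    exact MulAut.inv_apply_self _ τ v
  have hconj : ∀ j : ℕ, τ * α ^ j * τ⁻¹ = (α ^ j)⁻¹ := by
    intro j
    rw [← conj_pow, hinv, inv_pow]
  have hrefl : ∀ j, j < k → (α ^ (k + (k - 1 - j) + 1)) v = τ ((α ^ (j + 1)) v) := by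
    intro j hj
    have e : α ^ (k + (k - 1 - j) + 1) = τ * α ^ (j + 1) * τ⁻¹ := by
      rw [hconj, eq_inv_iff_mul_eq_one, ← pow_add]
      have : k + (k - 1 - j) + 1 + (j + 1) = 2 * k + 1 := by omega
      rw [this, hαm]
    rw [e, MulAut.mul_apply, MulAut.mul_apply, hτinv]
  refine ⟨∏ i ∈ Finset.range k, (α ^ (i + 1)) v, ?_⟩
  have hsplit : ∏ i ∈ Finset.range (2 * k + 1), (α ^ i) v =
      v * ((∏ i ∈ Finset.range k, (α ^ (i + 1)) v) *
        τ (∏ i ∈ Finset.range k, (α ^ (i + 1)) v)) := by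
    rw [Finset.prod_range_succ', pow_zero, MulAut.one_apply, mul_comm]
    congr 1
    rw [two_mul, Finset.prod_range_add]
    congr 1
    rw [map_prod, ← Finset.prod_range_reflect]
    refine Finset.prod_congr rfl (fun j hj => ?_)
    rw [Finset.mem_range] at hj
    exact hrefl j hj
  rw [hσ] at hsplit
  have h4 : v = ((∏ i ∈ Finset.range k, (α ^ (i + 1)) v) *
      τ (∏ i ∈ Finset.range k, (α ^ (i + 1)) v))⁻¹ := eq_inv_of_mul_eq_one_left hsplit.symm
  exact h4.trans (inv_eq_of_mul_eq_one_left (hexp _))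

end Cfsg.Agent.Helper60.Gagola
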