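-- helper60: piece (P5) of helper35's WANTED #4524 for S3033 (conjugate-pair order condition), plus two shared lemmas.
import Mathlib
import Cfsg.Prelude.Def_SolvableStructure
import Cfsg.Agent.Helper35.CPDef

set_option autoImplicit false

namespace Cfsg.Agent.Helper60.CP

open Cfsg.Agent.Helper35.CP

/-- an `r`-subgroup meets a subgroup of order not divisible by `r ^ 2` in a subgroup of order `1` or `r` -/
theorem card_inf_dvd_prime {G : Type*} [Group G] [Finite G] {r : ℕ} (hr : r.Prime) (N H : Subgroup G)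
    (hN : IsPGroup r N) (hH : ¬ r ^ 2 ∣ Nat.card H) : Nat.card (N ⊓ H : Subgroup G) ∣ r := by
  have : Fact r.Prime := ⟨hr⟩
  have hW : IsPGroup r (N ⊓ H : Subgroup G) := hN.to_le inf_le_left
  obtain ⟨n, hn⟩ := hW.exists_card_eq
  have hdvd : Nat.card (N ⊓ H : Subgroup G) ∣ Nat.card H := Subgroup.card_dvd_of_le inf_le_right
  rw [hn] at hdvd ⊢
  have hn1 : n ≤ 1 := by
    by_contra hlt
    push Not at hlt
    exact hH ((pow_dvd_pow r hlt).trans hdvd)
  interval_cases n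
  · simp
  · simp

/-- in a subgroup of order dividing a prime, every element is a power of any non-identity element -/
theorem exists_pow_of_card_dvd_prime {G : Type*} [Group G] [Finite G] {r : ℕ} (hr : r.Prime)
    (W : Subgroup G) (hW : Nat.card W ∣ r) (c : G) (hc : c ∈ W) (hc1 : c ≠ 1) (y : G) (hy : y ∈ W) :
    ∃ k : ℕ, y = c ^ k := by
  have : Fact r.Prime := ⟨hr⟩
  have hcard : Nat.card W = r := by
    rcases (Nat.dvd_prime hr).mp hW with h1 | h1
    · exfalso
      apply hc1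
      have : W = ⊥ := Subgroup.card_eq_one.mp h1
      rw [this] at hc
      exact Subgroup.mem_bot.mp hc
    · exact h1
  have htop : Subgroup.zpowers (⟨c, hc⟩ : W) = ⊤ :=
    zpowers_eq_top_of_prime_card hcard (fun e => hc1 (congrArg Subtype.val e))
  have hmem : (⟨y, hy⟩ : W) ∈ Subgroup.zpowers (⟨c, hc⟩ : W) := by
    rw [htop]
    exact Subgroup.mem_top _
  rw [← mem_powers_iff_mem_zpowers] at hmem
  obtain ⟨k, hk⟩ := hmem
  refine ⟨k, ?_⟩
  have := congrArg Subtype.val hk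
  simpa using this.symm

/-- **(P5)** -/
theorem conjPair_eigen {G : Type*} [Group G] [Finite G] (h : ConjPair G) (N : Subgroup G) [N.Normal]
    {r t : ℕ} (hr : r.Prime) (ht : t.Prime) (htr : t ≠ r) (hexp : ∀ v ∈ N, v ^ r = 1) (x : G)
    (hx : ∃ e : ℕ, orderOf x = t ^ e) (v : G) (hv : v ∈ N) :
    ∃ k : ℕ, x * (v * x * v⁻¹ * x⁻¹) * x⁻¹ = (v * x * v⁻¹ * x⁻¹) ^ k := by
  -- `v` is an `r`-element
  have hvr : ∃ b : ℕ, orderOf v = r ^ b := by
    have hdvd : orderOf v ∣ r := orderOf_dvd_of_pow_eq_one (hexp v hv)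
    rcases (Nat.dvd_prime hr).mp hdvd with h1 | h1
    · exact ⟨0, by rw [h1, pow_zero]⟩
    · exact ⟨1, by rw [h1, pow_one]⟩
  set H : Subgroup G := Subgroup.zpowers x ⊔ Subgroup.zpowers (v * x * v⁻¹) with hH
  have hcardH : ¬ r ^ 2 ∣ Nat.card H := h t r ht hr htr x v hx hvr
  have hNp : IsPGroup r N := by
    intro g
    refine ⟨1, ?_⟩
    apply Subtype.ext
    rw [pow_one]
    simpa using hexp g g.2
  have hW := card_inf_dvd_prime hr N H hNp hcardH
  have hxH : x ∈ H := Subgroup.mem_sup_left (Subgroup.mem_zpowers x)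
  have hvxH : v * x * v⁻¹ ∈ H := Subgroup.mem_sup_right (Subgroup.mem_zpowers _)
  set c : G := v * x * v⁻¹ * x⁻¹ with hc
  have hcN : c ∈ N := by
    have h1 : x * v⁻¹ * x⁻¹ ∈ N := ‹N.Normal›.conj_mem _ (N.inv_mem hv) x
    have e : c = v * (x * v⁻¹ * x⁻¹) := by rw [hc]; group
    rw [e]
    exact N.mul_mem hv h1
  have hcH : c ∈ H := H.mul_mem hvxH (H.inv_mem hxH)
  have hcW : c ∈ N ⊓ H := ⟨hcN, hcH⟩
  have hxcW : x * c * x⁻¹ ∈ N ⊓ H :=
    ⟨‹N.Normal›.conj_mem _ hcN x, H.mul_mem (H.mul_mem hxH hcH) (H.inv_mem hxH)⟩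
  by_cases hc1 : c = 1
  · refine ⟨0, ?_⟩
    rw [hc1, pow_zero]
    group
  · exact exists_pow_of_card_dvd_prime hr _ hW c hcW hc1 _ hxcW

end Cfsg.Agent.Helper60.CP
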