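import Cfsg.Agent.Helper36.F4Odd.Defs

/-!
# (SG), (SG2) for S4280 (helper36, #11941): explicit signs for the action of `n_w` and of `k n_w` on the root groups
of `F₄(F)`.
-/

set_option autoImplicit false
set_option maxRecDepth 100000

namespace Cfsg.Agent.Helper60.F4Odd

open Cfsg Cfsg.Lie Cfsg.Agent.Helper18 Cfsg.Agent.Helper36.F4Odd Cfsg.Agent.Helper40.SL2Hom

variable {F : Type*} [Field F]

/-- one fundamental reflection, with the explicit sign mask -/
theorem n_simple_conj_sg (i : ℕ) (hi : i < 4) (x : ℕ) (hx : x < 48) (u : F) :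
    wordGL chevF4 F (chevF4.nWord (chevF4.simple i) (1 : F)) * X x u =
      X (aW [i] x) (((Cfsg.Agent.Helper36.etaAt (epF4 i) x : ℤ) : F) * u) *
        wordGL chevF4 F (chevF4.nWord (chevF4.simple i) (1 : F)) := by
  apply Units.ext
  rw [Units.val_mul, Units.val_mul, X, X, xGL_val chevF4 _ (triOK_of_mem chevF4 hF4),
    xGL_val chevF4 _ (triOK_of_mem chevF4 hF4), nWordGL_val chevF4 hF4]
  have e : aW [i] x = chevF4.reflectRoot i x := (aW_eq_rho [i] (by simpa using hi) x hx).1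
  rw [e]
  interval_cases i
  · exact Cfsg.Agent.Helper36.conj_of_iCheck chevF4 F Cfsg.Agent.Helper36.tabF4
      Cfsg.Agent.Helper36.iCheckF4_0 x hx u
  · exact Cfsg.Agent.Helper36.conj_of_iCheck chevF4 F Cfsg.Agent.Helper36.tabF4
      Cfsg.Agent.Helper36.iCheckF4_1 x hx u
  · exact Cfsg.Agent.Helper36.conj_of_iCheck chevF4 F Cfsg.Agent.Helper36.tabF4
      Cfsg.Agent.Helper36.iCheckF4_2 x hx u
  · exact Cfsg.Agent.Helper36.conj_of_iCheck chevF4 F Cfsg.Agent.Helper36.tabF4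
      Cfsg.Agent.Helper36.iCheckF4_3 x hx u

theorem sgW_cons (i : ℕ) (w : List ℕ) (s : ℕ) :
    sgW (i :: w) s = Cfsg.Agent.Helper36.etaAt (epF4 i) (aW w s) * sgW w s := rfl

/-- (SG) explicit signs. -/
theorem nW_conj_sg (w : List ℕ) (hw : ∀ i ∈ w, i < 4) (s : ℕ) (hs : s < 48) (t : F) :
    nW w * X s t * (nW w)⁻¹ = X (aW w s) (((sgW w s : ℤ) : F) * t) := by
  rw [mul_inv_eq_iff_eq_mul]
  induction w generalizing t with
  | nil =>
    have e1 : aW [] s = s := rfl
    have e2 : sgW [] s = 1 := rfl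
    rw [nW_nil, e1, e2]
    simp
  | cons i w ih =>
    have hw' : ∀ j ∈ w, j < 4 := fun j hj => hw j (List.mem_cons_of_mem _ hj)
    have hi : i < 4 := hw i List.mem_cons_self
    have hlt : aW w s < 48 := aW_lt w hw' s hs
    have e1 : aW (i :: w) s = aW [i] (aW w s) := rfl
    rw [nW_cons, mul_assoc, ih hw' t, ← mul_assoc, n_simple_conj_sg i hi _ hlt, mul_assoc, e1, sgW_cons]
    congr 2
    push_cast
    ring

/-- (SG2) corollary of (SG) and `tor_conj`. -/
theorem monomial_conj_sg (c : Fin chevF4.rank → Fˣ) (w : List ℕ) (hw : ∀ i ∈ w, i < 4) (s : ℕ) (hs : s < 48) (t : F) :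
    (tor c * nW w) * X s t * (tor c * nW w)⁻¹ = X (aW w s) ((chr (aW w s) c : Fˣ) * ((sgW w s : ℤ) : F) * t) := by
  have e : tor c * nW w * X s t * (tor c * nW w)⁻¹ =
      tor c * (nW w * X s t * (nW w)⁻¹) * (tor c)⁻¹ := by group
  rw [e, nW_conj_sg w hw s hs t, tor_conj c _ (aW_lt w hw s hs), mul_assoc]

end Cfsg.Agent.Helper60.F4Odd
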