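import Cfsg.Agent.Helper36.F4Odd.Defs2

/-!
# (CS) for S4280 (helper36, #12203): the values of the roots of `F₄` on the elements `tor (sv b)` of order `≤ 2`.
-/

set_option autoImplicit false
set_option maxRecDepth 100000

namespace Cfsg.Agent.Helper60.F4Odd

open Cfsg Cfsg.Lie Cfsg.Agent.Helper18 Cfsg.Agent.Helper36.F4Odd Cfsg.Agent.Helper19.Twist

variable {F : Type*} [Field F]

theorem ite_neg_one_zpow (p : Bool) (z : ℤ) :
    (if p = true then (-1 : Fˣ) else 1) ^ z = (-1 : Fˣ) ^ (if p = true then z else 0) := by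
  cases p <;> simp

/-- the value of the root `s` on `tor (sv b)` is `(-1)^{parSum b s}` -/
theorem chr_sv_eq_zpow (b s : ℕ) : chr s (sv (F := F) b) = (-1 : Fˣ) ^ parSum b s := by
  have e : chr s (sv (F := F) b) =
      sv b (0 : Fin 4) ^ chevF4.cartan 0 s * sv b (1 : Fin 4) ^ chevF4.cartan 1 s *
        sv b (2 : Fin 4) ^ chevF4.cartan 2 s * sv b (3 : Fin 4) ^ chevF4.cartan 3 s := by
    unfold chr
    exact Fin.prod_univ_four (fun i : Fin 4 => sv (F := F) b i ^ chevF4.cartan i.val s)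
  rw [e]
  have e0 : sv (F := F) b (0 : Fin 4) = if b.testBit 0 = true then -1 else 1 := rfl
  have e1 : sv (F := F) b (1 : Fin 4) = if b.testBit 1 = true then -1 else 1 := rfl
  have e2 : sv (F := F) b (2 : Fin 4) = if b.testBit 2 = true then -1 else 1 := rfl
  have e3 : sv (F := F) b (3 : Fin 4) = if b.testBit 3 = true then -1 else 1 := rfl
  rw [e0, e1, e2, e3, ite_neg_one_zpow, ite_neg_one_zpow, ite_neg_one_zpow, ite_neg_one_zpow,
    ← zpow_add, ← zpow_add, ← zpow_add]
  rfl

/-- (CS) the values of the roots on `tor (sv b)`. -/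
theorem chr_sv (b s : ℕ) (hb : b < 16) (hs : s < 48) :
    chr s (sv (F := F) b) = if par b s then -1 else 1 := by
  rw [chr_sv_eq_zpow, par_spec b hb s hs]
  rcases Int.emod_two_eq_zero_or_one (parSum b s) with h | h
  · rw [if_neg (by simp [h]), Even.neg_one_zpow (Int.even_iff.mpr h)]
  · rw [if_pos (by simp [h]), Odd.neg_one_zpow (Int.odd_iff.mpr h)]

end Cfsg.Agent.Helper60.F4Odd
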