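import Cfsg.Agent.Helper36.F4Odd.Defs2

/-!
# (TC) for S4280 (helper36, #12203): conjugation of the torus of `F₄(F)` by the representatives `n_w`.
-/

set_option autoImplicit false
set_option maxRecDepth 100000

namespace Cfsg.Agent.Helper60.F4Odd

open Cfsg Cfsg.Lie Cfsg.Agent.Helper18 Cfsg.Agent.Helper36.F4Odd Cfsg.Agent.Helper19.Twist

variable {F : Type*} [Field F]

/-- an element of the torus is determined by the values of the roots (own copy of (TE), to keep (TC) self-contained) -/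
theorem tor_ext_aux (c d : Fin chevF4.rank → Fˣ) (h : ∀ s < 48, chr s c = chr s d) : tor (F := F) c = tor d := by
  apply Units.ext
  unfold tor
  rw [torusHom_val, torusHom_val]
  congr 1
  funext j
  rcases j with a | ⟨s, hs⟩
  · rfl
  · have h1 := h s hs
    have h2 : ((chr s c : Fˣ) : F) = ((chr s d : Fˣ) : F) := by rw [h1]
    exact h2

/-- the forward direction of (TC) -/
theorem chr_of_nW_tor_conj (w : List ℕ) (hw : ∀ i ∈ w, i < 4) (c d : Fin chevF4.rank → Fˣ)
    (hn : nW w * tor c * (nW w)⁻¹ = tor (F := F) d) : ∀ s < 48, chr (aW w s) d = chr s c := by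
  intro s hs
  obtain ⟨hlt, η, hη, hconj⟩ := nW_conj (F := F) w hw s hs
  have hη0 : η ≠ 0 := by rcases hη with h | h <;> rw [h] <;> simp
  have haw : aW w s = rho chevF4 w s := (aW_eq_rho w hw s hs).1
  rw [haw]
  have h1 := tor_conj d (rho chevF4 w s) hlt (η * 1)
  have h2 : tor d * X (rho chevF4 w s) (η * 1) * (tor d)⁻¹ =
      nW w * (tor c * X s 1 * (tor c)⁻¹) * (nW w)⁻¹ := by
    rw [← hn, ← hconj 1]
    group
  rw [h2, tor_conj c s hs 1, hconj] at h1
  have h3 := X_injective _ hlt _ _ h1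
  rw [mul_one, mul_one] at h3
  apply Units.ext
  have h4 : η * ((chr s c : Fˣ) : F) = η * ((chr (rho chevF4 w s) d : Fˣ) : F) := by
    rw [h3, mul_comm]
  exact (mul_left_cancel₀ hη0 h4).symm

/-- `aW w` is onto `[0, 48)` -/
theorem aW_surj (w : List ℕ) (hw : ∀ i ∈ w, i < 4) (r : ℕ) (hr : r < 48) : ∃ s < 48, aW w s = r := by
  have hw' : ∀ i ∈ w.reverse, i < 4 := fun i hi => hw i (List.mem_reverse.mp hi)
  refine ⟨aW w.reverse r, aW_lt w.reverse hw' r hr, ?_⟩
  rw [(aW_eq_rho w.reverse hw' r hr).1, (aW_eq_rho w hw _ (aW_eq_rho w.reverse hw' r hr).2).1]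
  exact rho_reverse_cancel chevF4 hF4 w hw r hr

/-- (TC) conjugation of the torus by `n_w`. -/
theorem nW_tor_conj_iff (w : List ℕ) (hw : ∀ i ∈ w, i < 4) (c d : Fin chevF4.rank → Fˣ) :
    nW w * tor c * (nW w)⁻¹ = tor (F := F) d ↔ ∀ s < 48, chr (aW w s) d = chr s c := by
  constructor
  · exact chr_of_nW_tor_conj w hw c d
  · intro h
    have hmem := conj_mem_diagonal (F := F) (nW w) (tor c) (nW_mem w hw) (tor_mem c)
    obtain ⟨d', hd'⟩ := (mem_diagonal_iff _).mp hmem
    rw [hd']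
    apply tor_ext_aux
    intro r hr
    obtain ⟨s, hs, rfl⟩ := aW_surj w hw r hr
    rw [chr_of_nW_tor_conj w hw c d' hd' s hs, h s hs]

end Cfsg.Agent.Helper60.F4Odd
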