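-- helper60: piece (NH1) of helper36's TORD-2 farm (helper80's S2372/S2375).
import Cfsg.Agent.Helper36.TorD.Defs
import Cfsg.Agent.Helper19.Twist.OrdD4
import Cfsg.Agent.Helper18.WeylHom
import Cfsg.Agent.S1038
import Cfsg.Agent.Helper18.BNStruct

set_option autoImplicit false
set_option maxRecDepth 100000

namespace Cfsg.Agent.Helper60.TorD

open Cfsg Cfsg.Lie Cfsg.Agent.Helper18 Cfsg.Agent.Helper19.Cox Cfsg.Agent.Helper19.Poinc
  Cfsg.Agent.Helper80.Tor Cfsg.Agent.Helper36.TorD Cfsg.Agent.Helper19.Twist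

variable {F K : Type*} [Field F] [Fintype F] [Field K] [Fintype K] [Algebra F K]

variable (D : ChevalleyDatum)
  (hD : D ∈ [chevG2, chevB2, chevD4, chevF4, chevE6, chevE7, chevE8])
include hD

/-- (NH1) a word acting trivially on the roots has its representative in `H`. -/
theorem nW_mem_diag_of_fix (C : Cert D) (w : List ℕ) (hw : ∀ i ∈ w, i < D.rank)
    (hfix : ∀ s < D.nroots, rho D w s = s) : nWordsGL D K w ∈ D.diagonalSubgroup K := by
  haveI : (HN D K).Normal := Cfsg.Agent.S1038.result D hD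
  have h31 : NConjHyp D K := nConjHyp D hD
  have hth : theta D hD C h31 ⟨nWordsGL D K w, nWordsGL_mem D hD w hw⟩ = gp C.M w := by
    apply theta_eq_of_mk
    unfold psiC
    rw [psi_gp D hD _ _ _ _ _ _ _ w hw]
  have e : gp C.M w = gp C.M [] := by
    apply gp_eq_of_actW C
    intro x hx
    rw [(actW_eq_rho D _ C.ht w hw x hx).1, hfix x hx]
    rfl
  have h1 : theta D hD C h31 ⟨nWordsGL D K w, nWordsGL_mem D hD w hw⟩ = 1 := by
    rw [hth, e, gp_nil]
  exact (theta_eq_one_iff D hD C h31 _).mp h1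

end Cfsg.Agent.Helper60.TorD
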