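-- helper60: piece (NEG) of helper36's TORD-2 farm (helper80's S2372/S2375).
import Cfsg.Agent.Helper36.TorD.Defs

set_option autoImplicit false

namespace Cfsg.Agent.Helper60.TorD

open Cfsg Cfsg.Lie Cfsg.Agent.Helper18 Cfsg.Agent.Helper19.Cox Cfsg.Agent.Helper19.Poinc
  Cfsg.Agent.Helper80.Tor Cfsg.Agent.Helper36.TorD

set_option maxRecDepth 100000 in
/-- (NEG4) -/
theorem cartanNegOK_F4 : cartanNegOK chevF4 = true := by
  decide +kernel

set_option maxRecDepth 100000 in
/-- (NEG8) -/
theorem cartanNegOK_E8 : cartanNegOK chevE8 = true := by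
  decide +kernel

end Cfsg.Agent.Helper60.TorD
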