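import Mathlib
import Cfsg.Agent.Helper43.SylDefs
import Cfsg.Agent.Helper44.QTypeProd

/-! Piece (W-B) of #5040 (helper43, S4629-S4631): the types of the diagonal model forms
`mForm k 0 γ`, `mForm k 2 γ` and their nondegeneracy (helper60). -/

set_option autoImplicit false

namespace Cfsg.Agent.Helper60.Syl

open Cfsg Cfsg.Agent.Helper43.Syl Cfsg.Agent.Helper44.QType QuadraticMap

variable {F : Type*} [Field F] [Fintype F]

theorem two_ne_zero_of_odd (hF : Odd (Fintype.card F)) : (2 : F) ≠ 0 := by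
  apply Ring.two_ne_zero
  intro h
  have := FiniteField.even_card_of_char_two h
  rcases hF with ⟨k, hk⟩
  omega

theorem polar_wss {ι : Type*} [Fintype ι] (w : ι → F) (x y : ι → F) :
    polar (⇑(weightedSumSquares F w)) x y = ∑ i, 2 * w i * (x i * y i) := by
  simp only [polar, weightedSumSquares_apply, Pi.add_apply, smul_eq_mul]
  rw [← Finset.sum_sub_distrib, ← Finset.sum_sub_distrib]
  refine Finset.sum_congr rfl fun i _ => ?_
  ring

theorem wss_nondeg_aux {ι : Type*} [Fintype ι] [DecidableEq ι] (h2 : (2 : F) ≠ 0) (w : ι → F)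
    (hw : ∀ i, w i ≠ 0) (x : ι → F)
    (hx : ∀ y, polar (⇑(weightedSumSquares F w)) x y = 0) : x = 0 := by
  funext i
  have h := hx (Pi.single i 1)
  rw [polar_wss, Finset.sum_eq_single i] at h
  · rw [Pi.single_eq_same, mul_one] at h
    rcases mul_eq_zero.mp h with h' | h'
    · rcases mul_eq_zero.mp h' with h'' | h''
      · exact absurd h'' h2
      · exact absurd h'' (hw i)
    · exact h'
  · intro j _ hj
    rw [Pi.single_eq_of_ne hj, mul_zero, mul_zero]
  · intro hi
    exact absurd (Finset.mem_univ i) hi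

theorem wss_nondeg {ι : Type*} [Fintype ι] [DecidableEq ι] (h2 : (2 : F) ≠ 0) (w : ι → F)
    (hw : ∀ i, w i ≠ 0) : (QuadraticMap.polarBilin (weightedSumSquares F w)).Nondegenerate := by
  constructor
  · intro x hx
    exact wss_nondeg_aux h2 w hw x hx
  · intro y hy
    apply wss_nondeg_aux h2 w hw y
    intro x
    rw [polar_comm]
    exact hy x

theorem wt_ne_zero (k j : ℕ) (γ : Fin j → F) (hγ : ∀ i, γ i ≠ 0) (i : Idx k j) :
    wt k j γ i ≠ 0 := by
  rcases i with i | i
  · exact one_ne_zero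
  · exact hγ i

theorem nondeg_mForm (hF : Odd (Fintype.card F)) (k j : ℕ) (γ : Fin j → F)
    (hγ : ∀ i, γ i ≠ 0) : (QuadraticMap.polarBilin (mForm k j γ)).Nondegenerate :=
  wss_nondeg (two_ne_zero_of_odd hF) (wt k j γ) (wt_ne_zero k j γ hγ)

theorem mForm_nondeg' (hF : Odd (Fintype.card F)) (k j : ℕ) (γ : Fin j → F)
    (hγ : ∀ i, γ i ≠ 0) (x : Idx k j → F) (hx : ∀ y, polar (⇑(mForm k j γ)) x y = 0) : x = 0 :=
  wss_nondeg_aux (two_ne_zero_of_odd hF) (wt k j γ) (wt_ne_zero k j γ hγ) x hx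

theorem E2_nondeg' (hF : Odd (Fintype.card F)) (x : Fin 2 → F)
    (hx : ∀ y, polar (⇑(E2 F)) x y = 0) : x = 0 :=
  wss_nondeg_aux (two_ne_zero_of_odd hF) (fun _ : Fin 2 => (1 : F)) (fun _ => one_ne_zero) x hx

/-! ### planes -/

/-- The plane `x² + c y²` with `-c = d²` a nonzero square is hyperbolic. -/
theorem hasType_plane_sq (h2 : (2 : F) ≠ 0) (Q : (Fin 2 → F) → F) (c d : F) (hd : d ≠ 0)
    (hc : -c = d * d) (hQ : ∀ v, Q v = v 0 * v 0 + c * (v 1 * v 1)) : HasType Q 1 1 := by
  have h := hasType_plus (F := F) 1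
  let φ : (Fin 1 ⊕ Fin 1 → F) ≃ (Fin 2 → F) :=
    { toFun := fun u => ![(u (.inl 0) + u (.inr 0)) / 2, (u (.inr 0) - u (.inl 0)) / (2 * d)]
      invFun := fun v => Sum.elim (fun _ => v 0 - d * v 1) (fun _ => v 0 + d * v 1)
      left_inv := by
        intro u
        funext i
        rcases i with i | i
        · have hi : i = 0 := Subsingleton.elim _ _
          subst hi
          simp only [Sum.elim_inl, Matrix.cons_val_zero, Matrix.cons_val_one]
          field_simp
          ring
        · have hi : i = 0 := Subsingleton.elim _ _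
          subst hi
          simp only [Sum.elim_inr, Matrix.cons_val_zero, Matrix.cons_val_one]
          field_simp
          ring
      right_inv := by
        intro v
        funext j
        fin_cases j
        · simp only [Sum.elim_inl, Sum.elim_inr, Fin.zero_eta, Matrix.cons_val_zero]
          field_simp
          ring
        · simp only [Sum.elim_inl, Sum.elim_inr, Fin.mk_one, Matrix.cons_val_one,
            Matrix.cons_val_zero]
          field_simp
          ring }
  refine h.congr φ ?_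
  intro u
  rw [hQ]
  have hc' : c = -(d * d) := by rw [← hc, neg_neg]
  simp only [φ, Equiv.coe_fn_mk, Matrix.cons_val_zero, Matrix.cons_val_one, quadFormPlus,
    Finset.univ_unique, Fin.default_eq_zero, Finset.sum_singleton]
  rw [hc']
  field_simp
  ring

/-- The plane `x² + c y²` with `-c` a nonsquare is anisotropic. -/
theorem hasType_plane_nonsq (Q : (Fin 2 → F) → F) (c : F) (hc : ¬ IsSquare (-c))
    (hQ : ∀ v, Q v = v 0 * v 0 + c * (v 1 * v 1)) : HasType Q 1 (-1) := by
  have key : ∀ v : Fin 2 → F, Q v = 0 → v = 0 := by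
    intro v hv
    rw [hQ] at hv
    have h1 : v 1 = 0 := by
      by_contra h1
      apply hc
      refine ⟨v 0 / v 1, ?_⟩
      field_simp
      linear_combination (-1 : F) * hv
    rw [h1, mul_zero, mul_zero, add_zero] at hv
    have h0 : v 0 = 0 := mul_self_eq_zero.mp hv
    funext j
    fin_cases j
    · exact h0
    · exact h1
  have hcard : fc Q 0 = 1 := by
    unfold fc
    rw [Nat.card_eq_one_iff_unique]
    refine ⟨⟨?_⟩, ⟨⟨0, by rw [hQ]; simp⟩⟩⟩
    rintro ⟨v, hv⟩ ⟨v', hv'⟩
    apply Subtype.ext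
    exact (key v hv).trans (key v' hv').symm
  unfold HasType
  rw [hcard]
  push_cast
  ring

theorem hasType_E2 (hF : Odd (Fintype.card F)) : HasType (⇑(E2 F)) 1 (chi F) := by
  have h2 := two_ne_zero_of_odd hF
  have hQ : ∀ v : Fin 2 → F, E2 F v = v 0 * v 0 + 1 * (v 1 * v 1) := by
    intro v
    rw [E2_apply, one_mul]
  unfold chi
  split_ifs with h
  · obtain ⟨d, hd⟩ := h
    have hd0 : d ≠ 0 := by
      rintro rfl
      rw [mul_zero] at hd
      exact one_ne_zero (neg_eq_zero.mp hd)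
    exact hasType_plane_sq h2 _ 1 d hd0 hd hQ
  · exact hasType_plane_nonsq _ 1 h hQ

/-- For a nonsquare `c`, the plane `x² + c y²` has the type opposite to the Euclidean plane. -/
theorem hasType_plane_twist (hF : Odd (Fintype.card F)) (Q : (Fin 2 → F) → F) (c : F)
    (hc : ¬ IsSquare c) (hQ : ∀ v, Q v = v 0 * v 0 + c * (v 1 * v 1)) :
    HasType Q 1 (- chi F) := by
  classical
  have h2 := two_ne_zero_of_odd hF
  have hc0 : c ≠ 0 := by
    rintro rfl
    exact hc ⟨0, by simp⟩
  unfold chi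
  split_ifs with h
  · -- `-1` a square: `-c` is a nonsquare
    obtain ⟨d, hd⟩ := h
    have hd0 : d ≠ 0 := by
      rintro rfl
      rw [mul_zero] at hd
      exact one_ne_zero (neg_eq_zero.mp hd)
    apply hasType_plane_nonsq Q c _ hQ
    rintro ⟨r, hr⟩
    apply hc
    refine ⟨r / d, ?_⟩
    field_simp
    have : d * d = -1 := hd.symm
    linear_combination hr + c * this
  · -- `-1` a nonsquare: `-c` is a square
    have h1 : quadraticChar F (-1) = -1 := quadraticChar_neg_one_iff_not_isSquare.mpr h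
    have h3 : quadraticChar F c = -1 := quadraticChar_neg_one_iff_not_isSquare.mpr hc
    have h4 : quadraticChar F (-c) = 1 := by
      have : -c = (-1) * c := by ring
      rw [this, map_mul, h1, h3]
      norm_num
    have hnc : -c ≠ 0 := neg_ne_zero.mpr hc0
    obtain ⟨d, hd⟩ := (quadraticChar_one_iff_isSquare hnc).mp h4
    have hd0 : d ≠ 0 := by
      rintro rfl
      rw [mul_zero] at hd
      exact hnc hd
    have := hasType_plane_sq h2 Q c d hd0 hd hQ
    simpa using this

/-! ### the induction -/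

/-- The vector set of `Idx 0 2` is that of `Fin 2`. -/
def vecEquiv0 : (Fin 2 → F) ≃ (Idx 0 2 → F) where
  toFun u := Sum.elim (fun x => (IsEmpty.false x.2).elim) u
  invFun v := fun i => v (Sum.inr i)
  left_inv u := rfl
  right_inv v := by
    funext x
    rcases x with x | x
    · exact (IsEmpty.false x.2).elim
    · rfl

theorem vecEquiv0_inr (u : Fin 2 → F) (i : Fin 2) : vecEquiv0 u (Sum.inr i) = u i := rfl

theorem mForm_vecEquiv0 (γ : Fin 2 → F) (h0 : γ 0 = 1) (u : Fin 2 → F) :
    mForm 0 2 γ (vecEquiv0 u) = u 0 * u 0 + γ 1 * (u 1 * u 1) := by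
  rw [mForm_apply, Fintype.sum_sum_type, Fin.sum_univ_two]
  have hempty : ∑ x : Fin 2 × Fin 0, wt 0 2 γ (Sum.inl x) *
      (vecEquiv0 u (Sum.inl x) * vecEquiv0 u (Sum.inl x)) = 0 := by
    apply Finset.sum_eq_zero
    intro x _
    exact (IsEmpty.false x.2).elim
  rw [hempty, zero_add, vecEquiv0_inr, vecEquiv0_inr]
  have e0 : wt 0 2 γ (Sum.inr 0) = γ 0 := rfl
  have e1 : wt 0 2 γ (Sum.inr 1) = γ 1 := rfl
  rw [e0, e1, h0, one_mul]

/-- Split off the first coordinate plane. -/
def splitEquiv (k j : ℕ) : Idx (k + 1) j ≃ Fin 2 ⊕ Idx k j where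
  toFun x := match x with
    | Sum.inl (a, p) => Fin.cases (Sum.inl a) (fun p' => Sum.inr (Sum.inl (a, p'))) p
    | Sum.inr i => Sum.inr (Sum.inr i)
  invFun y := match y with
    | Sum.inl a => Sum.inl (a, 0)
    | Sum.inr (Sum.inl (a, p')) => Sum.inl (a, p'.succ)
    | Sum.inr (Sum.inr i) => Sum.inr i
  left_inv := by
    rintro (⟨a, p⟩ | i)
    · refine Fin.cases ?_ (fun p' => ?_) p <;> simp
    · rfl
  right_inv := by
    rintro (a | ⟨a, p'⟩ | i) <;> simp

theorem wt_splitEquiv_symm (k j : ℕ) (γ : Fin j → F) (y : Fin 2 ⊕ Idx k j) :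
    wt (k + 1) j γ ((splitEquiv k j).symm y) = Sum.elim (fun _ => (1 : F)) (wt k j γ) y := by
  rcases y with a | ⟨a, p'⟩ | i <;> rfl

/-- The induced bijection of vector sets. -/
def vecEquiv (k j : ℕ) : (Fin 2 ⊕ Idx k j → F) ≃ (Idx (k + 1) j → F) where
  toFun u := fun x => u (splitEquiv k j x)
  invFun v := fun y => v ((splitEquiv k j).symm y)
  left_inv u := by funext y; simp
  right_inv v := by funext x; simp

theorem mForm_vecEquiv (k j : ℕ) (γ : Fin j → F) (u : Fin 2 ⊕ Idx k j → F) :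
    mForm (k + 1) j γ (vecEquiv k j u)
      = Cfsg.Agent.Helper44.orthSum (⇑(E2 F)) (⇑(mForm k j γ)) u := by
  rw [mForm_apply]
  have h1 : ∑ x : Idx (k + 1) j, wt (k + 1) j γ x * (vecEquiv k j u x * vecEquiv k j u x)
      = ∑ y : Fin 2 ⊕ Idx k j, Sum.elim (fun _ => (1 : F)) (wt k j γ) y * (u y * u y) := by
    refine Fintype.sum_equiv (splitEquiv k j) _ _ (fun x => ?_)
    rw [← wt_splitEquiv_symm, Equiv.symm_apply_apply]
    rfl
  rw [h1, Fintype.sum_sum_type]
  simp only [Sum.elim_inl, Sum.elim_inr, one_mul, Cfsg.Agent.Helper44.orthSum]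
  rw [E2_apply, mForm_apply, Fin.sum_univ_two]
  rfl

theorem hasType_mForm_succ (hF : Odd (Fintype.card F)) (k j : ℕ) (γ : Fin j → F)
    (hγ : ∀ i, γ i ≠ 0) (m : ℕ) (hcard : 2 * k + j = 2 * m) (ε : ℤ)
    (h : HasType (⇑(mForm k j γ)) m ε) :
    HasType (⇑(mForm (k + 1) j γ)) (m + 1) (chi F * ε) := by
  have hc₁ : Fintype.card (Fin 2) = 2 * 1 := by simp
  have hc₂ : Fintype.card (Idx k j) = 2 * m := by
    rw [← hcard]
    simp [Fintype.card_sum, Fintype.card_prod]
  have h0 := HasType.orthSum (E2 F) (mForm k j γ) hc₁ hc₂ (E2_nondeg' hF)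
    (mForm_nondeg' hF k j γ hγ) (hasType_E2 hF) h
  have h1 := h0.congr (vecEquiv k j) (fun u => mForm_vecEquiv k j γ u)
  rw [add_comm 1 m] at h1
  exact h1

theorem hasType_mForm_zero (hF : Odd (Fintype.card F)) (k : ℕ) (γ : Fin 0 → F) :
    HasType (⇑(mForm k 0 γ)) k (chi F ^ k) := by
  induction k with
  | zero =>
    have hcard : fc (⇑(mForm 0 0 γ)) 0 = 1 := by
      unfold fc
      rw [Nat.card_eq_one_iff_unique]
      exact ⟨inferInstance, ⟨⟨0, map_zero _⟩⟩⟩
    unfold HasType
    rw [hcard]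
    push_cast
    ring
  | succ k ih =>
    have := hasType_mForm_succ hF k 0 γ (fun i => i.elim0) k (by omega) _ ih
    rw [pow_succ']
    exact this

theorem hasType_mForm_two (hF : Odd (Fintype.card F)) (k : ℕ) (γ : Fin 2 → F) (h0 : γ 0 = 1)
    (h1 : ¬ IsSquare (γ 1)) : HasType (⇑(mForm k 2 γ)) (k + 1) (- chi F ^ (k + 1)) := by
  have hγ : ∀ i, γ i ≠ 0 := by
    intro i
    fin_cases i
    · simp [h0]
    · intro h
      apply h1
      simp only [Fin.mk_one] at h
      rw [h]
      exact ⟨0, by simp⟩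
  induction k with
  | zero =>
    have hpl := hasType_plane_twist hF (fun v : Fin 2 → F => v 0 * v 0 + γ 1 * (v 1 * v 1))
      (γ 1) h1 (fun v => rfl)
    have h3 := hpl.congr (Q' := ⇑(mForm 0 2 γ)) vecEquiv0 (fun u => mForm_vecEquiv0 γ h0 u)
    simpa using h3
  | succ k ih =>
    have := hasType_mForm_succ hF k 2 γ hγ (k + 1) (by omega) _ ih
    have e : - chi F ^ (k + 1 + 1) = chi F * (- chi F ^ (k + 1)) := by ring
    rw [e]
    exact this

end Cfsg.Agent.Helper60.Syl
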