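-- helper60: piece (V) of helper85's WANTED #4425 for S5287, part 1: the four-group `E = {1, z, s, zs}` in a 2-group `S`
-- with `C_S(s) = E`, its automorphisms, and the hypotheses of (SAT) for `addAutSystem S E`.
import Cfsg.Agent.Helper85.SS.AddAut
import Cfsg.Agent.Helper85.SS.Chain
import Cfsg.Agent.Helper87.FusionSeries
import Cfsg.Agent.Helper87.FusionExtend

set_option autoImplicit false

namespace Cfsg.Agent.Helper60.SSV

open Cfsg Cfsg.FusionSystem Cfsg.Agent.Helper87 Cfsg.Agent.Helper85.AddAut Cfsg.Agent.Helper85.SS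

variable {Ω : Type*} [Group Ω]

/-- the relations of a four-group on two commuting involutions -/
structure FourRel (z s : Ω) : Prop where
  hz : z * z = 1
  hs : s * s = 1
  hc : z * s = s * z
  z1 : z ≠ 1
  s1 : s ≠ 1
  zs : z ≠ s

namespace FourRel

variable {z s : Ω}

theorem hz' (h : FourRel z s) (x : Ω) : z * (z * x) = x := by rw [← mul_assoc, h.hz, one_mul]

theorem hs' (h : FourRel z s) (x : Ω) : s * (s * x) = x := by rw [← mul_assoc, h.hs, one_mul]

theorem hc' (h : FourRel z s) (x : Ω) : z * (s * x) = s * (z * x) := by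
  rw [← mul_assoc, h.hc, mul_assoc]

theorem t1 (h : FourRel z s) : z * s ≠ 1 := by
  intro e
  apply h.zs
  have : z * s = s * s := by rw [e, h.hs]
  exact mul_right_cancel this

theorem tz (h : FourRel z s) : z * s ≠ z := by
  intro e
  apply h.s1
  have : z * s = z * 1 := by rw [e, mul_one]
  exact mul_left_cancel this

theorem ts (h : FourRel z s) : z * s ≠ s := by
  intro e
  apply h.z1
  have : z * s = 1 * s := by rw [e, one_mul]
  exact mul_right_cancel this

end FourRel

variable {z s : Ω}

/-- the four-group `{1, z, s, z * s}` -/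
def four (h : FourRel z s) : Subgroup Ω where
  carrier := {x | x = 1 ∨ x = z ∨ x = s ∨ x = z * s}
  one_mem' := Or.inl rfl
  mul_mem' := by
    rintro a b (ha | ha | ha | ha) (hb | hb | hb | hb) <;> subst ha <;> subst hb <;>
      simp only [Set.mem_ofPred_eq, mul_assoc, mul_one, one_mul, h.hz, h.hs, h.hc, h.hz', h.hs',
        h.hc', true_or, or_true]
  inv_mem' := by
    rintro a (ha | ha | ha | ha) <;> subst ha
    · left; exact inv_one
    · right; left; exact inv_eq_of_mul_eq_one_right h.hz
    · right; right; left; exact inv_eq_of_mul_eq_one_right h.hs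
    · right; right; right
      apply inv_eq_of_mul_eq_one_right
      simp only [mul_assoc, h.hz, h.hs, h.hc, h.hz', h.hs', h.hc']

theorem mem_four (h : FourRel z s) (x : Ω) : x ∈ four h ↔ x = 1 ∨ x = z ∨ x = s ∨ x = z * s :=
  Iff.rfl

theorem z_mem (h : FourRel z s) : z ∈ four h := Or.inr (Or.inl rfl)

theorem s_mem (h : FourRel z s) : s ∈ four h := Or.inr (Or.inr (Or.inl rfl))

theorem t_mem (h : FourRel z s) : z * s ∈ four h := Or.inr (Or.inr (Or.inr rfl))

/-- `z` as an element of the four-group -/
def zE (h : FourRel z s) : four h := ⟨z, z_mem h⟩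

/-- `s` as an element of the four-group -/
def sE (h : FourRel z s) : four h := ⟨s, s_mem h⟩

theorem four_cases (h : FourRel z s) (x : four h) :
    x = 1 ∨ x = zE h ∨ x = sE h ∨ x = zE h * sE h := by
  obtain ⟨x, hx⟩ := x
  rcases hx with hx | hx | hx | hx
  · left; exact Subtype.ext hx
  · right; left; exact Subtype.ext hx
  · right; right; left; exact Subtype.ext hx
  · right; right; right; exact Subtype.ext hx

theorem zE_ne_one (h : FourRel z s) : zE h ≠ 1 := fun e => h.z1 (congrArg Subtype.val e)

theorem sE_ne_one (h : FourRel z s) : sE h ≠ 1 := fun e => h.s1 (congrArg Subtype.val e)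

theorem zE_ne_sE (h : FourRel z s) : zE h ≠ sE h := fun e => h.zs (congrArg Subtype.val e)

theorem four_sq (h : FourRel z s) (x : four h) : x * x = 1 := by
  rcases four_cases h x with hx | hx | hx | hx <;> subst hx <;> apply Subtype.ext
  · simp
  · exact h.hz
  · exact h.hs
  · show z * s * (z * s) = 1
    simp only [mul_assoc, h.hz, h.hs, h.hc, h.hz', h.hs', h.hc']

theorem four_comm (h : FourRel z s) (x y : four h) : x * y = y * x := by
  rcases four_cases h x with hx | hx | hx | hx <;> rcases four_cases h y with hy | hy | hy | hy <;>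
    subst hx <;> subst hy <;> apply Subtype.ext <;>
    simp only [Subgroup.coe_mul, Subgroup.coe_one, zE, sE, mul_assoc, mul_one, one_mul, h.hz, h.hs,
      h.hc, h.hz', h.hs', h.hc']

/-- three distinct non-identity elements: the product of two of them is the third -/
theorem four_third (h : FourRel z s) (x y w : Ω) (hx : x ∈ four h) (hy : y ∈ four h)
    (hw : w ∈ four h) (x1 : x ≠ 1) (y1 : y ≠ 1) (w1 : w ≠ 1) (xy : x ≠ y) (xw : x ≠ w)
    (yw : y ≠ w) : x * y = w := by
  rcases hx with hx | hx | hx | hx <;> rcases hy with hy | hy | hy | hy <;>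
    rcases hw with hw | hw | hw | hw <;> subst hx <;> subst hy <;> subst hw <;>
    first
      | exact absurd rfl x1
      | exact absurd rfl y1
      | exact absurd rfl w1
      | exact absurd rfl xy
      | exact absurd rfl xw
      | exact absurd rfl yw
      | simp only [mul_assoc, mul_one, one_mul, h.hz, h.hs, h.hc, h.hz', h.hs', h.hc']

end Cfsg.Agent.Helper60.SSV
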