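-- helper60: piece (V) of helper85's WANTED #4425 for S5287, part 2: automorphisms of the four-group; the hypotheses
-- `hhom`, `hcen`, `hmin`, `hTI`, `hsyl` of (SAT).
import Cfsg.Agent.Helper60.SSV1

set_option autoImplicit false

namespace Cfsg.Agent.Helper60.SSV

open Cfsg Cfsg.FusionSystem Cfsg.Agent.Helper87 Cfsg.Agent.Helper85.AddAut Cfsg.Agent.Helper85.SS

variable {Ω : Type*} [Group Ω] {z s : Ω}

/-- every permutation of a four-group fixing `1` is an automorphism -/
theorem perm_map_mul (h : FourRel z s) (σ : Equiv.Perm (four h)) (h1 : σ 1 = 1) (a b : four h) :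
    σ (a * b) = σ a * σ b := by
  by_cases ha : a = 1
  · rw [ha, one_mul, h1, one_mul]
  by_cases hb : b = 1
  · rw [hb, mul_one, h1, mul_one]
  by_cases hab : a = b
  · rw [hab, four_sq h b, h1, four_sq h (σ b)]
  have hne1 : ∀ x : four h, x ≠ 1 → σ x ≠ 1 := by
    intro x hx e
    apply hx
    apply σ.injective
    rw [e, h1]
  have hc1 : a * b ≠ 1 := by
    intro e
    apply hab
    have : a * b = b * b := by rw [e, four_sq h b]
    exact mul_right_cancel this
  have hca : a * b ≠ a := by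
    intro e
    apply hb
    have : a * b = a * 1 := by rw [e, mul_one]
    exact mul_left_cancel this
  have hcb : a * b ≠ b := by
    intro e
    apply ha
    have : a * b = 1 * b := by rw [e, one_mul]
    exact mul_right_cancel this
  have key := four_third h (σ a : Ω) (σ b : Ω) (σ (a * b) : Ω) (σ a).2 (σ b).2 (σ (a * b)).2
    (fun e => hne1 a ha (Subtype.ext e)) (fun e => hne1 b hb (Subtype.ext e))
    (fun e => hne1 (a * b) hc1 (Subtype.ext e))
    (fun e => hab (σ.injective (Subtype.ext e)))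
    (fun e => hca (σ.injective (Subtype.ext e)).symm)
    (fun e => hcb (σ.injective (Subtype.ext e)).symm)
  exact (Subtype.ext key).symm

/-- the automorphism of a four-group given by a permutation fixing `1` -/
def permAut (h : FourRel z s) (σ : Equiv.Perm (four h)) (h1 : σ 1 = 1) : MulAut (four h) :=
  { σ with map_mul' := perm_map_mul h σ h1 }

theorem permAut_apply (h : FourRel z s) (σ : Equiv.Perm (four h)) (h1 : σ 1 = 1) (x : four h) :
    permAut h σ h1 x = σ x := rfl

theorem finite_four (h : FourRel z s) : Finite (four h) := by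
  have : (Set.univ : Set (four h)) ⊆ {1, zE h, sE h, zE h * sE h} := by
    intro x _
    rcases four_cases h x with hx | hx | hx | hx <;> simp [hx]
  exact Set.finite_univ_iff.mp (Set.Finite.subset (Set.toFinite _) this)

/-- `hhom` of (SAT): injective homomorphisms between subgroups of a four-group extend to automorphisms -/
theorem four_hhom (h : FourRel z s) (P : Subgroup Ω) (hPE : P ≤ four h) (φ : P →* Ω)
    (hinj : Function.Injective φ) (hφ : ∀ x : P, φ x ∈ four h) :
    ∃ γ : MulAut (four h), ∀ x : P, ((γ ⟨x, hPE x.2⟩ : four h) : Ω) = φ x := by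
  classical
  have := finite_four h
  let p : four h → Prop := fun e => (e : Ω) ∈ P
  let q : four h → Prop := fun e => ∃ x : P, φ x = (e : Ω)
  let f : {e // p e} → {e // q e} := fun e => ⟨⟨φ ⟨(e.1 : Ω), e.2⟩, hφ _⟩, ⟨⟨(e.1 : Ω), e.2⟩, rfl⟩⟩
  have hf : Function.Bijective f := by
    constructor
    · intro a b hab
      have h1 : φ ⟨(a.1 : Ω), a.2⟩ = φ ⟨(b.1 : Ω), b.2⟩ :=
        congrArg (fun e : {e // q e} => ((e.1 : four h) : Ω)) hab
      have h2 := hinj h1
      apply Subtype.ext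
      apply Subtype.ext
      exact congrArg (fun e : P => (e : Ω)) h2
    · rintro ⟨e, x, hx⟩
      refine ⟨⟨⟨(x : Ω), hPE x.2⟩, x.2⟩, ?_⟩
      apply Subtype.ext
      apply Subtype.ext
      exact hx
  let e₀ : {e // p e} ≃ {e // q e} := Equiv.ofBijective f hf
  have hσ : ∀ (x : four h) (hx : p x), e₀.extendSubtype x = ⟨φ ⟨(x : Ω), hx⟩, hφ _⟩ := by
    intro x hx
    rw [Equiv.extendSubtype_apply_of_mem e₀ x hx]
    rfl
  have h1 : e₀.extendSubtype 1 = 1 := by
    rw [hσ 1 P.one_mem]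
    apply Subtype.ext
    show φ ⟨1, _⟩ = 1
    exact map_one φ
  refine ⟨permAut h e₀.extendSubtype h1, fun x => ?_⟩
  rw [permAut_apply, hσ ⟨x, hPE x.2⟩ x.2]

/-- an automorphism exchanging... : there is an automorphism of the four-group sending `z` to `s` -/
theorem exists_aut_z_s (h : FourRel z s) : ∃ γ : MulAut (four h), γ (zE h) = sE h := by
  classical
  refine ⟨permAut h (Equiv.swap (zE h) (sE h)) ?_, ?_⟩
  · exact Equiv.swap_apply_of_ne_of_ne (zE_ne_one h).symm (sE_ne_one h).symm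
  · rw [permAut_apply, Equiv.swap_apply_left]

section inS

variable {S : Subgroup Ω}

theorem four_le (h : FourRel z s) (hzS : z ∈ S) (hsS : s ∈ S) : four h ≤ S := by
  rintro x (hx | hx | hx | hx) <;> subst hx
  · exact S.one_mem
  · exact hzS
  · exact hsS
  · exact S.mul_mem hzS hsS

/-- `hcen` of (SAT) -/
theorem four_hcen (h : FourRel z s)
    (hcent : ∀ g ∈ S, g * s = s * g → g = 1 ∨ g = z ∨ g = s ∨ g = z * s) :
    centralizerIn S (four h) ≤ four h := by
  rintro g ⟨hgS, hgC⟩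
  exact hcent g hgS (Subgroup.mem_centralizer_iff.mp hgC s (s_mem h)).symm

/-- `hmin` of (SAT) -/
theorem four_hmin (h : FourRel z s) (hzS : z ∈ S) (hsS : s ∈ S) (P : Subgroup Ω) (hP : P < four h) :
    ∃ φ : P →* Ω, Function.Injective φ ∧ (∀ x : P, φ x ∈ four h) ∧
      ¬ centralizerIn S φ.range ≤ φ.range := by
  refine ⟨P.subtype, Subtype.val_injective, fun x => hP.le x.2, ?_⟩
  rw [Subgroup.range_subtype]
  intro hle
  apply hP.not_ge
  intro x hx
  apply hle
  refine Subgroup.mem_inf.mpr ⟨four_le h hzS hsS hx, Subgroup.mem_centralizer_iff.mpr ?_⟩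
  intro y hy
  have := four_comm h ⟨y, hP.le hy⟩ ⟨x, hx⟩
  exact congrArg Subtype.val this

/-- elements of `Aut_S(E)` fix `z` -/
theorem fix_z_of_mem (h : FourRel z s) (hzc : ∀ g ∈ S, g * z = z * g) (α : MulAut (four h))
    (hα : α ∈ autInducedBy S (four h)) : α (zE h) = zE h := by
  obtain ⟨g, hg, hgx⟩ := (mem_autInducedBy_iff _ _ α).mp hα
  apply Subtype.ext
  rw [hgx]
  show g * z * g⁻¹ = z
  rw [hzc g hg, mul_inv_cancel_right]

/-- an element of `N_S(E)` outside `E` sends `s` to `z * s` -/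
theorem conj_s (h : FourRel z s) (hzc : ∀ g ∈ S, g * z = z * g)
    (hcent : ∀ g ∈ S, g * s = s * g → g = 1 ∨ g = z ∨ g = s ∨ g = z * s) (x : Ω) (hxS : x ∈ S)
    (hxN : x ∈ Subgroup.normalizer (four h : Set Ω)) (hxE : x ∉ four h) :
    x * s * x⁻¹ = z * s := by
  have hm : x * s * x⁻¹ ∈ four h := (Subgroup.mem_normalizer_iff.mp hxN s).mp (s_mem h)
  rcases hm with h1 | h2 | h3 | h4
  · exact absurd (conj_eq_one_iff.mp h1) h.s1
  · exfalso
    apply h.zs
    have e1 : x * s = x * z := by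
      rw [hzc x hxS, ← h2]
      group
    exact (mul_left_cancel e1).symm
  · exfalso
    apply hxE
    apply hcent x hxS
    have e1 : x * s = (x * s * x⁻¹) * x := by group
    rw [e1, h3]
  · exact h4

theorem conj_z (hzc : ∀ g ∈ S, g * z = z * g) (x : Ω) (hxS : x ∈ S) : x * z * x⁻¹ = z := by
  rw [hzc x hxS, mul_inv_cancel_right]

/-- an automorphism of `E` fixing `z` lies in `Aut_S(E)` -/
theorem mem_of_fix_z (h : FourRel z s) (hzc : ∀ g ∈ S, g * z = z * g)
    (hcent : ∀ g ∈ S, g * s = s * g → g = 1 ∨ g = z ∨ g = s ∨ g = z * s) (x₀ : Ω) (hxS : x₀ ∈ S)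
    (hxN : x₀ ∈ Subgroup.normalizer (four h : Set Ω)) (hxE : x₀ ∉ four h) (α : MulAut (four h))
    (hα : α (zE h) = zE h) : α ∈ autInducedBy S (four h) := by
  rcases four_cases h (α (sE h)) with hs1 | hs2 | hs3 | hs4
  · exfalso
    apply sE_ne_one h
    apply α.injective
    rw [hs1, map_one]
  · exfalso
    apply zE_ne_sE h
    apply α.injective
    rw [hα, hs2]
  · have : α = 1 := by
      ext x
      rcases four_cases h x with hx | hx | hx | hx <;> subst hx
      · rw [map_one]; rfl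
      · rw [hα]; rfl
      · rw [hs3]; rfl
      · rw [map_mul, hα, hs3]; rfl
    rw [this]
    exact Subgroup.one_mem _
  · rw [mem_autInducedBy_iff]
    refine ⟨x₀, hxS, fun x => ?_⟩
    have hcs := conj_s h hzc hcent x₀ hxS hxN hxE
    have hcz := conj_z hzc x₀ hxS
    rcases four_cases h x with hx | hx | hx | hx <;> subst hx
    · rw [map_one]
      show (1 : Ω) = x₀ * 1 * x₀⁻¹
      group
    · rw [hα]
      show z = x₀ * z * x₀⁻¹
      exact hcz.symm
    · rw [hs4]
      show z * s = x₀ * s * x₀⁻¹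
      exact hcs.symm
    · rw [map_mul, hα, hs4]
      show z * (z * s) = x₀ * (z * s) * x₀⁻¹
      have : x₀ * (z * s) * x₀⁻¹ = (x₀ * z * x₀⁻¹) * (x₀ * s * x₀⁻¹) := by group
      rw [this, hcz, hcs]

/-- `hTI` of (SAT) -/
theorem four_hTI (h : FourRel z s) (hzc : ∀ g ∈ S, g * z = z * g)
    (hcent : ∀ g ∈ S, g * s = s * g → g = 1 ∨ g = z ∨ g = s ∨ g = z * s) (γ : MulAut (four h))
    (hγ : ∃ x ∈ S, ∃ hx : x ∈ Subgroup.normalizer (four h : Set Ω), x ∉ four h ∧
      γ * conjAut (four h) x hx * γ⁻¹ ∈ autInducedBy S (four h)) :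
    γ ∈ autInducedBy S (four h) := by
  obtain ⟨x, hxS, hxN, hxE, hmem⟩ := hγ
  have h1 := fix_z_of_mem h hzc _ hmem
  rw [MulAut.mul_apply, MulAut.mul_apply] at h1
  -- `c_x` fixes `w := γ⁻¹ z`
  have h2 : conjAut (four h) x hxN (γ⁻¹ (zE h)) = γ⁻¹ (zE h) := by
    apply γ.injective
    rw [h1, MulAut.apply_inv_self]
  have h3 : x * ((γ⁻¹ (zE h) : four h) : Ω) * x⁻¹ = ((γ⁻¹ (zE h) : four h) : Ω) := by
    have := congrArg Subtype.val h2
    rwa [conjAut_apply] at this
  have hcs := conj_s h hzc hcent x hxS hxN hxE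
  have hcz := conj_z hzc x hxS
  rcases four_cases h (γ⁻¹ (zE h)) with hw | hw | hw | hw
  · exfalso
    apply zE_ne_one h
    have := congrArg γ hw
    rwa [MulAut.apply_inv_self, map_one] at this
  · apply mem_of_fix_z h hzc hcent x hxS hxN hxE
    have := congrArg γ hw
    rw [MulAut.apply_inv_self] at this
    exact this.symm
  · exfalso
    rw [hw] at h3
    have h4 : x * s * x⁻¹ = s := h3
    rw [hcs] at h4
    exact h.ts h4
  · exfalso
    rw [hw] at h3
    have h4 : x * (z * s) * x⁻¹ = z * s := h3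
    have h5 : x * (z * s) * x⁻¹ = (x * z * x⁻¹) * (x * s * x⁻¹) := by group
    rw [h5, hcz, hcs, h.hz'] at h4
    exact h.ts h4.symm

/-- `hsyl` of (SAT) -/
theorem four_hsyl [Finite S] (hS : IsPGroup 2 S) (h : FourRel z s) (hzS : z ∈ S) (hsS : s ∈ S)
    (hzc : ∀ g ∈ S, g * z = z * g)
    (hcent : ∀ g ∈ S, g * s = s * g → g = 1 ∨ g = z ∨ g = s ∨ g = z * s)
    (hne : ∃ g ∈ S, ¬ (g = 1 ∨ g = z ∨ g = s ∨ g = z * s)) :
    ∃ R : Sylow 2 (MulAut (four h)), (R : Subgroup (MulAut (four h))) = autInducedBy S (four h) := by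
  have : Fact (Nat.Prime 2) := ⟨Nat.prime_two⟩
  have := finite_four h
  have hES := four_le h hzS hsS
  -- an element of `N_S(E)` outside `E`
  obtain ⟨x₀, hxS, hxN, hxE⟩ : ∃ x₀ ∈ S, x₀ ∈ Subgroup.normalizer (four h : Set Ω) ∧ x₀ ∉ four h := by
    apply exists_mem_normalizer_not_mem hS hES le_rfl (hES.trans Subgroup.le_normalizer)
    intro hle
    obtain ⟨g, hg, hgE⟩ := hne
    exact hgE (hle hg)
  have hA : IsPGroup 2 (autInducedBy S (four h)) := isPGroup_autInducedBy hS (four h)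
  obtain ⟨R, hR⟩ := hA.exists_le_sylow
  refine ⟨R, le_antisymm ?_ hR⟩
  by_contra hnot
  obtain ⟨β, hβR, hβN, hβA⟩ := exists_mem_normalizer_not_mem (S := (R : Subgroup (MulAut (four h))))
    R.isPGroup' hR le_rfl (hR.trans Subgroup.le_normalizer) hnot
  apply hβA
  apply four_hTI h hzc hcent β
  refine ⟨x₀, hxS, hxN, hxE, ?_⟩
  apply (Subgroup.mem_normalizer_iff.mp hβN _).mp
  rw [mem_autInducedBy_iff]
  exact ⟨x₀, hxS, fun x => rfl⟩

end inS

end Cfsg.Agent.Helper60.SSV
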