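-- helper60: piece (V) of helper85's WANTED #4425 for S5287, part 3: `addAutSystem S E` has no chain of strongly closed
-- subgroups with cyclic steps; assembly of (V) from the statement of (SAT).
import Cfsg.Agent.Helper60.SSV2
import Cfsg.Agent.Helper63.PGroup

set_option autoImplicit false

namespace Cfsg.Agent.Helper60.SSV

open Cfsg Cfsg.FusionSystem Cfsg.Agent.Helper87 Cfsg.Agent.Helper85.AddAut Cfsg.Agent.Helper85.SS

variable {Ω : Type*} [Group Ω] {z s : Ω} {S : Subgroup Ω}

theorem four_noChain [Finite S] (hS : IsPGroup 2 S) (h : FourRel z s) (hzS : z ∈ S) (hsS : s ∈ S)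
    (hzc : ∀ g ∈ S, g * z = z * g)
    (hcent : ∀ g ∈ S, g * s = s * g → g = 1 ∨ g = z ∨ g = s ∨ g = z * s)
    (hne : ∃ g ∈ S, ¬ (g = 1 ∨ g = z ∨ g = s ∨ g = z * s)) :
    ¬ HasChain (addAutSystem S (four h) (four_le h hzS hsS)) := by
  intro hch
  have hSbot : ¬ S ≤ ⊥ := fun hle => h.z1 (Subgroup.mem_bot.mp (hle hzS))
  obtain ⟨T, T', x, hxS, hTbot, hT'bot, hTsc, hT'sc, hTT'⟩ := hch.exists_step ⊥ hSbot
  have hT : T = ⊥ := le_bot_iff.mp hTbot
  rw [hT, bot_sup_eq] at hTT'
  have hT'S : T' ≤ S := hT'sc.1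
  have hnorm : S ≤ Subgroup.normalizer (T' : Set Ω) := le_normalizer_of_stronglyClosed _ hT'sc
  -- `z ∈ T'`
  have hzT : z ∈ T' := by
    have : Fact (Nat.Prime 2) := ⟨Nat.prime_two⟩
    have hnorm' : (T'.subgroupOf S).Normal :=
      (Subgroup.normal_subgroupOf_iff_le_normalizer hT'S).mpr hnorm
    have hNne : T'.subgroupOf S ≠ ⊥ := by
      intro hb
      apply hT'bot
      intro t ht
      have h1 : (⟨t, hT'S ht⟩ : S) ∈ T'.subgroupOf S := Subgroup.mem_subgroupOf.mpr ht
      rw [hb, Subgroup.mem_bot] at h1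
      exact Subgroup.mem_bot.mpr (congrArg Subtype.val h1)
    have hmeet := Cfsg.Agent.Helper63.normal_inf_center_ne_bot hS (T'.subgroupOf S) hNne
    obtain ⟨c, hc, hc1⟩ : ∃ c ∈ T'.subgroupOf S ⊓ Subgroup.center S, c ≠ 1 := by
      by_contra hcon
      push Not at hcon
      exact hmeet ((Subgroup.eq_bot_iff_forall _).mpr hcon)
    obtain ⟨hcT, hcZ⟩ := hc
    have hcT' : (c : Ω) ∈ T' := Subgroup.mem_subgroupOf.mp hcT
    have hcomm : ∀ g ∈ S, g * (c : Ω) = c * g := by
      intro g hg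
      have h1 := Subgroup.mem_center_iff.mp hcZ ⟨g, hg⟩
      exact congrArg Subtype.val h1
    have hcE : (c : Ω) = 1 ∨ (c : Ω) = z ∨ (c : Ω) = s ∨ (c : Ω) = z * s :=
      hcent c c.2 (hcomm s hsS).symm
    obtain ⟨g, hg, hgE⟩ := hne
    rcases hcE with h1 | h2 | h3 | h4
    · exact absurd (Subtype.ext h1) hc1
    · rw [← h2]
      exact hcT'
    · exfalso
      apply hgE
      apply hcent g hg
      rw [← h3]
      exact hcomm g hg
    · exfalso
      apply hgE
      apply hcent g hg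
      have e1 := hcomm g hg
      rw [h4] at e1
      have e2 : z * (g * s) = z * (s * g) := by
        rw [← mul_assoc, ← hzc g hg, mul_assoc, e1, mul_assoc]
      exact mul_left_cancel e2
  -- `s ∈ T'`
  have hsT : s ∈ T' := by
    obtain ⟨γ, hγ⟩ := exists_aut_z_s h
    have hRT : Subgroup.zpowers z ≤ T' := Subgroup.zpowers_le.mpr hzT
    have hRE : Subgroup.zpowers z ≤ four h := Subgroup.zpowers_le.mpr (z_mem h)
    let φ : Subgroup.zpowers z →* Ω :=
      ((four h).subtype.comp γ.toMonoidHom).comp (Subgroup.inclusion hRE)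
    have hφv : ∀ a : Subgroup.zpowers z, φ a = ((γ (Subgroup.inclusion hRE a) : four h) : Ω) :=
      fun a => rfl
    have hφ : φ ∈ (addAutSystem S (four h) (four_le h hzS hsS)).Hom (Subgroup.zpowers z) := by
      rw [mem_addAutSystem_iff]
      refine ⟨hRT.trans hT'S, Or.inr ⟨?_, ⟨1, S.one_mem, fun a => ?_⟩, 1, S.one_mem, fun a => ?_⟩⟩
      · intro a b hab
        rw [hφv, hφv] at hab
        exact Subgroup.inclusion_injective hRE (γ.injective (Subtype.ext hab))
      · have e : (1 : Ω)⁻¹ * (a : Ω) * 1 = a := by group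
        rw [e]
        exact hRE a.2
      · have e : (1 : Ω)⁻¹ * φ a * 1 = φ a := by group
        rw [e, hφv]
        exact (γ (Subgroup.inclusion hRE a)).2
    have h1 := hT'sc.2 (Subgroup.zpowers z) hRT φ hφ ⟨z, Subgroup.mem_zpowers z⟩
    have h2 : φ ⟨z, Subgroup.mem_zpowers z⟩ = s := by
      rw [hφv]
      have : Subgroup.inclusion hRE ⟨z, Subgroup.mem_zpowers z⟩ = zE h := rfl
      rw [this, hγ]
      rfl
    rw [h2] at h1
    exact h1
  -- a cyclic group has at most two solutions of `a ^ 2 = 1`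
  classical
  subst hTT'
  have hfin : Finite (Subgroup.zpowers x) :=
    Finite.of_injective (Subgroup.inclusion hT'S) (Subgroup.inclusion_injective hT'S)
  have hft : Fintype (Subgroup.zpowers x) := Fintype.ofFinite _
  have hle := IsCyclic.card_pow_eq_one_le (α := Subgroup.zpowers x) (n := 2) (by norm_num)
  have hsub : ({1, ⟨z, hzT⟩, ⟨s, hsT⟩} : Finset (Subgroup.zpowers x)) ⊆
      Finset.univ.filter (fun a => a ^ 2 = 1) := by
    intro a ha
    rw [Finset.mem_filter]
    refine ⟨Finset.mem_univ _, ?_⟩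
    rw [Finset.mem_insert, Finset.mem_insert, Finset.mem_singleton] at ha
    rcases ha with ha | ha | ha <;> subst ha
    · exact one_pow 2
    · apply Subtype.ext
      show z ^ 2 = 1
      rw [pow_two, h.hz]
    · apply Subtype.ext
      show s ^ 2 = 1
      rw [pow_two, h.hs]
  have hcard : ({1, ⟨z, hzT⟩, ⟨s, hsT⟩} : Finset (Subgroup.zpowers x)).card = 3 := by
    rw [Finset.card_insert_of_notMem, Finset.card_insert_of_notMem, Finset.card_singleton]
    · rw [Finset.mem_singleton]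
      intro e
      exact h.zs (congrArg Subtype.val e)
    · rw [Finset.mem_insert, Finset.mem_singleton]
      rintro (e | e)
      · exact h.z1 (congrArg Subtype.val e).symm
      · exact h.s1 (congrArg Subtype.val e).symm
  have := Finset.card_le_card hsub
  omega

/-- (V), from the statement of (SAT) -/
theorem exists_bad_of_four_of_sat [Finite S] (hS : IsPGroup 2 S) (z s : Ω) (hz : z ∈ S) (hs : s ∈ S)
    (hz2 : orderOf z = 2) (hs2 : orderOf s = 2) (hzs : z ≠ s) (hzc : ∀ g ∈ S, g * z = z * g)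
    (hcent : ∀ g ∈ S, g * s = s * g → g = 1 ∨ g = z ∨ g = s ∨ g = z * s)
    (hne : ∃ g ∈ S, ¬ (g = 1 ∨ g = z ∨ g = s ∨ g = z * s))
    (hSAT : ∀ (E : Subgroup Ω) (hES : E ≤ S),
      (∀ (P : Subgroup Ω) (hPE : P ≤ E) (φ : P →* Ω), Function.Injective φ → (∀ x : P, φ x ∈ E) →
        ∃ γ : MulAut E, ∀ x : P, ((γ ⟨x, hPE x.2⟩ : E) : Ω) = φ x) →
      centralizerIn S E ≤ E →
      (∃ R : Sylow 2 (MulAut E), (R : Subgroup (MulAut E)) = autInducedBy S E) →
      (∀ γ : MulAut E, (∃ x ∈ S, ∃ hx : x ∈ Subgroup.normalizer (E : Set Ω), x ∉ E ∧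
        γ * conjAut E x hx * γ⁻¹ ∈ autInducedBy S E) → γ ∈ autInducedBy S E) →
      (∀ P : Subgroup Ω, P < E → ∃ φ : P →* Ω, Function.Injective φ ∧ (∀ x : P, φ x ∈ E) ∧
        ¬ centralizerIn S φ.range ≤ φ.range) →
      (addAutSystem S E hES).IsSaturated 2) :
    ∃ F : FusionSystem S, F.IsSaturated 2 ∧ ¬ HasChain F := by
  have h : FourRel z s :=
    { hz := by rw [← pow_two, ← hz2, pow_orderOf_eq_one]
      hs := by rw [← pow_two, ← hs2, pow_orderOf_eq_one]
      hc := (hzc s hs).symm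
      z1 := by
        intro e
        rw [e, orderOf_one] at hz2
        exact absurd hz2 (by norm_num)
      s1 := by
        intro e
        rw [e, orderOf_one] at hs2
        exact absurd hs2 (by norm_num)
      zs := hzs }
  refine ⟨addAutSystem S (four h) (four_le h hz hs), ?_, four_noChain hS h hz hs hzc hcent hne⟩
  exact hSAT (four h) (four_le h hz hs) (four_hhom h) (four_hcen h hcent)
    (four_hsyl hS h hz hs hzc hcent hne) (four_hTI h hzc hcent) (four_hmin h hz hs)

end Cfsg.Agent.Helper60.SSV
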