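-- helper60: piece (V) of helper85's WANTED #4425 for S5287: a 2-group `S` with a central involution `z` and a
-- non-central involution `s` with `C_S(s) = {1, z, s, zs} ≠ S` carries a saturated fusion system without a chain of
-- strongly closed subgroups with cyclic steps.  (SAT) is helper38's `addAutSystem_isSaturated`.
import Cfsg.Agent.Helper60.SSV3
import Cfsg.Agent.Helper38.SSSat

set_option autoImplicit false

namespace Cfsg.Agent.Helper60.SSV

open Cfsg Cfsg.FusionSystem Cfsg.Agent.Helper87 Cfsg.Agent.Helper85.AddAut Cfsg.Agent.Helper85.SS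

variable {Ω : Type*} [Group Ω]

/-- **(V)** -/
theorem exists_bad_of_four {S : Subgroup Ω} [Finite S] (hS : IsPGroup 2 S) (z s : Ω) (hz : z ∈ S) (hs : s ∈ S)
    (hz2 : orderOf z = 2) (hs2 : orderOf s = 2) (hzs : z ≠ s) (hzc : ∀ g ∈ S, g * z = z * g)
    (hcent : ∀ g ∈ S, g * s = s * g → g = 1 ∨ g = z ∨ g = s ∨ g = z * s)
    (hne : ∃ g ∈ S, ¬ (g = 1 ∨ g = z ∨ g = s ∨ g = z * s)) :
    ∃ F : FusionSystem S, F.IsSaturated 2 ∧ ¬ HasChain F :=
  exists_bad_of_four_of_sat hS z s hz hs hz2 hs2 hzs hzc hcent hne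
    (fun _ hES h1 h2 h3 h4 h5 =>
      Cfsg.Agent.Helper38.SSSat.addAutSystem_isSaturated hS hES h1 h2 h3 h4 h5)

end Cfsg.Agent.Helper60.SSV
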