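-- helper60: leaf (BS) of helper54's SCG farm (S3921).
import Mathlib
import Cfsg.Agent.Helper54.SCG.Defs
import Cfsg.Agent.S0199

set_option autoImplicit false

namespace Cfsg.Agent.Helper60.SCG

open Cfsg.Agent.Helper54.SCG

section dih

variable {C : Type*} [Group C]

theorem BS_conj (b e : C) (hinv : b * e * b⁻¹ = e⁻¹) (i : ℤ) : b * e ^ i * b⁻¹ = e ^ (-i) := by
  rw [← conj_zpow, hinv, inv_zpow']

theorem BS_swap (b e : C) (hinv : b * e * b⁻¹ = e⁻¹) (i : ℤ) : e ^ i * b = b * e ^ (-i) := by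
  have h := BS_conj b e hinv (-i)
  rw [neg_neg] at h
  rw [← h]
  group

/-- normal form in a dihedral group -/
theorem BS_dih (b e : C) (hb : b * b = 1) (hinv : b * e * b⁻¹ = e⁻¹) (x : C)
    (hx : x ∈ Subgroup.closure ({e, b} : Set C)) : ∃ i : ℤ, x = e ^ i ∨ x = b * e ^ i := by
  have hbinv : b⁻¹ = b := inv_eq_of_mul_eq_one_left hb
  induction hx using Subgroup.closure_induction with
  | mem y hy =>
    rcases hy with rfl | hy
    · exact ⟨1, Or.inl (zpow_one _).symm⟩
    · rw [Set.mem_singleton_iff] at hy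
      subst hy
      exact ⟨0, Or.inr (by simp)⟩
  | one => exact ⟨0, Or.inl (zpow_zero _).symm⟩
  | mul y z _ _ hy hz =>
    obtain ⟨i, hi | hi⟩ := hy <;> obtain ⟨j, hj | hj⟩ := hz
    · exact ⟨i + j, Or.inl (by rw [hi, hj, zpow_add])⟩
    · refine ⟨-i + j, Or.inr ?_⟩
      rw [hi, hj, ← mul_assoc, BS_swap b e hinv, mul_assoc, ← zpow_add]
    · exact ⟨i + j, Or.inr (by rw [hi, hj, mul_assoc, zpow_add])⟩
    · refine ⟨-i + j, Or.inl ?_⟩
      rw [hi, hj, mul_assoc b, ← mul_assoc (e ^ i), BS_swap b e hinv, mul_assoc b (e ^ (-i)), ← zpow_add,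
        ← mul_assoc, hb, one_mul]
  | inv y _ hy =>
    obtain ⟨i, hi | hi⟩ := hy
    · exact ⟨-i, Or.inl (by rw [hi, zpow_neg])⟩
    · refine ⟨i, Or.inr ?_⟩
      rw [hi, mul_inv_rev, hbinv, ← zpow_neg, BS_swap b e hinv, neg_neg]

theorem BS_sq (b e : C) (hb : b * b = 1) (hinv : b * e * b⁻¹ = e⁻¹) (i : ℤ) :
    (b * e ^ i) * (b * e ^ i) = 1 := by
  rw [mul_assoc b, ← mul_assoc (e ^ i), BS_swap b e hinv, mul_assoc b (e ^ (-i)), ← zpow_add,
    neg_add_cancel, zpow_zero, mul_one, hb]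

end dih

/-- (BS) Baer–Suzuki step -/
theorem BS_invs_le_sylow {C : Type*} [Group C] [Finite C] (t : C) (ht : orderOf t = 2)
    (htz : ∀ g : C, g * t = t * g) (hcyc : ∀ H : Subgroup C, t ∉ H → IsCyclic ↥H)
    (b : C) (hb : orderOf b = 2) (S : Sylow 2 C) : b ∈ (S : Subgroup C) := by
  haveI : Fact (Nat.Prime 2) := ⟨Nat.prime_two⟩
  have hbb : b * b = 1 := by rw [← pow_two, ← hb, pow_orderOf_eq_one]
  have htt : t * t = 1 := by rw [← pow_two, ← ht, pow_orderOf_eq_one]
  have ht1 : t ≠ 1 := by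
    intro h
    rw [h, orderOf_one] at ht
    omega
  have hbinv : b⁻¹ = b := inv_eq_of_mul_eq_one_left hbb
  -- `b` inverts `d = b * b'`
  have hinvd : ∀ g : C, b * (b * (g * b * g⁻¹)) * b⁻¹ = (b * (g * b * g⁻¹))⁻¹ := by
    intro g
    have hb'b' : (g * b * g⁻¹) * (g * b * g⁻¹) = 1 := by
      calc (g * b * g⁻¹) * (g * b * g⁻¹) = g * (b * b) * g⁻¹ := by group
        _ = 1 := by rw [hbb]; group
    have hb'inv : (g * b * g⁻¹)⁻¹ = g * b * g⁻¹ := inv_eq_of_mul_eq_one_left hb'b'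
    rw [mul_inv_rev, hb'inv, hbinv, ← mul_assoc, hbb, one_mul]
  -- the order of `d` is a power of `2`
  have key : ∀ g : C, ∃ k : ℕ, orderOf (b * (g * b * g⁻¹)) = 2 ^ k := by
    intro g
    obtain ⟨d, hd⟩ : ∃ d, d = b * (g * b * g⁻¹) := ⟨_, rfl⟩
    have hinv := hinvd g
    rw [← hd] at hinv ⊢
    have hn0 : orderOf d ≠ 0 := (orderOf_pos d).ne'
    refine ⟨(orderOf d).primeFactorsList.length, Nat.eq_prime_pow_of_unique_prime_dvd (p := 2) hn0 ?_⟩
    intro r hr hrd
    by_contra hr2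
    obtain ⟨m, hm⟩ := hrd
    have hm0 : m ≠ 0 := by
      rintro rfl
      rw [mul_zero] at hm
      exact hn0 hm
    obtain ⟨e, he⟩ : ∃ e, e = d ^ m := ⟨_, rfl⟩
    have hoe : orderOf e = r := by
      rw [he, orderOf_pow_of_dvd hm0 (by rw [hm]; exact dvd_mul_left _ _), hm,
        Nat.mul_div_cancel _ (Nat.pos_of_ne_zero hm0)]
    have hinve : b * e * b⁻¹ = e⁻¹ := by rw [he, ← conj_pow, hinv, inv_pow]
    have he1 : e ≠ 1 := by
      intro h
      rw [h, orderOf_one] at hoe
      exact hr.one_lt.ne' hoe.symm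
    have hcop : IsCoprime (r : ℤ) 2 := by
      have : Nat.Coprime r 2 := (Nat.coprime_primes hr Nat.prime_two).mpr hr2
      exact_mod_cast Nat.isCoprime_iff_coprime.mpr this
    -- `e ^ (2 i) = 1 → e ^ i = 1`
    have hodd : ∀ i : ℤ, e ^ i * e ^ i = 1 → e ^ i = 1 := by
      intro i h
      have h1 : e ^ (2 * i) = 1 := by rw [two_mul, zpow_add, h]
      have h2 : (r : ℤ) ∣ 2 * i := by rw [← hoe]; exact orderOf_dvd_iff_zpow_eq_one.mpr h1
      have h3 : (r : ℤ) ∣ i := hcop.dvd_of_dvd_mul_left h2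
      exact orderOf_dvd_iff_zpow_eq_one.mp (by rw [hoe]; exact h3)
    have hemem : e ∈ Subgroup.closure ({e, b} : Set C) := Subgroup.subset_closure (by simp)
    have hbmem : b ∈ Subgroup.closure ({e, b} : Set C) := Subgroup.subset_closure (by simp)
    have hHnc : ¬ IsCyclic ↥(Subgroup.closure ({e, b} : Set C)) := by
      intro hc
      obtain ⟨γ, hγ⟩ := hc.exists_generator
      obtain ⟨i, hi⟩ := Subgroup.mem_zpowers_iff.mp (hγ ⟨e, hemem⟩)
      obtain ⟨j, hj⟩ := Subgroup.mem_zpowers_iff.mp (hγ ⟨b, hbmem⟩)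
      have hcomm : (⟨e, hemem⟩ : ↥(Subgroup.closure ({e, b} : Set C))) * ⟨b, hbmem⟩
          = ⟨b, hbmem⟩ * ⟨e, hemem⟩ := by
        rw [← hi, ← hj, ← zpow_add, ← zpow_add, add_comm]
      have hcomm' : e * b = b * e := congrArg Subtype.val hcomm
      have h1 : e = e⁻¹ := by
        rw [← hinve, ← hcomm']
        group
      apply he1
      have := hodd 1 (by rw [zpow_one]; nth_rewrite 2 [h1]; exact mul_inv_cancel e)
      rwa [zpow_one] at this
    have htH : t ∈ Subgroup.closure ({e, b} : Set C) := by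
      by_contra h
      exact hHnc (hcyc _ h)
    obtain ⟨i, hi | hi⟩ := BS_dih b e hbb hinve t htH
    · apply ht1
      rw [hi]
      apply hodd
      rw [← hi]
      exact htt
    · -- `t = b e^i` commutes with `b`
      have hc := htz b
      rw [hi] at hc
      have h3 : b * e ^ i = e ^ i * b := by
        have : b * (b * e ^ i) = b * (e ^ i * b) := by rw [hc, mul_assoc]
        exact mul_left_cancel this
      have h4 : e ^ i * e ^ i = 1 := by
        have h5 := BS_swap b e hinve i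
        rw [← h3] at h5
        have h6 : e ^ i = e ^ (-i) := mul_left_cancel h5
        nth_rewrite 2 [h6]
        rw [← zpow_add, add_neg_cancel, zpow_zero]
      have h7 := hodd i h4
      have htb : t = b := by rw [hi, h7, mul_one]
      have hb' : g * b * g⁻¹ = b := by
        rw [← htb, htz g]
        group
      have hd1 : d = 1 := by rw [hd, hb', hbb]
      apply he1
      rw [he, hd1, one_pow]
  -- the hypothesis of Baer–Suzuki
  have hX : IsPGroup 2 ↥(Subgroup.zpowers b) := by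
    apply IsPGroup.of_card (n := 1)
    rw [Nat.card_zpowers, hb, pow_one]
  have hsup : ∀ g : C, IsPGroup 2
      ↥(Subgroup.zpowers b ⊔ (Subgroup.zpowers b).map (MulAut.conj g).toMonoidHom) := by
    intro g
    obtain ⟨k, hk⟩ := key g
    have hinv := hinvd g
    obtain ⟨d, hd⟩ : ∃ d, d = b * (g * b * g⁻¹) := ⟨_, rfl⟩
    rw [← hd] at hinv hk
    have hle : Subgroup.zpowers b ⊔ (Subgroup.zpowers b).map (MulAut.conj g).toMonoidHom
        ≤ Subgroup.closure ({d, b} : Set C) := by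
      apply sup_le
      · rw [Subgroup.zpowers_le]
        exact Subgroup.subset_closure (by simp)
      · rw [MonoidHom.map_zpowers, Subgroup.zpowers_le]
        show g * b * g⁻¹ ∈ _
        have : g * b * g⁻¹ = b * d := by rw [hd, ← mul_assoc, hbb, one_mul]
        rw [this]
        exact mul_mem (Subgroup.subset_closure (by simp)) (Subgroup.subset_closure (by simp))
    apply IsPGroup.to_le _ hle
    rintro ⟨x, hx⟩
    obtain ⟨i, hi | hi⟩ := BS_dih b d hbb hinv x hx
    · refine ⟨k, Subtype.ext ?_⟩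
      simp only [Subgroup.coe_pow, Subgroup.coe_one]
      rw [hi, ← zpow_natCast, ← zpow_mul, mul_comm, zpow_mul, zpow_natCast, ← hk, pow_orderOf_eq_one,
        one_zpow]
    · refine ⟨1, Subtype.ext ?_⟩
      simp only [Subgroup.coe_pow, Subgroup.coe_one, pow_one]
      rw [hi, pow_two]
      exact BS_sq b d hbb hinv i
  obtain ⟨N, hNn, hNp, hXN⟩ := Cfsg.Agent.S0199.result (Subgroup.zpowers b) hX hsup
  have := hNn
  exact hNp.le_sylow_of_normal S (hXN (Subgroup.mem_zpowers b))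

end Cfsg.Agent.Helper60.SCG
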