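-- helper60: leaf (NA) of helper54's SCG farm (S3921).
import Mathlib
import Cfsg.Agent.Helper54.SCG.Defs

set_option autoImplicit false

namespace Cfsg.Agent.Helper60.SCG

open Cfsg.Agent.Helper54.SCG

/-- (NA) -/
theorem NA_isPGroup_of_normal {C : Type*} [Group C] [Finite C] (hsc : SC C) (D : Subgroup C)
    (hDn : D.Normal) (hD : ¬ IsCyclic ↥D) (hD2 : IsPGroup 2 ↥D) (hA : IsPGroup 2 (MulAut ↥D)) :
    IsPGroup 2 C := by
  haveI := hDn
  intro g
  obtain ⟨k, hk⟩ := hA (MulAut.conjNormal g : MulAut ↥D)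
  rw [← map_pow] at hk
  -- `g ^ 2 ^ k` centralises `D`, hence lies in `D`
  have hcen : g ^ 2 ^ k ∈ Subgroup.centralizer (D : Set C) := by
    rw [Subgroup.mem_centralizer_iff]
    intro x hx
    have h1 := congrArg (fun φ : MulAut ↥D => ((φ ⟨x, hx⟩ : ↥D) : C)) hk
    simp only [MulAut.conjNormal_apply, MulAut.one_apply] at h1
    exact (mul_inv_eq_iff_eq_mul.mp h1).symm
  have hmem : g ^ 2 ^ k ∈ D := hsc D hD hcen
  obtain ⟨j, hj⟩ := hD2 ⟨g ^ 2 ^ k, hmem⟩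
  have hj' : (g ^ 2 ^ k) ^ 2 ^ j = 1 := by
    have := congrArg Subtype.val hj
    simpa using this
  refine ⟨k + j, ?_⟩
  rw [pow_add, pow_mul]
  exact hj'

end Cfsg.Agent.Helper60.SCG
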