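-- helper60: piece (C26a) `two_fixed` of helper56's farm for S2197.
import Cfsg.Agent.Helper56.T2T.Defs

set_option autoImplicit false

namespace Cfsg.Agent.Helper60.T2T

open Cfsg.Agent.Helper56.T2T

universe u v
variable {G : Type u} [Group G] {Ω : Type v} [MulAction G Ω]

/-- semiregularity of `⟨g⟩`. -/
theorem C26a_reg (L : Loc3 G) (hsemi : ∀ ω : Ω, L.g • ω ≠ ω) (n : ℕ) (c : Ω)
    (h : L.g ^ n • c = c) : 13 ∣ n := by
  by_contra hnd
  have hc : Nat.Coprime n 13 :=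
    ((Nat.Prime.coprime_iff_not_dvd (by norm_num : Nat.Prime 13)).mpr hnd).symm
  obtain ⟨j, -, hj⟩ := Nat.exists_mul_mod_eq_one_of_coprime hc (by norm_num : 1 < 13)
  have h1 : (L.g ^ n) ^ j = L.g := by
    rw [← pow_mul, pow_eq_pow_mod (n * j) L.g_pow, hj, pow_one]
  have h2 : ∀ j : ℕ, (L.g ^ n) ^ j • c = c := by
    intro j
    induction j with
    | zero => simp
    | succ j ih => rw [pow_succ, mul_smul, h, ih]
  apply hsemi c
  rw [← h1]
  exact h2 j

theorem C26a_conj (L : Loc3 G) (k : ℕ) : L.y * L.g ^ k = L.g ^ (9 * k) * L.y := by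
  have h1 : L.y * L.g ^ k * L.y⁻¹ = (L.g ^ 9) ^ k := by rw [← L.y_g, conj_pow]
  rw [pow_mul, ← h1]
  group

theorem C26a_inj_aux (L : Loc3 G) (hsemi : ∀ ω : Ω, L.g • ω ≠ ω) (i j : ℕ) (hij : i ≤ j)
    (hj : j < 13) (a b : Ω) (ha : L.y • a = a) (hb : L.y • b = b)
    (h : L.g ^ i • a = L.g ^ j • b) : i = j ∧ a = b := by
  obtain ⟨k, rfl⟩ := Nat.exists_eq_add_of_le hij
  rw [pow_add, mul_smul] at h
  have h1 : a = L.g ^ k • b := smul_left_cancel _ h
  have h2 : L.g ^ (9 * k) • b = L.g ^ k • b := by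
    have : L.y • (L.g ^ k • b) = L.g ^ k • b := by rw [← h1]; exact ha
    rw [← mul_smul, C26a_conj, mul_smul, hb] at this
    exact this
  have h3 : L.g ^ (8 * k) • (L.g ^ k • b) = L.g ^ k • b := by
    rw [← mul_smul, ← pow_add, show 8 * k + k = 9 * k by ring]
    exact h2
  have h4 := C26a_reg L hsemi _ _ h3
  have h5 : 13 ∣ k := (Nat.Coprime.dvd_mul_left (by norm_num : Nat.Coprime 13 8)).mp h4
  have hk : k = 0 := by
    rcases h5 with ⟨t, ht⟩
    omega
  subst hk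
  simp at h1
  exact ⟨rfl, h1⟩

/-- (C26a) -/
theorem two_fixed (L : Loc3 G) [Fintype Ω] (hN : Fintype.card Ω = 26) (hsemi : ∀ ω : Ω, L.g • ω ≠ ω) :
    (MulAction.fixedBy Ω L.y).ncard = 2 := by
  classical
  -- the translates of `Fix(y)` by the powers of `g` are pairwise disjoint
  let Φ : Fin 13 × ↥(MulAction.fixedBy Ω L.y) → Ω := fun t => L.g ^ (t.1 : ℕ) • (t.2 : Ω)
  have hΦ : Function.Injective Φ := by
    rintro ⟨i, a, ha⟩ ⟨j, b, hb⟩ h
    simp only [Φ] at h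
    rcases le_total (i : ℕ) (j : ℕ) with hij | hij
    · obtain ⟨h1, h2⟩ := C26a_inj_aux L hsemi i j hij j.2 a b ha hb h
      exact Prod.ext (Fin.ext h1) (Subtype.ext h2)
    · obtain ⟨h1, h2⟩ := C26a_inj_aux L hsemi j i hij i.2 b a hb ha h.symm
      exact Prod.ext (Fin.ext h1.symm) (Subtype.ext h2.symm)
  have hle : 13 * (MulAction.fixedBy Ω L.y).ncard ≤ 26 := by
    have := Nat.card_le_card_of_injective Φ hΦ
    rw [Nat.card_prod, Nat.card_fin, Nat.card_coe_set_eq, Nat.card_eq_fintype_card, hN] at this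
    exact this
  -- `|Fix(y)| ≡ 26 mod 3`
  have hP : IsPGroup 3 (Subgroup.zpowers L.y) := by
    rintro ⟨h, hh⟩
    obtain ⟨k, rfl⟩ := Subgroup.mem_zpowers_iff.mp hh
    refine ⟨1, Subtype.ext ?_⟩
    simp only [pow_one, Subgroup.coe_pow, Subgroup.coe_one]
    rw [← zpow_natCast, ← zpow_mul, mul_comm, zpow_mul, zpow_natCast, L.y_pow, one_zpow]
  haveI : Fact (Nat.Prime 3) := ⟨by norm_num⟩
  have hmod := hP.card_modEq_card_fixedPoints Ω
  have hfix : MulAction.fixedPoints (Subgroup.zpowers L.y) Ω = MulAction.fixedBy Ω L.y := by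
    ext ω
    constructor
    · intro h
      exact h ⟨L.y, Subgroup.mem_zpowers L.y⟩
    · rintro h ⟨t, ht⟩
      obtain ⟨k, rfl⟩ := Subgroup.mem_zpowers_iff.mp ht
      exact MulAction.mem_fixedBy_zpow h k
  rw [hfix, Nat.card_coe_set_eq, Nat.card_eq_fintype_card, hN] at hmod
  have h3 : (MulAction.fixedBy Ω L.y).ncard % 3 = 2 := by
    have := hmod.symm
    unfold Nat.ModEq at this
    omega
  omega

end Cfsg.Agent.Helper60.T2T
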