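-- helper60: piece (C26b) `nine_dvd` of helper56's farm for S2197.
import Cfsg.Agent.Helper56.T2T.Defs

set_option autoImplicit false

namespace Cfsg.Agent.Helper60.T2T

open Cfsg.Agent.Helper56.T2T

universe u v
variable {G : Type u} [Group G] {Ω : Type v} [MulAction G Ω]

theorem C26b_pow_val_add {x : G} (hx : x ^ 3 = 1) (i j : ZMod 3) :
    x ^ (i + j).val = x ^ i.val * x ^ j.val := by
  rw [ZMod.val_add, ← pow_add, ← pow_eq_pow_mod _ hx]

/-- a power of an element of order 3 that fixes a point not fixed by the element is trivial -/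
theorem C26b_pow_fix {b : G} (hb : b ^ 3 = 1) (ω : Ω) (hω : b • ω ≠ ω) (j : ZMod 3)
    (h : b ^ j.val • ω = ω) : j = 0 := by
  fin_cases j
  · rfl
  · exfalso
    apply hω
    have h1 : b ^ 1 • ω = ω := h
    simpa using h1
  · exfalso
    apply hω
    have h2 : b ^ 2 • ω = ω := h
    calc b • ω = b • (b ^ 2 • ω) := by rw [h2]
      _ = (b ^ 3) • ω := by rw [← mul_smul, ← pow_succ']
      _ = ω := by rw [hb, one_smul]

/-- a free action of `⟨a, b⟩`, elementary abelian of order dividing 9, on an invariant set. -/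
theorem C26b_free9 {a b : G} (ha : a ^ 3 = 1) (hb : b ^ 3 = 1) (hab : a * b = b * a) (S : Set Ω)
    (hSa : ∀ ω ∈ S, a • ω ∈ S) (hSb : ∀ ω ∈ S, b • ω ∈ S)
    (hfree : ∀ ω ∈ S, b • ω ≠ ω ∧ ∀ n : ℕ, (a * b ^ n) • ω ≠ ω) :
    9 ∣ S.ncard := by
  classical
  have hpa : ∀ (n : ℕ) (ω : Ω), ω ∈ S → a ^ n • ω ∈ S := by
    intro n
    induction n with
    | zero => intro ω h; simpa using h
    | succ n ih => intro ω h; rw [pow_succ, mul_smul]; exact ih _ (hSa _ h)
  have hpb : ∀ (n : ℕ) (ω : Ω), ω ∈ S → b ^ n • ω ∈ S := by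
    intro n
    induction n with
    | zero => intro ω h; simpa using h
    | succ n ih => intro ω h; rw [pow_succ, mul_smul]; exact ih _ (hSb _ h)
  have hcomm : ∀ m n : ℕ, a ^ m * b ^ n = b ^ n * a ^ m := fun m n =>
    (Commute.pow_pow (show Commute a b from hab) m n)
  let inst : AddAction (ZMod 3 × ZMod 3) ↥S :=
    { vadd := fun h ω => ⟨(a ^ h.1.val * b ^ h.2.val) • (ω : Ω), by
        rw [mul_smul]; exact hpa _ _ (hpb _ _ ω.2)⟩
      zero_vadd := by
        rintro ⟨ω, hω⟩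
        apply Subtype.ext
        show (a ^ (0 : ZMod 3 × ZMod 3).1.val * b ^ (0 : ZMod 3 × ZMod 3).2.val) • ω = ω
        simp
      add_vadd := by
        rintro ⟨i, j⟩ ⟨i', j'⟩ ⟨ω, hω⟩
        apply Subtype.ext
        show (a ^ (i + i').val * b ^ (j + j').val) • ω
          = (a ^ i.val * b ^ j.val) • ((a ^ i'.val * b ^ j'.val) • ω)
        rw [← mul_smul, C26b_pow_val_add ha, C26b_pow_val_add hb]
        congr 1
        rw [mul_assoc, mul_assoc, ← mul_assoc (a ^ i'.val), hcomm, mul_assoc] }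
  have hstab : ∀ x : ↥S, AddAction.stabilizer (ZMod 3 × ZMod 3) x = ⊥ := by
    rintro ⟨ω, hω⟩
    rw [eq_bot_iff]
    rintro ⟨i, j⟩ hij
    rw [AddAction.mem_stabilizer_iff] at hij
    have hfix : (a ^ i.val * b ^ j.val) • ω = ω := congrArg Subtype.val hij
    obtain ⟨h1, h2⟩ := hfree ω hω
    have hi : i = 0 := by
      fin_cases i
      · rfl
      · exfalso
        apply h2 j.val
        have hfix1 : (a ^ 1 * b ^ j.val) • ω = ω := hfix
        simpa using hfix1
      · exfalso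
        apply h2 (j.val + j.val)
        have hfix2 : (a ^ 2 * b ^ j.val) • ω = ω := hfix
        have e : a * b ^ (j.val + j.val) = (a ^ 2 * b ^ j.val) * (a ^ 2 * b ^ j.val) := by
          have h4 : a ^ 2 * a ^ 2 = a := by
            rw [← pow_add, show 2 + 2 = 3 + 1 by norm_num, pow_add, ha, one_mul, pow_one]
          rw [mul_assoc, ← mul_assoc (b ^ j.val), ← hcomm, mul_assoc, ← mul_assoc, h4, pow_add]
        rw [e, mul_smul, hfix2, hfix2]
    subst hi
    have hj : j = 0 := by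
      apply C26b_pow_fix hb ω h1
      simpa using hfix
    subst hj
    exact AddSubgroup.zero_mem _
  have e := AddAction.selfEquivOrbitsQuotientProd hstab
  have hcard := Nat.card_congr e
  rw [Nat.card_prod, Nat.card_prod, Nat.card_zmod, Nat.card_coe_set_eq] at hcard
  rw [hcard]
  exact ⟨_, by ring⟩

/-- (C26b) -/
theorem nine_dvd (L : Loc3 G) [Fintype Ω] :
    9 ∣ Fintype.card Ω - (MulAction.fixedBy Ω L.y).ncard := by
  classical
  -- commutation facts
  have hyk : ∀ n : ℕ, (L.w1 * L.y ^ n) * L.y = L.y * (L.w1 * L.y ^ n) := by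
    intro n
    rw [mul_assoc, ← pow_succ, pow_succ', ← mul_assoc, L.w1_y, mul_assoc]
  have hw1k : ∀ n : ℕ, (L.w1 * L.y ^ n) * L.w1 = L.w1 * (L.w1 * L.y ^ n) := by
    intro n
    have : L.y ^ n * L.w1 = L.w1 * L.y ^ n :=
      ((show Commute L.w1 L.y from L.w1_y).pow_right n).symm
    rw [mul_assoc, this]
  have hw2k : ∀ n : ℕ, (L.w1 * L.y ^ (n + 1)) * L.w2 = L.w2 * (L.w1 * L.y ^ n) := by
    intro n
    have h1 : L.w2 * L.w1 = L.w1 * L.y * L.w2 := by
      rw [← L.w2_w1]; group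
    have h2 : L.y ^ n * L.w2 = L.w2 * L.y ^ n :=
      ((show Commute L.w2 L.y from L.w2_y).pow_right n).symm
    rw [← mul_assoc L.w2, h1, pow_succ', ← mul_assoc, mul_assoc (L.w1 * L.y), h2, ← mul_assoc]
  -- the two invariant sets
  set X : Set Ω := {ω | L.y • ω ≠ ω ∧ ∃ n : ℕ, (L.w1 * L.y ^ n) • ω = ω} with hX
  set R : Set Ω := {ω | L.y • ω ≠ ω ∧ ∀ n : ℕ, (L.w1 * L.y ^ n) • ω ≠ ω} with hR
  have hmove : ∀ (z : G), z * L.y = L.y * z → ∀ ω : Ω, L.y • ω ≠ ω → L.y • (z • ω) ≠ z • ω := by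
    intro z hz ω h h'
    apply h
    rw [← mul_smul, ← hz, mul_smul] at h'
    exact smul_left_cancel _ h'
  have hXdvd : 9 ∣ X.ncard := by
    apply C26b_free9 L.w2_pow L.y_pow L.w2_y X
    · rintro ω ⟨h1, n, hn⟩
      refine ⟨hmove _ L.w2_y ω h1, n + 1, ?_⟩
      rw [← mul_smul, hw2k, mul_smul, hn]
    · rintro ω ⟨h1, n, hn⟩
      refine ⟨hmove _ rfl ω h1, n, ?_⟩
      rw [← mul_smul, hyk, mul_smul, hn]
    · rintro ω ⟨h1, n, hn⟩
      refine ⟨h1, ?_⟩
      intro m hm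
      -- `w2 y^m ω = ω` is fixed by `w1 y^(n+1)` as well as by `w1 y^n`
      have hym : (L.w1 * L.y ^ n) • (L.y ^ m • ω) = L.y ^ m • ω := by
        have : (L.w1 * L.y ^ n) * L.y ^ m = L.y ^ m * (L.w1 * L.y ^ n) :=
          ((show Commute (L.w1 * L.y ^ n) L.y from hyk n).pow_right m)
        rw [← mul_smul, this, mul_smul, hn]
      have h3 : (L.w1 * L.y ^ (n + 1)) • ω = ω := by
        conv_lhs => rw [← hm]
        rw [mul_smul L.w2, ← mul_smul, hw2k, mul_smul, hym, ← mul_smul, hm]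
      apply h1
      have h4 : (L.w1 * L.y ^ n) • (L.y • ω) = (L.w1 * L.y ^ n) • ω := by
        rw [hn, ← mul_smul, mul_assoc, ← pow_succ]
        exact h3
      exact smul_left_cancel _ h4
  have hRdvd : 9 ∣ R.ncard := by
    apply C26b_free9 L.w1_pow L.y_pow L.w1_y R
    · rintro ω ⟨h1, h2⟩
      refine ⟨hmove _ L.w1_y ω h1, ?_⟩
      intro n hn
      apply h2 n
      rw [← mul_smul, hw1k, mul_smul] at hn
      exact smul_left_cancel _ hn
    · rintro ω ⟨h1, h2⟩
      refine ⟨hmove _ rfl ω h1, ?_⟩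
      intro n hn
      apply h2 n
      rw [← mul_smul, hyk, mul_smul] at hn
      exact smul_left_cancel _ hn
    · rintro ω ⟨h1, h2⟩
      exact ⟨h1, h2⟩
  have hdisj : Disjoint X R := by
    rw [Set.disjoint_left]
    rintro ω ⟨-, n, hn⟩ ⟨-, h2⟩
    exact h2 n hn
  have hunion : X ∪ R = (MulAction.fixedBy Ω L.y)ᶜ := by
    ext ω
    simp only [hX, hR, Set.mem_union, Set.mem_ofPred_eq, Set.mem_compl_iff, MulAction.mem_fixedBy]
    constructor
    · rintro (⟨h, -⟩ | ⟨h, -⟩) <;> exact h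
    · intro h
      by_cases hex : ∃ n : ℕ, (L.w1 * L.y ^ n) • ω = ω
      · exact Or.inl ⟨h, hex⟩
      · exact Or.inr ⟨h, fun n hn => hex ⟨n, hn⟩⟩
  have hcard : Fintype.card Ω - (MulAction.fixedBy Ω L.y).ncard = X.ncard + R.ncard := by
    rw [← Set.ncard_union_eq hdisj, hunion, ← Nat.card_eq_fintype_card,
      ← Set.ncard_add_ncard_compl (MulAction.fixedBy Ω L.y)]
    omega
  rw [hcard]
  exact dvd_add hXdvd hRdvd

end Cfsg.Agent.Helper60.T2T
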