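-- helper60: piece (QUO) of helper56's farm for S2149.
import Cfsg.Agent.Helper56.U35.Defs

set_option autoImplicit false

namespace Cfsg.Agent.Helper60.U35

open MulAction Cfsg.Agent.Helper56.U35

variable {G : Type*} [Group G] {Ω : Type*} [MulAction G Ω]

/-- (QUO) the part of the stabiliser in `H` above `H ⊓ P` has order dividing `8` -/
theorem card_inf_stabilizer (D : TIData G Ω) (hstb : Nat.card (stabilizer G D.o) = 1000)
    (H : Subgroup G) :
    ∃ k : ℕ, k ∣ 8 ∧ Nat.card (H ⊓ stabilizer G D.o : Subgroup G) = Nat.card (H ⊓ D.P : Subgroup G) * k := by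
  classical
  haveI : Finite G := Nat.finite_of_card_ne_zero (by rw [D.cardG]; norm_num)
  let P' : Subgroup (stabilizer G D.o) := D.P.subgroupOf (stabilizer G D.o)
  haveI hP'n : P'.Normal := by
    constructor
    intro u hu b
    rw [Subgroup.mem_subgroupOf] at hu ⊢
    simp only [Subgroup.coe_mul, InvMemClass.coe_inv]
    exact D.P_normal b b.2 u hu
  let φ : ↥(H ⊓ stabilizer G D.o) →* (stabilizer G D.o) ⧸ P' :=
    (QuotientGroup.mk' P').comp (Subgroup.inclusion inf_le_right)
  have hker : φ.ker.map (H ⊓ stabilizer G D.o).subtype = H ⊓ D.P := by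
    ext a
    constructor
    · rintro ⟨⟨a', ha'⟩, hk, rfl⟩
      rw [SetLike.mem_coe, MonoidHom.mem_ker] at hk
      have h1 : (Subgroup.inclusion inf_le_right ⟨a', ha'⟩ : stabilizer G D.o) ∈ P' :=
        (QuotientGroup.eq_one_iff _).mp hk
      rw [Subgroup.mem_subgroupOf] at h1
      exact ⟨ha'.1, h1⟩
    · rintro ⟨hH, hP⟩
      refine ⟨⟨a, ⟨hH, D.P_le hP⟩⟩, ?_, rfl⟩
      rw [SetLike.mem_coe, MonoidHom.mem_ker]
      apply (QuotientGroup.eq_one_iff _).mpr
      rw [Subgroup.mem_subgroupOf]
      exact hP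
  have hcardker : Nat.card φ.ker = Nat.card (H ⊓ D.P : Subgroup G) := by
    rw [← hker]
    exact (Subgroup.card_map_of_injective (Subgroup.subtype_injective _)).symm
  refine ⟨Nat.card φ.range, ?_, ?_⟩
  · have h1 : Nat.card φ.range ∣ Nat.card ((stabilizer G D.o) ⧸ P') := Subgroup.card_subgroup_dvd_card _
    have h2 : Nat.card ((stabilizer G D.o) ⧸ P') = 8 := by
      have h3 := Subgroup.card_eq_card_quotient_mul_card_subgroup P'
      have h4 : Nat.card P' = 125 := by
        rw [← D.cardP]
        exact Nat.card_congr (Subgroup.subgroupOfEquivOfLe D.P_le).toEquiv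
      rw [hstb, h4] at h3
      omega
    rwa [h2] at h1
  · rw [← hcardker, ← Subgroup.index_ker φ]
    exact (Subgroup.card_mul_index φ.ker).symm

end Cfsg.Agent.Helper60.U35
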