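import Mathlib
import Cfsg.Agent.Helper56.CarmichaelA

set_option autoImplicit false

namespace Cfsg.Agent.Helper60.U35

open Cfsg.Agent.Helper56.Carmichael

/-- (A7C), arithmetic form: five elements satisfying Carmichael's relations generate a subgroup of
index 50 in a group of order 126000, as soon as 2520 divides its order. -/
theorem index_Hm_eq_of_dvd {K : Type*} [Group K] (hK : Nat.card K = 126000) (x : ℕ → K)
    (hR : CarRel 5 x) (h2520 : 2520 ∣ Nat.card (Hm x 5)) : (Hm x 5).index = 50 := by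
  obtain ⟨hfin, hcard⟩ := card_bound x 5 hR
  haveI : Finite (Hm x 5) := hfin
  have hpos : 0 < Nat.card (Hm x 5) := Nat.card_pos
  have hle : Nat.card (Hm x 5) ≤ 2520 := by
    have h7 : Nat.factorial (5 + 2) = 5040 := by decide
    have h8 : Nat.card (Hm x 5) * 2 ≤ 5040 := h7 ▸ hcard
    omega
  have hc : Nat.card (Hm x 5) = 2520 := le_antisymm hle (Nat.le_of_dvd hpos h2520)
  have hidx := (Hm x 5).card_mul_index
  rw [hK, hc] at hidx
  omega

/-- the order of a subgroup acting transitively on `Fin n` is `n` times the order of a point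
stabilizer (taken inside the subgroup) -/
theorem A7C_card_eq {K : Type*} [Group K] {n : ℕ} [MulAction K (Fin n)]
    (H : Subgroup K) (o : Fin n) (h : ∀ i : Fin n, ∃ g ∈ H, g • o = i) :
    Nat.card H = n * Nat.card (MulAction.stabilizer H o) := by
  have horb : MulAction.orbit H o = Set.univ := by
    ext i
    simp only [Set.mem_univ, iff_true]
    obtain ⟨g, hg, hgi⟩ := h i
    exact ⟨⟨g, hg⟩, hgi⟩
  have h1 := (MulAction.stabilizer H o).card_mul_index
  rw [MulAction.index_stabilizer, horb, Set.ncard_univ, Nat.card_fin] at h1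
  rw [← h1, mul_comm]

/-- (A7C), corrected form: `Hm x 5` transitive on 126 points with elements of orders 5 and 4 in a
point stabilizer has index 50 in a group of order 126000. -/
theorem index_Hm_eq' {K : Type*} [Group K] [MulAction K (Fin 126)] (hK : Nat.card K = 126000)
    (x : ℕ → K) (hR : CarRel 5 x) (o : Fin 126)
    (htr : ∀ i : Fin 126, ∃ g ∈ Hm x 5, g • o = i) (a b : K) (ha : a ∈ Hm x 5) (hb : b ∈ Hm x 5)
    (hao : a • o = o) (hbo : b • o = o)
    (hoa : orderOf a = 5) (hob : orderOf b = 4) : (Hm x 5).index = 50 := by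
  obtain ⟨hfin, -⟩ := card_bound x 5 hR
  haveI : Finite (Hm x 5) := hfin
  have hcard := A7C_card_eq (Hm x 5) o htr
  have hamem : (⟨a, ha⟩ : Hm x 5) ∈ MulAction.stabilizer (Hm x 5) o := by
    rw [MulAction.mem_stabilizer_iff]; exact hao
  have hbmem : (⟨b, hb⟩ : Hm x 5) ∈ MulAction.stabilizer (Hm x 5) o := by
    rw [MulAction.mem_stabilizer_iff]; exact hbo
  have h5 : 5 ∣ Nat.card (MulAction.stabilizer (Hm x 5) o) := by
    have h := orderOf_dvd_natCard
      (⟨⟨a, ha⟩, hamem⟩ : MulAction.stabilizer (Hm x 5) o)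
    rwa [Subgroup.orderOf_mk, Subgroup.orderOf_mk, hoa] at h
  have h4 : 4 ∣ Nat.card (MulAction.stabilizer (Hm x 5) o) := by
    have h := orderOf_dvd_natCard
      (⟨⟨b, hb⟩, hbmem⟩ : MulAction.stabilizer (Hm x 5) o)
    rwa [Subgroup.orderOf_mk, Subgroup.orderOf_mk, hob] at h
  have h20 : 5 * 4 ∣ Nat.card (MulAction.stabilizer (Hm x 5) o) :=
    Nat.Coprime.mul_dvd_of_dvd_of_dvd (by decide) h5 h4
  apply index_Hm_eq_of_dvd hK x hR
  rw [hcard]
  obtain ⟨c, hc⟩ := h20
  exact ⟨c, by rw [hc]; ring⟩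

end Cfsg.Agent.Helper60.U35
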