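import Mathlib

/-! Piece (ORB) of #5517 (helper6, small Ree torus normalisers): orbit-stabiliser for conjugation,
subgroup form (helper60). -/

set_option autoImplicit false

namespace Cfsg.Agent.Helper60.Ree

theorem card_eq_mul_card_inf_centralizer {G : Type*} [Group G] (N : Subgroup G) [Finite N]
    (t : G) (S : Finset G) (h1 : ∀ g ∈ N, g * t * g⁻¹ ∈ S)
    (h2 : ∀ s ∈ S, ∃ g ∈ N, g * t * g⁻¹ = s) :
    Nat.card ↥N = S.card * Nat.card ↥(N ⊓ Subgroup.centralizer {t}) := by
  classical
  have : Fintype N := Fintype.ofFinite N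
  have hfib : ∀ s ∈ S, Nat.card {g : N // (g : G) * t * (g : G)⁻¹ = s}
      = Nat.card ↥(N ⊓ Subgroup.centralizer {t}) := by
    intro s hs
    obtain ⟨n, hn, hns⟩ := h2 s hs
    refine Nat.card_congr ?_
    refine
      { toFun := fun g => ⟨n⁻¹ * (g.1 : G), ?_⟩
        invFun := fun k => ⟨⟨n * (k : G), ?_⟩, ?_⟩
        left_inv := ?_
        right_inv := ?_ }
    · refine Subgroup.mem_inf.mpr ⟨N.mul_mem (N.inv_mem hn) g.1.2, ?_⟩
      rw [Subgroup.mem_centralizer_singleton_iff]
      have hg : (g.1 : G) * t * (g.1 : G)⁻¹ = n * t * n⁻¹ := by rw [g.2, hns]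
      have e : n⁻¹ * (g.1 : G) * t = n⁻¹ * ((g.1 : G) * t * (g.1 : G)⁻¹) * (g.1 : G) := by group
      rw [e, hg]
      group
    · exact N.mul_mem hn (Subgroup.mem_inf.mp k.2).1
    · have hk := (Subgroup.mem_inf.mp k.2).2
      rw [Subgroup.mem_centralizer_singleton_iff] at hk
      show n * (k : G) * t * (n * (k : G))⁻¹ = s
      have e : n * (k : G) * t * (n * (k : G))⁻¹ = n * ((k : G) * t) * (k : G)⁻¹ * n⁻¹ := by group
      rw [e, hk, ← hns]
      group
    · intro g
      apply Subtype.ext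
      apply Subtype.ext
      show n * (n⁻¹ * (g.1 : G)) = (g.1 : G)
      group
    · intro k
      apply Subtype.ext
      show n⁻¹ * (n * (k : G)) = (k : G)
      group
  rw [Nat.card_eq_fintype_card, ← Finset.card_univ,
    Finset.card_eq_sum_card_fiberwise (f := fun g : N => (g : G) * t * (g : G)⁻¹) (t := S)
      (fun g _ => h1 g g.2)]
  have hterm : ∀ s ∈ S, (Finset.univ.filter (fun g : N => (g : G) * t * (g : G)⁻¹ = s)).card
      = Nat.card ↥(N ⊓ Subgroup.centralizer {t}) := by
    intro s hs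
    rw [← hfib s hs, Nat.card_eq_fintype_card, Fintype.card_subtype]
  rw [Finset.sum_congr rfl hterm, Finset.sum_const, smul_eq_mul]

end Cfsg.Agent.Helper60.Ree
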