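import Mathlib
import Cfsg.Agent.Helper80.ReePSL

/-! Piece (PSLN) of #5517 (helper6, small Ree torus normalisers): the normaliser of the centraliser
of an element of odd prime order `s ∤ q(q-1)` in `Z₂ × PSL₂(q)` has order `2(q+1)` (helper60).
Companion of helper80's `prod_psl2_centralizer`; the first half of `psl2_normalizer` repeats the
set-up of helper80's `psl2_centralizer`. -/

set_option autoImplicit false

namespace Cfsg.Agent.Helper60.Ree

open Matrix Cfsg.Agent.Helper41 Cfsg.Agent.Helper42 Cfsg.Agent.Helper80.ReePSL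

section psl

variable {F : Type*} [Field F] [Fintype F]

local notation "SL2F" => Matrix.SpecialLinearGroup (Fin 2) F
local notation "M2F" => Matrix (Fin 2) (Fin 2) F

/-- The `PSL₂`-level statement: the normalizer of the centralizer of an element of odd prime order
`s ∤ q(q-1)` has order `q+1`. -/
theorem psl2_normalizer (hodd : Odd (Fintype.card F)) {s : ℕ} (hs : s.Prime)
    (hs2 : s ≠ 2) (hsq : ¬ s ∣ Fintype.card F) (hsq1 : ¬ s ∣ Fintype.card F - 1)
    (b : Matrix.ProjectiveSpecialLinearGroup (Fin 2) F) (hb : orderOf b = s) :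
    Nat.card (Subgroup.normalizer ((Subgroup.centralizer {b} :
      Subgroup (Matrix.ProjectiveSpecialLinearGroup (Fin 2) F)) :
        Set (Matrix.ProjectiveSpecialLinearGroup (Fin 2) F))) = Fintype.card F + 1 := by
  classical
  have h2 : (2 : F) ≠ 0 := Cfsg.Agent.Helper5.two_ne_zero_of_odd_card hodd
  have hodd' : Fintype.card F % 2 = 1 := Nat.odd_iff.mp hodd
  obtain ⟨hab, hcard⟩ := psl2_centralizer hodd hs hs2 hsq hsq1 b hb
  obtain ⟨B, rfl⟩ := QuotientGroup.mk'_surjective (Subgroup.center SL2F) b
  have hb1 : (QuotientGroup.mk' (Subgroup.center SL2F)) B ≠ 1 := by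
    intro h1
    rw [h1, orderOf_one] at hb
    exact hs.one_lt.ne hb
  -- `B` is not scalar
  have hns : ∀ r : F, (B : M2F) ≠ Matrix.scalar (Fin 2) r := by
    intro r hr
    apply hb1
    rw [QuotientGroup.mk'_apply, QuotientGroup.eq_one_iff, Subgroup.mem_center_iff]
    intro g
    apply Subtype.ext
    rw [Matrix.SpecialLinearGroup.coe_mul, Matrix.SpecialLinearGroup.coe_mul, hr]
    exact (Matrix.scalar_commute r (fun r' => mul_comm r r') (g : M2F)).eq.symm
  have hnsSL : Cfsg.Agent.Helper39.IsNonScalarSL B := by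
    rintro ⟨h01, h10, h00⟩
    apply hns ((B : M2F) 0 0)
    ext i j
    fin_cases i <;> fin_cases j <;> simp [h01, h10, h00]
  -- the trace of `B` is not zero
  have htr : (B : M2F).trace ≠ 0 := by
    intro h0
    have h1 := mul_self_of_trace_zero (B : M2F) h0
    rw [B.det_coe] at h1
    have h3 : B ^ 4 = 1 := by
      apply Subtype.ext
      rw [Matrix.SpecialLinearGroup.coe_pow, Matrix.SpecialLinearGroup.coe_one]
      have e : (B : M2F) ^ 4 = ((B : M2F) * (B : M2F)) * ((B : M2F) * (B : M2F)) := by
        rw [pow_succ, pow_succ, pow_succ, pow_one]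
        simp only [mul_assoc]
      rw [e, h1]
      simp
    have h4 : ((QuotientGroup.mk' (Subgroup.center SL2F)) B) ^ 4 = 1 := by
      rw [← map_pow, h3, map_one]
    have h5 : s ∣ 4 := by
      rw [← hb]
      exact orderOf_dvd_of_pow_eq_one h4
    have h6 : s ∣ 2 := hs.dvd_of_dvd_pow (by norm_num at h5 ⊢; exact h5 : s ∣ 2 ^ 2)
    exact hs2 ((Nat.prime_dvd_prime_iff_eq hs Nat.prime_two).mp h6)
  have hpre : preCent B = Subgroup.centralizer ({B} : Set SL2F) := preCent_eq_of_trace_ne_zero h2 B htr
  have hcardC : Nat.card (Subgroup.centralizer ({B} : Set SL2F)) =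
      Nat.card (Subgroup.centralizer
        ({(QuotientGroup.mk' (Subgroup.center SL2F)) B} : Set (SL2F ⧸ Subgroup.center SL2F))) * 2 := by
    have h5 := card_comap_mk' (Subgroup.center SL2F) (Subgroup.centralizer
      ({(QuotientGroup.mk' (Subgroup.center SL2F)) B} : Set (SL2F ⧸ Subgroup.center SL2F)))
    rw [Cfsg.Agent.Helper5.card_center_SL2_of_two_ne_zero (F := F) h2] at h5
    rw [← hpre]
    exact h5
  have hsdvd : s ∣ Nat.card (Subgroup.centralizer
      ({(QuotientGroup.mk' (Subgroup.center SL2F)) B} : Set (SL2F ⧸ Subgroup.center SL2F))) := by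
    rw [← hb]
    apply Subgroup.orderOf_dvd_natCard
    rw [Subgroup.mem_centralizer_singleton_iff]
  -- the trace squared is not four
  have h4 : (B : M2F).trace ^ 2 ≠ 4 := by
    intro h4
    have h5 := card_centralizer_of_trace_sq_eq_four hodd B hnsSL h4
    rw [hcardC] at h5
    have h6 : Nat.card (Subgroup.centralizer
        ({(QuotientGroup.mk' (Subgroup.center SL2F)) B} : Set (SL2F ⧸ Subgroup.center SL2F))) =
        Fintype.card F := by omega
    rw [h6] at hsdvd
    exact hsq hsdvd
  obtain ⟨w, hw⟩ := sl2_exists_conj_eq_inv hodd' h2 B h4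
  have hN := sl2_card_normalizer_centralizer h2 B w h4 hw
  -- the preimage of the normalizer is the normalizer of the preimage
  have hcomap : (Subgroup.normalizer ((Subgroup.centralizer
      ({(QuotientGroup.mk' (Subgroup.center SL2F)) B} : Set (SL2F ⧸ Subgroup.center SL2F)) :
        Subgroup (SL2F ⧸ Subgroup.center SL2F)) : Set (SL2F ⧸ Subgroup.center SL2F))).comap
        (QuotientGroup.mk' (Subgroup.center SL2F))
      = Subgroup.normalizer ((Subgroup.centralizer ({B} : Set SL2F) : Subgroup SL2F) : Set SL2F) := by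
    rw [Subgroup.comap_normalizer_eq_of_surjective _ (QuotientGroup.mk'_surjective _), ← hpre]
    rfl
  have h7 := card_comap_mk' (Subgroup.center SL2F) (Subgroup.normalizer ((Subgroup.centralizer
      ({(QuotientGroup.mk' (Subgroup.center SL2F)) B} : Set (SL2F ⧸ Subgroup.center SL2F)) :
        Subgroup (SL2F ⧸ Subgroup.center SL2F)) : Set (SL2F ⧸ Subgroup.center SL2F)))
  rw [hcomap, hN, Cfsg.Agent.Helper5.card_center_SL2_of_two_ne_zero (F := F) h2, hcardC] at h7
  show Nat.card (Subgroup.normalizer ((Subgroup.centralizer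
      ({(QuotientGroup.mk' (Subgroup.center SL2F)) B} : Set (SL2F ⧸ Subgroup.center SL2F)) :
        Subgroup (SL2F ⧸ Subgroup.center SL2F)) : Set (SL2F ⧸ Subgroup.center SL2F))) = _
  have hcard' : 2 * Nat.card (Subgroup.centralizer
      ({(QuotientGroup.mk' (Subgroup.center SL2F)) B} : Set (SL2F ⧸ Subgroup.center SL2F))) =
      Fintype.card F + 1 := hcard
  omega

end psl

/-- **(PSLN)** -/
theorem prod_psl2_normalizer {F : Type*} [Field F] [Fintype F] (hodd : Odd (Fintype.card F))
    {s : ℕ} (hs : s.Prime) (hs2 : s ≠ 2) (hsq : ¬ s ∣ Fintype.card F)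
    (hsq1 : ¬ s ∣ Fintype.card F - 1)
    (x : Multiplicative (ZMod 2) × Matrix.ProjectiveSpecialLinearGroup (Fin 2) F)
    (hx : orderOf x = s) :
    Nat.card ↥(Subgroup.normalizer ((Subgroup.centralizer {x} :
      Subgroup (Multiplicative (ZMod 2) × Matrix.ProjectiveSpecialLinearGroup (Fin 2) F)) :
        Set (Multiplicative (ZMod 2) × Matrix.ProjectiveSpecialLinearGroup (Fin 2) F))) =
      2 * (Fintype.card F + 1) := by
  classical
  obtain ⟨e, b⟩ := x
  have he : e = 1 := by
    have h1 : e ^ 2 = 1 := by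
      have h0 := pow_card_eq_one' (G := Multiplicative (ZMod 2)) (x := e)
      have hc : Nat.card (Multiplicative (ZMod 2)) = 2 := by
        rw [Nat.card_eq_fintype_card, Fintype.card_multiplicative, ZMod.card]
      rwa [hc] at h0
    have h3 : e ^ s = 1 := by
      have h0 := pow_orderOf_eq_one
        ((e, b) : Multiplicative (ZMod 2) × Matrix.ProjectiveSpecialLinearGroup (Fin 2) F)
      rw [hx] at h0
      exact congrArg Prod.fst h0
    have h4 := pow_gcd_eq_one.mpr ⟨h1, h3⟩
    have hg : Nat.gcd 2 s = 1 := (Nat.coprime_primes Nat.prime_two hs).mpr (Ne.symm hs2)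
    rwa [hg, pow_one] at h4
  subst he
  have hb : orderOf b = s := by
    rw [Prod.orderOf] at hx
    simpa using hx
  have hcardN := psl2_normalizer hodd hs hs2 hsq hsq1 b hb
  have hmem : ∀ y : Multiplicative (ZMod 2) × Matrix.ProjectiveSpecialLinearGroup (Fin 2) F,
      y ∈ Subgroup.centralizer {((1 : Multiplicative (ZMod 2)), b)} ↔
        y.2 ∈ Subgroup.centralizer {b} := by
    rintro ⟨e', c⟩
    rw [Subgroup.mem_centralizer_singleton_iff, Subgroup.mem_centralizer_singleton_iff]
    constructor
    · intro h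
      exact congrArg Prod.snd h
    · intro h
      exact Prod.ext (by simp) h
  have hmemN : ∀ y : Multiplicative (ZMod 2) × Matrix.ProjectiveSpecialLinearGroup (Fin 2) F,
      y ∈ Subgroup.normalizer ((Subgroup.centralizer {((1 : Multiplicative (ZMod 2)), b)} :
        Subgroup (Multiplicative (ZMod 2) × Matrix.ProjectiveSpecialLinearGroup (Fin 2) F)) :
          Set (Multiplicative (ZMod 2) × Matrix.ProjectiveSpecialLinearGroup (Fin 2) F)) ↔
        y.2 ∈ Subgroup.normalizer ((Subgroup.centralizer {b} :
          Subgroup (Matrix.ProjectiveSpecialLinearGroup (Fin 2) F)) :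
            Set (Matrix.ProjectiveSpecialLinearGroup (Fin 2) F)) := by
    rintro ⟨e', c⟩
    rw [Subgroup.mem_normalizer_iff, Subgroup.mem_normalizer_iff]
    constructor
    · intro h k
      have := h ((1 : Multiplicative (ZMod 2)), k)
      rw [hmem, hmem] at this
      exact this
    · intro h k
      rw [hmem, hmem]
      exact h k.2
  have hc : Nat.card (Multiplicative (ZMod 2)) = 2 := by
    rw [Nat.card_eq_fintype_card, Fintype.card_multiplicative, ZMod.card]
  have h6 : Nat.card (Subgroup.normalizer ((Subgroup.centralizer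
      {((1 : Multiplicative (ZMod 2)), b)} :
        Subgroup (Multiplicative (ZMod 2) × Matrix.ProjectiveSpecialLinearGroup (Fin 2) F)) :
          Set (Multiplicative (ZMod 2) × Matrix.ProjectiveSpecialLinearGroup (Fin 2) F))) =
      Nat.card (Multiplicative (ZMod 2) × Subgroup.normalizer ((Subgroup.centralizer {b} :
          Subgroup (Matrix.ProjectiveSpecialLinearGroup (Fin 2) F)) :
            Set (Matrix.ProjectiveSpecialLinearGroup (Fin 2) F))) :=
    Nat.card_congr
      { toFun := fun y => (y.1.1, ⟨y.1.2, (hmemN _).mp y.2⟩)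
        invFun := fun y => ⟨(y.1, y.2.1), (hmemN _).mpr y.2.2⟩
        left_inv := fun y => rfl
        right_inv := fun y => rfl }
  rw [h6, Nat.card_prod, hc, hcardN]

end Cfsg.Agent.Helper60.Ree
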