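-- helper60: piece (P3) of helper88's WANTED #4213 for S5165: no proper nontrivial strongly closed
-- subgroup in the even part of `C_2 ≀ K` (wreath model of helper88)
import Cfsg.Agent.Helper88.AltNorm2
import Cfsg.Agent.Helper88.AltCrit2
import Cfsg.Agent.Helper80.AltConjT

set_option autoImplicit false
set_option linter.unusedSectionVars false

namespace Cfsg.Agent.Helper60

open Equiv Cfsg.Agent.Helper42 Cfsg.Agent.Helper88 Cfsg.Agent.Helper88.AltM Cfsg.Agent.Helper80

variable {β ρ : Type*} [Fintype β] [DecidableEq β] [Fintype ρ] [DecidableEq ρ]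

theorem sign_L_two (σ : Perm β) : Perm.sign (L σ : Perm (Pt β ρ 2)) = 1 := by
  rw [sign_L]
  exact Int.units_sq _

theorem single_comp_symm (π : Perm β) (y : β) :
    (Pi.single y (1 : ZMod 2) : β → ZMod 2) ∘ π.symm = Pi.single (π y) 1 := by
  funext w
  simp only [Function.comp_apply, Pi.single_apply]
  by_cases h : w = π y
  · rw [if_pos h, if_pos]
    rw [h, Equiv.symm_apply_apply]
  · rw [if_neg h, if_neg]
    intro h'
    apply h
    rw [← h', Equiv.apply_symm_apply]

theorem zmod2_fun_add_self (g : β → ZMod 2) : g + g = 0 := by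
  funext w
  exact CharTwo.add_self_eq_zero _

/-- conjugating a translation by an element of the wreath product -/
theorem conj_T_of {p : ℕ} [Fact p.Prime] (f h : β → ZMod p) (σ : Perm β) :
    (T f * L σ : Perm (Pt β ρ p)) * T h * (T f * L σ)⁻¹ = T (h ∘ σ.symm) := by
  calc (T f * L σ : Perm (Pt β ρ p)) * T h * (T f * L σ)⁻¹
      = T f * (L σ * T h * (L σ)⁻¹) * (T f)⁻¹ := by group
    _ = T f * T (h ∘ σ.symm) * (T f)⁻¹ := by rw [L_T_conj]
    _ = T (h ∘ σ.symm) := by rw [T_comm, mul_inv_cancel_right]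

/-- step (a): a nontrivial translation in `T'` -/
theorem exists_T_mem (hβ : 3 ≤ Fintype.card β) (K : Subgroup (Perm β))
    (T' : Subgroup (Perm (Pt β ρ 2))) (hT : T' ≤ Sev ρ K)
    (hN : ∀ t ∈ T', ∀ s ∈ Sev ρ K, s * t * s⁻¹ ∈ T') (hne : T' ≠ ⊥) :
    ∃ f : β → ZMod 2, f ≠ 0 ∧ (T f : Perm (Pt β ρ 2)) ∈ T' := by
  obtain ⟨t, ht, ht1⟩ : ∃ t ∈ T', t ≠ 1 := by
    by_contra h
    push Not at h
    exact hne ((Subgroup.eq_bot_iff_forall _).mpr h)
  obtain ⟨f, σ, hσ, rfl⟩ := mem_Ss.mp (hT ht).1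
  by_cases hσ1 : σ = 1
  · subst hσ1
    rw [map_one, mul_one] at ht ht1
    refine ⟨f, ?_, ht⟩
    rintro rfl
    exact ht1 T_zero
  · obtain ⟨y, hy⟩ : ∃ y, σ y ≠ y := by
      by_contra h
      push Not at h
      exact hσ1 (Equiv.ext h)
    obtain ⟨y'', hy1, hy2⟩ : ∃ y'' : β, y'' ≠ y ∧ y'' ≠ σ y := by
      obtain ⟨a, b, c, hab, hac, hbc⟩ := Fintype.two_lt_card_iff.mp hβ
      by_cases ha : a ≠ y ∧ a ≠ σ y
      · exact ⟨a, ha.1, ha.2⟩
      by_cases hb : b ≠ y ∧ b ≠ σ y
      · exact ⟨b, hb.1, hb.2⟩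
      refine ⟨c, ?_, ?_⟩
      · rintro rfl
        by_cases h1 : a = c
        · exact hac h1
        · by_cases h2 : b = c
          · exact hbc h2
          · have ha' : a = σ c := by
              by_contra h3
              exact ha ⟨h1, h3⟩
            have hb' : b = σ c := by
              by_contra h3
              exact hb ⟨h2, h3⟩
            exact hab (ha'.trans hb'.symm)
      · intro hc
        by_cases h1 : a = σ y
        · exact hac (h1.trans hc.symm)
        · by_cases h2 : b = σ y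
          · exact hbc (h2.trans hc.symm)
          · have ha' : a = y := by
              by_contra h3
              exact ha ⟨h3, h1⟩
            have hb' : b = y := by
              by_contra h3
              exact hb ⟨h3, h2⟩
            exact hab (ha'.trans hb'.symm)
    set g : β → ZMod 2 := Pi.single y 1 + Pi.single y'' 1 with hg
    have hb : (T g : Perm (Pt β ρ 2)) ∈ Sev ρ K := T_pair_mem K y y''
    have h2 : (T (g ∘ σ.symm - g) : Perm (Pt β ρ 2)) ∈ T' := by
      rw [T_sub, ← conj_T_of f g σ]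
      have h3 := hN _ (T'.inv_mem ht) _ hb
      have h4 := T'.mul_mem ht h3
      have e : (T f * L σ : Perm (Pt β ρ 2)) * T g * (T f * L σ)⁻¹ * (T g)⁻¹ =
          T f * L σ * (T g * (T f * L σ)⁻¹ * (T g)⁻¹) := by group
      rw [e]
      exact h4
    refine ⟨_, ?_, h2⟩
    intro h0
    have h5 := congrFun h0 (σ y)
    simp only [Pi.sub_apply, Function.comp_apply, Equiv.symm_apply_apply, hg, Pi.add_apply,
      Pi.single_eq_same, Pi.single_eq_of_ne hy1.symm, Pi.single_eq_of_ne hy,
      Pi.single_eq_of_ne hy2.symm, Pi.zero_apply] at h5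
    revert h5
    decide

/-- step (b), generation: the pair translations based at `y₀` generate the even translations up to
`e_{y₀}` -/
theorem all_even_of_pair (y₀ y₁ : β) (h01 : y₀ ≠ y₁) (P : AddSubgroup (β → ZMod 2))
    (hPL : ∀ f ∈ P, ∀ τ : Perm β, f ∘ τ.symm ∈ P)
    (h : (Pi.single y₀ 1 + Pi.single y₁ 1 : β → ZMod 2) ∈ P) (f : β → ZMod 2) :
    f ∈ P ∨ f + Pi.single y₀ 1 ∈ P := by
  have hw : ∀ w : β, (Pi.single w 1 + Pi.single y₀ 1 : β → ZMod 2) ∈ P := by
    intro w
    by_cases hw0 : w = y₀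
    · subst hw0
      rw [zmod2_fun_add_self]
      exact P.zero_mem
    by_cases hw1 : w = y₁
    · subst hw1
      rw [add_comm]
      exact h
    have h1 := hPL _ h (Equiv.swap y₁ w)
    have e : (Pi.single y₀ 1 + Pi.single y₁ 1 : β → ZMod 2) ∘ (Equiv.swap y₁ w).symm =
        Pi.single w 1 + Pi.single y₀ 1 := by
      have e1 : ((Pi.single y₀ 1 + Pi.single y₁ 1 : β → ZMod 2)) ∘ (Equiv.swap y₁ w).symm =
          (Pi.single y₀ (1 : ZMod 2) : β → ZMod 2) ∘ (Equiv.swap y₁ w).symm +
            (Pi.single y₁ (1 : ZMod 2) : β → ZMod 2) ∘ (Equiv.swap y₁ w).symm := rfl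
      rw [e1, single_comp_symm, single_comp_symm, Equiv.swap_apply_left,
        Equiv.swap_apply_of_ne_of_ne h01 (Ne.symm hw0), add_comm]
    rw [e] at h1
    exact h1
  have key : ∀ s : Finset β, (∑ y ∈ s, (Pi.single y (f y) : β → ZMod 2)) ∈ P ∨
      (∑ y ∈ s, (Pi.single y (f y) : β → ZMod 2)) + Pi.single y₀ 1 ∈ P := by
    intro s
    induction s using Finset.induction_on with
    | empty =>
      left
      rw [Finset.sum_empty]
      exact P.zero_mem
    | insert a s ha ih =>
      rw [Finset.sum_insert ha]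
      rcases zmod2_cases (f a) with h0 | h1
      · rw [h0, Pi.single_zero, zero_add]
        exact ih
      · rw [h1]
        rcases ih with ih | ih
        · right
          rw [add_right_comm]
          exact P.add_mem (hw a) ih
        · left
          have e : (Pi.single a 1 + ∑ y ∈ s, (Pi.single y (f y) : β → ZMod 2)) =
              (Pi.single a 1 + Pi.single y₀ 1) +
                ((∑ y ∈ s, (Pi.single y (f y) : β → ZMod 2)) + Pi.single y₀ 1) := by
            have e2 : (Pi.single a 1 + Pi.single y₀ 1 : β → ZMod 2) +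
                ((∑ y ∈ s, (Pi.single y (f y) : β → ZMod 2)) + Pi.single y₀ 1) =
                (Pi.single a 1 + ∑ y ∈ s, (Pi.single y (f y) : β → ZMod 2)) +
                  ((Pi.single y₀ 1 : β → ZMod 2) + Pi.single y₀ 1) := by abel
            rw [e2, zmod2_fun_add_self, add_zero]
          rw [e]
          exact P.add_mem (hw a) ih
  have := key Finset.univ
  rw [Finset.univ_sum_single] at this
  exact this

/-- step (b), the case of full support -/
theorem case_univ [Subsingleton ρ] (hβ : 3 ≤ Fintype.card β) (K : Subgroup (Perm β)) (y y' : β)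
    (hyy' : y ≠ y') (hsw : Equiv.swap y y' ∈ K) (T' : Subgroup (Perm (Pt β ρ 2)))
    (hT : T' ≤ Sev ρ K)
    (hcl : ∀ t ∈ T', ∀ g ∈ alternatingGroup (Pt β ρ 2),
      g * t * g⁻¹ ∈ Sev ρ K → g * t * g⁻¹ ∈ T')
    (h1 : (T (fun _ => (1 : ZMod 2)) : Perm (Pt β ρ 2)) ∈ T') :
    (T (Pi.single y 1 + Pi.single y' 1) : Perm (Pt β ρ 2)) ∈ T' := by
  have hN : ∀ t ∈ T', ∀ s ∈ Sev ρ K, s * t * s⁻¹ ∈ T' := fun t ht s hs =>
    hcl t ht s hs.2 ((Sev ρ K).mul_mem ((Sev ρ K).mul_mem hs (hT ht)) ((Sev ρ K).inv_mem hs))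
  set s : Perm β := Equiv.swap y y' with hs
  set ind : β → ZMod 2 := (fun _ => (1 : ZMod 2)) + (Pi.single y 1 + Pi.single y' 1) with hind
  have hindy : ind y = 0 := by
    simp only [hind, Pi.add_apply, Pi.single_eq_same, Pi.single_eq_of_ne hyy']
    decide
  have hindy' : ind y' = 0 := by
    simp only [hind, Pi.add_apply, Pi.single_eq_same, Pi.single_eq_of_ne hyy'.symm]
    decide
  have hindw : ∀ w, w ≠ y → w ≠ y' → ind w = 1 := by
    intro w hw hw'
    simp only [hind, Pi.add_apply, Pi.single_eq_of_ne hw, Pi.single_eq_of_ne hw', add_zero]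
  have hinds : ind ∘ s.symm = ind := by
    funext w
    simp only [Function.comp_apply, hs, Equiv.symm_swap]
    by_cases hw : w = y
    · rw [hw, Equiv.swap_apply_left, hindy, hindy']
    · by_cases hw' : w = y'
      · rw [hw', Equiv.swap_apply_right, hindy, hindy']
      · rw [Equiv.swap_apply_of_ne_of_ne hw hw']
  set z : Perm (Pt β ρ 2) := T ind * L s with hz
  have hzSs : z ∈ Ss ρ K := mem_Ss.mpr ⟨ind, s, hsw, rfl⟩
  have hzsign : Perm.sign z = 1 := by
    rw [hz, map_mul, sign_L_two, mul_one, hind, T_add, map_mul,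
      Perm.mem_alternatingGroup.mp (hT h1).2, one_mul]
    exact Perm.mem_alternatingGroup.mp (T_pair_mem (ρ := ρ) K y y').2
  have hzSev : z ∈ Sev ρ K := ⟨hzSs, Perm.mem_alternatingGroup.mpr hzsign⟩
  have hz2 : z ^ 2 = 1 := by
    have e1 : (L s : Perm (Pt β ρ 2)) * T ind = T ind * L s := by
      rw [L_T, hinds]
    have e2 : (L s : Perm (Pt β ρ 2)) * L s = 1 := by
      rw [← map_mul, hs, Equiv.swap_mul_self, map_one]
    have e3 : (T ind : Perm (Pt β ρ 2)) * T ind = 1 := by
      rw [← T_add, zmod2_fun_add_self, T_zero]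
    calc z ^ 2 = T ind * (L s * T ind) * L s := by rw [pow_two, hz]; group
      _ = (T ind * T ind) * (L s * L s) := by rw [e1]; group
      _ = 1 := by rw [e2, e3, mul_one]
  -- the action of `z`
  have hz_inl : ∀ (w : β) (a : ZMod 2), z (Sum.inl (w, a)) ≠ Sum.inl (w, a) := by
    intro w a h
    rw [hz, Perm.mul_apply, L_inl, T_inl] at h
    simp only [Sum.inl.injEq, Prod.mk.injEq] at h
    obtain ⟨h3, h4⟩ := h
    have hw : w ≠ y := by
      rintro rfl
      rw [hs, Equiv.swap_apply_left] at h3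
      exact hyy' h3.symm
    have hw' : w ≠ y' := by
      rintro rfl
      rw [hs, Equiv.swap_apply_right] at h3
      exact hyy' h3
    rw [h3, hindw w hw hw'] at h4
    exact zmod2_add_one_ne a h4
  have hsupp : z.support = (T (fun _ => (1 : ZMod 2)) : Perm (Pt β ρ 2)).support := by
    ext x
    rw [Perm.mem_support, Perm.mem_support]
    rcases x with ⟨w, a⟩ | r
    · constructor
      · intro _
        rw [T_inl]
        intro h
        simp only [Sum.inl.injEq, Prod.mk.injEq, true_and] at h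
        exact zmod2_add_one_ne a h
      · intro _
        exact hz_inl w a
    · constructor
      · intro h
        exact absurd rfl h
      · intro h
        exact absurd rfl h
  obtain ⟨g, hg, f, hgf⟩ := exists_alt_conj_T hβ z hz2 hzsign
  have hcard : (T f : Perm (Pt β ρ 2)).support.card =
      (T (fun _ => (1 : ZMod 2)) : Perm (Pt β ρ 2)).support.card := by
    rw [← hgf, Perm.card_support_conj, hsupp]
  rw [support_T, support_T, Finset.card_map, Finset.card_map, Finset.card_product,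
    Finset.card_product] at hcard
  have hpos : 0 < (Finset.univ : Finset (ZMod 2)).card := by
    rw [Finset.card_univ, ZMod.card]
    norm_num
  have hcard' := Nat.eq_of_mul_eq_mul_right hpos hcard
  have hall : (Finset.univ.filter (fun y : β => (1 : ZMod 2) ≠ 0)) = Finset.univ := by
    apply Finset.filter_true_of_mem
    intro _ _
    decide
  rw [hall] at hcard'
  have hf : ∀ w, f w ≠ 0 := by
    intro w
    have := (Finset.card_filter_eq_iff (s := (Finset.univ : Finset β))
      (p := fun y => f y ≠ 0)).mp hcard' w (Finset.mem_univ w)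
    exact this
  have hf1 : f = fun _ => (1 : ZMod 2) := funext fun w => (zmod2_cases (f w)).resolve_left (hf w)
  rw [hf1] at hgf
  -- `z ∈ T'`
  have hgA : g ∈ alternatingGroup (Pt β ρ 2) := Perm.mem_alternatingGroup.mpr hg
  have hzT : z ∈ T' := by
    have e : g⁻¹ * (T (fun _ => (1 : ZMod 2)) : Perm (Pt β ρ 2)) * g⁻¹⁻¹ = z := by
      rw [← hgf]; group
    have := hcl _ h1 g⁻¹ (Subgroup.inv_mem _ hgA) (by rw [e]; exact hzSev)
    rw [e] at this
    exact this
  -- commutator with a pair translation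
  obtain ⟨y₃, h3, h3'⟩ : ∃ y₃ : β, y₃ ≠ y ∧ y₃ ≠ y' := by
    obtain ⟨a, b, c, hab, hac, hbc⟩ := Fintype.two_lt_card_iff.mp hβ
    by_cases ha : a ≠ y ∧ a ≠ y'
    · exact ⟨a, ha.1, ha.2⟩
    by_cases hb : b ≠ y ∧ b ≠ y'
    · exact ⟨b, hb.1, hb.2⟩
    refine ⟨c, ?_, ?_⟩
    · rintro rfl
      by_cases h1 : a = c
      · exact hac h1
      · by_cases h2 : b = c
        · exact hbc h2
        · have ha' : a = y' := by
            by_contra h3
            exact ha ⟨h1, h3⟩
          have hb' : b = y' := by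
            by_contra h3
            exact hb ⟨h2, h3⟩
          exact hab (ha'.trans hb'.symm)
    · rintro rfl
      by_cases h1 : a = c
      · exact hac h1
      · by_cases h2 : b = c
        · exact hbc h2
        · have ha' : a = y := by
            by_contra h3
            exact ha ⟨h3, h1⟩
          have hb' : b = y := by
            by_contra h3
            exact hb ⟨h3, h2⟩
          exact hab (ha'.trans hb'.symm)
  set c : β → ZMod 2 := Pi.single y 1 + Pi.single y₃ 1 with hc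
  have hcSev : (T c : Perm (Pt β ρ 2)) ∈ Sev ρ K := T_pair_mem K y y₃
  have h5 : (T (c ∘ s.symm - c) : Perm (Pt β ρ 2)) ∈ T' := by
    rw [T_sub, ← conj_T_of ind c s]
    have h3 := hN _ (T'.inv_mem hzT) _ hcSev
    have h4 := T'.mul_mem hzT h3
    have e : (T ind * L s : Perm (Pt β ρ 2)) * T c * (T ind * L s)⁻¹ * (T c)⁻¹ =
        T ind * L s * (T c * (T ind * L s)⁻¹ * (T c)⁻¹) := by group
    rw [e]
    exact h4
  have e6 : c ∘ s.symm - c = Pi.single y 1 + Pi.single y' 1 := by
    have e1 : c ∘ s.symm = (Pi.single y (1 : ZMod 2) : β → ZMod 2) ∘ s.symm +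
        (Pi.single y₃ (1 : ZMod 2) : β → ZMod 2) ∘ s.symm := rfl
    rw [e1, single_comp_symm, single_comp_symm, hs, Equiv.swap_apply_left,
      Equiv.swap_apply_of_ne_of_ne h3 h3', hc]
    funext w
    simp only [Pi.sub_apply, Pi.add_apply]
    have : ∀ a b c : ZMod 2, b + c - (a + c) = a + b := by decide
    exact this _ _ _
  rw [e6] at h5
  exact h5

/-- **(P3)** -/
theorem noStrClosed_two [Subsingleton ρ] (hβ : 3 ≤ Fintype.card β) (K : Subgroup (Perm β))
    (hK : K = Subgroup.closure {σ : Perm β | σ ∈ K ∧ σ ^ 2 = 1})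
    (hsw : ∃ y y' : β, y ≠ y' ∧ Equiv.swap y y' ∈ K) (T' : Subgroup (Perm (Pt β ρ 2)))
    (hT : T' ≤ Sev ρ K)
    (hcl : ∀ t ∈ T', ∀ g ∈ alternatingGroup (Pt β ρ 2),
      g * t * g⁻¹ ∈ Sev ρ K → g * t * g⁻¹ ∈ T') :
    T' = ⊥ ∨ T' = Sev ρ K := by
  by_cases hbot : T' = ⊥
  · exact Or.inl hbot
  right
  apply le_antisymm hT
  have hN : ∀ t ∈ T', ∀ s ∈ Sev ρ K, s * t * s⁻¹ ∈ T' := fun t ht s hs =>
    hcl t ht s hs.2 ((Sev ρ K).mul_mem ((Sev ρ K).mul_mem hs (hT ht)) ((Sev ρ K).inv_mem hs))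
  obtain ⟨f₁, hf₁, hTf₁⟩ := exists_T_mem hβ K T' hT hN hbot
  -- the translations in `T'`
  let P : AddSubgroup (β → ZMod 2) :=
    { carrier := {f | (T f : Perm (Pt β ρ 2)) ∈ T'}
      zero_mem' := by
        show (T 0 : Perm (Pt β ρ 2)) ∈ T'
        rw [T_zero]; exact T'.one_mem
      add_mem' := by
        intro a b ha hb
        show (T (a + b) : Perm (Pt β ρ 2)) ∈ T'
        rw [T_add]; exact T'.mul_mem ha hb
      neg_mem' := by
        intro a ha
        show (T (-a) : Perm (Pt β ρ 2)) ∈ T'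
        rw [T_neg]; exact T'.inv_mem ha }
  have hP : ∀ f, f ∈ P ↔ (T f : Perm (Pt β ρ 2)) ∈ T' := fun f => Iff.rfl
  have hPL : ∀ f ∈ P, ∀ τ : Perm β, f ∘ τ.symm ∈ P := by
    intro f hf τ
    rw [hP] at hf ⊢
    have hA : (L τ : Perm (Pt β ρ 2)) ∈ alternatingGroup (Pt β ρ 2) :=
      Perm.mem_alternatingGroup.mpr (sign_L_two τ)
    have h1 := hcl _ hf (L τ) hA
    rw [L_T_conj] at h1
    apply h1
    refine ⟨T_mem_Ss K _, ?_⟩
    rw [← L_T_conj]
    exact (alternatingGroup.normal (α := Pt β ρ 2)).conj_mem _ (hT hf).2 _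
  -- a pair translation in `T'`
  obtain ⟨y₀, y₁, h01, hpair⟩ : ∃ y₀ y₁ : β, y₀ ≠ y₁ ∧
      (Pi.single y₀ 1 + Pi.single y₁ 1 : β → ZMod 2) ∈ P := by
    by_cases hall : ∀ w, f₁ w ≠ 0
    · obtain ⟨y, y', hyy', hs⟩ := hsw
      have e : f₁ = fun _ => (1 : ZMod 2) :=
        funext fun w => (zmod2_cases (f₁ w)).resolve_left (hall w)
      rw [e] at hTf₁
      exact ⟨y, y', hyy', case_univ hβ K y y' hyy' hs T' hT hcl hTf₁⟩
    · push Not at hall
      obtain ⟨y₀, hy₀⟩ := hall
      obtain ⟨y₁, hy₁⟩ : ∃ y₁, f₁ y₁ ≠ 0 := by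
        by_contra h
        push Not at h
        exact hf₁ (funext h)
      have hy₁' : f₁ y₁ = 1 := (zmod2_cases (f₁ y₁)).resolve_left hy₁
      have h01 : y₀ ≠ y₁ := by
        rintro rfl
        exact hy₁ hy₀
      refine ⟨y₀, y₁, h01, ?_⟩
      have h1 : f₁ ∘ (Equiv.swap y₀ y₁).symm + f₁ ∈ P :=
        P.add_mem (hPL f₁ hTf₁ (Equiv.swap y₀ y₁)) hTf₁
      have e : f₁ ∘ (Equiv.swap y₀ y₁).symm + f₁ = Pi.single y₀ 1 + Pi.single y₁ 1 := by
        funext w
        simp only [Pi.add_apply, Function.comp_apply, Equiv.symm_swap]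
        by_cases hw : w = y₀
        · rw [hw, Equiv.swap_apply_left, hy₁', hy₀, Pi.single_eq_same, Pi.single_eq_of_ne h01]
        · by_cases hw' : w = y₁
          · rw [hw', Equiv.swap_apply_right, hy₁', hy₀, Pi.single_eq_same,
              Pi.single_eq_of_ne h01.symm]
          · rw [Equiv.swap_apply_of_ne_of_ne hw hw', Pi.single_eq_of_ne hw,
              Pi.single_eq_of_ne hw', add_zero]
            exact CharTwo.add_self_eq_zero _
      rw [e] at h1
      exact h1
  -- all even translations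
  have hEven : ∀ f : β → ZMod 2, (T f : Perm (Pt β ρ 2)) ∈ Sev ρ K →
      (T f : Perm (Pt β ρ 2)) ∈ T' := by
    intro f hf
    rcases all_even_of_pair y₀ y₁ h01 P hPL hpair f with h | h
    · exact h
    · exfalso
      rw [hP] at h
      have h1 := Perm.mem_alternatingGroup.mp (hT h).2
      rw [T_add, map_mul, Perm.mem_alternatingGroup.mp hf.2, one_mul] at h1
      have h2 : Perm.sign (T (Pi.single y₀ 1) : Perm (Pt β ρ 2)) = -1 := sign_tcyc_two y₀
      rw [h2] at h1
      exact absurd h1 (by decide)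
  -- involutions
  have hInv : ∀ x ∈ Sev ρ K, x ^ 2 = 1 → x ∈ T' := by
    intro x hx hx2
    obtain ⟨g, hg, f, hgf⟩ := exists_alt_conj_T hβ x hx2 (Perm.mem_alternatingGroup.mp hx.2)
    have hgA : g ∈ alternatingGroup (Pt β ρ 2) := Perm.mem_alternatingGroup.mpr hg
    have hTf : (T f : Perm (Pt β ρ 2)) ∈ Sev ρ K := by
      refine ⟨T_mem_Ss K f, ?_⟩
      rw [← hgf]
      exact (alternatingGroup.normal (α := Pt β ρ 2)).conj_mem _ hx.2 _
    have h1 := hEven f hTf
    have e : g⁻¹ * (T f : Perm (Pt β ρ 2)) * g⁻¹⁻¹ = x := by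
      rw [← hgf]; group
    have h2 := hcl _ h1 g⁻¹ (Subgroup.inv_mem _ hgA) (by rw [e]; exact hx)
    rw [e] at h2
    exact h2
  -- the complement
  have hKL : K ≤ T'.comap (L : Perm β →* Perm (Pt β ρ 2)) := by
    refine hK.le.trans ((Subgroup.closure_le _).mpr ?_)
    rintro σ ⟨hσK, hσ2⟩
    show (L σ : Perm (Pt β ρ 2)) ∈ T'
    apply hInv
    · exact ⟨L_mem_Ss hσK, Perm.mem_alternatingGroup.mpr (sign_L_two σ)⟩
    · rw [← map_pow, hσ2, map_one]
  rintro s ⟨hs1, hs2⟩
  obtain ⟨f, σ, hσ, rfl⟩ := mem_Ss.mp hs1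
  have hLσ : (L σ : Perm (Pt β ρ 2)) ∈ T' := hKL hσ
  refine T'.mul_mem (hEven f ⟨T_mem_Ss K f, ?_⟩) hLσ
  have h1 := Perm.mem_alternatingGroup.mp hs2
  rw [map_mul, sign_L_two, mul_one] at h1
  exact Perm.mem_alternatingGroup.mpr h1

end Cfsg.Agent.Helper60
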