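-- helper60: pieces (P9), (P10) of helper88's WANTED #4234 for S5165 (wreath model of helper88)
import Cfsg.Agent.Helper88.AltNorm2
import Cfsg.Agent.Helper88.AltCrit2

set_option autoImplicit false
set_option linter.unusedSectionVars false

namespace Cfsg.Agent.Helper60

open Equiv Cfsg.Agent.Helper42 Cfsg.Agent.Helper88 Cfsg.Agent.Helper88.AltM

variable {β ρ : Type*} [Fintype β] [DecidableEq β] [Fintype ρ] [DecidableEq ρ] {p : ℕ} [Fact p.Prime]

/-- (P9) the base group is self-centralizing -/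
theorem centralizer_Bs_le [Subsingleton ρ] (c : Perm (Pt β ρ p))
    (hc : c ∈ Subgroup.centralizer ((Bs β ρ p : Subgroup (Perm (Pt β ρ p))) : Set (Perm (Pt β ρ p)))) :
    c ∈ Bs β ρ p := by
  have hcomm : ∀ y : β, tcyc ρ p y * c = c * tcyc ρ p y := fun y =>
    Subgroup.mem_centralizer_iff.mp hc _ (T_mem_Bs _)
  obtain ⟨f, h, τ, rfl⟩ := decomp c (fun y => by
    rw [← hcomm y, mul_inv_cancel_right]
    exact T_mem_Bs _)
  -- evaluate the commutation relation at the point `(y, 0)`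
  have key : ∀ y : β, ((h (τ y) : (ZMod p)ˣ) : ZMod p) = (Pi.single y (1 : ZMod p) : β → ZMod p) (τ y) := by
    intro y
    have h1 := congrArg (fun k : Perm (Pt β ρ p) => k (Sum.inl (y, 0))) (hcomm y)
    simp only [Perm.mul_apply, tcyc, T_inl, L_inl, C_inl, Pi.single_eq_same, zero_add, mul_zero,
      Sum.inl.injEq, Prod.mk.injEq, true_and, mul_one] at h1
    -- h1 : f (τ y) + single y 1 (τ y) = h (τ y) + f (τ y)   (up to arrangement)
    have h2 : (Pi.single y (1 : ZMod p) : β → ZMod p) (τ y) = ((h (τ y) : (ZMod p)ˣ) : ZMod p) := by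
      linear_combination h1
    exact h2.symm
  have hτ : ∀ y, τ y = y := by
    intro y
    by_contra hne
    have h1 := key y
    rw [Pi.single_eq_of_ne hne] at h1
    exact (h (τ y)).ne_zero h1
  have hτ1 : τ = 1 := Equiv.ext hτ
  have hh : h = 1 := by
    funext y
    apply Units.ext
    have h1 := key y
    rw [hτ y, Pi.single_eq_same] at h1
    simpa using h1
  rw [hτ1, hh, map_one, map_one, mul_one, mul_one]
  exact T_mem_Bs f

/-- (P10) `C h * L τ` normalizes `C_p ≀ K` when `h` is constant on `K`-orbits and `τ` normalizes `K` -/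
theorem C_mul_L_mem_normalizer (K : Subgroup (Perm β)) (h : β → (ZMod p)ˣ)
    (hh : ∀ σ ∈ K, ∀ y, h (σ y) = h y) (τ : Perm β)
    (hτ : τ ∈ Subgroup.normalizer ((K : Subgroup (Perm β)) : Set (Perm β))) :
    (C h * L τ : Perm (Pt β ρ p)) ∈
      Subgroup.normalizer ((Ss ρ K : Subgroup (Perm (Pt β ρ p))) : Set (Perm (Pt β ρ p))) := by
  apply Subgroup.mem_normalizer_fintype
  intro s hs
  obtain ⟨f, σ, hσ, rfl⟩ := mem_Ss.mp hs
  have hσ' : τ * σ * τ⁻¹ ∈ K := (Subgroup.mem_normalizer_iff.mp hτ σ).mp hσ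
  -- conjugate the two factors separately
  have e1 : (C h * L τ : Perm (Pt β ρ p)) * T f * (C h * L τ)⁻¹ =
      T (fun y => (h y : ZMod p) * (f ∘ τ.symm) y) := by
    rw [mul_inv_rev, ← C_T_conj h (f ∘ τ.symm), ← L_T_conj τ f]
    group
  have e2 : (C h * L τ : Perm (Pt β ρ p)) * L σ * (C h * L τ)⁻¹ = L (τ * σ * τ⁻¹) := by
    have h1 : (L τ : Perm (Pt β ρ p)) * L σ * (L τ)⁻¹ = L (τ * σ * τ⁻¹) := by
      rw [map_mul, map_mul, map_inv]
    have h2 : (C h : Perm (Pt β ρ p)) * L (τ * σ * τ⁻¹) * (C h)⁻¹ = L (τ * σ * τ⁻¹) := by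
      have h3 : (L (τ * σ * τ⁻¹) : Perm (Pt β ρ p)) * C h = C h * L (τ * σ * τ⁻¹) := by
        rw [L_C]
        congr 2
        funext y
        show h ((τ * σ * τ⁻¹).symm y) = h y
        have := hh _ hσ' ((τ * σ * τ⁻¹).symm y)
        rw [Equiv.apply_symm_apply] at this
        exact this.symm
      rw [← h3, mul_inv_cancel_right]
    rw [mul_inv_rev, ← h2, ← h1]
    group
  have e : (C h * L τ : Perm (Pt β ρ p)) * (T f * L σ) * (C h * L τ)⁻¹ =
      T (fun y => (h y : ZMod p) * (f ∘ τ.symm) y) * L (τ * σ * τ⁻¹) := by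
    rw [← e1, ← e2]
    group
  rw [SetLike.mem_coe, e]
  exact mem_Ss.mpr ⟨_, _, hσ', rfl⟩

end Cfsg.Agent.Helper60
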