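import Mathlib
import Cfsg.Prelude.Def_OddOrderLocal
import Cfsg.Agent.S0027
import Cfsg.Agent.S0055
import Cfsg.Agent.S1350
import Cfsg.Agent.S1403
import Cfsg.Agent.S1404
import Cfsg.Agent.S1417
import Cfsg.Agent.S1418
import Cfsg.Agent.S1420
import Cfsg.Agent.S1425
import Cfsg.Agent.Helper29.BG11A
import Cfsg.Agent.Helper55.ShultSolv
import Cfsg.Agent.Helper63.BG13F
import Cfsg.Agent.Helper64.BG126
import Cfsg.Agent.Helper68.BG12A
import Cfsg.Agent.Helper71.BGHall
import Cfsg.Agent.Helper60.BGSigmaNe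
import Cfsg.Agent.Helper60.BGAsmB

/-!
# S1435 (B-G 15.9), piece (P2) = [D] of the plan #3815 / #3863 (helper60)

`compl_le_Mstar_of_tau2`: if `τ₂(H)` is nonempty then every complement `E` of `H_σ` in `H`
containing `K` lies in `M*`.

Setting (all as explicit hypotheses, in the notation of S1435): `H` maximal, `E` a complement of
`H_σ` in `H`, `K ≤ E` of prime order `q` acting fixed-point-freely on `H_σ`, `M*` maximal with
`q ∈ σ(M*)`, `K ≤ M*_σ`, `C_G(K) ≤ M*` and `M*` the only maximal subgroup over `C_G(K)`; `M` maximal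
such that `C_G(x) ≤ M` for all `x ∈ M_σ#` (from S1372: `F(M)` is TI and contains `M_σ`, see
`centralizer_le_of_TI`), and every maximal subgroup `L` with `κ(L) ≠ ∅` is conjugate to `M` or to
`M*` (S1369(2)).  S1378 (the σ-partition) and S1432 enter as hypotheses in statement shape
(`H1378`, `H1432`); S1350, S1403, S1404, S1417, S1418, S1420, S1425 are imported.

Proof (lead #3815 Step 8, with the TI argument of helper33 #3780 4(i) instead of Step 7).
`A ≤ E` elementary abelian of order `s²`, `s ∈ τ₂(H)`; `L` maximal with `s ∈ σ(L)`, `A ≤ L_σ`;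
`N_G(A) ≤ L` so `E ≤ L ≠ H`, `H_σ ∩ L = 1`.  If `q ∈ σ(L)` then `L = M*` (σ-partition, S1404).
Otherwise: `C_A(K) = 1` gives `A = [A,K] ≤ C(H_σ)` (Shult), against `C_{H_σ}(A) = 1`; so take
`y ∈ C_A(K)#`: S1432 for `(L, y, k)` forces `q ∈ κ(L)`, `L = M^g`, hence `C_G(x) ≤ L` for
`x ∈ L_σ#`.  If `[A,K] ≠ 1` it centralizes `H_σ` (Shult) so `H_σ ≤ L`, impossible.  If `[A,K] = 1`
then `A ≤ C_G(K) ≤ M*`, `s ∉ σ(M*)`, and S1432 for `(M*, k, a)` gives either `s ∈ κ(M*)` (but `A`
is not cyclic) or `M*` is the only maximal subgroup over `C_G(a) ≤ L`, i.e. `L = M*`.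
-/

set_option autoImplicit false
set_option linter.unusedSectionVars false
set_option linter.unusedVariables false
set_option linter.style.haveILetI false

namespace Cfsg.Agent.Helper60.BG159D

open Subgroup
open Cfsg Cfsg.Agent.Helper29.BG10 Cfsg.Agent.Helper29.BG11 Cfsg.Agent.Helper68.BG12

universe u

/-- S1378 (the σ-partition) in statement shape -/
def H1378 (G : Type u) [Group G] : Prop :=
  (∀ p : ℕ, p.Prime → p ∣ Nat.card G → ∃ M : Subgroup G, IsCoatom M ∧ p ∈ Cfsg.sigma M) ∧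
    ∀ M N : Subgroup G, IsCoatom M → IsCoatom N → (Cfsg.sigma M ∩ Cfsg.sigma N).Nonempty →
      ∃ g : G, N = M.map (MulAut.conj g).toMonoidHom

/-- S1432 in statement shape -/
def H1432 (G : Type u) [Group G] : Prop :=
  ∀ (M : Subgroup G) (_ : IsCoatom M) (x : G) (_ : x ∈ Cfsg.sigmaCore M) (_ : x ≠ 1) (x' : G)
    (_ : x' ∈ M ⊓ Subgroup.centralizer ({x} : Set G)) (_ : x' ≠ 1)
    (_ : ∀ p : ℕ, p.Prime → p ∣ orderOf x' → p ∉ Cfsg.sigma M),
    ((∀ p : ℕ, p.Prime → p ∣ orderOf x' → p ∈ Cfsg.kappa M) ∧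
        Subgroup.centralizer ({x} : Set G) ≤ M) ∨
      ((∀ p : ℕ, p.Prime → p ∣ orderOf x' → p ∈ Cfsg.tau2 M) ∧
        (∃ L : Subgroup G, IsCoatom L ∧ ∀ p : ℕ, p.Prime → p ∣ orderOf x' → p ∈ Cfsg.sigma L) ∧
        (Subgroup.centralizer ({x'} : Set G) ≤ M ∧
          ∀ L : Subgroup G, IsCoatom L → Subgroup.centralizer ({x'} : Set G) ≤ L → L = M))

variable {G : Type u} [Group G]

/-! ### small general lemmas -/

theorem mem_centralizer_singleton {x c : G} :
    c ∈ centralizer ({x} : Set G) ↔ x * c = c * x := by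
  rw [mem_centralizer_iff]
  constructor
  · intro h; exact h x (Set.mem_singleton x)
  · intro h z hz
    rw [Set.mem_singleton_iff] at hz
    subst hz
    exact h

/-- an elementary abelian group of order `s ^ 2` is not cyclic -/
theorem not_isCyclic_of_elementaryAbelian_sq [Finite G] {s : ℕ} (hs : s.Prime) {A : Subgroup G}
    (hAe : Cfsg.IsElementaryAbelian s A) (hAc : Nat.card A = s ^ 2) : ¬ IsCyclic A := by
  intro hc
  obtain ⟨a, ha⟩ := hc.exists_generator
  have h1 : orderOf a = Nat.card A := orderOf_eq_card_of_forall_mem_zpowers ha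
  have h2 : a ^ s = 1 := by
    apply Subtype.ext
    simpa using hAe.2 a a.2
  have h3 := orderOf_dvd_of_pow_eq_one h2
  rw [h1, hAc] at h3
  have h4 := Nat.le_of_dvd hs.pos h3
  nlinarith [hs.two_le]

/-- a subgroup of prime order is generated by any of its nonidentity elements -/
theorem le_zpowers_of_card_prime [Finite G] {q : ℕ} (hq : q.Prime) {K : Subgroup G}
    (hKq : Nat.card K = q) {k : G} (hk : k ∈ K) (hk1 : k ≠ 1) : K ≤ zpowers k := by
  have hle : zpowers k ≤ K := zpowers_le.mpr hk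
  have hd : Nat.card (zpowers k) ∣ q := hKq ▸ Subgroup.card_dvd_of_le hle
  have hne : Nat.card (zpowers k) ≠ 1 := by
    intro h
    rw [Nat.card_zpowers, orderOf_eq_one_iff] at h
    exact hk1 h
  have hc : Nat.card (zpowers k) = q := ((Nat.dvd_prime hq).mp hd).resolve_left hne
  have : zpowers k = K := Subgroup.eq_of_le_of_card_ge hle (by rw [hc, hKq])
  exact this.ge

/-- `C_G(k) = C_G(K)` for a generator `k` -/
theorem centralizer_singleton_le_of_le_zpowers {K : Subgroup G} {k : G} (hK : K ≤ zpowers k) :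
    centralizer ({k} : Set G) ≤ centralizer (K : Set G) := by
  intro c hc
  rw [mem_centralizer_singleton] at hc
  rw [mem_centralizer_iff]
  intro x hx
  obtain ⟨n, rfl⟩ := mem_zpowers_iff.mp (hK hx)
  exact ((Commute.zpow_left (show Commute k c from hc) n)).eq

/-- from S1372: if `F(M)` is a TI-subset containing `M_σ` then `C_G(x) ≤ M` for `x ∈ M_σ#` -/
theorem centralizer_le_of_TI [Finite G] (hG : Cfsg.IsMinSimpleOddOrder G) {M : Subgroup G}
    (hM : IsCoatom M) (hTI : Cfsg.IsTISubset (Cfsg.fittingOf M : Set G))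
    (hσF : Cfsg.sigmaCore M ≤ Cfsg.fittingOf M) :
    ∀ x ∈ Cfsg.sigmaCore M, x ≠ 1 → centralizer ({x} : Set G) ≤ M := by
  intro x hx hx1 c hc
  haveI : IsSimpleGroup G := hG.2.1
  have hF1 : Cfsg.fittingOf M ≠ ⊥ := by
    intro h
    rw [h] at hσF
    exact hx1 (mem_bot.mp (hσF hx))
  have hFM : Cfsg.fittingOf M ≤ M := Subgroup.map_subtype_le _
  have hMF : M ≤ normalizer ((Cfsg.fittingOf M : Subgroup G) : Set G) := by
    haveI : (Cfsg.fittingSubgroup ↥M).Characteristic :=
      Cfsg.Agent.Lib.fittingSubgroup_characteristic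
    exact (Subgroup.le_normalizer).trans
      (Cfsg.Agent.Helper71.ShultNil.normalizer_le_normalizer_map_of_characteristic M
        (Cfsg.fittingSubgroup ↥M))
  have hN := Cfsg.Agent.Helper64.BG126.normalizer_eq_of_coatom hM hF1 hFM hMF
  by_contra hcM
  have hcN : c ∉ normalizer ((Cfsg.fittingOf M : Subgroup G) : Set G) := by
    rw [hN]; exact hcM
  apply hx1
  apply hTI c hcN x (hσF hx)
  rw [mem_centralizer_singleton] at hc
  have : c * x * c⁻¹ = x := by rw [← hc]; group
  rw [this]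
  exact hσF hx

/-! ### the main theorem -/

/-- **S1435, piece (P2)**: if `τ₂(H)` is nonempty then a complement `E ≥ K` of `H_σ` in `H` lies
in `M*`. -/
theorem compl_le_Mstar_of_tau2 [Finite G] (hG : Cfsg.IsMinSimpleOddOrder G) (h78 : H1378 G)
    (h32 : H1432 G) {H : Subgroup G} (hH : IsCoatom H) {E : Subgroup G}
    (hE : Cfsg.IsComplIn E (Cfsg.sigmaCore H) H) {K : Subgroup G} (hKE : K ≤ E) {q : ℕ}
    (hq : q.Prime) (hKq : Nat.card K = q)
    (hfpf : Cfsg.sigmaCore H ⊓ centralizer (K : Set G) = ⊥)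
    {Mstar : Subgroup G} (hMstar : IsCoatom Mstar) (hqσ : q ∈ Cfsg.sigma Mstar)
    (hKσ : K ≤ Cfsg.sigmaCore Mstar) (hCK : centralizer (K : Set G) ≤ Mstar)
    (huniq : ∀ L : Subgroup G, IsCoatom L → centralizer (K : Set G) ≤ L → L = Mstar)
    {M : Subgroup G} (hM : IsCoatom M)
    (hTI : ∀ x ∈ Cfsg.sigmaCore M, x ≠ 1 → centralizer ({x} : Set G) ≤ M)
    (h69 : ∀ L : Subgroup G, IsCoatom L → (Cfsg.kappa L).Nonempty →
      ∃ g : G, L = M.map (MulAut.conj g).toMonoidHom ∨
        L = Mstar.map (MulAut.conj g).toMonoidHom)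
    {s : ℕ} (hs : s ∈ Cfsg.tau2 H) : E ≤ Mstar := by
  classical
  have hU : UniquenessThm G := fun K hK hK2 hK3 => Cfsg.Agent.S1403.result hG K hK hK2 hK3
  have hctx := eCtx_of hG hU hH hE
  obtain ⟨hsp, hsσ, hr2, hr1⟩ := hs
  haveI : Fact s.Prime := ⟨hsp⟩
  haveI : Fact q.Prime := ⟨hq⟩
  obtain ⟨A, hAE, hAe, hAc⟩ :=
    Cfsg.Agent.Helper71.BGHall.exists_elementaryAbelian_sq_le_compl hctx hsσ hr2 hr1
  have hAH : A ≤ H := hAE.trans hE.1
  have h18 := Cfsg.Agent.S1418.result hG H hH E hE s ⟨hsp, hsσ, hr2, hr1⟩ A ⟨hAE, hAe, hAc⟩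
  have h17 := Cfsg.Agent.S1417.result hG H hH s ⟨hsp, hsσ, hr2, hr1⟩ A ⟨hAH, hAe, hAc⟩
  have hEA : E ≤ normalizer (A : Set G) := h18.1.1
  have hNAH : ¬ normalizer (A : Set G) ≤ H := h18.2.1.2.2
  have hCA : Cfsg.sigmaCore H ⊓ centralizer (A : Set G) = ⊥ := h17.2.2.2.1
  have hA1 : A ≠ ⊥ := by
    intro h
    rw [h, Subgroup.card_bot] at hAc
    have := hsp.one_lt
    nlinarith
  have hAp : IsPGroup s A := IsPGroup.of_card hAc
  have hAnc : ¬ IsCyclic A := not_isCyclic_of_elementaryAbelian_sq hsp hAe hAc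
  have hprimeA : ∀ p : ℕ, p.Prime → p ∣ Nat.card A → p = s := by
    intro p hp hpd
    rw [hAc] at hpd
    exact (Nat.prime_dvd_prime_iff_eq hp hsp).mp (hp.dvd_of_dvd_pow hpd)
  -- the maximal subgroup `L`
  have hsG : s ∣ Nat.card G := by
    have h1 : s ∣ Nat.card A := by rw [hAc]; exact dvd_pow_self s two_ne_zero
    exact h1.trans (Subgroup.card_subgroup_dvd_card A)
  obtain ⟨L0, hL0, hsL0⟩ := h78.1 s hsp hsG
  obtain ⟨g, hg⟩ := Cfsg.Agent.S1425.result hG L0 hL0 A hA1
    (fun p hp hpd => by rw [hprimeA p hp hpd]; exact hsL0)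
  have hL : IsCoatom (cj g⁻¹ L0) := isCoatom_cj hL0 _
  have hsL : s ∈ Cfsg.sigma (cj g⁻¹ L0) := by rw [sigma_cj]; exact hsL0
  have hALσ : A ≤ Cfsg.sigmaCore (cj g⁻¹ L0) := by
    rw [sigmaCore_cj hG hU hL0]
    exact cj_le_iff.mp hg
  generalize cj g⁻¹ L0 = L at hL hsL hALσ
  have hAL : A ≤ L := hALσ.trans (Cfsg.Agent.Helper68.BG12.sigmaCore_le L)
  obtain ⟨E', hE'⟩ := Cfsg.Agent.Helper71.BGHall.exists_isComplIn_sigmaCore hG hU hL
  have h20L := Cfsg.Agent.S1420.result hG L hL E' hE'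
  have hNL : normalizer (A : Set G) ≤ L := h20L.2.2.1 s A hsL hAp hAL hAnc
  have hEL : E ≤ L := hEA.trans hNL
  have hKL : K ≤ L := hKE.trans hEL
  have hLH : L ≠ H := fun h => hNAH (h ▸ hNL)
  have hHσL : Cfsg.sigmaCore H ⊓ L = ⊥ := h17.2.2.2.2.1 L hL hLH hAL
  have hHσ1 : Cfsg.sigmaCore H ≠ ⊥ := Cfsg.Agent.Helper60.BGSigmaNe.sigmaCore_ne_bot hG H hH
  have hKM : K ≤ Mstar := hKσ.trans (Cfsg.Agent.Helper68.BG12.sigmaCore_le Mstar)
  have hK1 : K ≠ ⊥ := by
    intro h
    rw [h, Subgroup.card_bot] at hKq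
    exact hq.one_lt.ne hKq
  have hKp : IsPGroup q K := IsPGroup.of_card (n := 1) (by rw [hKq, pow_one])
  by_cases hqL : q ∈ Cfsg.sigma L
  · -- case (a): `L = M*`
    obtain ⟨g', hg'⟩ := h78.2 Mstar L hMstar hL ⟨q, hqσ, hqL⟩
    have hg'' : L = cj g' Mstar := hg'
    have h04 := (Cfsg.Agent.S1404.result hG Mstar hMstar q hqσ K hKp hK1 hKM).1 g'⁻¹ (by
      have : cj g'⁻¹ K ≤ Mstar := by
        rw [cj_le_iff, inv_inv, ← hg'']; exact hKL
      exact this)
    obtain ⟨m, hm, c, hc, hgmc⟩ := h04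
    have hg'M : g' ∈ Mstar := by
      have h1 : g'⁻¹ ∈ Mstar := by rw [hgmc]; exact Mstar.mul_mem hm (hCK hc)
      simpa using Mstar.inv_mem h1
    have hLM : L = Mstar := by rw [hg'']; exact cj_eq_self_of_mem hg'M
    exact hLM ▸ hEL
  · -- case (b): contradiction
    exfalso
    have hsq : s ≠ q := fun h => hqL (h ▸ hsL)
    have hKA : K ≤ normalizer (A : Set G) := hKE.trans hEA
    have hcopKA : (Nat.card K).Coprime (Nat.card A) := by
      rw [hKq, hAc]
      exact Nat.Coprime.pow_right 2 ((Nat.coprime_primes hq hsp).mpr hsq.symm)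
    haveI : IsMulCommutative A := hAe.1
    have h55 := Cfsg.Agent.S0055.result K A hKA hcopKA
    have hHsolv : ∀ X : Subgroup G, X ≤ H → Group.IsSolvable ↥X := by
      intro X hX
      exact hG.2.2.2 X (fun h => hH.1 (top_le_iff.mp (h ▸ hX)))
    have hHn : H ≤ normalizer ((Cfsg.sigmaCore H : Subgroup G) : Set G) :=
      Cfsg.Agent.Helper60.BGAsm.le_normalizer_sigmaCore H
    have hσH : Cfsg.sigmaCore H ≤ H := Cfsg.Agent.Helper68.BG12.sigmaCore_le H
    have hcopE : (Nat.card E).Coprime (Nat.card (Cfsg.sigmaCore H)) :=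
      Nat.coprime_of_dvd fun k hk hkE hkσ =>
        hctx.not_sigma_of_dvd k hk hkE (hctx.sigma_of_dvd k hk hkσ)
    -- Shult's theorem for `K`-invariant subgroups of `A`
    have shult : ∀ Y : Subgroup G, Y ≤ A → K ≤ normalizer (Y : Set G) → ⁅Y, K⁆ = Y →
        Y ≤ centralizer ((Cfsg.sigmaCore H : Subgroup G) : Set G) := by
      intro Y hYA hKY hYK
      have hYKE : Y ⊔ K ≤ E := sup_le (hYA.trans hAE) hKE
      apply Cfsg.Agent.Helper55.ShultSolv.le_centralizer_of_fpf_of_commutator_eq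
        (Cfsg.sigmaCore H) Y K (hHsolv _ hσH) hq hKq hKY ((hYA.trans hAH).trans hHn)
        ((hKE.trans hE.1).trans hHn) (hHsolv _ (hYKE.trans hE.1))
        (Odd.of_dvd_nat hG.1 (Subgroup.card_subgroup_dvd_card _))
        (Nat.Coprime.coprime_dvd_left (Subgroup.card_dvd_of_le hYKE) hcopE) ?_ hYK hfpf
      intro hd
      exact hsq (hprimeA q hq (hd.trans (Subgroup.card_dvd_of_le hYA))).symm
    by_cases hCAK : A ⊓ centralizer (K : Set G) = ⊥
    · -- `C_A(K) = 1`: `A = [A, K]` centralizes `H_σ`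
      have hAK : ⁅A, K⁆ = A := by
        have := h55.2
        rwa [hCAK, bot_sup_eq] at this
      have h1 := shult A le_rfl hKA hAK
      apply hHσ1
      rw [eq_bot_iff, ← hCA]
      exact le_inf le_rfl (Subgroup.le_centralizer_iff.mp h1)
    · obtain ⟨y, hy, hy1⟩ :=
        (A ⊓ centralizer (K : Set G)).bot_or_exists_ne_one.resolve_left hCAK
      obtain ⟨k, hk, hk1⟩ := K.bot_or_exists_ne_one.resolve_left hK1
      have hKz := le_zpowers_of_card_prime hq hKq hk hk1
      have hCk : centralizer ({k} : Set G) ≤ centralizer (K : Set G) :=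
        centralizer_singleton_le_of_le_zpowers hKz
      have hko : orderOf k = q := by
        have h1 : orderOf k ∣ q := hKq ▸ Subgroup.orderOf_dvd_natCard K hk
        rcases (Nat.dvd_prime hq).mp h1 with h | h
        · exact absurd (orderOf_eq_one_iff.mp h) hk1
        · exact h
      have hkσ : ∀ p : ℕ, p.Prime → p ∣ orderOf k → p ∉ Cfsg.sigma L := by
        intro p hp hpd
        rw [hko] at hpd
        rw [(Nat.prime_dvd_prime_iff_eq hp hq).mp hpd]; exact hqL
      have hyk : y * k = k * y := (mem_centralizer_iff.mp hy.2 k hk).symm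
      have hkC : k ∈ L ⊓ centralizer ({y} : Set G) :=
        ⟨hKL hk, mem_centralizer_singleton.mpr hyk⟩
      rcases h32 L hL y (hALσ hy.1) hy1 k hkC hk1 hkσ with ⟨hκ, -⟩ | ⟨-, -, -, hun⟩
      swap
      · have : Mstar = L := hun Mstar hMstar (hCk.trans hCK)
        exact hqL (this ▸ hqσ)
      have hqκ : q ∈ Cfsg.kappa L := hκ q hq (by rw [hko])
      obtain ⟨g', hg' | hg'⟩ := h69 L hL ⟨q, hqκ⟩
      swap
      · have hg'' : L = cj g' Mstar := hg'
        apply hqL; rw [hg'', sigma_cj]; exact hqσ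
      have hg'' : L = cj g' M := hg'
      -- `C_G(x) ≤ L` for `x ∈ L_σ#`
      have hTIL : ∀ x ∈ Cfsg.sigmaCore L, x ≠ 1 → centralizer ({x} : Set G) ≤ L := by
        intro x hx hx1 c hc
        rw [hg'', sigmaCore_cj hG hU hM, mem_cj] at hx
        rw [hg'', mem_cj]
        have hx1' : g'⁻¹ * x * g' ≠ 1 := by
          intro h
          apply hx1
          have : x = g' * (g'⁻¹ * x * g') * g'⁻¹ := by group
          rw [this, h]; group
        apply hTI _ hx hx1'
        rw [mem_centralizer_singleton] at hc ⊢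
        have e1 : g'⁻¹ * x * g' * (g'⁻¹ * c * g') = g'⁻¹ * (x * c) * g' := by group
        rw [e1, hc]; group
      by_cases hAKb : ⁅A, K⁆ = ⊥
      swap
      · -- `[A, K] ≠ 1` centralizes `H_σ`, so `H_σ ≤ L`
        have hXA : ⁅A, K⁆ ≤ A :=
          Cfsg.Agent.Helper63.BG13F.commutator_le_left_of_le_normalizer hKA
        have hKX : K ≤ normalizer ((⁅A, K⁆ : Subgroup G) : Set G) :=
          Cfsg.Agent.Helper63.BG13F.le_normalizer_commutator hKA le_normalizer
        have hXX : ⁅⁅A, K⁆, K⁆ = ⁅A, K⁆ :=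
          Cfsg.Agent.S0027.result K A hKA hcopKA (Or.inl (hHsolv K (hKE.trans hE.1)))
        have h1 := shult ⁅A, K⁆ hXA hKX hXX
        obtain ⟨x, hx, hx1⟩ := (⁅A, K⁆).bot_or_exists_ne_one.resolve_left hAKb
        have h2 : Cfsg.sigmaCore H ≤ L := by
          intro h hh
          apply hTIL x (hALσ (hXA hx)) hx1
          rw [mem_centralizer_singleton]
          exact (mem_centralizer_iff.mp (h1 hx) h hh).symm
        apply hHσ1
        rw [eq_bot_iff, ← hHσL]
        exact le_inf le_rfl h2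
      · -- `[A, K] = 1`: `A ≤ C_G(K) ≤ M*`
        have hAC : A ≤ centralizer (K : Set G) :=
          Subgroup.commutator_eq_bot_iff_le_centralizer.mp hAKb
        have hAM : A ≤ Mstar := hAC.trans hCK
        have hsM : s ∉ Cfsg.sigma Mstar := by
          intro h
          obtain ⟨g2, hg2⟩ := h78.2 Mstar L hMstar hL ⟨s, h, hsL⟩
          have hg2' : L = cj g2 Mstar := hg2
          apply hqL; rw [hg2', sigma_cj]; exact hqσ
        obtain ⟨a, ha, ha1⟩ := A.bot_or_exists_ne_one.resolve_left hA1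
        have hao1 : orderOf a ∣ s := orderOf_dvd_of_pow_eq_one (hAe.2 a ha)
        have hao : orderOf a = s := by
          rcases (Nat.dvd_prime hsp).mp hao1 with h | h
          · exact absurd (orderOf_eq_one_iff.mp h) ha1
          · exact h
        have hak : k * a = a * k := mem_centralizer_iff.mp (hAC ha) k hk
        have haC : a ∈ Mstar ⊓ centralizer ({k} : Set G) :=
          ⟨hAM ha, mem_centralizer_singleton.mpr hak⟩
        rcases h32 Mstar hMstar k (hKσ hk) hk1 a haC ha1 (fun p hp hpd => by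
          rw [hao] at hpd
          rw [(Nat.prime_dvd_prime_iff_eq hp hsp).mp hpd]; exact hsM) with
          ⟨hκ', -⟩ | ⟨-, -, -, hun'⟩
        · -- `s ∈ κ(M*)`: but `A ≤ M*` is not cyclic
          have hsκ : s ∈ Cfsg.kappa Mstar := hκ' s hsp (by rw [hao])
          have hAp' : IsPGroup s ↥(A.subgroupOf Mstar) :=
            hAp.of_equiv (Subgroup.subgroupOfEquivOfLe hAM).symm
          obtain ⟨P, hP⟩ := hAp'.exists_le_sylow
          haveI hPc : IsCyclic ↥(P : Subgroup ↥Mstar) := (hsκ.2.2.2 P).1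
          apply hAnc
          exact isCyclic_of_injective
            ((Subgroup.inclusion hP).comp (Subgroup.subgroupOfEquivOfLe hAM).symm.toMonoidHom)
            ((Subgroup.inclusion_injective hP).comp (MulEquiv.injective _))
        · have : L = Mstar := hun' L hL (hTIL a (hALσ ha) ha1)
          exact hqL (this ▸ hqσ)

end Cfsg.Agent.Helper60.BG159D
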