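import Mathlib
import Cfsg.Prelude.Def_Blocks
import Cfsg.Agent.Helper80.Pullback

/-! Piece (C4) of #4853 (helper95, S4465/S4469): an irreducible character trivial on a normal
subgroup `K` descends to an irreducible character of `G ⧸ K` (helper60).  This is a thin wrapper
around helper80's `IsIrrCharacter.exists_descend`. -/

set_option autoImplicit false

namespace Cfsg.Agent.Helper60.Blich

open Cfsg

universe u

theorem exists_irr_quotient {G : Type u} [Group G] [Finite G] (ψ : G → ℂ)
    (hψ : IsIrrCharacter G ψ) (K : Subgroup G) [K.Normal]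
    (hK : ∀ g : G, g ∈ K → ψ g = ψ 1) :
    ∃ φ : G ⧸ K → ℂ, IsIrrCharacter (G ⧸ K) φ ∧ ∀ g : G, φ (g : G ⧸ K) = ψ g := by
  obtain ⟨φ, hφ, h⟩ := Cfsg.Agent.Helper80.IsIrrCharacter.exists_descend hψ
    (QuotientGroup.mk' K) (QuotientGroup.mk'_surjective K)
    (fun g hg => hK g ((QuotientGroup.eq_one_iff g).mp hg))
  exact ⟨φ, hφ, fun g => (h g).symm⟩

end Cfsg.Agent.Helper60.Blich
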