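import Mathlib
import Cfsg.Prelude.Def_Blocks
import Cfsg.Agent.Helper76.CharCentral
import Cfsg.Agent.Helper78.Kernel

/-! Piece (C5) of #4853 (helper95, S4465/S4469): the centre of a group with a faithful
irreducible complex character is cyclic (helper60). -/

set_option autoImplicit false

namespace Cfsg.Agent.Helper60.Blich

open Cfsg Representation

universe u

/-- The underlying space of an irreducible representation is nontrivial. -/
theorem nontrivial_of_isIrreducible {G V : Type*} [Group G] [AddCommGroup V] [Module ℂ V]
    (ρ : Representation ℂ G V) [hρ : ρ.IsIrreducible] : Nontrivial V := by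
  by_contra h
  rw [not_nontrivial_iff_subsingleton] at h
  have : Nontrivial (Subrepresentation ρ) := hρ.toNontrivial
  obtain ⟨a, b, hab⟩ := this
  apply hab
  ext v
  have hv : v = 0 := Subsingleton.elim _ _
  subst hv
  exact ⟨fun _ => b.toSubmodule.zero_mem, fun _ => a.toSubmodule.zero_mem⟩

theorem smul_one_injective {V : Type*} [AddCommGroup V] [Module ℂ V] [Nontrivial V]
    {c d : ℂ} (h : c • (1 : Module.End ℂ V) = d • (1 : Module.End ℂ V)) : c = d := by
  obtain ⟨v, hv⟩ := exists_ne (0 : V)
  have h1 := congrArg (fun f : Module.End ℂ V => f v) h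
  simp only [LinearMap.smul_apply, Module.End.one_apply] at h1
  have h2 : (c - d) • v = 0 := by rw [sub_smul, h1, sub_self]
  rcases smul_eq_zero.mp h2 with h3 | h3
  · exact sub_eq_zero.mp h3
  · exact absurd h3 hv

theorem isCyclic_center_of_faithful_irr {G : Type u} [Group G] [Finite G] (ψ : G → ℂ)
    (hψ : IsIrrCharacter G ψ) (hfaith : ∀ g : G, ψ g = ψ 1 → g = 1) :
    IsCyclic (Subgroup.center G) := by
  obtain ⟨n, ρ, hρ, rfl⟩ := hψ
  have := hρ
  have : Nontrivial (Fin n → ℂ) := nontrivial_of_isIrreducible ρ
  have hex : ∀ z : Subgroup.center G, ∃ c : ℂ, ρ (z : G) = c • (1 : Module.End ℂ (Fin n → ℂ)) :=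
    fun z => Cfsg.Agent.Helper76.exists_scalar_of_mem_center ρ z z.2
  choose c hc using hex
  let f : Subgroup.center G →* ℂ :=
    { toFun := c
      map_one' := by
        apply smul_one_injective (V := Fin n → ℂ)
        rw [← hc 1, one_smul]
        simp
      map_mul' := by
        intro z w
        apply smul_one_injective (V := Fin n → ℂ)
        rw [← hc (z * w), Subgroup.coe_mul, map_mul, hc z, hc w]
        rw [smul_mul_smul_comm, mul_one] }
  have hf : Function.Injective f := by
    intro z w hzw
    have hzw' : c z = c w := hzw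
    have h1 : ρ (z : G) = ρ (w : G) := by rw [hc z, hc w, hzw']
    have h2 : ρ ((z : G) * (w : G)⁻¹) = 1 := by
      rw [map_mul, h1, ← map_mul, mul_inv_cancel, map_one]
    have h3 : ρ.character ((z : G) * (w : G)⁻¹) = ρ.character 1 := by
      unfold Representation.character
      rw [h2, map_one (ρ : G →* Module.End ℂ (Fin n → ℂ))]
    have h4 := hfaith _ h3
    apply Subtype.ext
    exact mul_inv_eq_one.mp h4
  exact isCyclic_of_injective_ringHom f hf

end Cfsg.Agent.Helper60.Blich
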