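-- helper60: hedge copy of piece (C3) `class_fam3` of helper77's farm for S3888 (Blackburn).
import Mathlib
import Cfsg.Agent.Helper77.Blk.Defs

set_option autoImplicit false

universe u

namespace Cfsg.Agent.Helper60.Blk

open Subgroup Cfsg.Agent.Helper77.Blk

section aux
variable {G : Type u} [Group G]

theorem C3_cj_mul (x a b : G) : x⁻¹ * (a * b) * x = (x⁻¹ * a * x) * (x⁻¹ * b * x) := by group

theorem C3_cj_pow (x a : G) (k : ℕ) : x⁻¹ * a ^ k * x = (x⁻¹ * a * x) ^ k := by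
  have := conj_pow (a := x⁻¹) (b := a) (i := k)
  rw [inv_inv] at this
  exact this.symm

theorem C3_iter (x a w : G) (h1 : x⁻¹ * a * x = a * w) (h2 : x⁻¹ * w * x = w) (k : ℕ) :
    (x ^ k)⁻¹ * a * x ^ k = a * w ^ k := by
  induction k with
  | zero => simp
  | succ k ih =>
    have : (x ^ (k + 1))⁻¹ * a * x ^ (k + 1) = x⁻¹ * ((x ^ k)⁻¹ * a * x ^ k) * x := by
      rw [pow_succ]; group
    rw [this, ih, C3_cj_mul, C3_cj_pow, h1, h2, pow_succ', mul_assoc]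

theorem C3_iter_fix (x w : G) (h2 : x⁻¹ * w * x = w) (k : ℕ) : (x ^ k)⁻¹ * w * x ^ k = w := by
  have := C3_iter x w 1 (by simpa using h2) (by simp) k
  simpa using this

theorem C3_pow_mem {p : ℕ} (hp : p.Prime) (g : G) (hg : g ^ p = 1) (i : ℕ) (hi : ¬ p ∣ i) :
    ∃ j : ℕ, (g ^ i) ^ j = g := by
  have hc : Nat.Coprime i p := ((Nat.Prime.coprime_iff_not_dvd hp).mpr hi).symm
  obtain ⟨j, -, hj⟩ := Nat.exists_mul_mod_eq_one_of_coprime hc hp.one_lt
  refine ⟨j, ?_⟩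
  rw [← pow_mul, pow_eq_pow_mod (i * j) hg, hj, pow_one]

/-- a subgroup containing a subgroup `K` of order `≥ p^(m+1)` and an element outside `K` is everything,
in a group of order `p^(m+2)`. -/
theorem C3_top [Finite G] {p : ℕ} (hp : p.Prime) (m : ℕ) (hG : Nat.card G = p ^ (m + 2))
    (K L : Subgroup G) (hKL : K ≤ L) (x : G) (hxL : x ∈ L) (hxK : x ∉ K)
    (hK : p ^ (m + 1) ≤ Nat.card K) : L = ⊤ := by
  have hKL' : K < L := lt_of_le_of_ne hKL (fun h => hxK (h ▸ hxL))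
  have hcl : Nat.card K < Nat.card L := by
    have := Set.ncard_lt_ncard (SetLike.coe_ssubset_coe.mpr hKL') (Set.toFinite _)
    rwa [← Nat.card_coe_set_eq, ← Nat.card_coe_set_eq] at this
  have hLd : Nat.card L ∣ p ^ (m + 2) := hG ▸ Subgroup.card_subgroup_dvd_card L
  obtain ⟨j, hj, hLj⟩ := (Nat.dvd_prime_pow hp).mp hLd
  have hj2 : m + 1 < j := by
    by_contra hcon
    have : j ≤ m + 1 := by omega
    have : p ^ j ≤ p ^ (m + 1) := Nat.pow_le_pow_right hp.pos this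
    omega
  have : j = m + 2 := by omega
  apply Subgroup.eq_top_of_card_eq
  rw [hLj, this, hG]

end aux

section main
variable {G : Type u} [Group G] [Finite G] {p : ℕ} [hp : Fact p.Prime]

theorem C3_cardK (n m : ℕ) (hG : Nat.card G = p ^ n) (z y : G) (hz : orderOf z = p ^ m)
    (hyz : y ∉ zpowers z) : p ^ (m + 1) ≤ Nat.card (closure ({z, y} : Set G)) := by
  have hzK : zpowers z ≤ closure ({z, y} : Set G) := by
    rw [zpowers_le]; exact subset_closure (by simp)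
  have hyK : y ∈ closure ({z, y} : Set G) := subset_closure (by simp)
  have hlt : zpowers z < closure ({z, y} : Set G) :=
    lt_of_le_of_ne hzK (fun h => hyz (h ▸ hyK))
  have hcl : Nat.card (zpowers z) < Nat.card (closure ({z, y} : Set G)) := by
    have := Set.ncard_lt_ncard (SetLike.coe_ssubset_coe.mpr hlt) (Set.toFinite _)
    rwa [← Nat.card_coe_set_eq, ← Nat.card_coe_set_eq] at this
  rw [Nat.card_zpowers, hz] at hcl
  have hKd : Nat.card (closure ({z, y} : Set G)) ∣ p ^ n := hG ▸ card_subgroup_dvd_card _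
  obtain ⟨j, hj, hKj⟩ := (Nat.dvd_prime_pow hp.out).mp hKd
  rw [hKj] at hcl ⊢
  have : m < j := (Nat.pow_lt_pow_iff_right hp.out.one_lt).mp hcl
  exact Nat.pow_le_pow_right hp.out.pos this

/-- the choice of the exponent `i` and of `s`. -/
theorem C3_choice (c : ℕ) (hc : ¬ p ∣ c) :
    ∃ i s : ℕ, ¬ p ∣ i ∧ (s = 1 ∨ ¬ IsSquare (s : ZMod p)) ∧ c * i ^ 2 ≡ s [MOD p] := by
  have hc0 : ((c : ℕ) : ZMod p) ≠ 0 := by
    rw [Ne, ZMod.natCast_eq_zero_iff]; exact hc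
  by_cases hsq : IsSquare ((c : ℕ) : ZMod p)
  · obtain ⟨r, hr⟩ := hsq
    have hr0 : r ≠ 0 := by
      rintro rfl
      simp at hr
      exact hc0 hr
    refine ⟨(r⁻¹).val, 1, ?_, Or.inl rfl, ?_⟩
    · rw [← ZMod.natCast_eq_zero_iff, ZMod.natCast_zmod_val]
      exact inv_ne_zero hr0
    · rw [← ZMod.natCast_eq_natCast_iff]
      push_cast
      rw [ZMod.natCast_zmod_val, hr]
      field_simp
  · exact ⟨1, c, hp.out.not_dvd_one, Or.inr hsq, by simp [Nat.ModEq]⟩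

/-- (C3) `p ∤ β` ⇒ `Fam3`. -/
theorem class_fam3 (hp2 : p ≠ 2) (n : ℕ) (hG : Nat.card G = p ^ n) (x z y : G) (m : ℕ) (hm : 2 ≤ m)
    (hn : n = m + 2) (hzy : z * y = y * z) (hz : orderOf z = p ^ m) (hy : y ^ p = 1)
    (hyz : y ∉ zpowers z) (hx : x ^ p = 1) (hxC : x ∉ closure ({z, y} : Set G))
    (hNT : ∀ (m α : ℕ), 1 ≤ m → α ^ p ≡ 1 [MOD p ^ m] → α ≡ 1 [MOD p ^ (m - 1)])
    (hREC : ∀ (x z y z0 : G) (α γ : ℕ), x⁻¹ * z * x = z ^ α * y → x⁻¹ * y * x = y * z0 ^ γ → x⁻¹ * z0 * x = z0 →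
      z * y = y * z → z * z0 = z0 * z → y * z0 = z0 * y → y ^ p = 1 → α % p = 1 → ∀ k : ℕ,
      (x ^ k)⁻¹ * z * x ^ k = z ^ (α ^ k) * y ^ k * z0 ^ (γ * k.choose 2))
    (α β γ : ℕ) (hzx : x⁻¹ * z * x = z ^ α * y ^ β) (hyx : x⁻¹ * y * x = y * (z ^ p ^ (m - 1)) ^ γ)
    (hα : α % p = 1) (hγ : ¬ p ∣ γ) (hz0 : x⁻¹ * z ^ p ^ (m - 1) * x = z ^ p ^ (m - 1))
    (hβ : ¬ p ∣ β) : Fam3 p n G := by
  have hpp := hp.out
  have hp3 : 3 ≤ p := by have := hpp.two_le; omega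
  subst hn
  -- `z0`
  obtain ⟨z0, hz0def⟩ : ∃ z0 : G, z0 = z ^ p ^ (m - 1) := ⟨_, rfl⟩
  rw [← hz0def] at hyx hz0
  have hz0p : z0 ^ p = 1 := by
    rw [hz0def, ← pow_mul, ← pow_succ, show m - 1 + 1 = m by omega, ← hz, pow_orderOf_eq_one]
  have czy : Commute z y := hzy
  have czz0 : Commute z z0 := by rw [hz0def]; exact (Commute.refl z).pow_right _
  have cyz0 : Commute y z0 := by rw [hz0def]; exact czy.symm.pow_right _
  -- `y' = y ^ β`
  obtain ⟨y', hy'def⟩ : ∃ y' : G, y' = y ^ β := ⟨_, rfl⟩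
  rw [← hy'def] at hzx
  have hy'p : y' ^ p = 1 := by rw [hy'def, ← pow_mul, mul_comm, pow_mul, hy, one_pow]
  have czy' : Commute z y' := by rw [hy'def]; exact czy.pow_right _
  have cy'z0 : Commute y' z0 := by rw [hy'def]; exact cyz0.pow_left _
  have hy'x : x⁻¹ * y' * x = y' * z0 ^ (γ * β) := by
    rw [hy'def, C3_cj_pow, hyx, (cyz0.pow_right γ).mul_pow, ← pow_mul]
  -- (REC) at `k = p`
  have h1 := hREC x z y' z0 α (γ * β) hzx hy'x hz0 czy'.eq czz0.eq cy'z0.eq hy'p hα p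
  have hch : p ∣ p.choose 2 := hpp.dvd_choose_self (by norm_num) (by omega)
  obtain ⟨t, ht⟩ := hch
  have hz0t : z0 ^ (γ * β * p.choose 2) = 1 := by
    rw [ht, show γ * β * (p * t) = p * (γ * β * t) by ring, pow_mul, hz0p, one_pow]
  rw [hx, inv_one, one_mul, mul_one, hy'p, mul_one, hz0t, mul_one] at h1
  have h2 : α ^ p ≡ 1 [MOD p ^ m] := by
    have h3 : z ^ (α ^ p) = z ^ 1 := by rw [pow_one]; exact h1.symm
    rw [pow_eq_pow_iff_modEq, hz] at h3
    exact h3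
  have h4 := hNT m α (by omega) h2
  have hα1 : 1 ≤ α := by
    rcases Nat.eq_zero_or_pos α with h0 | h0
    · subst h0; simp at hα
    · exact h0
  obtain ⟨δ, hδ⟩ : ∃ δ : ℕ, α = 1 + p ^ (m - 1) * δ := by
    have := (Nat.modEq_iff_dvd' hα1).mp h4.symm
    obtain ⟨δ, hδ⟩ := this
    exact ⟨δ, by omega⟩
  have hzα : z ^ α = z * z0 ^ δ := by
    rw [hδ, pow_add, pow_one, pow_mul, ← hz0def]
  -- `y'' = z0 ^ δ * y'`
  obtain ⟨y'', hy''def⟩ : ∃ y'' : G, y'' = z0 ^ δ * y' := ⟨_, rfl⟩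
  have hzx' : x⁻¹ * z * x = z * y'' := by rw [hzx, hzα, hy''def, mul_assoc]
  have czy'' : Commute z y'' := by rw [hy''def]; exact (czz0.pow_right δ).mul_right czy'
  have cy''z0 : Commute y'' z0 := by
    rw [hy''def]; exact ((Commute.refl z0).pow_left δ).mul_left cy'z0
  have hy''p : y'' ^ p = 1 := by
    rw [hy''def, (cy'z0.symm.pow_left δ).mul_pow, hy'p, mul_one, ← pow_mul, mul_comm, pow_mul, hz0p,
      one_pow]
  have hy''x : x⁻¹ * y'' * x = y'' * z0 ^ (γ * β) := by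
    rw [hy''def, C3_cj_mul, C3_cj_pow, hz0, hy'x, mul_assoc]
  have hc : ¬ p ∣ γ * β := by
    intro h
    rcases (Nat.Prime.dvd_mul hpp).mp h with h | h
    · exact hγ h
    · exact hβ h
  obtain ⟨i, s, hi, hs, his⟩ := C3_choice (p := p) (γ * β) hc
  -- conjugation by `x ^ i`
  have hXz := hREC x z y'' z0 1 (γ * β) (by rw [pow_one]; exact hzx') hy''x hz0 czy''.eq czz0.eq
    cy''z0.eq hy''p (Nat.mod_eq_of_lt (by omega)) i
  rw [one_pow, pow_one] at hXz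
  have hXy : (x ^ i)⁻¹ * y'' * x ^ i = y'' * (z0 ^ (γ * β)) ^ i :=
    C3_iter x y'' (z0 ^ (γ * β)) hy''x (by rw [C3_cj_pow, hz0]) i
  have hXz0 : (x ^ i)⁻¹ * z0 * x ^ i = z0 := C3_iter_fix x z0 hz0 i
  obtain ⟨Y, hYdef⟩ : ∃ Y : G, Y = y'' ^ i * z0 ^ (γ * β * i.choose 2) := ⟨_, rfl⟩
  have cYz : Commute Y z := by
    rw [hYdef]; exact (czy''.symm.pow_left i).mul_left (czz0.symm.pow_left _)
  have hz0s : z0 ^ (γ * β * i ^ 2) = z0 ^ s := by
    rw [pow_eq_pow_mod _ hz0p, pow_eq_pow_mod s hz0p]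
    congr 1
  have hZs : z ^ (s * p ^ (m + 2 - 3)) = z0 ^ s := by
    rw [show m + 2 - 3 = m - 1 by omega, mul_comm, pow_mul, ← hz0def]
  refine ⟨by omega, s, x ^ i, Y, z, hs, ?_, ?_, ?_, ?_, cYz.eq, ?_, ?_⟩
  · -- generation
    apply C3_top hpp m hG (closure ({z, y} : Set G)) _ ?_ x ?_ hxC (C3_cardK (m + 2) m hG z y hz hyz)
    · rw [closure_le]
      have hzL : z ∈ closure ({x ^ i, Y, z} : Set G) := subset_closure (by simp)
      have hYL : Y ∈ closure ({x ^ i, Y, z} : Set G) := subset_closure (by simp)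
      have hz0L : z0 ∈ closure ({x ^ i, Y, z} : Set G) := by
        rw [hz0def]; exact Subgroup.pow_mem _ hzL _
      have hy''iL : y'' ^ i ∈ closure ({x ^ i, Y, z} : Set G) := by
        have : y'' ^ i = Y * (z0 ^ (γ * β * i.choose 2))⁻¹ := by rw [hYdef]; group
        rw [this]
        exact Subgroup.mul_mem _ hYL (Subgroup.inv_mem _ (Subgroup.pow_mem _ hz0L _))
      have hy''L : y'' ∈ closure ({x ^ i, Y, z} : Set G) := by
        obtain ⟨j, hj⟩ := C3_pow_mem hpp y'' hy''p i hi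
        rw [← hj]; exact Subgroup.pow_mem _ hy''iL _
      have hy'L : y' ∈ closure ({x ^ i, Y, z} : Set G) := by
        have : y' = (z0 ^ δ)⁻¹ * y'' := by rw [hy''def]; group
        rw [this]
        exact Subgroup.mul_mem _ (Subgroup.inv_mem _ (Subgroup.pow_mem _ hz0L _)) hy''L
      have hyL : y ∈ closure ({x ^ i, Y, z} : Set G) := by
        obtain ⟨j, hj⟩ := C3_pow_mem hpp y hy β hβ
        rw [← hj, ← hy'def]; exact Subgroup.pow_mem _ hy'L _
      rintro w (rfl | rfl)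
      · exact hzL
      · exact hyL
    · obtain ⟨j, hj⟩ := C3_pow_mem hpp x hx i hi
      have h := Subgroup.pow_mem _
        (subset_closure (by simp) : x ^ i ∈ closure ({x ^ i, Y, z} : Set G)) j
      rwa [hj] at h
  · rw [← pow_mul, mul_comm, pow_mul, hx, one_pow]
  · rw [hYdef, ((cy''z0.pow_left i).pow_right _).mul_pow, ← pow_mul, mul_comm i p, pow_mul, hy''p,
      one_pow, one_mul, ← pow_mul, mul_comm _ p, pow_mul, hz0p, one_pow]
  · rw [show m + 2 - 2 = m by omega, ← hz, pow_orderOf_eq_one]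
  · -- `X⁻¹ Y X = Y * Z ^ (s * p ^ (n - 3))`
    rw [hZs, ← hz0s, hYdef, C3_cj_mul, C3_cj_pow, C3_cj_pow, hXy, hXz0,
      (cy''z0.pow_right _ |>.pow_right i).mul_pow, ← pow_mul, ← pow_mul]
    rw [mul_assoc (y'' ^ i), ← pow_add, mul_assoc (y'' ^ i), ← pow_add]
    congr 2
    ring
  · -- `X⁻¹ Z X = Y * Z`
    rw [hXz, cYz.eq, hYdef, mul_assoc]

end main

end Cfsg.Agent.Helper60.Blk
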