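-- helper60: piece (P3) of helper35's WANTED #4524 for S3033: a minimal non-solvable group does not satisfy the
-- conjugate-pair order condition (Frobenius normal p-complement criterion at the smallest prime).
import Mathlib
import Cfsg.Prelude.Def_SolvableStructure
import Cfsg.Agent.Helper35.CPDef
import Cfsg.Agent.S0071
import Cfsg.Agent.Helper80.CEW34
import Cfsg.Agent.Helper60.CPP5

set_option autoImplicit false

namespace Cfsg.Agent.Helper60.CP

open Cfsg.Agent.Helper35.CP

theorem conj_pow_iter {G : Type*} [Group G] (g c : G) (m : ℕ) (hm : g * c * g⁻¹ = c ^ m) (j : ℕ) :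
    g ^ j * c * (g ^ j)⁻¹ = c ^ (m ^ j) := by
  induction j with
  | zero => simp
  | succ j ih =>
    have e : g ^ (j + 1) * c * (g ^ (j + 1))⁻¹ = g * (g ^ j * c * (g ^ j)⁻¹) * g⁻¹ := by
      rw [pow_succ']
      group
    rw [e, ih, ← conj_pow, hm, ← pow_mul, pow_succ']

/-- the prime-power case: a `q`-element normalizing a `p`-group `Q`, `p < q`, centralizes it -/
theorem commute_of_primePow {G : Type*} [Group G] [Finite G] (h : ConjPair G) {p q : ℕ} (hp : p.Prime)
    (hq : q.Prime) (hpq : p < q) (Q : Subgroup G) (hQ : IsPGroup p Q) (g : G)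
    (hgN : g ∈ Subgroup.normalizer (Q : Set G)) (b : ℕ) (hg : orderOf g = q ^ b) (u : G) (hu : u ∈ Q) :
    u * g = g * u := by
  have : Fact p.Prime := ⟨hp⟩
  have hup : ∃ a : ℕ, orderOf u = p ^ a := by
    obtain ⟨k, hk⟩ := hQ ⟨u, hu⟩
    have h1 : u ^ p ^ k = 1 := by simpa using congrArg Subtype.val hk
    obtain ⟨a, -, ha⟩ := (Nat.dvd_prime_pow hp).mp (orderOf_dvd_of_pow_eq_one h1)
    exact ⟨a, ha⟩
  set H : Subgroup G := Subgroup.zpowers g ⊔ Subgroup.zpowers (u * g * u⁻¹) with hH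
  have hcardH : ¬ p ^ 2 ∣ Nat.card H := h q p hq hp hpq.ne' g u ⟨b, hg⟩ hup
  have hW := card_inf_dvd_prime hp Q H hQ hcardH
  have hgH : g ∈ H := Subgroup.mem_sup_left (Subgroup.mem_zpowers g)
  have hugH : u * g * u⁻¹ ∈ H := Subgroup.mem_sup_right (Subgroup.mem_zpowers _)
  set c : G := u * g * u⁻¹ * g⁻¹ with hc
  have hcH : c ∈ H := H.mul_mem hugH (H.inv_mem hgH)
  have hcQ : c ∈ Q := by
    have h1 : g * u⁻¹ * g⁻¹ ∈ Q := (Subgroup.mem_normalizer_iff.mp hgN u⁻¹).mp (Q.inv_mem hu)
    have e : c = u * (g * u⁻¹ * g⁻¹) := by rw [hc]; group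
    rw [e]
    exact Q.mul_mem hu h1
  have hgcW : g * c * g⁻¹ ∈ Q ⊓ H :=
    ⟨(Subgroup.mem_normalizer_iff.mp hgN c).mp hcQ, H.mul_mem (H.mul_mem hgH hcH) (H.inv_mem hgH)⟩
  by_contra hne
  have hc1 : c ≠ 1 := by
    intro e
    apply hne
    have e1 : u * g = c * (g * u) := by rw [hc]; group
    rw [e1, e, one_mul]
  obtain ⟨m, hm⟩ := exists_pow_of_card_dvd_prime hp _ hW c ⟨hcQ, hcH⟩ hc1 _ hgcW
  have hcp : orderOf c = p := by
    apply orderOf_eq_prime _ hc1
    have h1 : (⟨c, (⟨hcQ, hcH⟩ : c ∈ Q ⊓ H)⟩ : (Q ⊓ H : Subgroup G)) ^ Nat.card (Q ⊓ H : Subgroup G) = 1 :=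
      pow_card_eq_one'
    have h2 : c ^ Nat.card (Q ⊓ H : Subgroup G) = 1 := by simpa using congrArg Subtype.val h1
    obtain ⟨d, hd⟩ := hW
    rw [hd, pow_mul, h2, one_pow]
  have hiter := conj_pow_iter g c m hm (q ^ b)
  rw [← hg, pow_orderOf_eq_one, one_mul, inv_one, mul_one] at hiter
  have hmod : m ^ orderOf g ≡ 1 [MOD p] := by
    have h1 : c ^ (m ^ orderOf g) = c ^ 1 := by rw [pow_one]; exact hiter.symm
    rw [pow_eq_pow_iff_modEq, hcp] at h1
    exact h1
  rw [hg] at hmod
  have hz : ((m : ZMod p)) ^ (q ^ b) = 1 := by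
    have h1 := (ZMod.natCast_eq_natCast_iff _ _ _).mpr hmod
    simpa using h1
  have hm0 : (m : ZMod p) ≠ 0 := by
    intro e
    rw [e, zero_pow (pow_pos hq.pos b).ne'] at hz
    exact zero_ne_one hz
  have hfermat := ZMod.pow_card_sub_one_eq_one hm0
  have ho1 : orderOf (m : ZMod p) ∣ q ^ b := orderOf_dvd_of_pow_eq_one hz
  have ho2 : orderOf (m : ZMod p) ∣ p - 1 := orderOf_dvd_of_pow_eq_one hfermat
  have hcop : Nat.Coprime (q ^ b) (p - 1) := by
    apply Nat.Coprime.pow_left
    rw [Nat.Prime.coprime_iff_not_dvd hq]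
    apply Nat.not_dvd_of_pos_of_lt
    · have := hp.two_le
      omega
    · omega
  have ho : orderOf (m : ZMod p) = 1 := by
    have h1 := Nat.dvd_gcd ho1 ho2
    rw [hcop] at h1
    exact Nat.dvd_one.mp h1
  have hm1 : (m : ZMod p) = 1 := orderOf_eq_one_iff.mp ho
  have hm1' : m ≡ 1 [MOD p] := by
    have h1 : ((m : ℕ) : ZMod p) = ((1 : ℕ) : ZMod p) := by simpa using hm1
    exact (ZMod.natCast_eq_natCast_iff _ _ _).mp h1
  have hgc : g * c * g⁻¹ = c := by
    rw [hm]
    have h1 : c ^ m = c ^ 1 := by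
      rw [pow_eq_pow_iff_modEq, hcp]
      exact hm1'
    rw [h1, pow_one]
  have hcomm : Commute c g := by
    have h1 : g * c = c * g := by
      calc g * c = (g * c * g⁻¹) * g := by group
        _ = c * g := by rw [hgc]
    exact h1.symm
  have hord : orderOf (c * g) = orderOf c * orderOf g := by
    apply hcomm.orderOf_mul_eq_mul_orderOf_of_coprime
    rw [hcp, hg]
    exact Nat.Coprime.pow_right b ((Nat.coprime_primes hp hq).mpr hpq.ne)
  have hcg : c * g = u * g * u⁻¹ := by rw [hc]; group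
  have hord' : orderOf (u * g * u⁻¹) = orderOf g := by
    have h1 := MulEquiv.orderOf_eq (MulAut.conj u) g
    simpa [MulAut.conj_apply] using h1
  rw [hcg, hord', hcp] at hord
  have hpos : 0 < orderOf g := orderOf_pos g
  have h1 : 1 * orderOf g = p * orderOf g := by rw [one_mul]; exact hord
  have h2 : 1 = p := Nat.eq_of_mul_eq_mul_right hpos h1
  exact hp.one_lt.ne h2

/-- **(P3)** -/
theorem conjPair_solvable_step {G : Type*} [Group G] [Finite G] (h : ConjPair G)
    (hsub : ∀ H : Subgroup G, H ≠ ⊤ → Group.IsSolvable H) : Group.IsSolvable G := by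
  by_cases hcard : Nat.card G = 1
  · have : Subsingleton G := (Nat.card_eq_one_iff_unique.mp hcard).1
    infer_instance
  set p := (Nat.card G).minFac with hp_def
  have hp : p.Prime := Nat.minFac_prime hcard
  have : Fact p.Prime := ⟨hp⟩
  have hpdvd : p ∣ Nat.card G := Nat.minFac_dvd _
  let P : Sylow p G := default
  have hfrob : ∃ N : Subgroup G, N.Normal ∧ N.IsComplement' (P : Subgroup G) := by
    apply (Cfsg.Agent.S0071.result P).mpr
    intro Q hQP g hgN hgcop
    have hQp : IsPGroup p Q := P.isPGroup'.to_le hQP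
    have hg' : (orderOf (⟨g, hgN⟩ : Subgroup.normalizer (Q : Set G))).Coprime p := by
      rw [← Subgroup.orderOf_coe]
      exact hgcop
    have hmem := Cfsg.Agent.Helper80.mem_closure_primePow p
      (⟨g, hgN⟩ : Subgroup.normalizer (Q : Set G)) hg'
    have hle : Subgroup.closure {y : Subgroup.normalizer (Q : Set G) |
        ∃ q k : ℕ, q.Prime ∧ q ≠ p ∧ orderOf y = q ^ k} ≤
        (Subgroup.centralizer (Q : Set G)).subgroupOf (Subgroup.normalizer (Q : Set G)) := by
      rw [Subgroup.closure_le]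
      rintro ⟨y, hyN⟩ ⟨q, k, hq, hqp, hyo⟩
      rw [SetLike.mem_coe, Subgroup.mem_subgroupOf]
      show y ∈ Subgroup.centralizer (Q : Set G)
      rw [Subgroup.mem_centralizer_iff]
      intro u hu
      have hyo' : orderOf y = q ^ k := by
        rw [← hyo]
        exact Subgroup.orderOf_coe (⟨y, hyN⟩ : Subgroup.normalizer (Q : Set G))
      by_cases hk : k = 0
      · rw [hk, pow_zero, orderOf_eq_one_iff] at hyo'
        rw [hyo', mul_one, one_mul]
      · have hqdvd : q ∣ Nat.card G := by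
          have h1 : q ∣ orderOf y := by rw [hyo']; exact dvd_pow_self q hk
          exact h1.trans (orderOf_dvd_natCard y)
        have hpq : p < q := lt_of_le_of_ne (Nat.minFac_le_of_dvd hq.two_le hqdvd) (Ne.symm hqp)
        exact commute_of_primePow h hp hq hpq Q hQp y hyN k hyo' u hu
    exact Subgroup.mem_subgroupOf.mp (hle hmem)
  obtain ⟨K, hKn, hKc⟩ := hfrob
  have hKtop : K ≠ ⊤ := by
    intro e
    have h1 := hKc.card_mul_card
    rw [e, Subgroup.card_top] at h1
    have hG0 : 0 < Nat.card G := Nat.card_pos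
    have h2 : Nat.card (P : Subgroup G) = 1 := by
      have h3 : Nat.card G * Nat.card (P : Subgroup G) = Nat.card G * 1 := by rw [h1, mul_one]
      exact Nat.eq_of_mul_eq_mul_left hG0 h3
    exact P.ne_bot_of_dvd_card hpdvd (Subgroup.card_eq_one.mp h2)
  have hKs : Group.IsSolvable K := hsub K hKtop
  have hq : IsPGroup p (G ⧸ K) := by
    obtain ⟨n, hn⟩ := P.isPGroup'.exists_card_eq
    apply IsPGroup.of_card (n := n)
    rw [← Subgroup.index_eq_card, hKc.symm.index_eq_card, hn]
  have hqs : Group.IsSolvable (G ⧸ K) := by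
    have := hq.isNilpotent
    exact IsNilpotent.to_isSolvable
  exact Group.isSolvable_of_ker_le_range K.subtype (QuotientGroup.mk' K)
    (by rw [QuotientGroup.ker_mk', Subgroup.range_subtype])

end Cfsg.Agent.Helper60.CP
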