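import Cfsg.Agent.Helper60.TraceOp
import Cfsg.Agent.Lib.Nilpotent
import Cfsg.Agent.S0126

set_option autoImplicit false
set_option linter.unusedSectionVars false

namespace Cfsg.Agent.Helper60.ConstStab

open MulAction

section Aux

variable {P : Type*} [Group P] [Finite P] {p : ℕ} [Fact p.Prime]

theorem orderOf_eq_of_pow {c : P} (hc1 : c ≠ 1) (hcp : c ^ p = 1) : orderOf c = p :=
  orderOf_eq_prime hcp hc1

theorem mem_zpowers_symm {c d : P} (hcp : c ^ p = 1) (hd1 : d ≠ 1) (hd : d ∈ Subgroup.zpowers c) :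
    c ∈ Subgroup.zpowers d := by
  have hle : Subgroup.zpowers d ≤ Subgroup.zpowers c := Subgroup.zpowers_le.2 hd
  have hdp : d ^ p = 1 := by
    obtain ⟨k, rfl⟩ := hd
    rw [← zpow_natCast, ← zpow_mul, mul_comm, zpow_mul, zpow_natCast, hcp, one_zpow]
  have h1 : Nat.card (Subgroup.zpowers d) = p := by
    rw [Nat.card_zpowers, orderOf_eq_of_pow hd1 hdp]
  have h2 : Nat.card (Subgroup.zpowers c) ≤ p := by
    rw [Nat.card_zpowers]
    exact Nat.le_of_dvd (Fact.out : p.Prime).pos (orderOf_dvd_of_pow_eq_one hcp)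
  have := Subgroup.eq_of_le_of_card_ge hle (by rw [h1]; exact h2)
  rw [this]
  exact Subgroup.mem_zpowers c

theorem mem_of_sq_mem (hp2 : p ≠ 2) (hP : IsPGroup p P) (S : Subgroup P) {x : P}
    (hx : x ^ 2 ∈ S) : x ∈ S := by
  obtain ⟨k, hk⟩ := hP x
  have hodd : Odd (orderOf x) := by
    have h1 : orderOf x ∣ p ^ k := orderOf_dvd_of_pow_eq_one hk
    obtain ⟨m, _, hm⟩ := (Nat.dvd_prime_pow Fact.out).1 h1
    rw [hm]
    exact Odd.pow ((Fact.out : p.Prime).odd_of_ne_two hp2)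
  obtain ⟨m, hm⟩ := hodd
  have h2 : (x ^ 2) ^ (m + 1) = x := by
    rw [← pow_mul]
    have : 2 * (m + 1) = orderOf x + 1 := by omega
    rw [this, pow_succ, pow_orderOf_eq_one, one_mul]
  rw [← h2]
  exact S.pow_mem hx _

end Aux

section Main

variable {P E : Type*} [Group P] [Finite P] [AddCommGroup E] [Finite E] [DistribMulAction P E]
  [FaithfulSMul P E] {p q : ℕ} [Fact p.Prime]

theorem p_smul_inj (hpq : p ≠ q) (hq : q.Prime) (hE : ∀ e : E, q • e = 0) {e : E}
    (h : p • e = 0) : e = 0 := by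
  have h1 : addOrderOf e ∣ p := addOrderOf_dvd_of_nsmul_eq_zero h
  have h2 : addOrderOf e ∣ q := addOrderOf_dvd_of_nsmul_eq_zero (hE e)
  have h3 : addOrderOf e ∣ Nat.gcd p q := Nat.dvd_gcd h1 h2
  have h4 : Nat.gcd p q = 1 := (Nat.coprime_primes Fact.out hq).2 hpq
  rw [h4, Nat.dvd_one] at h3
  exact AddMonoid.addOrderOf_eq_one_iff.1 h3

theorem p_smul_surj (hpq : p ≠ q) (hq : q.Prime) (hE : ∀ e : E, q • e = 0) (e : E) :
    ∃ e' : E, p • e' = e := by
  have hinj : Function.Injective (nsmulAddMonoidHom (α := E) p) := by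
    rw [injective_iff_map_eq_zero]
    intro a ha
    exact p_smul_inj hpq hq hE ha
  exact (Finite.injective_iff_surjective.1 hinj) e

theorem eq_one_of_forall_smul {z : P} (h : ∀ e : E, z • e = e) : z = 1 :=
  FaithfulSMul.eq_of_smul_eq_smul (α := E) (fun e => by rw [h e, one_smul])

theorem stab_eq_of_le
    (hconst : ∀ a b : E, a ≠ 0 → b ≠ 0 →
      Nat.card (stabilizer P a) = Nat.card (stabilizer P b))
    {a b : E} (ha : a ≠ 0) (hb : b ≠ 0) (h : stabilizer P a ≤ stabilizer P b) :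
    stabilizer P a = stabilizer P b :=
  Subgroup.eq_of_le_of_card_ge h (hconst a b ha hb).ge

theorem central_fpf (hpq : p ≠ q) (hq : q.Prime) (hE : ∀ e : E, q • e = 0)
    (hconst : ∀ a b : E, a ≠ 0 → b ≠ 0 →
      Nat.card (stabilizer P a) = Nat.card (stabilizer P b))
    {z : P} (hzc : z ∈ Subgroup.center P) (hz1 : z ≠ 1) (hzp : z ^ p = 1) :
    ∀ e : E, z • e = e → e = 0 := by
  intro w hw
  by_contra hw0
  have hcomm : ∀ x : P, Commute z x := fun x => (Subgroup.mem_center_iff.1 hzc x).symm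
  -- W ∩ U = 0
  have hWU : ∀ e : E, z • e = e → tr p z e = 0 → e = 0 := by
    intro e h1 h2
    rw [tr_of_fixed p h1] at h2
    exact p_smul_inj hpq hq hE h2
  -- a nonzero vector in U
  obtain ⟨u, hu0, hu⟩ : ∃ u : E, u ≠ 0 ∧ tr p z u = 0 := by
    by_contra hcon
    push Not at hcon
    apply hz1
    apply eq_one_of_forall_smul (E := E)
    intro e
    obtain ⟨e', rfl⟩ := p_smul_surj hpq hq hE e
    have h1 : tr p z (p • e' - tr p z e') = 0 := by
      rw [tr_sub, tr_nsmul, tr_of_fixed p (smul_tr_self p hzp e'), sub_self]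
    have h2 : p • e' - tr p z e' = 0 := by
      by_contra h3
      exact hcon _ h3 h1
    rw [sub_eq_zero] at h2
    rw [h2]
    exact smul_tr_self p hzp e'
  have hsum : w + u ≠ 0 := by
    intro h
    have h1 : u = -w := (neg_eq_of_add_eq_zero_right h).symm
    apply hu0
    apply hWU u _ hu
    rw [h1, smul_neg, hw]
  have hstab : ∀ x ∈ stabilizer P (w + u), x • w = w ∧ x • u = u := by
    intro x hx
    rw [mem_stabilizer_iff, smul_add] at hx
    have hd : x • w - w = u - x • u := by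
      rw [sub_eq_sub_iff_add_eq_add, hx, add_comm]
    have h1 : z • (x • w - w) = x • w - w := by
      rw [smul_sub, hw, smul_smul, (hcomm x).eq, mul_smul, hw]
    have h2 : tr p z (x • w - w) = 0 := by
      rw [hd, tr_sub, hu, ← smul_tr_comm p (hcomm x), hu, smul_zero, sub_zero]
    have h3 := hWU _ h1 h2
    refine ⟨sub_eq_zero.1 h3, ?_⟩
    rw [h3] at hd
    exact (sub_eq_zero.1 hd.symm).symm
  have hle1 : stabilizer P (w + u) ≤ stabilizer P w := fun x hx => (hstab x hx).1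
  have hle2 : stabilizer P (w + u) ≤ stabilizer P u := fun x hx => (hstab x hx).2
  have heq := stab_eq_of_le hconst hsum hw0 hle1
  have hz : z ∈ stabilizer P u := hle2 (heq ▸ (mem_stabilizer_iff.2 hw))
  exact hu0 (hWU u (mem_stabilizer_iff.1 hz) hu)


theorem central_fpf' (hP : IsPGroup p P) (hpq : p ≠ q) (hq : q.Prime) (hE : ∀ e : E, q • e = 0)
    (hconst : ∀ a b : E, a ≠ 0 → b ≠ 0 →
      Nat.card (stabilizer P a) = Nat.card (stabilizer P b))
    {z : P} (hzc : z ∈ Subgroup.center P) (hz1 : z ≠ 1) :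
    ∀ e : E, z • e = e → e = 0 := by
  intro e he
  obtain ⟨k, hk⟩ := hP z
  have hk0 : k ≠ 0 := by
    rintro rfl
    rw [pow_zero, pow_one] at hk
    exact hz1 hk
  obtain ⟨m, rfl⟩ := Nat.exists_eq_succ_of_ne_zero hk0
  -- choose minimal exponent
  have hex : ∃ n, z ^ (p ^ n) = 1 := ⟨m + 1, hk⟩
  classical
  have hn0 : Nat.find hex ≠ 0 := by
    intro h0
    have := Nat.find_spec hex
    rw [h0, pow_zero, pow_one] at this
    exact hz1 this
  obtain ⟨n, hn⟩ := Nat.exists_eq_succ_of_ne_zero hn0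
  have h1 : z ^ (p ^ n) ≠ 1 := Nat.find_min hex (by rw [hn]; exact Nat.lt_succ_self n)
  have h2 : (z ^ (p ^ n)) ^ p = 1 := by
    have := Nat.find_spec hex
    rw [hn, pow_succ, pow_mul] at this
    exact this
  exact central_fpf hpq hq hE hconst (Subgroup.pow_mem _ hzc _) h1 h2 e (pow_smul_fixed he _)

theorem cyclic_of_const (hp2 : p ≠ 2) (hP : IsPGroup p P) (hpq : p ≠ q) (hq : q.Prime)
    (hE : ∀ e : E, q • e = 0)
    (hconst : ∀ a b : E, a ≠ 0 → b ≠ 0 →
      Nat.card (stabilizer P a) = Nat.card (stabilizer P b)) : IsCyclic P := by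
  by_contra hnc
  have hp : p.Prime := Fact.out
  obtain ⟨A, hAn, ⟨hAcomm, hAexp⟩, hAcard⟩ := Cfsg.Agent.S0126.result hp2 hP hnc
  have hA1 : A ≠ ⊥ := by
    intro h
    rw [h, Subgroup.card_bot] at hAcard
    have := hp.one_lt
    nlinarith
  have hnil : Group.IsNilpotent P := hP.isNilpotent
  have hAZ := Cfsg.Agent.Lib.normal_inf_center_ne_bot A hA1
  obtain ⟨z, hz, hz1⟩ : ∃ z ∈ A ⊓ Subgroup.center P, z ≠ 1 := by
    by_contra hcon
    push Not at hcon
    exact hAZ ((Subgroup.eq_bot_iff_forall _).2 hcon)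
  have hzA : z ∈ A := (Subgroup.mem_inf.1 hz).1
  have hzc : z ∈ Subgroup.center P := (Subgroup.mem_inf.1 hz).2
  have hzp : z ^ p = 1 := hAexp z hzA
  have hzfpf := central_fpf hpq hq hE hconst hzc hz1 hzp
  have htrz : ∀ e : E, tr p z e = 0 := fun e => hzfpf _ (smul_tr_self p hzp e)
  have hcommA : ∀ c ∈ A, ∀ d ∈ A, Commute c d := by
    intro c hc d hd
    have := isMulCommutative_iff.1 hAcomm ⟨c, hc⟩ ⟨d, hd⟩
    exact congrArg Subtype.val this
  -- an element outside `⟨z⟩`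
  obtain ⟨b, hbA, hbz⟩ : ∃ b ∈ A, b ∉ Subgroup.zpowers z := by
    by_contra hcon
    push Not at hcon
    have hle : A ≤ Subgroup.zpowers z := hcon
    have h1 := Subgroup.card_le_of_le hle
    rw [Nat.card_zpowers, hAcard, orderOf_eq_of_pow hz1 hzp] at h1
    have := hp.one_lt
    nlinarith
  -- disjointness of fixed spaces
  have hdisjA : ∀ c ∈ A, ∀ d ∈ A, c ≠ 1 → d ∉ Subgroup.zpowers c →
      ∀ e : E, c • e = e → d • e = e → e = 0 := by
    intro c hc d hd hc1 hdc e h1 h2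
    have hcp : c ^ p = 1 := hAexp c hc
    have hle : Subgroup.zpowers c ⊔ Subgroup.zpowers d ≤ A :=
      sup_le (Subgroup.zpowers_le.2 hc) (Subgroup.zpowers_le.2 hd)
    have hsup : Subgroup.zpowers c ⊔ Subgroup.zpowers d = A := by
      apply Subgroup.eq_of_le_of_card_ge hle
      have hdvd : Nat.card (Subgroup.zpowers c ⊔ Subgroup.zpowers d : Subgroup P) ∣ p ^ 2 := by
        rw [← hAcard]; exact Subgroup.card_dvd_of_le hle
      obtain ⟨k, hk2, hk⟩ := (Nat.dvd_prime_pow hp).1 hdvd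
      have hcle : Subgroup.zpowers c ≤ Subgroup.zpowers c ⊔ Subgroup.zpowers d := le_sup_left
      have hcc : Nat.card (Subgroup.zpowers c) = p := by
        rw [Nat.card_zpowers, orderOf_eq_of_pow hc1 hcp]
      have h3 := Subgroup.card_dvd_of_le hcle
      rw [hcc, hk] at h3
      have hk1 : k ≠ 0 := by
        rintro rfl
        rw [pow_zero, Nat.dvd_one] at h3
        exact hp.one_lt.ne' h3
      have hk12 : k = 1 ∨ k = 2 := by omega
      rcases hk12 with rfl | rfl
      · exfalso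
        apply hdc
        have heq := Subgroup.eq_of_le_of_card_ge hcle (by rw [hk, hcc, pow_one])
        rw [heq]
        exact (le_sup_right : Subgroup.zpowers d ≤ _) (Subgroup.mem_zpowers d)
      · rw [hAcard, hk]
    have hz' : z ∈ Subgroup.zpowers c ⊔ Subgroup.zpowers d := by rw [hsup]; exact hzA
    have hstab : Subgroup.zpowers c ⊔ Subgroup.zpowers d ≤ stabilizer P e :=
      sup_le (Subgroup.zpowers_le.2 (mem_stabilizer_iff.2 h1))
        (Subgroup.zpowers_le.2 (mem_stabilizer_iff.2 h2))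
    exact hzfpf e (mem_stabilizer_iff.1 (hstab hz'))
  -- a nonzero vector
  obtain ⟨e0, he0⟩ : ∃ e0 : E, e0 ≠ 0 := by
    by_contra hcon
    push Not at hcon
    apply hz1
    apply eq_one_of_forall_smul (E := E)
    intro e
    rw [hcon e, smul_zero]
  have hbzc : Commute b z := hcommA b hbA z hzA
  have hsum := sum_tr_eq (E := E) hp hbzc hzp htrz
  have hmemA : ∀ i : ℕ, b * z ^ i ∈ A := fun i => A.mul_mem hbA (A.pow_mem hzA i)
  have hnz : ∀ i : ℕ, b * z ^ i ∉ Subgroup.zpowers z := by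
    intro i hi
    apply hbz
    have : b = (b * z ^ i) * (z ^ i)⁻¹ := by group
    rw [this]
    exact Subgroup.mul_mem _ hi (Subgroup.inv_mem _ (Subgroup.pow_mem _ (Subgroup.mem_zpowers z) i))
  -- first direction
  obtain ⟨i, hi, hti⟩ : ∃ i ∈ Finset.range p, tr p (b * z ^ i) e0 ≠ 0 := by
    by_contra hcon
    push Not at hcon
    have h1 := hsum e0
    rw [Finset.sum_eq_zero hcon] at h1
    exact he0 (p_smul_inj hpq hq hE h1.symm)
  have hc1p : (b * z ^ i) ^ p = 1 := hAexp _ (hmemA i)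
  have hc11 : b * z ^ i ≠ 1 := fun h => hnz i (h ▸ Subgroup.one_mem _)
  -- second direction
  obtain ⟨k, hk, hki, e1, htk⟩ : ∃ k ∈ Finset.range p, k ≠ i ∧ ∃ e1 : E,
      tr p (b * z ^ k) e1 ≠ 0 := by
    by_contra hcon
    push Not at hcon
    apply hc11
    apply eq_one_of_forall_smul (E := E)
    intro e
    obtain ⟨e', rfl⟩ := p_smul_surj hpq hq hE e
    have h1 := hsum e'
    rw [Finset.sum_eq_single_of_mem i hi (fun k hk hki => hcon k hk hki e')] at h1
    rw [← h1]
    exact smul_tr_self p hc1p e'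
  have hc2p : (b * z ^ k) ^ p = 1 := hAexp _ (hmemA k)
  obtain ⟨c1, z', w1, w2, hc1A, hz'A, hz'c, hz'1, hc1z', hw10, hw20, hf1, hf2⟩ :
      ∃ (c1 z' : P) (w1 w2 : E), c1 ∈ A ∧ z' ∈ A ∧ z' ∈ Subgroup.center P ∧ z' ≠ 1 ∧
        c1 ∉ Subgroup.zpowers z' ∧ w1 ≠ 0 ∧ w2 ≠ 0 ∧ c1 • w1 = w1 ∧ (c1 * z') • w2 = w2 := by
    refine ⟨b * z ^ i, (z ^ i)⁻¹ * z ^ k, tr p (b * z ^ i) e0, tr p (b * z ^ k) e1, hmemA i,
      A.mul_mem (A.inv_mem (A.pow_mem hzA i)) (A.pow_mem hzA k),
      Subgroup.mul_mem _ (Subgroup.inv_mem _ (Subgroup.pow_mem _ hzc i)) (Subgroup.pow_mem _ hzc k),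
      ?_, ?_, hti, htk, smul_tr_self p hc1p e0, ?_⟩
    · intro h
      have h1 : z ^ i = z ^ k := by
        have : z ^ k = z ^ i * ((z ^ i)⁻¹ * z ^ k) := by group
        rw [this, h, mul_one]
      have hord : orderOf z = p := orderOf_eq_of_pow hz1 hzp
      have hinj := pow_injOn_Iio_orderOf (x := z)
      rw [hord] at hinj
      exact hki (hinj (Finset.mem_range.1 hk) (Finset.mem_range.1 hi) h1.symm)
    · intro h
      apply hnz i
      have hle : Subgroup.zpowers ((z ^ i)⁻¹ * z ^ k) ≤ Subgroup.zpowers z := by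
        rw [Subgroup.zpowers_le]
        exact Subgroup.mul_mem _ (Subgroup.inv_mem _ (Subgroup.pow_mem _ (Subgroup.mem_zpowers z) i))
          (Subgroup.pow_mem _ (Subgroup.mem_zpowers z) k)
      exact hle h
    · have : b * z ^ i * ((z ^ i)⁻¹ * z ^ k) = b * z ^ k := by group
      rw [this]
      exact smul_tr_self p hc2p e1
  clear hti htk hc1p hc11 hc2p hki hk hi hsum hnz hmemA hbzc
  have hz'p : z' ^ p = 1 := hAexp z' hz'A
  have hz'fpf := central_fpf hpq hq hE hconst hz'c hz'1 hz'p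
  have hc1p : c1 ^ p = 1 := hAexp c1 hc1A
  have hc11 : c1 ≠ 1 := fun h => hc1z' (h ▸ Subgroup.one_mem _)
  have hc2A : c1 * z' ∈ A := A.mul_mem hc1A hz'A
  have hinv : ∀ {c : P} {e : E}, c • e = e → c⁻¹ • e = e := by
    intro c e h
    rw [inv_smul_eq_iff, h]
  have hdisj12 : ∀ e : E, c1 • e = e → (c1 * z') • e = e → e = 0 := by
    intro e h1 h2
    apply hz'fpf e
    rw [mul_smul] at h2
    have h3 : z' • e = c1⁻¹ • e := by rw [eq_inv_smul_iff, h2]
    rw [h3, hinv h1]
  have hz'c1 : z' ∉ Subgroup.zpowers c1 := fun h => hc1z' (mem_zpowers_symm hc1p hz'1 h)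
  have htrw2 : tr p c1 w2 = 0 :=
    tr_eq_zero_of_fixed p (hcommA c1 hc1A _ hc2A) hc1p hdisj12 hf2
  have hsum12 : w1 + w2 ≠ 0 := by
    intro h
    have h1 : w2 = -w1 := (neg_eq_of_add_eq_zero_right h).symm
    apply hw20
    apply hdisj12 w2 _ hf2
    rw [h1, smul_neg, hf1]
  have hstab : ∀ x ∈ stabilizer P (w1 + w2), x • w1 = w1 ∧ x • w2 = w2 := by
    intro x hx
    rw [mem_stabilizer_iff, smul_add] at hx
    have hb'A : x * c1 * x⁻¹ ∈ A := hAn.conj_mem c1 hc1A x
    have hb'1 : x * c1 * x⁻¹ ≠ 1 := by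
      intro h
      apply hc11
      have : c1 = x⁻¹ * (x * c1 * x⁻¹) * x := by group
      rw [this, h]; group
    have hu1 : (x * c1 * x⁻¹) • (x • w1) = x • w1 := by
      rw [smul_smul, inv_mul_cancel_right, mul_smul, hf1]
    have hdA : x * c1 * x⁻¹ * z' ∈ A := A.mul_mem hb'A hz'A
    have hd_eq : x * c1 * x⁻¹ * z' = x * (c1 * z') * x⁻¹ := by
      have hc := Subgroup.mem_center_iff.1 hz'c x⁻¹
      calc x * c1 * x⁻¹ * z' = x * c1 * (x⁻¹ * z') := by group
        _ = x * c1 * (z' * x⁻¹) := by rw [hc]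
        _ = x * (c1 * z') * x⁻¹ := by group
    have hu2 : (x * c1 * x⁻¹ * z') • (x • w2) = x • w2 := by
      rw [hd_eq, smul_smul, inv_mul_cancel_right, mul_smul x, hf2]
    have htr : p • w1 = tr p c1 (x • w1) + tr p c1 (x • w2) := by
      have := congrArg (tr p c1) hx
      rw [tr_add, tr_add, tr_of_fixed p hf1, htrw2, add_zero] at this
      exact this.symm
    by_cases h1 : x * c1 * x⁻¹ ∈ Subgroup.zpowers c1
    · have hc1b' := mem_zpowers_symm hc1p hb'1 h1
      have hfix : c1 • (x • w1) = x • w1 := by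
        have hle : Subgroup.zpowers (x * c1 * x⁻¹) ≤ stabilizer P (x • w1) :=
          Subgroup.zpowers_le.2 (mem_stabilizer_iff.2 hu1)
        exact mem_stabilizer_iff.1 (hle hc1b')
      have hd : x * c1 * x⁻¹ * z' ∉ Subgroup.zpowers c1 := by
        intro h
        apply hz'c1
        have : z' = (x * c1 * x⁻¹)⁻¹ * (x * c1 * x⁻¹ * z') := by group
        rw [this]
        exact Subgroup.mul_mem _ (Subgroup.inv_mem _ h1) h
      have h0 : tr p c1 (x • w2) = 0 :=
        tr_eq_zero_of_fixed p (hcommA c1 hc1A _ hdA) hc1p (hdisjA c1 hc1A _ hdA hc11 hd) hu2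
      rw [h0, add_zero, tr_of_fixed p hfix, ← sub_eq_zero, ← smul_sub] at htr
      have h3 := sub_eq_zero.1 (p_smul_inj hpq hq hE htr)
      refine ⟨h3.symm, ?_⟩
      rw [← h3] at hx
      exact add_left_cancel hx
    · have h0 : tr p c1 (x • w1) = 0 :=
        tr_eq_zero_of_fixed p (hcommA c1 hc1A _ hb'A) hc1p (hdisjA c1 hc1A _ hb'A hc11 h1) hu1
      rw [h0, zero_add] at htr
      by_cases h2 : x * c1 * x⁻¹ * z' ∈ Subgroup.zpowers c1
      · exfalso
        have hd1 : x * c1 * x⁻¹ * z' ≠ 1 := by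
          intro h
          apply hc1z'
          have h4 : x * c1 * x⁻¹ = z'⁻¹ := eq_inv_of_mul_eq_one_left h
          have h5 : c1 = x⁻¹ * z'⁻¹ * x := by rw [← h4]; group
          have h6 : x⁻¹ * z'⁻¹ * x = z'⁻¹ := by
            have hc := Subgroup.mem_center_iff.1 (Subgroup.inv_mem _ hz'c) x⁻¹
            rw [hc]; group
          rw [h5, h6]
          exact Subgroup.inv_mem _ (Subgroup.mem_zpowers z')
        have hc1d := mem_zpowers_symm hc1p hd1 h2
        have hfix : c1 • (x • w2) = x • w2 := by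
          have hle : Subgroup.zpowers (x * c1 * x⁻¹ * z') ≤ stabilizer P (x • w2) :=
            Subgroup.zpowers_le.2 (mem_stabilizer_iff.2 hu2)
          exact mem_stabilizer_iff.1 (hle hc1d)
        rw [tr_of_fixed p hfix, ← sub_eq_zero, ← smul_sub] at htr
        have h3 : w1 = x • w2 := sub_eq_zero.1 (p_smul_inj hpq hq hE htr)
        have h4 : x • w1 = w2 := by
          rw [← h3, add_comm] at hx
          exact add_left_cancel hx
        have h5 : x ^ 2 ∈ stabilizer P w1 := by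
          rw [mem_stabilizer_iff, pow_two, mul_smul, h4, ← h3]
        have h6 := mem_stabilizer_iff.1 (mem_of_sq_mem hp2 hP _ h5)
        have h7 : w2 = w1 := by rw [← h4, h6]
        apply hw10
        apply hdisj12 w1 hf1
        rw [← h7]; exact hf2
      · exfalso
        have h0' : tr p c1 (x • w2) = 0 :=
          tr_eq_zero_of_fixed p (hcommA c1 hc1A _ hdA) hc1p (hdisjA c1 hc1A _ hdA hc11 h2) hu2
        rw [h0'] at htr
        exact hw10 (p_smul_inj hpq hq hE htr)
  have hle1 : stabilizer P (w1 + w2) ≤ stabilizer P w1 := fun x hx => (hstab x hx).1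
  have hle2 : stabilizer P (w1 + w2) ≤ stabilizer P w2 := fun x hx => (hstab x hx).2
  have heq := stab_eq_of_le hconst hsum12 hw10 hle1
  have hc1w2 : c1 ∈ stabilizer P w2 := hle2 (heq ▸ (mem_stabilizer_iff.2 hf1))
  exact hw20 (hdisj12 w2 (mem_stabilizer_iff.1 hc1w2) hf2)

end Main

end Cfsg.Agent.Helper60.ConstStab
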