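import Cfsg.Agent.Helper67.TorusE6B
import Cfsg.Agent.Helper19.Twist.Inst
import Cfsg.Agent.Helper19.Twist.Torus
import Cfsg.Agent.Helper19.Twist.TorusLemmas

/-!
# Piece (E6-T) of #5971 (helper60, for helper83's S2211): the torus of the fixed points of the graph
automorphism of `E₆(K)` (no field automorphism) has `(q - 1)⁴` elements.
-/

set_option autoImplicit false
set_option maxRecDepth 100000
set_option linter.unusedSectionVars false

namespace Cfsg.Agent.Helper60.E6T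

open Cfsg Cfsg.Lie Cfsg.Agent.Helper18 Cfsg.Agent.Helper40.GraphAut Cfsg.Agent.S1081
  Cfsg.Agent.Helper19.Twist

variable {K : Type*} [Field K] [Fintype K]

/-- the parameter set of the torus -/
def SE6 (K : Type*) [Field K] : Set (K × K × K × K) :=
  {p | p.1 ≠ 0 ∧ p.2.1 ≠ 0 ∧ p.2.2.1 ≠ 0 ∧ p.2.2.2 ≠ 0}

/-- the torus element attached to a parameter -/
noncomputable def psiE6 (p : K × K × K × K) : GL chevE6.Idx K :=
  Cfsg.Agent.Helper67.TorusE6.psi0 (RingEquiv.refl K) p.1 p.2.1 p.2.2.1 p.2.2.2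

theorem psiE6_injOn : Set.InjOn (psiE6 (K := K)) (SE6 K) := by
  rintro ⟨a, b, c, e⟩ ⟨ha, hb, hc, he⟩ ⟨a', b', c', e'⟩ ⟨ha', hb', hc', he'⟩ heq
  simp only at ha hb hc he ha' hb' hc' he'
  obtain ⟨-, hf, hb2, hcc, hee⟩ := Cfsg.Agent.Helper67.TorusE6.psi0_fiber (RingEquiv.refl K)
    a b c e a' b' c' e' ha hb hc he ha' hb' hc' he' heq
  simp only [RingEquiv.refl_apply] at hf
  have hr0 : a' * a⁻¹ ≠ 0 := mul_ne_zero ha' (inv_ne_zero ha)
  have hr1 : a' * a⁻¹ = 1 := by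
    have h1 : (a' * a⁻¹) * 1 = (a' * a⁻¹) * (a' * a⁻¹) := by
      rw [mul_one, ← sq]; exact hf
    exact (mul_left_cancel₀ hr0 h1).symm
  have ea : a' = a := by rwa [mul_inv_eq_one₀ ha] at hr1
  have eb : b' = b := by
    rw [hr1, one_pow, mul_inv_eq_one₀ hb] at hb2
    exact hb2
  rw [ea, eb, hcc, hee]

/-- the parameters of a torus element -/
noncomputable def phiE6 (g : GL chevE6.Idx K) : K × K × K × K :=
  (rootEntry chevE6 (g : Matrix chevE6.Idx chevE6.Idx K) 56,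
    rootEntry chevE6 (g : Matrix chevE6.Idx chevE6.Idx K) 42,
    rootEntry chevE6 (g : Matrix chevE6.Idx chevE6.Idx K) 39,
    rootEntry chevE6 (g : Matrix chevE6.Idx chevE6.Idx K) 46)

theorem entry_sigma_refl (g : GL chevE6.Idx K)
    (hg : g ∈ chevE6.diagonalSubgroup K ⊓ FixE6 (RingEquiv.refl K)) (u : ℕ)
    (hu : u < chevE6.nroots) :
    rootEntry chevE6 (g : Matrix chevE6.Idx chevE6.Idx K) (pi0 u) =
      rootEntry chevE6 (g : Matrix chevE6.Idx chevE6.Idx K) u := by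
  have hfix : sigE6 (RingEquiv.refl K) g = g := (mem_FixE6 _ g).mp hg.2
  exact rootEntry_sigma chevE6 memE6 rho0 rhoInv0 pi0 piInv0 eps0 permsOK_E6 (RingEquiv.refl K) g
    hg.1 hfix u hu

theorem phiE6_mapsTo (g : GL chevE6.Idx K)
    (hg : g ∈ chevE6.diagonalSubgroup K ⊓ FixE6 (RingEquiv.refl K)) : phiE6 g ∈ SE6 K :=
  ⟨rootEntry_ne_zero chevE6 memE6 g hg.1 56, rootEntry_ne_zero chevE6 memE6 g hg.1 42,
    rootEntry_ne_zero chevE6 memE6 g hg.1 39, rootEntry_ne_zero chevE6 memE6 g hg.1 46⟩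

theorem phiE6_injOn :
    Set.InjOn (phiE6 (K := K))
      ((chevE6.diagonalSubgroup K ⊓ FixE6 (RingEquiv.refl K) : Subgroup (GL chevE6.Idx K)) :
        Set (GL chevE6.Idx K)) := by
  intro g hg g' hg' heq
  have hg1 : g ∈ chevE6.diagonalSubgroup K ⊓ FixE6 (RingEquiv.refl K) := hg
  have hg1' : g' ∈ chevE6.diagonalSubgroup K ⊓ FixE6 (RingEquiv.refl K) := hg'
  have e56 : rootEntry chevE6 (g : Matrix chevE6.Idx chevE6.Idx K) 56 =
      rootEntry chevE6 (g' : Matrix chevE6.Idx chevE6.Idx K) 56 :=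
    congrArg (fun s : K × K × K × K => s.1) heq
  have e42 : rootEntry chevE6 (g : Matrix chevE6.Idx chevE6.Idx K) 42 =
      rootEntry chevE6 (g' : Matrix chevE6.Idx chevE6.Idx K) 42 :=
    congrArg (fun s : K × K × K × K => s.2.1) heq
  have e39 : rootEntry chevE6 (g : Matrix chevE6.Idx chevE6.Idx K) 39 =
      rootEntry chevE6 (g' : Matrix chevE6.Idx chevE6.Idx K) 39 :=
    congrArg (fun s : K × K × K × K => s.2.2.1) heq
  have e46 : rootEntry chevE6 (g : Matrix chevE6.Idx chevE6.Idx K) 46 =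
      rootEntry chevE6 (g' : Matrix chevE6.Idx chevE6.Idx K) 46 :=
    congrArg (fun s : K × K × K × K => s.2.2.2) heq
  have p56 : pi0 56 = 36 := rfl
  have p42 : pi0 42 = 37 := rfl
  have e36 : rootEntry chevE6 (g : Matrix chevE6.Idx chevE6.Idx K) 36 =
      rootEntry chevE6 (g' : Matrix chevE6.Idx chevE6.Idx K) 36 := by
    have h1 := entry_sigma_refl g hg1 56 (by decide)
    have h2 := entry_sigma_refl g' hg1' 56 (by decide)
    rw [p56] at h1 h2
    rw [h1, h2, e56]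
  have e37 : rootEntry chevE6 (g : Matrix chevE6.Idx chevE6.Idx K) 37 =
      rootEntry chevE6 (g' : Matrix chevE6.Idx chevE6.Idx K) 37 := by
    have h1 := entry_sigma_refl g hg1 42 (by decide)
    have h2 := entry_sigma_refl g' hg1' 42 (by decide)
    rw [p42] at h1 h2
    rw [h1, h2, e42]
  apply diag_ext chevE6 memE6 coordE6 Cfsg.Agent.Helper67.TorusE6.coordOK_E6 g g' hg1.1 hg1'.1
  intro i hi
  have hi6 : i < 6 := hi
  interval_cases i
  · exact e56
  · exact e46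
  · exact e42
  · exact e39
  · exact e37
  · exact e36

theorem ncard_SE6 : (SE6 K).ncard = (Fintype.card K - 1) ^ 4 := by
  have h : SE6 K = {t : K | t ≠ 0} ×ˢ ({t : K | t ≠ 0} ×ˢ ({t : K | t ≠ 0} ×ˢ {t : K | t ≠ 0})) := by
    ext p
    simp [SE6]
  rw [h, Set.ncard_prod, Set.ncard_prod, Set.ncard_prod, ncard_ne_zero]
  ring

/-- (E6-T) the torus of the untwisted fixed points: `H ∩ G¹ = H^σ` has `(q - 1)⁴` elements -/
theorem card_torus_refl_E6 (hle : twistedE6 K (Fintype.card K) ≤ FixE6 (RingEquiv.refl K)) :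
    Nat.card ↥(chevE6.diagonalSubgroup K ⊓ twistedE6 K (Fintype.card K)) =
        (Fintype.card K - 1) ^ 4 ∧
      Nat.card ↥(chevE6.diagonalSubgroup K ⊓ FixE6 (RingEquiv.refl K)) =
        (Fintype.card K - 1) ^ 4 := by
  have hrefl : ∀ t : K, (RingEquiv.refl K) t = t ^ Fintype.card K :=
    fun t => (FiniteField.pow_card t).symm
  have hfin : (SE6 K).Finite := Set.toFinite _
  have hfin2 : ((chevE6.diagonalSubgroup K ⊓ twistedE6 K (Fintype.card K) :
      Subgroup (GL chevE6.Idx K)) : Set (GL chevE6.Idx K)).Finite := Set.toFinite _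
  have e0 : Nat.card ↥(chevE6.diagonalSubgroup K ⊓ twistedE6 K (Fintype.card K)) =
      ((chevE6.diagonalSubgroup K ⊓ twistedE6 K (Fintype.card K) : Subgroup (GL chevE6.Idx K)) :
        Set (GL chevE6.Idx K)).ncard := (Nat.card_coe_set_eq _)
  have e1 : Nat.card ↥(chevE6.diagonalSubgroup K ⊓ FixE6 (RingEquiv.refl K)) =
      ((chevE6.diagonalSubgroup K ⊓ FixE6 (RingEquiv.refl K) : Subgroup (GL chevE6.Idx K)) :
        Set (GL chevE6.Idx K)).ncard := (Nat.card_coe_set_eq _)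
  have a1 : (SE6 K).ncard ≤
      Nat.card ↥(chevE6.diagonalSubgroup K ⊓ twistedE6 K (Fintype.card K)) := by
    rw [e0]
    refine Set.ncard_le_ncard_of_injOn (psiE6 (K := K)) ?_ psiE6_injOn hfin2
    rintro ⟨a, b, c, e⟩ ⟨ha, hb, hc, he⟩
    exact ⟨Cfsg.Agent.Helper67.TorusE6.psi0_memH (RingEquiv.refl K) a b c e ha hb hc he,
      Cfsg.Agent.Helper67.TorusE6.psi0_memG (RingEquiv.refl K) hrefl a b c e rfl rfl⟩
  have a2 : Nat.card ↥(chevE6.diagonalSubgroup K ⊓ FixE6 (RingEquiv.refl K)) ≤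
      (SE6 K).ncard := by
    rw [e1]
    exact Set.ncard_le_ncard_of_injOn phiE6 (fun g hg => phiE6_mapsTo g hg) phiE6_injOn hfin
  have a3 : Nat.card ↥(chevE6.diagonalSubgroup K ⊓ twistedE6 K (Fintype.card K)) ≤
      Nat.card ↥(chevE6.diagonalSubgroup K ⊓ FixE6 (RingEquiv.refl K)) :=
    Subgroup.card_le_of_le (inf_le_inf_left _ hle)
  rw [← ncard_SE6]
  constructor <;> omega

end Cfsg.Agent.Helper60.E6T
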