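-- helper60: piece (F2) of helper86's WANTED #4698 for S5201: the Alperin-Goldschmidt fusion theorem with an induction
-- hypothesis available at each generating automorphism group (copy of helper87's proof of `alperin`).
import Cfsg.Agent.Helper87.FusionAlperin
import Cfsg.Agent.Helper88.FusionCentric

set_option autoImplicit false

namespace Cfsg.Agent.Helper60

open Cfsg Cfsg.FusionSystem Cfsg.Agent.Helper87

variable {Ω : Type*} [Group Ω] {S : Subgroup Ω}

/-- **(F2)** the Alperin-Goldschmidt fusion theorem, graded form -/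
theorem alperin_graded [Finite S] {p : ℕ} [Fact p.Prime] (hS : IsPGroup p S) (F E : FusionSystem S)
    (hF : F.IsSaturated p)
    (hE : ∀ P : Subgroup Ω, (P = S ∨ F.IsEssential p P) →
      (∀ (N : Subgroup Ω) (ψ : N →* Ω), Nat.card P < Nat.card N → ψ ∈ F.Hom N → ψ ∈ E.Hom N) →
      F.autGroup P ≤ E.autGroup P) :
    ∀ P : Subgroup Ω, F.Hom P ⊆ E.Hom P := by
  intro P
  induction' hn : Nat.card S - Nat.card P using Nat.strong_induction_on with n ih generalizing P
  intro φ hφ
  have hPS : P ≤ S := (F.le_of_mem hφ).1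
  have hP : Finite P := finite_of_le hPS
  -- maps of `F` on subgroups of larger order are maps of `E`
  have ih' : ∀ (N : Subgroup Ω) (ψ : N →* Ω), Nat.card P < Nat.card N → ψ ∈ F.Hom N → ψ ∈ E.Hom N := by
    intro N ψ hlt hψ
    have hNS : N ≤ S := (F.le_of_mem hψ).1
    have : Finite N := finite_of_le hNS
    have hle : Nat.card N ≤ Nat.card S := Subgroup.card_le_of_le hNS
    exact ih (Nat.card S - Nat.card N) (by omega) N rfl hψ
  have he := isIso_ofInjective F hφ
  set e := MonoidHom.ofInjective (F.injective_of_mem hφ) with he_def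
  have hQS : φ.range ≤ S := he.le_right
  have hcardQ : Nat.card φ.range = Nat.card P := (Nat.card_congr e.toEquiv).symm
  by_cases hPeq : P = S
  · subst hPeq
    have : Finite φ.range := finite_of_le hQS
    have hQ : φ.range = P := Subgroup.eq_of_le_of_card_ge hQS (le_of_eq hcardQ.symm)
    have hα : IsIso F (e.trans (MulEquiv.subgroupCongr hQ)) := by
      unfold IsIso
      exact mem_of_eq F hφ (fun x => rfl)
    have hαE := hE P (Or.inl rfl) ih' ((mem_autGroup_iff F hPS (e.trans (MulEquiv.subgroupCongr hQ))).mpr hα)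
    have := (mem_autGroup_iff E hPS _).mp hαE
    exact mem_of_eq E this (fun x => rfl)
  · have hPlt : P < S := lt_of_le_of_ne hPS hPeq
    obtain ⟨R, hQR, hRa, hRr⟩ := hF φ.range hQS
    obtain ⟨e₂, he₂⟩ := (isConj_iff F φ.range R).mp hQR
    have hRS : R ≤ S := he₂.le_right
    have hcardR : Nat.card R = Nat.card P := by rw [← hcardQ]; exact (Nat.card_congr e₂.toEquiv).symm
    have hcardlt : Nat.card P < Nat.card S := card_lt_card_of_lt hPlt
    have hRlt : R < S := lt_of_le_of_ne hRS (fun h => by rw [h] at hcardR; omega)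
    have hQlt : φ.range < S := lt_of_le_of_ne hQS (fun h => by rw [h] at hcardQ; omega)
    -- extend to the normalizers
    obtain ⟨φ₁, hφ₁, e₁', he₁', hφ₁x⟩ := exists_extension_normalizerIn hS F hRa hRr (e.trans e₂) (he.trans he₂)
    obtain ⟨φ₂, hφ₂, e₂', he₂', hφ₂x⟩ := exists_extension_normalizerIn hS F hRa hRr e₂ he₂
    have hN₁ : Finite (normalizerIn S P) := finite_of_le inf_le_left
    have hN₂ : Finite (normalizerIn S φ.range) := finite_of_le inf_le_left
    have hφ₁E := ih' _ φ₁ (card_lt_card_of_lt (lt_normalizerIn hS hPlt)) hφ₁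
    have hφ₂E := ih' _ φ₂ (by rw [← hcardQ]; exact card_lt_card_of_lt (lt_normalizerIn hS hQlt)) hφ₂
    have he₁E : IsIso E e₁' := isIso_of_restrict E hφ₁E (le_normalizerIn hPS) e₁' hφ₁x
    have he₂E : IsIso E e₂' := isIso_of_restrict E hφ₂E (le_normalizerIn hQS) e₂' hφ₂x
    -- the automorphism of `R`
    have hαF : IsIso F (e₁'.symm.trans (e.trans e₂')) := he₁'.symm.trans (he.trans he₂')
    have hle := autGroup_le_of_larger hS F E hRa hRr hRlt (fun hess => hE R (Or.inr hess) (fun N ψ hlt hψ => ih' N ψ (by rw [← hcardR]; exact hlt) hψ))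
      (fun N ψ hlt hψ => by
        have hNS : N ≤ S := (F.le_of_mem hψ).1
        have : Finite N := finite_of_le hNS
        exact ih' N ψ (by rw [← hcardR]; exact card_lt_card_of_lt hlt) hψ)
    have hαE : IsIso E (e₁'.symm.trans (e.trans e₂')) :=
      (mem_autGroup_iff E hRS _).mp (hle ((mem_autGroup_iff F hRS (e₁'.symm.trans (e.trans e₂'))).mpr hαF))
    have hfin : IsIso E (e₁'.trans ((e₁'.symm.trans (e.trans e₂')).trans e₂'.symm)) :=
      he₁E.trans (hαE.trans he₂E.symm)
    exact mem_of_eq E hfin (fun x => by simp; rfl)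

end Cfsg.Agent.Helper60
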