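-- helper60: piece (F4) of helper86's WANTED #4698 for S5201: automorphisms of `S` are trivial modulo `T`.
import Cfsg.Agent.Helper87.FusionAlperin
import Cfsg.Agent.Helper88.FusionCentric
import Cfsg.Agent.Helper87.FusionSeries
import Cfsg.Agent.Helper86.ORDefs

set_option autoImplicit false

namespace Cfsg.Agent.Helper60

open Cfsg Cfsg.FusionSystem Cfsg.Agent.Helper87

variable {Ω : Type*} [Group Ω] {S : Subgroup Ω}

/-- **(F4)** -/
theorem aut_top_comm_mem [Finite S] {p : ℕ} (G : FusionSystem S) {T : Subgroup Ω} (E : FusionSystem T)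
    (hE : E.IsNormalIn G p) (haut : G.autGroup T = E.autGroup T) (hS₀ : S ≤ T ⊔ centralizerIn S T)
    (hfoc : ∀ (R : Subgroup Ω) (φ : R →* Ω), φ ∈ G.centralizerHom T R →
      ∀ x : R, (x : Ω)⁻¹ * φ x ∈ T) :
    ∀ α ∈ G.autGroup S, ∀ x : S, (x : Ω)⁻¹ * ((α x : S) : Ω) ∈ T := by
  intro α hα x
  have hTcl : G.StronglyClosed T := hE.1.2.2.2.1
  have hTS : T ≤ S := hTcl.1
  have hCS : centralizerIn S T ≤ S := inf_le_left
  have hUS : T ⊔ centralizerIn S T ≤ S := sup_le hTS hCS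
  have hSN : S ≤ Subgroup.normalizer (T : Set Ω) := le_normalizer_of_stronglyClosed G hTcl
  have hCN : centralizerIn S T ≤ Subgroup.normalizer (T : Set Ω) := hCS.trans hSN
  -- decomposition of the elements of `T C_S(T)`
  have hdec : ∀ u ∈ T ⊔ centralizerIn S T, ∃ t ∈ T, ∃ c ∈ centralizerIn S T, u = t * c := by
    intro u hu
    have h1 : u ∈ ((T ⊔ centralizerIn S T : Subgroup Ω) : Set Ω) := hu
    rw [Subgroup.coe_mul_of_right_le_normalizer_left T (centralizerIn S T) hCN] at h1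
    obtain ⟨t, ht, c, hc, rfl⟩ := h1
    exact ⟨t, ht, c, hc, rfl⟩
  -- the restriction of `α` to `T` and its extension `b`
  obtain ⟨β, hβ, hβx⟩ := Cfsg.Agent.Helper86.OR.exists_restrict_aut G hTcl le_rfl hTS hα
  have hβE : β ∈ E.autGroup T := haut ▸ hβ
  obtain ⟨b, hb, hbT, hbC⟩ := hE.2 β hβE
  -- `b` is trivial modulo `T`
  have hA : ∀ u : ↥(T ⊔ centralizerIn S T), (u : Ω)⁻¹ * ((b u : ↥(T ⊔ centralizerIn S T)) : Ω) ∈ T := by
    intro u
    obtain ⟨t, ht, c, hc, hu⟩ := hdec u u.2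
    have hu' : u = (Subgroup.inclusion le_sup_left ⟨t, ht⟩ : ↥(T ⊔ centralizerIn S T)) *
        ⟨c, Subgroup.mem_sup_right hc⟩ := Subtype.ext hu
    have h1 := hbT ⟨t, ht⟩
    have h2 := (hbC ⟨c, Subgroup.mem_sup_right hc⟩ hc).1
    have h3 : t⁻¹ * ((β ⟨t, ht⟩ : T) : Ω) ∈ T := T.mul_mem (T.inv_mem ht) (β ⟨t, ht⟩).2
    have h4 : c⁻¹ * (t⁻¹ * ((β ⟨t, ht⟩ : T) : Ω)) * c⁻¹⁻¹ ∈ T :=
      (Subgroup.mem_normalizer_iff.mp (Subgroup.inv_mem _ (hCN hc)) _).mp h3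
    have e : (u : Ω)⁻¹ * ((b u : ↥(T ⊔ centralizerIn S T)) : Ω) =
        (c⁻¹ * (t⁻¹ * ((β ⟨t, ht⟩ : T) : Ω)) * c⁻¹⁻¹) *
          (c⁻¹ * ((b ⟨c, Subgroup.mem_sup_right hc⟩ : ↥(T ⊔ centralizerIn S T)) : Ω)) := by
      rw [hu', map_mul, Subgroup.coe_mul, Subgroup.coe_mul, h1]
      show (t * c)⁻¹ * (((β ⟨t, ht⟩ : T) : Ω) *
        ((b ⟨c, Subgroup.mem_sup_right hc⟩ : ↥(T ⊔ centralizerIn S T)) : Ω)) = _
      group
    rw [e]
    exact T.mul_mem h4 h2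
  -- the map `φ₁ = α ∘ b⁻¹` on `T C_S(T)`
  have hbinv : IsIso G ((b⁻¹ : MulAut ↥(T ⊔ centralizerIn S T)) :
      ↥(T ⊔ centralizerIn S T) ≃* ↥(T ⊔ centralizerIn S T)) :=
    (mem_autGroup_iff G hUS b⁻¹).mp (inv_mem hb)
  have hαiso : S.subtype.comp (α : S ≃* S).toMonoidHom ∈ G.Hom S :=
    (mem_autGroup_iff G le_rfl α).mp hα
  have hφα := restrict_mem G hαiso hUS
  have hφ₁ := comp_iso_mem G hbinv hφα
  set φ₁ : ↥(T ⊔ centralizerIn S T) →* Ω :=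
    ((S.subtype.comp (α : S ≃* S).toMonoidHom).comp (Subgroup.inclusion hUS)).comp
      ((b⁻¹ : MulAut ↥(T ⊔ centralizerIn S T)) :
        ↥(T ⊔ centralizerIn S T) ≃* ↥(T ⊔ centralizerIn S T)).toMonoidHom with hφ₁def
  have hφ₁v : ∀ u : ↥(T ⊔ centralizerIn S T),
      φ₁ u = ((α (Subgroup.inclusion hUS ((b⁻¹ : MulAut ↥(T ⊔ centralizerIn S T)) u)) : S) : Ω) :=
    fun u => rfl
  -- `φ₁` is the identity on `T`
  have hφ₁T : ∀ t : T, φ₁ (Subgroup.inclusion le_sup_left t) = (t : Ω) := by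
    intro t
    have h1 : b (Subgroup.inclusion le_sup_left (β⁻¹ t)) = Subgroup.inclusion le_sup_left t := by
      apply Subtype.ext
      rw [hbT]
      simp
    have h2 : (b⁻¹ : MulAut ↥(T ⊔ centralizerIn S T)) (Subgroup.inclusion le_sup_left t) =
        Subgroup.inclusion le_sup_left (β⁻¹ t) := by
      rw [← h1]
      simp
    rw [hφ₁v, h2]
    have h3 := hβx (β⁻¹ t)
    have h4 : (Subgroup.inclusion hUS (Subgroup.inclusion le_sup_left (β⁻¹ t)) : S) =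
        ⟨((β⁻¹ t : T) : Ω), hTS (β⁻¹ t).2⟩ := rfl
    rw [h4, ← h3]
    simp
  -- its restriction to `C_S(T)` is a map of `C_G(T)`
  have hρ := restrict_mem G hφ₁ (le_sup_right : centralizerIn S T ≤ T ⊔ centralizerIn S T)
  set ρ : ↥(centralizerIn S T) →* Ω :=
    φ₁.comp (Subgroup.inclusion (le_sup_right : centralizerIn S T ≤ T ⊔ centralizerIn S T)) with hρdef
  have hρv : ∀ c : ↥(centralizerIn S T), ρ c = φ₁ (Subgroup.inclusion le_sup_right c) := fun c => rfl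
  have hρc : ρ ∈ G.centralizerHom T (centralizerIn S T) := by
    refine ⟨hρ, le_rfl, fun c => ?_, ?_⟩
    · refine Subgroup.mem_inf.mpr ⟨(G.le_of_mem hρ).2 c, Subgroup.mem_centralizer_iff.mpr ?_⟩
      intro t ht
      have hcomm : (t : Ω) * (c : Ω) = (c : Ω) * t :=
        Subgroup.mem_centralizer_iff.mp c.2.2 t ht
      have h1 : (Subgroup.inclusion le_sup_left ⟨t, ht⟩ : ↥(T ⊔ centralizerIn S T)) *
          Subgroup.inclusion le_sup_right c =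
          Subgroup.inclusion le_sup_right c * Subgroup.inclusion le_sup_left ⟨t, ht⟩ :=
        Subtype.ext hcomm
      have h2 := congrArg φ₁ h1
      rw [map_mul, map_mul, hφ₁T ⟨t, ht⟩] at h2
      rw [hρv]
      exact h2
    · have hle : centralizerIn S T ⊔ T ≤ T ⊔ centralizerIn S T := by rw [sup_comm]
      refine ⟨φ₁.comp (Subgroup.inclusion hle), restrict_mem G hφ₁ hle, fun c => rfl, fun t => ?_⟩
      exact hφ₁T t
  have hfocρ := hfoc _ ρ hρc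
  -- `φ₁` is trivial modulo `T`
  have hC : ∀ u : ↥(T ⊔ centralizerIn S T), (u : Ω)⁻¹ * φ₁ u ∈ T := by
    intro u
    obtain ⟨t, ht, c, hc, hu⟩ := hdec u u.2
    have hu' : u = (Subgroup.inclusion le_sup_left ⟨t, ht⟩ : ↥(T ⊔ centralizerIn S T)) *
        Subgroup.inclusion le_sup_right ⟨c, hc⟩ := Subtype.ext hu
    have h1 := hfocρ ⟨c, hc⟩
    rw [hρv] at h1
    have e : (u : Ω)⁻¹ * φ₁ u = c⁻¹ * φ₁ (Subgroup.inclusion le_sup_right ⟨c, hc⟩) := by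
      rw [hu', map_mul, hφ₁T ⟨t, ht⟩]
      show (t * c)⁻¹ * (t * φ₁ (Subgroup.inclusion le_sup_right ⟨c, hc⟩)) = _
      group
    rw [e]
    exact h1
  -- conclusion
  have hx : (x : Ω) ∈ T ⊔ centralizerIn S T := hS₀ x.2
  have h1 := hA ⟨x, hx⟩
  have h2 := hC (b ⟨x, hx⟩)
  have h3 : φ₁ (b ⟨x, hx⟩) = ((α x : S) : Ω) := by
    rw [hφ₁v]
    have : (b⁻¹ : MulAut ↥(T ⊔ centralizerIn S T)) (b ⟨x, hx⟩) = ⟨x, hx⟩ := by simp
    rw [this]
    rfl
  rw [h3] at h2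
  have e : (x : Ω)⁻¹ * ((α x : S) : Ω) =
      ((x : Ω)⁻¹ * ((b ⟨x, hx⟩ : ↥(T ⊔ centralizerIn S T)) : Ω)) *
        (((b ⟨x, hx⟩ : ↥(T ⊔ centralizerIn S T)) : Ω)⁻¹ * ((α x : S) : Ω)) := by group
  rw [e]
  exact T.mul_mem h1 h2

end Cfsg.Agent.Helper60
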