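-- helper60: piece (F5) of helper86's WANTED #4698 for S5201, from the statement of (F3).
import Cfsg.Agent.Helper60.FT2
import Cfsg.Agent.Helper48.FT1

set_option autoImplicit false

namespace Cfsg.Agent.Helper60

open Cfsg Cfsg.FusionSystem Cfsg.Agent.Helper87 Cfsg.Agent.Helper48
open scoped commutatorElement

variable {Ω : Type*} [Group Ω] {S : Subgroup Ω}

/-- (F5) from the statement of (F3) -/
theorem comm_mem_of_top_of [Finite S] {p : ℕ} [Fact p.Prime] (hS : IsPGroup p S) (G : FusionSystem S)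
    (hG : G.IsSaturated p) {T : Subgroup Ω} (hcomm : ⁅S, S⁆ ≤ T)
    (hF3 : ∀ {P : Subgroup Ω}, G.IsFullyNormalized P → P < S →
      (∀ (N : Subgroup Ω) (ψ : N →* Ω), Nat.card P < Nat.card N → ψ ∈ G.Hom N →
        ψ ∈ (trivModSys G T hcomm).Hom N) →
      G.autGroup P ≤ (trivModSys G T hcomm).autGroup P)
    (htop : ∀ α ∈ G.autGroup S, ∀ x : S, (x : Ω)⁻¹ * ((α x : S) : Ω) ∈ T) :
    ∀ (P : Subgroup Ω) (φ : P →* Ω), φ ∈ G.Hom P → ∀ x : P, (x : Ω)⁻¹ * φ x ∈ T := by
  intro P φ hφ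
  have key : φ ∈ (trivModSys G T hcomm).Hom P := by
    refine alperin_graded hS G (trivModSys G T hcomm) hG ?_ P hφ
    intro R hR ih
    by_cases hRS : R = S
    · subst hRS
      intro α hα
      rw [mem_autGroup_iff _ le_rfl]
      have h1 := (mem_autGroup_iff G le_rfl α).mp hα
      exact ⟨h1, fun x => htop α hα x⟩
    · rcases hR with hR | hR
      · exact absurd hR hRS
      · exact hF3 hR.2.1 (lt_of_le_of_ne hR.1.1 hRS) ih
  exact key.2

end Cfsg.Agent.Helper60
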