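-- helper60: piece (F5) of helper86's WANTED #4698 for S5201: a saturated system whose top automorphisms are trivial
-- modulo the strongly closed subgroup `T ≥ [S,S]` has all its maps trivial modulo `T`.
import Cfsg.Agent.Helper60.FT5a
import Cfsg.Agent.Helper67.FT3

set_option autoImplicit false

namespace Cfsg.Agent.Helper60

open Cfsg Cfsg.FusionSystem Cfsg.Agent.Helper87 Cfsg.Agent.Helper48
open scoped commutatorElement

variable {Ω : Type*} [Group Ω] {S : Subgroup Ω}

/-- **(F5)** -/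
theorem comm_mem_of_top [Finite S] {p : ℕ} [Fact p.Prime] (hS : IsPGroup p S) (G : FusionSystem S)
    (hG : G.IsSaturated p) {T : Subgroup Ω} (hT : G.StronglyClosed T) (hcomm : ⁅S, S⁆ ≤ T)
    (htop : ∀ α ∈ G.autGroup S, ∀ x : S, (x : Ω)⁻¹ * ((α x : S) : Ω) ∈ T) :
    ∀ (P : Subgroup Ω) (φ : P →* Ω), φ ∈ G.Hom P → ∀ x : P, (x : Ω)⁻¹ * φ x ∈ T :=
  comm_mem_of_top_of hS G hG hcomm
    (fun hPn hPS ih => Cfsg.Agent.Helper67.autGroup_le_trivModSys hS G hG hT hcomm hPn hPS ih) htop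

end Cfsg.Agent.Helper60
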