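import Mathlib

/-! A finite abelian group of additive automorphisms acting regularly on the nonzero elements of a
finite abelian group `V` makes `V` a one-dimensional space over a finite field; an element of prime
order `p` normalizing it and centralizing none of its nonidentity elements forces `|V| = 2 ^ p`. -/

set_option autoImplicit false

namespace Cfsg.Agent.Helper60.FieldAut

open Module in
/-- A finite field with an automorphism of prime order `p` whose only fixed points are `0` and `1`
has `2 ^ p` elements. -/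
theorem card_of_aut {F : Type*} [Field F] [Finite F] (σ : F ≃+* F) {p : ℕ} (hp : p.Prime)
    (hσp : σ ^ p = 1) (hσ1 : σ ≠ 1) (hfix : ∀ x : F, σ x = x → x = 0 ∨ x = 1) :
    Nat.card F = 2 ^ p := by
  classical
  have hord : orderOf σ = p := by
    have := Fact.mk hp
    exact orderOf_eq_prime hσp hσ1
  let Z : Subgroup (F ≃+* F) := Subgroup.zpowers σ
  have hcardZ' : Nat.card Z = p := by rw [Nat.card_zpowers, hord]
  have : Finite Z := Nat.finite_of_card_ne_zero (by rw [hcardZ']; exact hp.ne_zero)
  have : Fintype Z := Fintype.ofFinite Z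
  have hcardZ : Fintype.card Z = p := by
    rw [← Nat.card_eq_fintype_card, hcardZ']
  have h1 := FixedPoints.finrank_eq_card Z F
  have hsub : ∀ x : F, x ∈ FixedPoints.subfield Z F ↔ x = 0 ∨ x = 1 := by
    intro x
    constructor
    · intro hx
      apply hfix
      exact hx ⟨σ, Subgroup.mem_zpowers σ⟩
    · rintro (rfl | rfl)
      · exact zero_mem _
      · exact one_mem _
  have hcard2 : Nat.card (FixedPoints.subfield Z F) = 2 := by
    have : Nat.card (FixedPoints.subfield Z F) = Nat.card ({0, 1} : Set F) := by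
      apply Nat.card_congr
      refine Equiv.subtypeEquivRight ?_
      intro x
      rw [hsub]
      simp
    rw [this, Nat.card_coe_set_eq, Set.ncard_pair zero_ne_one]
  rw [Module.natCard_eq_pow_finrank (K := FixedPoints.subfield Z F) (V := F), hcard2, h1, hcardZ]


/-- conjugation by a unit preserves the subring generated by a set it normalizes. -/
theorem conj_mem_closure {E : Type*} [Ring E] {S : Set E} {a b : E} (hab : a * b = 1)
    (hba : b * a = 1) (hS : ∀ x ∈ S, a * x * b ∈ Subring.closure S) :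
    ∀ f ∈ Subring.closure S, a * f * b ∈ Subring.closure S := by
  intro f hf
  induction hf using Subring.closure_induction with
  | mem x hx => exact hS x hx
  | zero => rw [mul_zero, zero_mul]; exact zero_mem _
  | one => rw [mul_one, hab]; exact one_mem _
  | add x y _ _ hx hy =>
    have : a * (x + y) * b = a * x * b + a * y * b := by noncomm_ring
    rw [this]; exact add_mem hx hy
  | neg x _ hx =>
    have : a * (-x) * b = -(a * x * b) := by noncomm_ring
    rw [this]; exact neg_mem hx
  | mul x y _ _ hx hy =>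
    have : a * (x * y) * b = (a * x * b) * (a * y * b) := by
      calc a * (x * y) * b = a * x * (1 * y) * b := by rw [one_mul]; noncomm_ring
        _ = a * x * (b * a * y) * b := by rw [hba]
        _ = (a * x * b) * (a * y * b) := by noncomm_ring
    rw [this]; exact mul_mem hx hy

/-- the ring automorphism of a subring closure induced by conjugation with a unit. -/
def conjEquiv {E : Type*} [Ring E] {S : Set E} {a b : E} (hab : a * b = 1)
    (hba : b * a = 1) (hS : ∀ x ∈ S, a * x * b ∈ Subring.closure S)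
    (hS' : ∀ x ∈ S, b * x * a ∈ Subring.closure S) :
    Subring.closure S ≃+* Subring.closure S where
  toFun f := ⟨a * f.1 * b, conj_mem_closure hab hba hS f.1 f.2⟩
  invFun f := ⟨b * f.1 * a, conj_mem_closure hba hab hS' f.1 f.2⟩
  left_inv f := by
    apply Subtype.ext
    show b * (a * f.1 * b) * a = f.1
    calc b * (a * f.1 * b) * a = (b * a) * f.1 * (b * a) := by noncomm_ring
      _ = f.1 := by rw [hba, one_mul, mul_one]
  right_inv f := by
    apply Subtype.ext
    show a * (b * f.1 * a) * b = f.1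
    calc a * (b * f.1 * a) * b = (a * b) * f.1 * (a * b) := by noncomm_ring
      _ = f.1 := by rw [hab, one_mul, mul_one]
  map_mul' f g := by
    apply Subtype.ext
    show a * (f.1 * g.1) * b = (a * f.1 * b) * (a * g.1 * b)
    calc a * (f.1 * g.1) * b = a * f.1 * (1 * g.1) * b := by rw [one_mul]; noncomm_ring
      _ = a * f.1 * (b * a * g.1) * b := by rw [hba]
      _ = (a * f.1 * b) * (a * g.1 * b) := by noncomm_ring
  map_add' f g := by
    apply Subtype.ext
    show a * (f.1 + g.1) * b = (a * f.1 * b) + (a * g.1 * b)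
    noncomm_ring

theorem conjEquiv_apply {E : Type*} [Ring E] {S : Set E} {a b : E} (hab : a * b = 1)
    (hba : b * a = 1) (hS : ∀ x ∈ S, a * x * b ∈ Subring.closure S)
    (hS' : ∀ x ∈ S, b * x * a ∈ Subring.closure S) (f : Subring.closure S) :
    ((conjEquiv hab hba hS hS' f : Subring.closure S) : E) = a * f.1 * b := rfl


section

open scoped IsMulCommutative

variable {V A' : Type*} [AddCommGroup V] [Finite V] [Group A'] [DistribMulAction A' V]

theorem card_of_regular_abelian (K' : Subgroup A')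
    (hKcomm : ∀ k₁ ∈ K', ∀ k₂ ∈ K', k₁ * k₂ = k₂ * k₁)
    (htrans : ∀ v w : V, v ≠ 0 → w ≠ 0 → ∃ k ∈ K', k • v = w)
    (hfree : ∀ k ∈ K', ∀ v : V, v ≠ 0 → k • v = v → k = 1)
    (v₀ : V) (hv₀ : v₀ ≠ 0) (k₁ : A') (hk₁ : k₁ ∈ K') (hk₁1 : k₁ ≠ 1)
    (h : A') (hN : ∀ k ∈ K', h * k * h⁻¹ ∈ K') (hfpf : ∀ k ∈ K', h * k * h⁻¹ = k → k = 1)
    {p : ℕ} (hp : p.Prime) (hhp : h ^ p = 1) : Nat.card V = 2 ^ p := by
  classical
  have hfinE : Finite (AddMonoid.End V) := DFunLike.finite (V →+ V)
  let ρ : A' →* AddMonoid.End V := DistribMulAction.toAddMonoidEnd A' V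
  have hρ : ∀ (g : A') (v : V), ρ g v = g • v := fun g v => rfl
  have hmul : ∀ (f g : AddMonoid.End V) (v : V), (f * g) v = f (g v) := fun _ _ _ => rfl
  let S : Set (AddMonoid.End V) := ρ '' (K' : Set A')
  have hcommS : ∀ x ∈ S, ∀ y ∈ S, x * y = y * x := by
    rintro x ⟨k₁, hk₁, rfl⟩ y ⟨k₂, hk₂, rfl⟩
    rw [← map_mul, ← map_mul, hKcomm k₁ hk₁ k₂ hk₂]
  have instC : IsMulCommutative (Subring.closure S) := Subring.isMulCommutative_closure hcommS
  have hρmem : ∀ k ∈ K', ρ k ∈ Subring.closure S := fun k hk =>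
    Subring.subset_closure ⟨k, hk, rfl⟩
  -- elements of the closure commute with the action of `K'`
  have hcomm : ∀ f ∈ Subring.closure S, ∀ k ∈ K', f * ρ k = ρ k * f := by
    intro f hf k hk
    have := mul_comm (⟨f, hf⟩ : Subring.closure S) ⟨ρ k, hρmem k hk⟩
    exact congrArg Subtype.val this
  -- nonzero elements are injective
  have hinj : ∀ f ∈ Subring.closure S, ∀ v : V, v ≠ 0 → f v = 0 → f = 0 := by
    intro f hf v hv hfv
    ext w
    by_cases hw : w = 0
    · rw [hw, map_zero, map_zero]
    · obtain ⟨k, hk, rfl⟩ := htrans v w hv hw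
      rw [← hρ, ← hmul, hcomm f hf k hk, hmul, hfv, map_zero]
      rfl
  have hnzd : NoZeroDivisors (Subring.closure S) := by
    constructor
    intro f g hfg
    by_contra hcon
    push Not at hcon
    obtain ⟨hf0, hg0⟩ := hcon
    apply hg0
    apply Subtype.ext
    ext w
    by_contra hgw
    apply hf0
    apply Subtype.ext
    apply hinj f.1 f.2 (g.1 w) hgw
    have := congrArg (fun x : Subring.closure S => (x : AddMonoid.End V) w) hfg
    exact this
  have hnt : Nontrivial (Subring.closure S) := by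
    refine ⟨1, 0, ?_⟩
    intro h10
    apply hv₀
    have := congrArg (fun x : Subring.closure S => (x : AddMonoid.End V) v₀) h10
    exact this
  have hdom : IsDomain (Subring.closure S) := NoZeroDivisors.to_isDomain _
  let instF : Field (Subring.closure S) := (Finite.isField_of_domain (Subring.closure S)).toField
  -- evaluation at `v₀`
  have hev : Function.Bijective (fun f : Subring.closure S => (f : AddMonoid.End V) v₀) := by
    constructor
    · intro f g hfg
      have h1 : ((f - g : Subring.closure S) : AddMonoid.End V) v₀ = 0 := by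
        have e1 : (f.1 - g.1) v₀ = f.1 v₀ - g.1 v₀ := rfl
        show (f.1 - g.1) v₀ = 0
        rw [e1]
        exact sub_eq_zero.2 hfg
      have h2 := hinj _ (f - g).2 v₀ hv₀ h1
      have h3 : f - g = 0 := Subtype.ext h2
      exact sub_eq_zero.1 h3
    · intro w
      by_cases hw : w = 0
      · exact ⟨0, by rw [hw]; rfl⟩
      · obtain ⟨k, hk, hkw⟩ := htrans v₀ w hv₀ hw
        exact ⟨⟨ρ k, hρmem k hk⟩, hkw⟩
  have hcardV : Nat.card V = Nat.card (Subring.closure S) :=
    (Nat.card_eq_of_bijective _ hev).symm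
  -- nonzero elements come from `K'`
  have hnz : ∀ f : Subring.closure S, f ≠ 0 → ∃ k ∈ K', (f : AddMonoid.End V) = ρ k := by
    intro f hf
    have hfv : (f : AddMonoid.End V) v₀ ≠ 0 := by
      intro h0
      exact hf (Subtype.ext (hinj f.1 f.2 v₀ hv₀ h0))
    obtain ⟨k, hk, hkw⟩ := htrans v₀ _ hv₀ hfv
    refine ⟨k, hk, ?_⟩
    have := hev.1 (a₁ := f) (a₂ := ⟨ρ k, hρmem k hk⟩) hkw.symm
    exact congrArg Subtype.val this
  -- conjugation by powers of `h` preserves `K'`
  have hNpow : ∀ j : ℕ, ∀ k ∈ K', h ^ j * k * (h ^ j)⁻¹ ∈ K' := by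
    intro j
    induction j with
    | zero => intro k hk; simpa using hk
    | succ j ih =>
      intro k hk
      have : h ^ (j + 1) * k * (h ^ (j + 1))⁻¹ = h * (h ^ j * k * (h ^ j)⁻¹) * h⁻¹ := by
        rw [pow_succ']; group
      rw [this]; exact hN _ (ih k hk)
  have hinvh : h ^ (p - 1) = h⁻¹ := by
    have : h ^ (p - 1) * h = 1 := by rw [← pow_succ, Nat.sub_add_cancel hp.one_le, hhp]
    exact eq_inv_of_mul_eq_one_left this
  have hN' : ∀ k ∈ K', h⁻¹ * k * h ∈ K' := by
    intro k hk
    have := hNpow (p - 1) k hk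
    rwa [hinvh, inv_inv] at this
  let u : AddMonoid.End V := ρ h
  let ui : AddMonoid.End V := ρ h⁻¹
  have huui : u * ui = 1 := by rw [← map_mul, mul_inv_cancel, map_one]
  have huiu : ui * u = 1 := by rw [← map_mul, inv_mul_cancel, map_one]
  have hS1 : ∀ x ∈ S, u * x * ui ∈ Subring.closure S := by
    rintro x ⟨k, hk, rfl⟩
    rw [← map_mul, ← map_mul]; exact hρmem _ (hN k hk)
  have hS2 : ∀ x ∈ S, ui * x * u ∈ Subring.closure S := by
    rintro x ⟨k, hk, rfl⟩
    rw [← map_mul, ← map_mul]
    exact hρmem _ (hN' k hk)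
  let σ : Subring.closure S ≃+* Subring.closure S := conjEquiv huui huiu hS1 hS2
  have hσ : ∀ f : Subring.closure S, ((σ f : Subring.closure S) : AddMonoid.End V) = u * f.1 * ui :=
    fun f => rfl
  have hfaith : ∀ k ∈ K', ∀ k' ∈ K', ρ k = ρ k' → k = k' := by
    intro k hk k' hk' hkk
    have h1 : k • v₀ = k' • v₀ := by rw [← hρ, ← hρ, hkk]
    have h2 : (k'⁻¹ * k) • v₀ = v₀ := by rw [mul_smul, h1, inv_smul_smul]
    have h3 := hfree _ (K'.mul_mem (K'.inv_mem hk') hk) v₀ hv₀ h2
    exact (inv_mul_eq_one.1 h3).symm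
  have hfixσ : ∀ f : Subring.closure S, σ f = f → f = 0 ∨ f = 1 := by
    intro f hf
    by_cases hf0 : f = 0
    · exact Or.inl hf0
    · right
      obtain ⟨k, hk, hfk⟩ := hnz f hf0
      have h1 : u * f.1 * ui = f.1 := congrArg Subtype.val hf
      rw [hfk, ← map_mul, ← map_mul] at h1
      have h2 := hfaith _ (hN k hk) k hk h1
      have h3 := hfpf k hk h2
      apply Subtype.ext
      rw [hfk, h3, map_one]; rfl
  have hσpow : ∀ (j : ℕ) (f : Subring.closure S),
      (((σ ^ j) f : Subring.closure S) : AddMonoid.End V) = ρ (h ^ j) * f.1 * ρ ((h ^ j)⁻¹) := by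
    intro j
    induction j with
    | zero => intro f; simp
    | succ j ih =>
      intro f
      rw [pow_succ, RingAut.mul_apply, ih, hσ, pow_succ, mul_inv_rev, map_mul, map_mul]
      noncomm_ring
  have hσp : σ ^ p = 1 := by
    ext f
    rw [hσpow, hhp, inv_one, map_one, one_mul, mul_one]
    rfl
  have hσ1 : σ ≠ 1 := by
    intro h1
    have h2 : σ ⟨ρ k₁, hρmem k₁ hk₁⟩ = ⟨ρ k₁, hρmem k₁ hk₁⟩ := by rw [h1]; rfl
    rcases hfixσ _ h2 with h3 | h3
    · have h4 : ρ k₁ v₀ = 0 := by
        have := congrArg (fun x : Subring.closure S => (x : AddMonoid.End V) v₀) h3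
        exact this
      rw [hρ, smul_eq_zero_iff_eq] at h4
      exact hv₀ h4
    · have h4 : ρ k₁ = ρ 1 := by
        rw [map_one]
        exact congrArg Subtype.val h3
      exact hk₁1 (hfaith k₁ hk₁ 1 K'.one_mem h4)
  rw [hcardV]
  exact card_of_aut σ hp hσp hσ1 hfixσ

end

/-- the additive action attached to a homomorphism into `MulAut W`. -/
@[reducible] def distribOfHom {A' W : Type*} [Group A'] [CommGroup W] (φ : A' →* MulAut W) :
    DistribMulAction A' (Additive W) where
  smul g v := Additive.ofMul (φ g v.toMul)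
  one_smul v := by
    show Additive.ofMul (φ 1 v.toMul) = v
    rw [map_one]; rfl
  mul_smul g g' v := by
    show Additive.ofMul (φ (g * g') v.toMul) = Additive.ofMul (φ g (φ g' v.toMul))
    rw [map_mul]; rfl
  smul_zero g := by
    show Additive.ofMul (φ g 1) = 0
    rw [map_one]; rfl
  smul_add g v w := by
    show Additive.ofMul (φ g (v.toMul * w.toMul)) = Additive.ofMul (φ g v.toMul * φ g w.toMul)
    rw [map_mul]

/-- multiplicative version of `card_of_regular_abelian`. -/
theorem card_of_regular_abelian_mul {W A' : Type*} [CommGroup W] [Finite W] [Group A']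
    (φ : A' →* MulAut W) (K' : Subgroup A')
    (hKcomm : ∀ k₁ ∈ K', ∀ k₂ ∈ K', k₁ * k₂ = k₂ * k₁)
    (htrans : ∀ v w : W, v ≠ 1 → w ≠ 1 → ∃ k ∈ K', φ k v = w)
    (hfree : ∀ k ∈ K', ∀ v : W, v ≠ 1 → φ k v = v → k = 1)
    (v₀ : W) (hv₀ : v₀ ≠ 1) (k₁ : A') (hk₁ : k₁ ∈ K') (hk₁1 : k₁ ≠ 1)
    (h : A') (hN : ∀ k ∈ K', h * k * h⁻¹ ∈ K') (hfpf : ∀ k ∈ K', h * k * h⁻¹ = k → k = 1)
    {p : ℕ} (hp : p.Prime) (hhp : h ^ p = 1) : Nat.card W = 2 ^ p := by
  let _inst := distribOfHom φ
  have hsmul : ∀ (g : A') (v : Additive W), g • v = Additive.ofMul (φ g v.toMul) := fun g v => rfl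
  have hcard : Nat.card (Additive W) = Nat.card W := Nat.card_congr Additive.toMul
  rw [← hcard]
  refine card_of_regular_abelian (V := Additive W) K' hKcomm ?_ ?_ (Additive.ofMul v₀) ?_ k₁ hk₁
    hk₁1 h hN hfpf hp hhp
  · intro v w hv hw
    obtain ⟨k, hk, hkv⟩ := htrans v.toMul w.toMul (fun h => hv (by simpa using h))
      (fun h => hw (by simpa using h))
    refine ⟨k, hk, ?_⟩
    rw [hsmul, hkv]; rfl
  · intro k hk v hv hkv
    apply hfree k hk v.toMul (fun h => hv (by simpa using h))
    rw [hsmul] at hkv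
    exact congrArg Additive.toMul hkv
  · intro h
    apply hv₀
    exact congrArg Additive.toMul h

end Cfsg.Agent.Helper60.FieldAut
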