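import Mathlib
import Cfsg.Prelude.Def_Solvable

set_option autoImplicit false

/-!
# Fischer: a class of involutions with `p`-power products generates a group with nilpotent
derived subgroup — reduction to the `Z*`-type statement S5560.

`nilpotent_commutator_of_core` takes the conclusion of S5560 (for the given group) as a hypothesis.
-/

namespace Cfsg.Agent.Helper60.FischerNilp

open scoped commutatorElement

variable {G : Type*} [Group G]

theorem pCore_isPGroup (p : ℕ) (G : Type*) [Group G] : IsPGroup p (Cfsg.pCore p G) :=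
  Sylow.sSup_of_normal _ (fun _ h => h.2) (fun _ h => h.1)

theorem pCore_normal_aux (p : ℕ) (G : Type*) [Group G] : (Cfsg.pCore p G).Normal := by
  unfold Cfsg.pCore
  refine ⟨fun n hn g => ?_⟩
  have : ∀ N ∈ {N : Subgroup G | N.Normal ∧ IsPGroup p N}, N ≤
      (sSup {N : Subgroup G | N.Normal ∧ IsPGroup p N}).comap (MulAut.conj g).toMonoidHom := by
    intro N hN x hx
    rw [Subgroup.mem_comap]
    have hN' : N.Normal := hN.1
    have : (MulAut.conj g) x ∈ N := by
      simp only [MulAut.conj_apply]
      exact hN'.conj_mem x hx g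
    exact (le_sSup hN) this
  have h4 := (sSup_le this) hn
  rw [Subgroup.mem_comap] at h4
  simpa [MulAut.conj_apply] using h4

/-- If all products of two conjugates of the involution `d` lie in a normal subgroup `N`, and the
conjugates of `d` generate `G`, then `G' ≤ N`. -/
theorem commutator_le_of_products_mem {d : G} (hd : d * d = 1) (N : Subgroup G) [hN : N.Normal]
    (hgen : Subgroup.closure (conjugatesOf d) = ⊤)
    (h : ∀ a ∈ conjugatesOf d, ∀ b ∈ conjugatesOf d, a * b ∈ N) : commutator G ≤ N := by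
  -- every element of `G` is a power of `d` modulo `N`
  have key : ∀ g : G, ∃ n : ℤ, (g : G ⧸ N) = ((d : G ⧸ N)) ^ n := by
    intro g
    have hg : g ∈ Subgroup.closure (conjugatesOf d) := by rw [hgen]; trivial
    induction hg using Subgroup.closure_induction with
    | mem a ha =>
      refine ⟨1, ?_⟩
      rw [zpow_one]
      -- a N = d N since d⁻¹ a = d a ∈ N
      rw [QuotientGroup.eq]
      have hdinv : d⁻¹ = d := by
        rw [inv_eq_iff_mul_eq_one]; exact hd
      have h1 : d * a ∈ N := h d (mem_conjugatesOf_self) a ha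
      have : a⁻¹ * d ∈ N := by
        have := N.inv_mem h1
        rw [mul_inv_rev, hdinv] at this
        exact this
      exact this
    | one => exact ⟨0, by simp⟩
    | mul x y _ _ hx hy =>
      obtain ⟨m, hm⟩ := hx
      obtain ⟨n, hn⟩ := hy
      refine ⟨m + n, ?_⟩
      rw [QuotientGroup.mk_mul, hm, hn, zpow_add]
    | inv x _ hx =>
      obtain ⟨m, hm⟩ := hx
      refine ⟨-m, ?_⟩
      rw [QuotientGroup.mk_inv, hm, zpow_neg]
  rw [commutator_def, Subgroup.commutator_le]
  intro g _ k _
  obtain ⟨m, hm⟩ := key g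
  obtain ⟨n, hn⟩ := key k
  rw [← QuotientGroup.eq_one_iff]
  have : ((⁅g, k⁆ : G) : G ⧸ N) = ⁅(g : G ⧸ N), (k : G ⧸ N)⁆ := by
    simp [commutatorElement_def]
  rw [this, hm, hn, commutatorElement_eq_one_iff_commute]
  exact (Commute.refl _).zpow_zpow m n

/-- S1618 from the statement of S5560 (for the group `G`). -/
theorem nilpotent_commutator_of_core [Finite G] (p : ℕ) (hp : p.Prime) {D : Set G}
    (hinv : ∀ d ∈ D, orderOf d = 2) (hconj : ∃ d ∈ D, D = conjugatesOf d)
    (hgen : Subgroup.closure D = ⊤)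
    (hprod : ∀ x ∈ D, ∀ y ∈ D, x ≠ y → ∃ k : ℕ, orderOf (x * y) = p ^ k)
    (H : ∀ d : G, orderOf d = 2 →
      (∀ a ∈ conjugatesOf d, ∀ b ∈ conjugatesOf d, ∃ k : ℕ, orderOf (a * b) = p ^ k) →
      ∀ a ∈ conjugatesOf d, ∀ b ∈ conjugatesOf d, a * b ∈ Cfsg.pCore p G) :
    Group.IsNilpotent ↥(commutator G) := by
  obtain ⟨d, hdD, rfl⟩ := hconj
  have hd2 : orderOf d = 2 := hinv d hdD
  have hsq : ∀ a ∈ conjugatesOf d, a * a = 1 := by
    intro a ha
    have := hinv a ha
    rw [← pow_two, ← this, pow_orderOf_eq_one]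
  have hprod' : ∀ a ∈ conjugatesOf d, ∀ b ∈ conjugatesOf d, ∃ k : ℕ, orderOf (a * b) = p ^ k := by
    intro a ha b hb
    by_cases hab : a = b
    · subst hab
      exact ⟨0, by rw [hsq a ha, orderOf_one, pow_zero]⟩
    · exact hprod a ha b hb hab
  have hcore := H d hd2 hprod'
  have : (Cfsg.pCore p G).Normal := pCore_normal_aux p G
  have hle : commutator G ≤ Cfsg.pCore p G :=
    commutator_le_of_products_mem (hsq d hdD) _ hgen hcore
  have : Fact p.Prime := ⟨hp⟩
  have hpg : IsPGroup p ↥(commutator G) := (pCore_isPGroup p G).to_le hle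
  exact hpg.isNilpotent

end Cfsg.Agent.Helper60.FischerNilp
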