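import Cfsg.Agent.Helper60.InvertZ
import Cfsg.Agent.Helper1.FpfCyclic
import Cfsg.Agent.Helper73.PGroupCyclic

set_option autoImplicit false

namespace Cfsg.Agent.Helper60.FpfZ

open Subgroup

/-- A finite group of odd order acting fixed-point-freely on a nontrivial finite abelian group has
cyclic Sylow subgroups. -/
theorem isZGroup_of_fpf {A V : Type*} [Group A] [Finite A] [CommGroup V] [Finite V] [Nontrivial V]
    (φ : A →* MulAut V) (hfpf : ∀ a : A, a ≠ 1 → ∀ v : V, φ a v = v → v = 1)
    (hodd : Odd (Nat.card A)) : IsZGroup A := by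
  rw [isZGroup_iff]
  intro p hp P
  have := Fact.mk hp
  have hu : Cfsg.Agent.Helper73.UniqueOrderP p (P : Subgroup A) := by
    intro x0 y0 hx0 hy0
    have hnt : Nontrivial (P : Subgroup A) :=
      ⟨⟨x0, 1, by rintro rfl; rw [orderOf_one] at hx0; exact hp.one_lt.ne hx0⟩⟩
    have hcn : Nontrivial (center (P : Subgroup A)) := P.isPGroup'.center_nontrivial
    obtain ⟨⟨w, hw⟩, hw1⟩ := exists_ne (1 : center (P : Subgroup A))
    have hw1' : w ≠ 1 := fun h => hw1 (Subtype.ext h)
    obtain ⟨j, hj⟩ := (IsPGroup.iff_orderOf.1 P.isPGroup') w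
    have hj1 : 1 ≤ j := by
      by_contra h0
      have : j = 0 := by omega
      rw [this, pow_zero, orderOf_eq_one_iff] at hj
      exact hw1' hj
    have hz0ord := Cfsg.Agent.Helper73.orderOf_pow_pred hj hj1
    have hz0c : w ^ p ^ (j - 1) ∈ center (P : Subgroup A) := pow_mem hw _
    set z0 := w ^ p ^ (j - 1) with hz0
    have hclaim : ∀ y : (P : Subgroup A), orderOf y = p → y ∈ zpowers z0 := by
      intro y hy
      by_contra hyz
      let ι : (P : Subgroup A) →* A := (P : Subgroup A).subtype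
      have hι : Function.Injective ι := Subtype.val_injective
      have hab : Commute (ι y) (ι z0) :=
        (show Commute y z0 from mem_center_iff.1 hz0c y).map ι
      have ha : (ι y) ^ p = 1 := by
        have h := pow_orderOf_eq_one y
        rw [hy] at h
        rw [← map_pow, h, map_one]
      have hb : (ι z0) ^ p = 1 := by
        have h := pow_orderOf_eq_one z0
        rw [hz0ord] at h
        rw [← map_pow, h, map_one]
      have hb1 : ι z0 ≠ 1 := by
        intro h
        have : z0 = 1 := hι (h.trans (map_one ι).symm)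
        rw [this, orderOf_one] at hz0ord
        exact hp.one_lt.ne hz0ord
      have hind : ∀ i : ℕ, ι y * (ι z0) ^ i ≠ 1 := by
        intro i h
        apply hyz
        have h' : y * z0 ^ i = 1 := hι (by rw [map_mul, map_pow, map_one]; exact h)
        have : y = (z0 ^ i)⁻¹ := eq_inv_of_mul_eq_one_left h'
        rw [this]; exact inv_mem (pow_mem (mem_zpowers z0) i)
      exact Cfsg.Agent.Helper1.fpf_no_rank_two φ hfpf (ι y) (ι z0) hab ha hb hb1 hind
    have hx0z : zpowers x0 = zpowers z0 := by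
      apply Subgroup.eq_of_le_of_card_ge (zpowers_le.2 (hclaim x0 hx0))
      rw [Nat.card_zpowers, Nat.card_zpowers, hx0, hz0ord]
    rw [hx0z]
    exact hclaim y0 hy0
  rcases Cfsg.Agent.Helper73.cyclic_or_quaternion P.isPGroup' hu with h | ⟨-, n, -, ⟨e⟩⟩
  · exact h
  · exfalso
    have h1 : Nat.card (P : Subgroup A) = 4 * 2 ^ n := by
      rw [Nat.card_congr e.toEquiv, Nat.card_eq_fintype_card, QuaternionGroup.card]
    have h2 : Nat.card (P : Subgroup A) ∣ Nat.card A := Subgroup.card_subgroup_dvd_card _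
    rw [h1] at h2
    have h3 : Even (Nat.card A) :=
      (even_iff_two_dvd.2 (Dvd.dvd.mul_right (by norm_num) _)).trans_dvd h2
    exact (Nat.not_even_iff_odd.2 hodd) h3

/-- A finite group with cyclic Sylow subgroups admitting a fixed-point-free automorphism is
commutative. -/
theorem comm_of_fpf_aut {K : Type*} [Group K] [Finite K] [IsZGroup K] (τ : MulAut K)
    (hτ : ∀ k : K, τ k = k → k = 1) : ∀ a b : K, a * b = b * a := by
  classical
  set Y : Subgroup K := commutator K with hY
  have hYchar : Y.Characteristic := by rw [hY]; infer_instance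
  have hYn : Y.Normal := by rw [hY]; infer_instance
  have hτsY : ∀ k : K, k ∈ Y → τ.symm k ∈ Y := by
    intro k hk
    exact (Subgroup.characteristic_iff_map_le.1 hYchar τ.symm) (Subgroup.mem_map_of_mem _ hk)
  have hYcyc : IsCyclic Y := IsZGroup.isCyclic_commutator K
  obtain ⟨⟨y₀, hy₀Y⟩, hgen⟩ := IsCyclic.exists_generator (α := Y)
  have hYz : ∀ y ∈ Y, y ∈ Subgroup.zpowers y₀ := by
    intro y hy
    obtain ⟨j, hj⟩ := Subgroup.mem_zpowers_iff.1 (hgen ⟨y, hy⟩)
    exact Subgroup.mem_zpowers_iff.2 ⟨j, by simpa using congrArg Subtype.val hj⟩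
  -- every element is of the form `x⁻¹ * τ x`
  have hsurj : Function.Surjective (fun x : K => x⁻¹ * τ x) := by
    apply Finite.surjective_of_injective
    intro x x' hxx
    have h1 : x⁻¹ * τ x = x'⁻¹ * τ x' := hxx
    have h2 : τ (x' * x⁻¹) = x' * x⁻¹ := by
      rw [map_mul, map_inv]
      have : τ x = x * (x'⁻¹ * τ x') := by rw [← h1]; group
      rw [this]; group
    have h3 := hτ _ h2
    exact (mul_inv_eq_one.1 h3).symm
  have hcent : ∀ k : K, k * y₀ = y₀ * k := by
    intro k
    obtain ⟨x, rfl⟩ := hsurj k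
    have h1 := Cfsg.Agent.Helper60.InvertZ.comm_on_generator y₀ τ.symm.toMonoidHom
      (MulAut.conj x).toMonoidHom (hYz _ (hτsY _ hy₀Y)) (hYz _ (hYn.conj_mem y₀ hy₀Y x))
    have h2 : x * y₀ * x⁻¹ = τ x * y₀ * (τ x)⁻¹ := by
      have h3 := congrArg τ h1
      simp only [MulEquiv.coe_toMonoidHom, MulEquiv.apply_symm_apply, MulAut.conj_apply,
        map_mul, map_inv] at h3
      exact h3
    show x⁻¹ * τ x * y₀ = y₀ * (x⁻¹ * τ x)
    calc x⁻¹ * τ x * y₀ = x⁻¹ * (τ x * y₀ * (τ x)⁻¹) * τ x := by group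
      _ = x⁻¹ * (x * y₀ * x⁻¹) * τ x := by rw [h2]
      _ = y₀ * (x⁻¹ * τ x) := by group
  have hYcenter : Y ≤ Subgroup.center K := by
    intro y hy
    rw [Subgroup.mem_center_iff]
    intro k
    obtain ⟨j, rfl⟩ := Subgroup.mem_zpowers_iff.1 (hYz y hy)
    exact ((Commute.zpow_right (show Commute k y₀ from hcent k) j)).eq
  intro a b
  exact (MonoidHom.isMulCommutative_of_isCyclic_of_ker_le_center (Abelianization.of (G := K))
      (by rw [Abelianization.ker_of]; exact hYcenter)).is_comm.comm a b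

end Cfsg.Agent.Helper60.FpfZ
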