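import Cfsg.Agent.Helper87.FrakLDefs
import Cfsg.Prelude.Def_Solvable

/-! Piece (DIH) of #4935 (helper87, S2863/S2861): the "dihedral trick".  A finite group generated
by two involutions with trivial `O_2` is dihedral of twice odd order: the involution `a` is
self-centralizing and every element of odd order is a product of two conjugates of `a`
(helper60). -/

set_option autoImplicit false

namespace Cfsg.Agent.Helper60.FrakL



/-- With `O_2(Γ) = 1`, a normal subgroup of exponent two is trivial. -/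
theorem normal_two_eq_bot {Γ : Type*} [Group Γ] (hcore : Cfsg.pCore 2 Γ = ⊥) (N : Subgroup Γ)
    (hN : N.Normal) (h2 : ∀ x ∈ N, x * x = 1) : N = ⊥ := by
  have hP : IsPGroup 2 N := by
    intro g
    refine ⟨1, ?_⟩
    apply Subtype.ext
    have := h2 g.1 g.2
    simp [pow_two, this]
  have hle : N ≤ Cfsg.pCore 2 Γ := le_sSup ⟨hN, hP⟩
  rw [hcore] at hle
  exact le_bot_iff.mp hle

theorem dihedral_of_two_involutions {Γ : Type*} [Group Γ] [Finite Γ] (a b : Γ) (ha : a * a = 1)
    (hb : b * b = 1) (ha1 : a ≠ 1) (hgen : Subgroup.closure ({a, b} : Set Γ) = ⊤)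
    (hcore : Cfsg.pCore 2 Γ = ⊥) :
    (∀ x : Γ, x * a = a * x → x = 1 ∨ x = a) ∧
      (∀ x : Γ, Odd (orderOf x) → ∃ c : Γ, x = (c * a * c⁻¹) * a) := by
  have hainv : a⁻¹ = a := inv_eq_of_mul_eq_one_left ha
  have hbinv : b⁻¹ = b := inv_eq_of_mul_eq_one_left hb
  obtain ⟨r, hr⟩ : ∃ r : Γ, r = a * b := ⟨_, rfl⟩
  have hconj : a * r * a⁻¹ = r⁻¹ := by
    rw [hr, mul_inv_rev, hainv, hbinv, ← mul_assoc, ha, one_mul]
  have har : ∀ j : ℤ, a * r ^ j = r ^ (-j) * a := by
    intro j
    have h1 : a * r ^ j * a⁻¹ = r ^ (-j) := by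
      rw [← conj_zpow, hconj, inv_zpow']
    calc a * r ^ j = a * r ^ j * a⁻¹ * a := by group
      _ = r ^ (-j) * a := by rw [h1]
  -- every element is `r ^ i` or `r ^ i * a`
  have hall : ∀ x : Γ, ∃ i : ℤ, x = r ^ i ∨ x = r ^ i * a := by
    intro x
    have hx : x ∈ Subgroup.closure ({a, b} : Set Γ) := by rw [hgen]; trivial
    induction hx using Subgroup.closure_induction with
    | mem y hy =>
      rcases hy with hya | hyb
      · exact ⟨0, Or.inr (by rw [hya]; simp)⟩
      · have hyb' : y = b := hyb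
        refine ⟨-1, Or.inr ?_⟩
        rw [hyb', zpow_neg_one, hr, mul_inv_rev, inv_mul_cancel_right, hbinv]
    | one => exact ⟨0, Or.inl (by simp)⟩
    | mul y z _ _ hy hz =>
      obtain ⟨i, hi | hi⟩ := hy <;> obtain ⟨j, hj | hj⟩ := hz
      · exact ⟨i + j, Or.inl (by rw [hi, hj, zpow_add])⟩
      · exact ⟨i + j, Or.inr (by rw [hi, hj, zpow_add, mul_assoc])⟩
      · refine ⟨i - j, Or.inr ?_⟩
        rw [hi, hj, mul_assoc, har j, ← mul_assoc, ← zpow_add, sub_eq_add_neg]
      · refine ⟨i - j, Or.inl ?_⟩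
        rw [hi, hj, mul_assoc, ← mul_assoc a, har j, mul_assoc (r ^ (-j)), ha, mul_one,
          ← zpow_add, sub_eq_add_neg]
    | inv y _ hy =>
      obtain ⟨i, hi | hi⟩ := hy
      · exact ⟨-i, Or.inl (by rw [hi, zpow_neg])⟩
      · refine ⟨i, Or.inr ?_⟩
        rw [hi, mul_inv_rev, hainv, ← zpow_neg, har (-i), neg_neg]
  -- the order of `r` is odd
  have hodd : Odd (orderOf r) := by
    by_contra hne
    rw [Nat.not_odd_iff_even] at hne
    obtain ⟨j, hj⟩ := hne
    obtain ⟨z, hz⟩ : ∃ z : Γ, z = r ^ j := ⟨_, rfl⟩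
    have hzz : z * z = 1 := by rw [hz, ← pow_add, ← hj, pow_orderOf_eq_one]
    have hz1 : z ≠ 1 := by
      intro h
      rw [hz] at h
      have hd := orderOf_dvd_of_pow_eq_one h
      have hpos := orderOf_pos r
      have hjpos : 0 < j := by omega
      have := Nat.le_of_dvd hjpos hd
      omega
    have hzinv : z⁻¹ = z := inv_eq_of_mul_eq_one_left hzz
    have hza : a * z = z * a := by
      have h := har (j : ℤ)
      rw [zpow_neg, zpow_natCast, ← hz, hzinv] at h
      exact h
    have hzr : ∀ i : ℤ, z * r ^ i = r ^ i * z := by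
      intro i
      rw [hz]
      exact ((Commute.refl r).pow_left j).zpow_right i |>.eq
    have hzc : ∀ g : Γ, g * z = z * g := by
      intro g
      obtain ⟨i, hi | hi⟩ := hall g
      · rw [hi]; exact (hzr i).symm
      · rw [hi, mul_assoc, hza, ← mul_assoc, ← hzr i, mul_assoc]
    have hN : (Subgroup.zpowers z).Normal := by
      refine ⟨fun n hn g => ?_⟩
      obtain ⟨i, rfl⟩ := Subgroup.mem_zpowers_iff.mp hn
      have : g * z ^ i * g⁻¹ = z ^ i := by
        have hc : Commute g z := hzc g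
        rw [(hc.zpow_right i).eq, mul_inv_cancel_right]
      rw [this]
      exact Subgroup.zpow_mem _ (Subgroup.mem_zpowers z) i
    have hbot := normal_two_eq_bot hcore (Subgroup.zpowers z) hN (by
      intro x hx
      obtain ⟨i, rfl⟩ := Subgroup.mem_zpowers_iff.mp hx
      rw [← (Commute.refl z).mul_zpow i, hzz, one_zpow])
    have hzmem : z ∈ (⊥ : Subgroup Γ) := hbot ▸ Subgroup.mem_zpowers z
    exact hz1 (Subgroup.mem_bot.mp hzmem)
  -- `r ^ (2 i) = 1` forces `r ^ i = 1`
  have hsq : ∀ i : ℤ, r ^ (-i) = r ^ i → r ^ i = 1 := by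
    intro i h
    have h2 : r ^ (i + i) = 1 := by
      rw [zpow_add]
      nth_rewrite 1 [← h]
      rw [← zpow_add, neg_add_cancel, zpow_zero]
    have hd : (orderOf r : ℤ) ∣ i + i := orderOf_dvd_iff_zpow_eq_one.mpr h2
    have hcop : IsCoprime (orderOf r : ℤ) 2 := by
      rw [Int.isCoprime_iff_gcd_eq_one]
      have : Nat.Coprime (orderOf r) 2 := (Nat.coprime_two_right.mpr hodd)
      simpa [Int.gcd] using this
    have hd' : (orderOf r : ℤ) ∣ i := by
      have : (orderOf r : ℤ) ∣ 2 * i := by rwa [two_mul]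
      exact hcop.dvd_of_dvd_mul_left this
    exact orderOf_dvd_iff_zpow_eq_one.mp hd'
  refine ⟨?_, ?_⟩
  · intro x hx
    obtain ⟨i, hi | hi⟩ := hall x
    · left
      rw [hi] at hx ⊢
      apply hsq
      have := har i
      rw [← hx] at this
      exact (mul_right_cancel this).symm
    · right
      rw [hi] at hx ⊢
      have h1 : r ^ i = 1 := by
        apply hsq
        have h := har i
        rw [mul_assoc, ha, mul_one, ← mul_assoc, h] at hx
        -- hx : r ^ i = r ^ (-i) * a * a
        rw [mul_assoc, ha, mul_one] at hx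
        exact hx.symm
      rw [h1, one_mul]
  · intro x hx
    obtain ⟨i, hi | hi⟩ := hall x
    · -- x = r ^ i = r ^ (2 j)
      obtain ⟨k, hk⟩ := hodd
      refine ⟨r ^ (i * ((k : ℤ) + 1)), ?_⟩
      have h1 : r ^ (i * ((k : ℤ) + 1)) * a * (r ^ (i * ((k : ℤ) + 1)))⁻¹ * a
          = r ^ (i * ((k : ℤ) + 1) + i * ((k : ℤ) + 1)) := by
        rw [← zpow_neg, mul_assoc (r ^ (i * ((k : ℤ) + 1))) a, har, neg_neg, mul_assoc,
          mul_assoc, ha, mul_one, ← zpow_add]
      rw [h1, hi]
      have h2 : i * ((k : ℤ) + 1) + i * ((k : ℤ) + 1) = i + i * (orderOf r : ℤ) := by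
        rw [hk]; push_cast; ring
      rw [h2, zpow_add, zpow_mul', zpow_natCast r (orderOf r), pow_orderOf_eq_one, one_zpow,
        mul_one]
    · -- x = r ^ i * a is an involution or trivial, so trivial
      have hxx : x * x = 1 := by
        rw [hi, mul_assoc, ← mul_assoc a, har i, mul_assoc (r ^ (-i)), ha, mul_one, ← zpow_add,
          add_neg_cancel, zpow_zero]
      have hd : orderOf x ∣ 2 := orderOf_dvd_of_pow_eq_one (by rw [pow_two, hxx])
      have h1 : orderOf x = 1 := by
        rcases (Nat.dvd_prime Nat.prime_two).mp hd with h | h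
        · exact h
        · rw [h] at hx; exact absurd hx (by decide)
      have hx1 : x = 1 := orderOf_eq_one_iff.mp h1
      exact ⟨1, by rw [hx1]; simp [ha]⟩

end Cfsg.Agent.Helper60.FrakL
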