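import Mathlib
import Cfsg.Prelude.Def_Solvable
import Cfsg.Agent.Helper81.GA0
import Cfsg.Agent.Lib.Cores
import Cfsg.Agent.Helper21.Fitting
import Cfsg.Agent.Helper29.CoprimeCount
import Cfsg.Agent.Helper4.RankTwoSolv

/-!
# S4840 (Gagola), piece GA-B3 of helper81's plan #4127/#4128: the case `|V| = 81` (helper60)

A solvable group `Γ` acting faithfully and linearly on `V = 𝔽₃⁴`, transitively on the nonzero
vectors, with `3`-groups as point stabilizers, has order prime to `3`.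
-/

set_option autoImplicit false

namespace Cfsg.Agent.Helper60.GagolaB3

open Cfsg.Agent.Helper81.GA Subgroup

universe u

section
variable {V : Type*} [AddCommGroup V] [Module (ZMod 3) V] {Γ : Type u} [Group Γ]
  (ρ : Γ →* (V ≃ₗ[ZMod 3] V))

/-- a `p`-subgroup `P` acting on an invariant subset `X` of `V`: `|X| ≡ |X^P| (mod p)` -/
theorem card_modEq_card_fixed [Finite V] {p : ℕ} [Fact p.Prime] (P : Subgroup Γ)
    (hP : IsPGroup p P) (X : Set V) (hX : ∀ g ∈ P, ∀ x ∈ X, ρ g x ∈ X) :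
    Nat.card X ≡ Nat.card {x : X // ∀ g ∈ P, ρ g (x : V) = x} [MOD p] := by
  letI : MulAction P X :=
    { smul := fun g x => ⟨ρ g x, hX g g.2 x x.2⟩
      one_smul := fun x => Subtype.ext (by show ρ ((1 : P) : Γ) x = x; simp)
      mul_smul := fun g h x => Subtype.ext (by
        show ρ ((g * h : P) : Γ) x = ρ g (ρ h x); simp) }
  have h := hP.card_modEq_card_fixedPoints X
  have e : MulAction.fixedPoints P X = {x : X | ∀ g ∈ P, ρ g (x : V) = x} := by
    ext x
    constructor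
    · intro hx g hg
      exact congrArg Subtype.val (hx ⟨g, hg⟩)
    · intro hx g
      exact Subtype.ext (hx g g.2)
  rw [e] at h
  exact h

/-- if only `0` is fixed then the fixed-point subtype has one element -/
theorem card_fixed_eq_one {P : Subgroup Γ} {X : Set V} (h0 : (0 : V) ∈ X)
    (h : ∀ x ∈ X, (∀ g ∈ P, ρ g x = x) → x = 0) :
    Nat.card {x : X // ∀ g ∈ P, ρ g (x : V) = x} = 1 := by
  rw [Nat.card_eq_one_iff_unique]
  refine ⟨⟨fun a b => ?_⟩, ⟨⟨⟨0, h0⟩, fun g _ => by simp⟩⟩⟩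
  apply Subtype.ext
  apply Subtype.ext
  rw [h a.1.1 a.1.2 a.2, h b.1.1 b.1.2 b.2]

/-- **GA-B3**: the case `|V| = 81`. -/
theorem linConcl_of_card_81 {V : Type*} [AddCommGroup V] [Module (ZMod 3) V] [Finite V]
    {Γ : Type u} [Group Γ] [Finite Γ] (hsol : Group.IsSolvable Γ)
    (ρ : Γ →* (V ≃ₗ[ZMod 3] V)) (hρ : Function.Injective ρ)
    (htrans : ∀ v w : V, v ≠ 0 → w ≠ 0 → ∃ g : Γ, ρ g v = w)
    (hstab : ∀ v : V, v ≠ 0 → ∀ g : Γ, ρ g v = v → ∃ k : ℕ, orderOf g = 3 ^ k)
    (hcard : Nat.card V = 81) : LinConcl 3 Γ := by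
  classical
  haveI : Fact (Nat.Prime 3) := ⟨Nat.prime_three⟩
  haveI : Fact (Nat.Prime 5) := ⟨by norm_num⟩
  haveI : Fact (Nat.Prime 2) := ⟨Nat.prime_two⟩
  have hmul : ∀ (a b : Γ) (v : V), ρ (a * b) v = ρ a (ρ b v) := fun a b v => by
    rw [map_mul]; rfl
  have hone' : ∀ v : V, ρ 1 v = v := fun v => by rw [map_one]; rfl
  -- semiregularity of `3'`-elements
  have hsemi : ∀ g : Γ, (orderOf g).Coprime 3 → ∀ v : V, v ≠ 0 → ρ g v = v → g = 1 := by
    intro g hg v hv h
    obtain ⟨k, hk⟩ := hstab v hv g h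
    rw [hk] at hg
    rcases k with _ | k
    · rw [pow_zero] at hk
      exact orderOf_eq_one_iff.mp hk
    · exfalso
      have h3 : 3 = 1 := Nat.Coprime.eq_one_of_dvd hg.symm (dvd_pow_self 3 (Nat.succ_ne_zero k))
      omega
  obtain ⟨v0, hv0⟩ : ∃ v : V, v ≠ 0 := by
    haveI : Nontrivial V := (Finite.one_lt_card_iff_nontrivial).mp (by rw [hcard]; norm_num)
    exact exists_ne 0
  -- the order of `Γ`
  letI : MulAction Γ V := MulAction.compHom V ρ
  have horb : MulAction.orbit Γ v0 = {v : V | v ≠ 0} := by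
    ext w
    constructor
    · rintro ⟨g, rfl⟩
      show ρ g v0 ≠ 0
      simpa using hv0
    · intro hw
      obtain ⟨g, hg⟩ := htrans v0 w hv0 hw
      exact ⟨g, hg⟩
  have hidx : (MulAction.stabilizer Γ v0).index = 80 := by
    rw [MulAction.index_stabilizer, horb]
    have h1 : ({v : V | v ≠ 0} : Set V) = {0}ᶜ := by ext; simp
    rw [h1, Set.ncard_compl, Set.ncard_singleton, hcard]
  have hstabp : IsPGroup 3 (MulAction.stabilizer Γ v0) := by
    rw [IsPGroup.iff_orderOf]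
    intro g
    obtain ⟨k, hk⟩ := hstab v0 hv0 g g.2
    exact ⟨k, by rw [Subgroup.orderOf_mk] at *; rw [← hk, Subgroup.orderOf_coe]⟩
  obtain ⟨a, ha⟩ := hstabp.exists_card_eq
  have hΓ : Nat.card Γ = 3 ^ a * 80 := by
    rw [← ha, ← hidx]; exact (Subgroup.card_mul_index _).symm
  rcases Nat.eq_zero_or_pos a with h0 | hapos
  · -- `3 ∤ |Γ|`
    rw [h0, pow_zero, one_mul] at hΓ
    have hcop : (Nat.card Γ).Coprime 3 := by rw [hΓ]; norm_num
    refine ⟨?_, ?_⟩
    · exact Cfsg.Agent.Helper4.hasNormalPComplement_of_coprime_of_index 3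
        (⊤ : Subgroup Γ) (by rwa [Subgroup.card_top]) 0 (by simp)
    · intro Q
      have hQ : Nat.card Q = 1 := by
        obtain ⟨n, hn⟩ := Q.2.exists_card_eq
        have hd : Nat.card Q ∣ Nat.card Γ := Subgroup.card_subgroup_dvd_card _
        rcases n with _ | n
        · simpa using hn
        · exfalso
          have h3 : 3 ∣ Nat.card Q := by rw [hn]; exact dvd_pow_self 3 (Nat.succ_ne_zero n)
          have : 3 ∣ 80 := hΓ ▸ h3.trans hd
          omega
      haveI : Subsingleton Q := (Nat.card_eq_one_iff_unique.mp hQ).1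
      exact ⟨⟨fun x y => Subsingleton.elim _ _⟩⟩
  exfalso
  have h3Γ : 3 ∣ Nat.card Γ := by
    rw [hΓ]; exact Dvd.dvd.mul_right (dvd_pow_self 3 hapos.ne') 80
  have h5Γ : 5 ∣ Nat.card Γ := by
    rw [hΓ]; exact Dvd.dvd.mul_left (by norm_num) _
  obtain ⟨s, hs⟩ := exists_prime_orderOf_dvd_card' 3 h3Γ
  obtain ⟨z5, hz5⟩ := exists_prime_orderOf_dvd_card' 5 h5Γ
  -- `3`-subgroups fix a nonzero vector
  have hfix3 : ∀ P : Subgroup Γ, IsPGroup 3 P → ∃ v : V, v ≠ 0 ∧ ∀ g ∈ P, ρ g v = v := by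
    intro P hP
    by_contra hno
    push Not at hno
    have h1 := card_modEq_card_fixed ρ P hP Set.univ (fun _ _ _ _ => Set.mem_univ _)
    have h2 : Nat.card {x : (Set.univ : Set V) // ∀ g ∈ P, ρ g (x : V) = x} = 1 :=
      card_fixed_eq_one ρ (Set.mem_univ _) (fun x _ hx => by
        by_contra hx0
        obtain ⟨g, hg, hne⟩ := hno x hx0
        exact hne (hx g hg))
    rw [h2, Nat.card_coe_set_eq, Set.ncard_univ, hcard] at h1
    exact absurd h1 (by decide)
  -- `O_3(Γ) = 1`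
  haveI hc3 : (Cfsg.pCore 3 Γ).Characteristic := Cfsg.Agent.Lib.pCore_characteristic 3
  haveI hc5 : (Cfsg.pCore 5 Γ).Characteristic := Cfsg.Agent.Lib.pCore_characteristic 5
  have hO3 : Cfsg.pCore 3 Γ = ⊥ := by
    have hn : (Cfsg.pCore 3 Γ).Normal := inferInstance
    obtain ⟨v1, hv1, hv1fix⟩ := hfix3 _ (Cfsg.Agent.Lib.isPGroup_pCore 3)
    rw [eq_bot_iff]
    intro g hg
    rw [Subgroup.mem_bot]
    apply hρ
    rw [map_one]
    ext w
    show ρ g w = w
    by_cases hw : w = 0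
    · rw [hw, map_zero]
    · obtain ⟨γ, hγ⟩ := htrans v1 w hv1 hw
      have hconj : γ⁻¹ * g * γ ∈ Cfsg.pCore 3 Γ := by
        have := hn.conj_mem g hg γ⁻¹
        simpa using this
      have h1 := hv1fix _ hconj
      rw [← hγ]
      have e : g * γ = γ * (γ⁻¹ * g * γ) := by group
      rw [← hmul, e, hmul, h1]
  -- the Fitting subgroup
  have hFn : (Cfsg.fittingSubgroup Γ).Normal := Cfsg.Agent.Lib.fittingSubgroup_normal
  have hCF : centralizer ((Cfsg.fittingSubgroup Γ : Subgroup Γ) : Set Γ) ≤ Cfsg.fittingSubgroup Γ := by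
    have hCn : (centralizer ((Cfsg.fittingSubgroup Γ : Subgroup Γ) : Set Γ)).Normal :=
      Subgroup.normal_centralizer
    have hCs : Group.IsSolvable ↥(centralizer ((Cfsg.fittingSubgroup Γ : Subgroup Γ) : Set Γ)) :=
      Group.isSolvable_of_isSolvable_injective (Subgroup.subtype_injective _)
    exact Cfsg.Agent.Helper21.le_fittingSubgroup_of_isSolvable_of_le_centralizer
      (Nat.card (centralizer ((Cfsg.fittingSubgroup Γ : Subgroup Γ) : Set Γ))) _ le_rfl hCn hCs le_rfl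
  have hF3 : (Nat.card (Cfsg.fittingSubgroup Γ)).Coprime 3 := by
    have := Cfsg.Agent.Lib.relIndex_pCore_fittingSubgroup_coprime (G := Γ) 3
    rwa [hO3, Subgroup.relIndex_bot_left] at this
  have hFdvd : Nat.card (Cfsg.fittingSubgroup Γ) ∣ 80 := by
    have h1 : Nat.card (Cfsg.fittingSubgroup Γ) ∣ 3 ^ a * 80 :=
      hΓ ▸ Subgroup.card_subgroup_dvd_card _
    exact (Nat.Coprime.pow_right a hF3).dvd_of_dvd_mul_left h1
  -- involutions act as `-1`
  have hinv : ∀ t : Γ, orderOf t = 2 → ∀ v : V, ρ t v = -v := by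
    intro t ht v
    have ht2 : t * t = 1 := by rw [← pow_two, ← ht, pow_orderOf_eq_one]
    have hw : ρ t (v + ρ t v) = v + ρ t v := by
      rw [map_add, ← hmul, ht2, hone', add_comm]
    by_contra hne
    have hw0 : v + ρ t v ≠ 0 := fun h => hne (eq_neg_of_add_eq_zero_right h)
    have := hsemi t (by rw [ht]; norm_num) _ hw0 hw
    rw [this, orderOf_one] at ht
    omega
  -- `O_5(Γ) ≠ 1`
  have hO5 : Cfsg.pCore 5 Γ ≠ ⊥ := by
    intro hO5
    have hF5 : (Nat.card (Cfsg.fittingSubgroup Γ)).Coprime 5 := by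
      have := Cfsg.Agent.Lib.relIndex_pCore_fittingSubgroup_coprime (G := Γ) 5
      rwa [hO5, Subgroup.relIndex_bot_left] at this
    have hF16 : Nat.card (Cfsg.fittingSubgroup Γ) ∣ 16 := by
      have h1 : Nat.card (Cfsg.fittingSubgroup Γ) ∣ 5 * 16 := hFdvd
      exact hF5.dvd_of_dvd_mul_left h1
    obtain ⟨m, hm4, hm⟩ := (Nat.dvd_prime_pow Nat.prime_two).mp
      (show Nat.card (Cfsg.fittingSubgroup Γ) ∣ 2 ^ 4 from hF16)
    have hP : IsPGroup 5 (zpowers z5) :=
      IsPGroup.of_card (n := 1) (by rw [Nat.card_zpowers, hz5, pow_one])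
    have hPF : zpowers z5 ≤ normalizer ((Cfsg.fittingSubgroup Γ : Subgroup Γ) : Set Γ) := by
      rw [Subgroup.normalizer_eq_top_iff.mpr hFn]; exact le_top
    have hmod := Cfsg.Agent.Helper29.card_modEq_card_inf_centralizer hP hPF
    have hCdvd : Nat.card (Cfsg.fittingSubgroup Γ ⊓ centralizer (zpowers z5 : Set Γ) : Subgroup Γ) ∣
        2 ^ m := hm ▸ Subgroup.card_dvd_of_le inf_le_left
    obtain ⟨j, hjm, hj⟩ := (Nat.dvd_prime_pow Nat.prime_two).mp hCdvd
    rw [hm, hj] at hmod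
    have hcases : j = m ∨ (m = 4 ∧ j = 0) := by
      have hj4 : j ≤ 4 := hjm.trans hm4
      clear hCdvd hj hm hPF hP hF16 hF5
      interval_cases m <;> interval_cases j <;> first | (left; rfl) | (right; exact ⟨rfl, rfl⟩) | (exfalso; revert hmod; decide)
    rcases hcases with hjm' | ⟨hm4', hj0⟩
    · -- `z5` centralizes `F`
      have hCF' : Cfsg.fittingSubgroup Γ ⊓ centralizer (zpowers z5 : Set Γ) = Cfsg.fittingSubgroup Γ :=
        Subgroup.eq_of_le_of_card_ge inf_le_left (by rw [hm, hj, hjm'])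
      have hz : z5 ∈ centralizer ((Cfsg.fittingSubgroup Γ : Subgroup Γ) : Set Γ) := by
        rw [mem_centralizer_iff]
        intro f hf
        have hf' : f ∈ Cfsg.fittingSubgroup Γ ⊓ centralizer (zpowers z5 : Set Γ) := by
          rw [hCF']; exact hf
        exact (mem_centralizer_iff.mp hf'.2 z5 (mem_zpowers z5)).symm
      have hzF := hCF hz
      have h5 : 5 ∣ Nat.card (Cfsg.fittingSubgroup Γ) := hz5 ▸ Subgroup.orderOf_dvd_natCard _ hzF
      have : 5 ∣ 16 := h5.trans hF16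
      omega
    · -- the unique involution is centralized by `z5`
      have h2F : 2 ∣ Nat.card (Cfsg.fittingSubgroup Γ) := by rw [hm, hm4']; norm_num
      obtain ⟨t, ht⟩ := exists_prime_orderOf_dvd_card' 2 h2F
      have hto : orderOf (t : Γ) = 2 := by rw [Subgroup.orderOf_coe]; exact ht
      have hconj : z5 * t * z5⁻¹ = t := by
        apply hρ
        ext v
        rw [hmul, hmul, hinv (t : Γ) hto, map_neg, ← hmul, mul_inv_cancel, hone', hinv (t : Γ) hto]
      have hc : Commute z5 (t : Γ) := by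
        show z5 * t = t * z5
        calc z5 * (t : Γ) = z5 * t * z5⁻¹ * z5 := by group
          _ = t * z5 := by rw [hconj]
      have htC : (t : Γ) ∈ Cfsg.fittingSubgroup Γ ⊓ centralizer (zpowers z5 : Set Γ) := by
        refine ⟨t.2, ?_⟩
        show (t : Γ) ∈ centralizer (zpowers z5 : Set Γ)
        rw [mem_centralizer_iff]
        intro x hx
        obtain ⟨n, rfl⟩ := mem_zpowers_iff.mp hx
        exact (hc.zpow_left n).eq
      have hC1 : Nat.card (Cfsg.fittingSubgroup Γ ⊓ centralizer (zpowers z5 : Set Γ) : Subgroup Γ) = 1 := by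
        rw [hj, hj0, pow_zero]
      rw [Subgroup.card_eq_one.mp hC1, Subgroup.mem_bot] at htC
      rw [htC, orderOf_one] at hto
      omega
  -- `|O_5(Γ)| = 5`
  have hZp : IsPGroup 5 (Cfsg.pCore 5 Γ) := Cfsg.Agent.Lib.isPGroup_pCore 5
  obtain ⟨i, hi⟩ := hZp.exists_card_eq
  have hi1 : i = 1 := by
    have hdvd : 5 ^ i ∣ 3 ^ a * 80 := by
      rw [← hi, ← hΓ]; exact Subgroup.card_subgroup_dvd_card _
    have hcop : (5 ^ i).Coprime (3 ^ a) := Nat.Coprime.pow _ _ (by norm_num)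
    have h80 : 5 ^ i ∣ 80 := hcop.dvd_of_dvd_mul_left hdvd
    have hi0 : i ≠ 0 := by
      intro h
      rw [h, pow_zero] at hi
      exact hO5 (Subgroup.card_eq_one.mp hi)
    by_contra hne
    have hi2 : 2 ≤ i := by omega
    have : 5 ^ 2 ∣ 80 := (pow_dvd_pow 5 hi2).trans h80
    omega
  rw [hi1, pow_one] at hi
  -- `s` centralizes some `z ∈ O_5(Γ)#`
  have hS : IsPGroup 3 (zpowers s) :=
    IsPGroup.of_card (n := 1) (by rw [Nat.card_zpowers, hs, pow_one])
  have hSZ : zpowers s ≤ normalizer ((Cfsg.pCore 5 Γ : Subgroup Γ) : Set Γ) := by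
    rw [Subgroup.normalizer_eq_top_iff.mpr inferInstance]; exact le_top
  have hmod := Cfsg.Agent.Helper29.card_modEq_card_inf_centralizer hS hSZ
  rw [hi] at hmod
  have hCne : (Cfsg.pCore 5 Γ ⊓ centralizer (zpowers s : Set Γ) : Subgroup Γ) ≠ ⊥ := by
    intro h
    rw [h, Subgroup.card_bot] at hmod
    exact absurd hmod (by decide)
  obtain ⟨z, hz, hz1⟩ := (Subgroup.bot_or_exists_ne_one _).resolve_left hCne
  have hzo : orderOf z = 5 := by
    have h1 : orderOf z ∣ 5 := hi ▸ Subgroup.orderOf_dvd_natCard _ hz.1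
    rcases (Nat.dvd_prime (by norm_num)).mp h1 with h | h
    · exact absurd (orderOf_eq_one_iff.mp h) hz1
    · exact h
  have hsz : Commute s z := mem_centralizer_iff.mp hz.2 s (mem_zpowers s)
  -- the fixed space of `s`
  let WA : AddSubgroup V :=
    { carrier := {v | ρ s v = v}
      zero_mem' := map_zero _
      add_mem' := fun {a b} ha hb => by
        show ρ s (a + b) = a + b
        rw [map_add, ha, hb]
      neg_mem' := fun {a} ha => by
        show ρ s (-a) = -a
        rw [map_neg, ha] }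
  have hWmem : ∀ v : V, v ∈ (WA : Set V) ↔ ρ s v = v := fun v => Iff.rfl
  have hWz : ∀ g ∈ zpowers z, ∀ w ∈ (WA : Set V), ρ g w ∈ (WA : Set V) := by
    intro g hg w hw
    obtain ⟨n, rfl⟩ := mem_zpowers_iff.mp hg
    have hc : Commute s (z ^ n) := hsz.zpow_right n
    rw [hWmem] at hw ⊢
    rw [← hmul, hc.eq, hmul, hw]
  have hZ5 : IsPGroup 5 (zpowers z) :=
    IsPGroup.of_card (n := 1) (by rw [Nat.card_zpowers, hzo, pow_one])
  have hmodW := card_modEq_card_fixed ρ (zpowers z) hZ5 (WA : Set V) hWz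
  have hone : Nat.card {x : (WA : Set V) // ∀ g ∈ zpowers z, ρ g (x : V) = x} = 1 :=
    card_fixed_eq_one ρ (WA.zero_mem) (fun x _ hx => by
      by_contra hx0
      exact hz1 (hsemi z (by rw [hzo]; norm_num) x hx0 (hx z (mem_zpowers z))))
  rw [hone] at hmodW
  have hWdvd : Nat.card (WA : Set V) ∣ 81 := hcard ▸ (AddSubgroup.card_addSubgroup_dvd_card WA)
  obtain ⟨j, hj4, hj⟩ := (Nat.dvd_prime_pow Nat.prime_three).mp
    (show Nat.card (WA : Set V) ∣ 3 ^ 4 from hWdvd)
  rw [hj] at hmodW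
  obtain ⟨v1, hv1, hv1s⟩ := hfix3 (zpowers s) hS
  have hv1W : v1 ∈ (WA : Set V) := hv1s s (mem_zpowers s)
  have hj0 : j ≠ 0 := by
    intro h
    rw [h, pow_zero] at hj
    have hsub := (Nat.card_eq_one_iff_unique.mp hj).1
    have h2 := hsub.elim (⟨v1, hv1W⟩ : (WA : Set V)) ⟨0, WA.zero_mem⟩
    exact hv1 (congrArg Subtype.val h2)
  have hj4' : j = 4 := by
    clear hj hWdvd hone
    interval_cases j <;> first | rfl | (exfalso; revert hmodW; decide) | omega
  have hWtop : WA = ⊤ := by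
    apply (AddSubgroup.card_eq_iff_eq_top WA).mp
    have : Nat.card WA = Nat.card (WA : Set V) := rfl
    rw [this, hj, hj4', hcard]; norm_num
  have hs1 : s = 1 := by
    apply hρ
    ext v
    rw [hone']
    have : v ∈ WA := by rw [hWtop]; exact AddSubgroup.mem_top v
    exact this
  rw [hs1, orderOf_one] at hs
  omega

end

end Cfsg.Agent.Helper60.GagolaB3
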