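import Mathlib
import Cfsg.Agent.Helper17.SylowKit
import Cfsg.Agent.Helper17.SylowKit2
import Cfsg.Agent.Helper61.J1Count

/-!
# Two leaves of helper61's S4274 (`|G| = 175560`): no simple group of order `87780` (helper60)

`not_simple_87780_210_of`, `not_simple_87780_1540_of`: pieces (L7), (L8) of board post #3711/#3714,
with the counting tool `three_prime_count` of helper61 taken as the hypothesis `CNT K`.
-/

set_option autoImplicit false
set_option linter.unusedVariables false
set_option linter.style.haveILetI false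
set_option linter.unusedSectionVars false

namespace Cfsg.Agent.Helper60.J1

open Cfsg.Agent.Helper17 Subgroup

variable {K : Type*} [Group K] [Finite K]

/-- the counting tool (helper61's `three_prime_count`), as a hypothesis -/
def CNT (K : Type*) [Group K] [Finite K] : Prop :=
  ∀ (p q r : ℕ) [Fact p.Prime] [Fact q.Prime] [Fact r.Prime] (P : Sylow p K) (Q : Sylow q K)
    (R : Sylow r K), Nat.card (P : Subgroup K) = p → Nat.card (Q : Subgroup K) = q →
    Nat.card (R : Subgroup K) = r →
    ¬ q ∣ Nat.card (Subgroup.centralizer ((P : Subgroup K) : Set K)) →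
    ¬ r ∣ Nat.card (Subgroup.centralizer ((P : Subgroup K) : Set K)) →
    ¬ r ∣ Nat.card (Subgroup.centralizer ((Q : Subgroup K) : Set K)) →
    Nat.card (Sylow p K) * ((p - 1) * (Nat.card (Subgroup.centralizer ((P : Subgroup K) : Set K)) / p)) +
      Nat.card (Sylow q K) * ((q - 1) * (Nat.card (Subgroup.centralizer ((Q : Subgroup K) : Set K)) / q)) +
      Nat.card (Sylow r K) * ((r - 1) * (Nat.card (Subgroup.centralizer ((R : Subgroup K) : Set K)) / r)) + 1
      ≤ Nat.card K

/-- arithmetic of `N(P)`, `C(P)` for a Sylow subgroup of prime order in a simple group -/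
theorem normalizer_data [IsSimpleGroup K] {p : ℕ} [Fact p.Prime] (P : Sylow p K)
    (hP : Nat.card (P : Subgroup K) = p) (hK : Nat.card K ≠ p) :
    ∃ c f : ℕ, c = Nat.card (centralizer ((P : Subgroup K) : Set K)) ∧ f ∣ p - 1 ∧ 1 < f ∧
      c * f = Nat.card (normalizer ((P : Subgroup K) : Set K)) ∧ p ∣ c ∧
      Nat.card (normalizer ((P : Subgroup K) : Set K)) * Nat.card (Sylow p K) = Nat.card K := by
  have hp : p.Prime := Fact.out
  obtain ⟨h1, h2⟩ := relIndex_dvd_of_card_sylow_prime P hP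
  have hcm := card_centralizer_mul_relIndex (P : Subgroup K)
  have hne : ¬ (normalizer ((P : Subgroup K) : Set K) ≤ centralizer ((P : Subgroup K) : Set K)) :=
    not_normalizer_le_centralizer_of_simple P (by rw [hP]; exact hp.one_lt.ne')
      (by rw [hP]; exact hK.symm)
  have h0 : (centralizer ((P : Subgroup K) : Set K)).relIndex
      (normalizer ((P : Subgroup K) : Set K)) ≠ 0 := Subgroup.index_ne_zero_of_finite
  have h1' : (centralizer ((P : Subgroup K) : Set K)).relIndex
      (normalizer ((P : Subgroup K) : Set K)) ≠ 1 := fun h => hne (Subgroup.relIndex_eq_one.mp h)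
  have hle : (P : Subgroup K) ≤ centralizer ((P : Subgroup K) : Set K) := by
    have : Fact (Nat.card (P : Subgroup K)).Prime := ⟨hP.symm ▸ hp⟩
    have hcyc : IsCyclic (P : Subgroup K) :=
      isCyclic_of_prime_card (p := Nat.card (P : Subgroup K)) rfl
    have : IsMulCommutative (P : Subgroup K) := ⟨⟨fun a b => by
      let := hcyc.commGroup; exact mul_comm a b⟩⟩
    exact Subgroup.le_centralizer _
  have hdvd : p ∣ Nat.card (centralizer ((P : Subgroup K) : Set K)) := by
    have := Subgroup.card_dvd_of_le hle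
    rwa [hP] at this
  exact ⟨_, _, rfl, h1, by omega, hcm, hdvd, card_normalizer_mul_card_sylow P⟩

/-- **(CEN)**: a prime `q ≠ p` dividing `|N(P)|` but not `p - 1`, with `q ∥ |K|`, gives a Sylow
`q`-subgroup `Q` of order `q` with `p q ∣ |C(Q)|`. -/
theorem cen {p q : ℕ} [Fact p.Prime] [Fact q.Prime] (hpq : p ≠ q) (P : Sylow p K)
    (hP : Nat.card (P : Subgroup K) = p) (hq2 : ¬ q ^ 2 ∣ Nat.card K)
    (hqN : q ∣ Nat.card (normalizer ((P : Subgroup K) : Set K))) (hqp : ¬ q ∣ p - 1) :
    ∃ Q : Sylow q K, Nat.card (Q : Subgroup K) = q ∧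
      p * q ∣ Nat.card (centralizer ((Q : Subgroup K) : Set K)) := by
  have hp : p.Prime := Fact.out
  have hq : q.Prime := Fact.out
  obtain ⟨h1, -⟩ := relIndex_dvd_of_card_sylow_prime P hP
  have hcm := card_centralizer_mul_relIndex (P : Subgroup K)
  rw [← hcm] at hqN
  have hqc : q ∣ Nat.card (centralizer ((P : Subgroup K) : Set K)) := by
    rcases (Nat.Prime.dvd_mul hq).mp hqN with h | h
    · exact h
    · exact absurd (h.trans h1) hqp
  obtain ⟨y, hy⟩ := exists_prime_orderOf_dvd_card' q hqc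
  have hy' : orderOf (y : K) = q := by rw [Subgroup.orderOf_coe, hy]
  have hzc : Nat.card (zpowers (y : K)) = q := by rw [Nat.card_zpowers, hy']
  have hzp : IsPGroup q (zpowers (y : K)) := IsPGroup.of_card (n := 1) (by rw [hzc, pow_one])
  obtain ⟨Q, hQ⟩ := hzp.exists_le_sylow
  obtain ⟨k, hk⟩ := Q.2.exists_card_eq
  have hk1 : k = 1 := by
    have h1 : q ∣ Nat.card (Q : Subgroup K) := by
      have := Subgroup.card_dvd_of_le hQ
      rwa [hzc] at this
    have hk0 : k ≠ 0 := by
      rintro rfl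
      rw [hk, pow_zero] at h1
      exact hq.one_lt.ne' (Nat.dvd_one.mp h1)
    by_contra hne
    have hk2 : 2 ≤ k := by omega
    apply hq2
    have h3 := Subgroup.card_subgroup_dvd_card (Q : Subgroup K)
    rw [hk] at h3
    exact (pow_dvd_pow q hk2).trans h3
  rw [hk1, pow_one] at hk
  have hQeq : zpowers (y : K) = (Q : Subgroup K) :=
    Subgroup.eq_of_le_of_card_ge hQ (by rw [hk, hzc])
  have hyc : ∀ x ∈ (P : Subgroup K), x * (y : K) = (y : K) * x := fun x hx =>
    (Subgroup.mem_centralizer_iff.mp y.2) x hx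
  have hPC : (P : Subgroup K) ≤ centralizer ((Q : Subgroup K) : Set K) := by
    intro x hx
    rw [Subgroup.mem_centralizer_iff]
    intro z hz
    rw [← hQeq] at hz
    obtain ⟨n, rfl⟩ := Subgroup.mem_zpowers_iff.mp hz
    have hc : Commute x (y : K) := hyc x hx
    exact ((hc.zpow_right n).eq).symm
  have hQC : (Q : Subgroup K) ≤ centralizer ((Q : Subgroup K) : Set K) := by
    intro z hz
    rw [Subgroup.mem_centralizer_iff]
    intro w hw
    rw [← hQeq] at hz hw
    obtain ⟨n, rfl⟩ := Subgroup.mem_zpowers_iff.mp hz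
    obtain ⟨m, rfl⟩ := Subgroup.mem_zpowers_iff.mp hw
    exact (((Commute.refl (y : K)).zpow_zpow m n).eq)
  refine ⟨Q, hk, ?_⟩
  apply Nat.Coprime.mul_dvd_of_dvd_of_dvd ((Nat.coprime_primes hp hq).mpr hpq)
  · have := Subgroup.card_dvd_of_le hPC
    rwa [hP] at this
  · have := Subgroup.card_dvd_of_le hQC
    rwa [hk] at this

/-- **(IDX)**: the number of Sylow `p`-subgroups of a nonabelian simple group is not a small `n` -/
theorem idx_false [IsSimpleGroup K] (hG : ¬ IsMulCommutative K) {p : ℕ} [Fact p.Prime]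
    (P : Sylow p K) {n : ℕ} (hn : Nat.card (Sylow p K) = n) (hn1 : n ≠ 1)
    (hnot : ¬ 2 * Nat.card K ∣ n.factorial) : False := by
  have hidx : (normalizer ((P : Subgroup K) : Set K)).index = n := by
    rw [← hn]; exact (Sylow.card_eq_index_normalizer P).symm
  have hne_top : normalizer ((P : Subgroup K) : Set K) ≠ ⊤ := by
    intro ht
    rw [ht, Subgroup.index_top] at hidx
    exact hn1 hidx.symm
  exact hnot (two_mul_card_dvd_factorial_of_index_le hG _ hne_top (le_of_eq hidx))

set_option maxRecDepth 100000 in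
theorem key_420_11 : ∀ n ∈ Nat.divisors 420, n % 11 = 1 → n = 1 ∨ n = 12 ∨ n = 210 := by
  decide

set_option maxRecDepth 100000 in
theorem key_84_5 : ∀ m ∈ Nat.divisors 84, (209 * m) % 5 = 1 → m = 4 ∨ m = 14 ∨ m = 84 := by
  decide

set_option maxRecDepth 100000 in
theorem key_60_7 : ∀ m ∈ Nat.divisors 60, (209 * m) % 7 = 1 → m = 6 ∨ m = 20 := by
  decide

section L7

variable [IsSimpleGroup K]

/-- **(L7)** no simple group of order `87780` has `210` Sylow `19`-subgroups (given `CNT`) -/
theorem not_simple_87780_210_of (hCNT : CNT K) (hcard : Nat.card K = 87780)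
    [Fact (Nat.Prime 19)] (h19 : Nat.card (Sylow 19 K) = 210) : False := by
  haveI : Fact (Nat.Prime 11) := ⟨by norm_num⟩
  haveI : Fact (Nat.Prime 7) := ⟨by norm_num⟩
  haveI : Fact (Nat.Prime 5) := ⟨by norm_num⟩
  have hG : ¬ IsMulCommutative K := not_comm_of_simple_of_not_prime (by rw [hcard]; norm_num)
  have hK19 : Nat.card K = 19 ^ 1 * 4620 := by rw [hcard]; norm_num
  have hK11 : Nat.card K = 11 ^ 1 * 7980 := by rw [hcard]; norm_num
  have hK7 : Nat.card K = 7 ^ 1 * 12540 := by rw [hcard]; norm_num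
  have hK5 : Nat.card K = 5 ^ 1 * 17556 := by rw [hcard]; norm_num
  have hS19 : ∀ P : Sylow 19 K, Nat.card (P : Subgroup K) = 19 := fun P => by
    simpa using card_sylow_subgroup_of_card_eq hK19 (by norm_num) P
  have hS11 : ∀ P : Sylow 11 K, Nat.card (P : Subgroup K) = 11 := fun P => by
    simpa using card_sylow_subgroup_of_card_eq hK11 (by norm_num) P
  have hS7 : ∀ P : Sylow 7 K, Nat.card (P : Subgroup K) = 7 := fun P => by
    simpa using card_sylow_subgroup_of_card_eq hK7 (by norm_num) P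
  have hS5 : ∀ P : Sylow 5 K, Nat.card (P : Subgroup K) = 5 := fun P => by
    simpa using card_sylow_subgroup_of_card_eq hK5 (by norm_num) P
  -- Step 1: `|N_19| = 418`, `c_19 = 209`
  have hN19 : ∀ P : Sylow 19 K, Nat.card (normalizer ((P : Subgroup K) : Set K)) = 418 := by
    intro P
    have hN := card_normalizer_mul_card_sylow P
    rw [h19, hcard] at hN
    omega
  have hc19 : ∀ P : Sylow 19 K, Nat.card (centralizer ((P : Subgroup K) : Set K)) = 209 := by
    intro P
    obtain ⟨c, f, hc, hf1, hf2, hcf, hpc, -⟩ :=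
      normalizer_data P (hS19 P) (by rw [hcard]; norm_num)
    rw [hN19 P] at hcf
    rw [← hc]
    have hf18 : f ≤ 18 := Nat.le_of_dvd (by norm_num) hf1
    interval_cases f <;> omega
  -- Step 2: `n_11 = 210`, `c_11 = 209`
  obtain ⟨P19⟩ : Nonempty (Sylow 19 K) := inferInstance
  have hn11 : Nat.card (Sylow 11 K) = 210 := by
    obtain ⟨Q, hQ, hQc⟩ := cen (p := 19) (q := 11) (by norm_num) P19 (hS19 P19)
      (by rw [hcard]; norm_num) (by rw [hN19 P19]; norm_num) (by norm_num)
    have hQN : 209 ∣ Nat.card (normalizer ((Q : Subgroup K) : Set K)) :=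
      hQc.trans (Subgroup.card_dvd_of_le (Subgroup.centralizer_le_normalizer _))
    have hN := card_normalizer_mul_card_sylow Q
    rw [hcard] at hN
    obtain ⟨k, hk⟩ := hQN
    rw [hk] at hN
    have hd : Nat.card (Sylow 11 K) ∣ 420 := ⟨k, by nlinarith⟩
    have hmod : Nat.card (Sylow 11 K) % 11 = 1 := card_sylow_modEq_one 11 K
    rcases key_420_11 _ (Nat.mem_divisors.mpr ⟨hd, by norm_num⟩) hmod with h | h | h
    · exact absurd h (card_sylow_ne_one_of_simple hK11 (by norm_num) (by norm_num) (by norm_num))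
    · exfalso
      refine idx_false hG Q h (by norm_num) ?_
      rw [hcard]; norm_num [Nat.factorial]
    · exact h
  have hN11 : ∀ P : Sylow 11 K, Nat.card (normalizer ((P : Subgroup K) : Set K)) = 418 := by
    intro P
    have hN := card_normalizer_mul_card_sylow P
    rw [hn11, hcard] at hN
    omega
  have hc11 : ∀ P : Sylow 11 K, Nat.card (centralizer ((P : Subgroup K) : Set K)) = 209 := by
    intro P
    obtain ⟨c, f, hc, hf1, hf2, hcf, hpc, -⟩ :=
      normalizer_data P (hS11 P) (by rw [hcard]; norm_num)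
    rw [hN11 P] at hcf
    rw [← hc]
    have hf10 : f ≤ 10 := Nat.le_of_dvd (by norm_num) hf1
    interval_cases f <;> omega
  -- Step 3: `209 ∣ n_r` for `r = 5, 7`
  have h209_5 : 209 ∣ Nat.card (Sylow 5 K) := by
    obtain ⟨R⟩ : Nonempty (Sylow 5 K) := inferInstance
    have hN := card_normalizer_mul_card_sylow R
    rw [hcard] at hN
    have h19n : ¬ 19 ∣ Nat.card (normalizer ((R : Subgroup K) : Set K)) := by
      intro h
      obtain ⟨Q, hQ, hQc⟩ := cen (p := 5) (q := 19) (by norm_num) R (hS5 R)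
        (by rw [hcard]; norm_num) h (by norm_num)
      rw [hc19 Q] at hQc
      norm_num at hQc
    have h11n : ¬ 11 ∣ Nat.card (normalizer ((R : Subgroup K) : Set K)) := by
      intro h
      obtain ⟨Q, hQ, hQc⟩ := cen (p := 5) (q := 11) (by norm_num) R (hS5 R)
        (by rw [hcard]; norm_num) h (by norm_num)
      rw [hc11 Q] at hQc
      norm_num at hQc
    have h19d : 19 ∣ Nat.card (Sylow 5 K) := by
      have : 19 ∣ Nat.card (normalizer ((R : Subgroup K) : Set K)) * Nat.card (Sylow 5 K) := by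
        rw [hN]; norm_num
      exact ((Nat.Prime.dvd_mul (by norm_num)).mp this).resolve_left h19n
    have h11d : 11 ∣ Nat.card (Sylow 5 K) := by
      have : 11 ∣ Nat.card (normalizer ((R : Subgroup K) : Set K)) * Nat.card (Sylow 5 K) := by
        rw [hN]; norm_num
      exact ((Nat.Prime.dvd_mul (by norm_num)).mp this).resolve_left h11n
    exact Nat.Coprime.mul_dvd_of_dvd_of_dvd (by norm_num) h11d h19d
  have h209_7 : 209 ∣ Nat.card (Sylow 7 K) := by
    obtain ⟨R⟩ : Nonempty (Sylow 7 K) := inferInstance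
    have hN := card_normalizer_mul_card_sylow R
    rw [hcard] at hN
    have h19n : ¬ 19 ∣ Nat.card (normalizer ((R : Subgroup K) : Set K)) := by
      intro h
      obtain ⟨Q, hQ, hQc⟩ := cen (p := 7) (q := 19) (by norm_num) R (hS7 R)
        (by rw [hcard]; norm_num) h (by norm_num)
      rw [hc19 Q] at hQc
      norm_num at hQc
    have h11n : ¬ 11 ∣ Nat.card (normalizer ((R : Subgroup K) : Set K)) := by
      intro h
      obtain ⟨Q, hQ, hQc⟩ := cen (p := 7) (q := 11) (by norm_num) R (hS7 R)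
        (by rw [hcard]; norm_num) h (by norm_num)
      rw [hc11 Q] at hQc
      norm_num at hQc
    have h19d : 19 ∣ Nat.card (Sylow 7 K) := by
      have : 19 ∣ Nat.card (normalizer ((R : Subgroup K) : Set K)) * Nat.card (Sylow 7 K) := by
        rw [hN]; norm_num
      exact ((Nat.Prime.dvd_mul (by norm_num)).mp this).resolve_left h19n
    have h11d : 11 ∣ Nat.card (Sylow 7 K) := by
      have : 11 ∣ Nat.card (normalizer ((R : Subgroup K) : Set K)) * Nat.card (Sylow 7 K) := by
        rw [hN]; norm_num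
      exact ((Nat.Prime.dvd_mul (by norm_num)).mp this).resolve_left h11n
    exact Nat.Coprime.mul_dvd_of_dvd_of_dvd (by norm_num) h11d h19d
  -- Step 4: `n_5 = 2926`, `c_5 = 15`
  have hn5 : Nat.card (Sylow 5 K) = 2926 ∧
      ∀ P : Sylow 5 K, Nat.card (centralizer ((P : Subgroup K) : Set K)) = 15 := by
    obtain ⟨m, hm⟩ := h209_5
    have hd : Nat.card (Sylow 5 K) ∣ 17556 := card_sylow_dvd_of_card_eq hK5 (by norm_num)
    have hmd : m ∣ 84 := by
      rw [hm] at hd
      exact Nat.dvd_of_mul_dvd_mul_left (by norm_num : 0 < 209) (by simpa using hd)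
    have hmod : Nat.card (Sylow 5 K) % 5 = 1 := card_sylow_modEq_one 5 K
    rw [hm] at hmod
    have key : ∀ P : Sylow 5 K, ∃ c f : ℕ,
        c = Nat.card (centralizer ((P : Subgroup K) : Set K)) ∧ f ∣ 4 ∧ 1 < f ∧
        c * f * Nat.card (Sylow 5 K) = 87780 ∧ 5 ∣ c := by
      intro P
      obtain ⟨c, f, hc, hf1, hf2, hcf, hpc, hN⟩ :=
        normalizer_data P (hS5 P) (by rw [hcard]; norm_num)
      rw [← hcf, hcard] at hN
      exact ⟨c, f, hc, hf1, hf2, hN, hpc⟩
    rcases key_84_5 m (Nat.mem_divisors.mpr ⟨hmd, by norm_num⟩) hmod with h | h | h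
    · exfalso
      obtain ⟨P⟩ : Nonempty (Sylow 5 K) := inferInstance
      obtain ⟨c, f, hc, hf1, hf2, hcf, hpc⟩ := key P
      rw [hm, h] at hcf
      have hf4 : f ≤ 4 := Nat.le_of_dvd (by norm_num) hf1
      interval_cases f <;> omega
    · refine ⟨by rw [hm, h], ?_⟩
      intro P
      obtain ⟨c, f, hc, hf1, hf2, hcf, hpc⟩ := key P
      rw [hm, h] at hcf
      rw [← hc]
      have hf4 : f ≤ 4 := Nat.le_of_dvd (by norm_num) hf1
      interval_cases f <;> omega
    · exfalso
      obtain ⟨P⟩ : Nonempty (Sylow 5 K) := inferInstance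
      obtain ⟨c, f, hc, hf1, hf2, hcf, hpc⟩ := key P
      rw [hm, h] at hcf
      have hf4 : f ≤ 4 := Nat.le_of_dvd (by norm_num) hf1
      interval_cases f <;> omega
  obtain ⟨hn5, hc5⟩ := hn5
  -- Step 5: `n_7 = 4180`, `c_7 = 7`
  have hn7 : Nat.card (Sylow 7 K) = 4180 ∧
      ∀ P : Sylow 7 K, Nat.card (centralizer ((P : Subgroup K) : Set K)) = 7 := by
    obtain ⟨m, hm⟩ := h209_7
    have hd : Nat.card (Sylow 7 K) ∣ 12540 := card_sylow_dvd_of_card_eq hK7 (by norm_num)
    have hmd : m ∣ 60 := by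
      rw [hm] at hd
      exact Nat.dvd_of_mul_dvd_mul_left (by norm_num : 0 < 209) (by simpa using hd)
    have hmod : Nat.card (Sylow 7 K) % 7 = 1 := card_sylow_modEq_one 7 K
    rw [hm] at hmod
    rcases key_60_7 m (Nat.mem_divisors.mpr ⟨hmd, by norm_num⟩) hmod with h | h
    · exfalso
      obtain ⟨R⟩ : Nonempty (Sylow 7 K) := inferInstance
      have hN := card_normalizer_mul_card_sylow R
      rw [hcard, hm, h] at hN
      have hN70 : Nat.card (normalizer ((R : Subgroup K) : Set K)) = 70 := by omega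
      obtain ⟨Q, hQ, hQc⟩ := cen (p := 7) (q := 5) (by norm_num) R (hS7 R)
        (by rw [hcard]; norm_num) (by rw [hN70]; norm_num) (by norm_num)
      rw [hc5 Q] at hQc
      norm_num at hQc
    · refine ⟨by rw [hm, h], ?_⟩
      intro P
      obtain ⟨c, f, hc, hf1, hf2, hcf, hpc, hN⟩ :=
        normalizer_data P (hS7 P) (by rw [hcard]; norm_num)
      rw [← hcf, hcard, hm, h] at hN
      rw [← hc]
      have hf6 : f ≤ 6 := Nat.le_of_dvd (by norm_num) hf1
      interval_cases f <;> omega
  obtain ⟨hn7, hc7⟩ := hn7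
  -- Step 6: the count
  obtain ⟨Q5⟩ : Nonempty (Sylow 5 K) := inferInstance
  obtain ⟨R7⟩ : Nonempty (Sylow 7 K) := inferInstance
  have hcount := hCNT 19 5 7 P19 Q5 R7 (hS19 _) (hS5 _) (hS7 _) (by rw [hc19]; norm_num)
    (by rw [hc19]; norm_num) (by rw [hc5]; norm_num)
  rw [h19, hn5, hn7, hc19, hc5, hc7, hcard] at hcount
  norm_num at hcount

end L7

set_option maxRecDepth 100000 in
theorem key_924_5 : ∀ m ∈ Nat.divisors 924, (19 * m) % 5 = 1 →
    m = 4 ∨ m = 14 ∨ m = 44 ∨ m = 84 ∨ m = 154 ∨ m = 924 := by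
  decide

set_option maxRecDepth 100000 in
theorem key_660_7 : ∀ m ∈ Nat.divisors 660, (19 * m) % 7 = 1 →
    m = 3 ∨ m = 10 ∨ m = 66 ∨ m = 220 := by
  decide

set_option maxRecDepth 100000 in
theorem key_1140_11 : ∀ n ∈ Nat.divisors 1140, n % 11 = 1 → n = 1 ∨ n = 12 := by
  decide

section L8

variable [IsSimpleGroup K]

/-- **(L8)** no simple group of order `87780` has `1540` Sylow `19`-subgroups (given `CNT`) -/
theorem not_simple_87780_1540_of (hCNT : CNT K) (hcard : Nat.card K = 87780)
    [Fact (Nat.Prime 19)] (h19 : Nat.card (Sylow 19 K) = 1540) : False := by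
  haveI : Fact (Nat.Prime 11) := ⟨by norm_num⟩
  haveI : Fact (Nat.Prime 7) := ⟨by norm_num⟩
  haveI : Fact (Nat.Prime 5) := ⟨by norm_num⟩
  have hG : ¬ IsMulCommutative K := not_comm_of_simple_of_not_prime (by rw [hcard]; norm_num)
  have hK19 : Nat.card K = 19 ^ 1 * 4620 := by rw [hcard]; norm_num
  have hK11 : Nat.card K = 11 ^ 1 * 7980 := by rw [hcard]; norm_num
  have hK7 : Nat.card K = 7 ^ 1 * 12540 := by rw [hcard]; norm_num
  have hK5 : Nat.card K = 5 ^ 1 * 17556 := by rw [hcard]; norm_num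
  have hS19 : ∀ P : Sylow 19 K, Nat.card (P : Subgroup K) = 19 := fun P => by
    simpa using card_sylow_subgroup_of_card_eq hK19 (by norm_num) P
  have hS11 : ∀ P : Sylow 11 K, Nat.card (P : Subgroup K) = 11 := fun P => by
    simpa using card_sylow_subgroup_of_card_eq hK11 (by norm_num) P
  have hS7 : ∀ P : Sylow 7 K, Nat.card (P : Subgroup K) = 7 := fun P => by
    simpa using card_sylow_subgroup_of_card_eq hK7 (by norm_num) P
  have hS5 : ∀ P : Sylow 5 K, Nat.card (P : Subgroup K) = 5 := fun P => by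
    simpa using card_sylow_subgroup_of_card_eq hK5 (by norm_num) P
  -- Step 1: `|N_19| = 57`, `c_19 = 19`
  have hc19 : ∀ P : Sylow 19 K, Nat.card (centralizer ((P : Subgroup K) : Set K)) = 19 := by
    intro P
    obtain ⟨c, f, hc, hf1, hf2, hcf, hpc, hN⟩ :=
      normalizer_data P (hS19 P) (by rw [hcard]; norm_num)
    rw [← hcf, hcard, h19] at hN
    rw [← hc]
    have hf18 : f ≤ 18 := Nat.le_of_dvd (by norm_num) hf1
    interval_cases f <;> omega
  obtain ⟨P19⟩ : Nonempty (Sylow 19 K) := inferInstance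
  -- Step 2: `19 ∣ n_r` for `r = 5, 7`
  have h19_5 : 19 ∣ Nat.card (Sylow 5 K) := by
    obtain ⟨R⟩ : Nonempty (Sylow 5 K) := inferInstance
    have hN := card_normalizer_mul_card_sylow R
    rw [hcard] at hN
    have h19n : ¬ 19 ∣ Nat.card (normalizer ((R : Subgroup K) : Set K)) := by
      intro h
      obtain ⟨Q, hQ, hQc⟩ := cen (p := 5) (q := 19) (by norm_num) R (hS5 R)
        (by rw [hcard]; norm_num) h (by norm_num)
      rw [hc19 Q] at hQc
      norm_num at hQc
    have : 19 ∣ Nat.card (normalizer ((R : Subgroup K) : Set K)) * Nat.card (Sylow 5 K) := by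
      rw [hN]; norm_num
    exact ((Nat.Prime.dvd_mul (by norm_num)).mp this).resolve_left h19n
  have h19_7 : 19 ∣ Nat.card (Sylow 7 K) := by
    obtain ⟨R⟩ : Nonempty (Sylow 7 K) := inferInstance
    have hN := card_normalizer_mul_card_sylow R
    rw [hcard] at hN
    have h19n : ¬ 19 ∣ Nat.card (normalizer ((R : Subgroup K) : Set K)) := by
      intro h
      obtain ⟨Q, hQ, hQc⟩ := cen (p := 7) (q := 19) (by norm_num) R (hS7 R)
        (by rw [hcard]; norm_num) h (by norm_num)
      rw [hc19 Q] at hQc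
      norm_num at hQc
    have : 19 ∣ Nat.card (normalizer ((R : Subgroup K) : Set K)) * Nat.card (Sylow 7 K) := by
      rw [hN]; norm_num
    exact ((Nat.Prime.dvd_mul (by norm_num)).mp this).resolve_left h19n
  -- Step 3: `(n_5, c_5) = (266, 165)` or `(2926, 15)`
  have hn5 : (Nat.card (Sylow 5 K) = 266 ∧
        ∀ P : Sylow 5 K, Nat.card (centralizer ((P : Subgroup K) : Set K)) = 165) ∨
      (Nat.card (Sylow 5 K) = 2926 ∧
        ∀ P : Sylow 5 K, Nat.card (centralizer ((P : Subgroup K) : Set K)) = 15) := by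
    obtain ⟨m, hm⟩ := h19_5
    have hd : Nat.card (Sylow 5 K) ∣ 17556 := card_sylow_dvd_of_card_eq hK5 (by norm_num)
    have hmd : m ∣ 924 := by
      rw [hm] at hd
      exact Nat.dvd_of_mul_dvd_mul_left (by norm_num : 0 < 19) (by simpa using hd)
    have hmod : Nat.card (Sylow 5 K) % 5 = 1 := card_sylow_modEq_one 5 K
    rw [hm] at hmod
    have key : ∀ P : Sylow 5 K, ∃ c f : ℕ,
        c = Nat.card (centralizer ((P : Subgroup K) : Set K)) ∧ f ∣ 4 ∧ 1 < f ∧
        c * f * Nat.card (Sylow 5 K) = 87780 ∧ 5 ∣ c := by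
      intro P
      obtain ⟨c, f, hc, hf1, hf2, hcf, hpc, hN⟩ :=
        normalizer_data P (hS5 P) (by rw [hcard]; norm_num)
      rw [← hcf, hcard] at hN
      exact ⟨c, f, hc, hf1, hf2, hN, hpc⟩
    obtain ⟨P0⟩ : Nonempty (Sylow 5 K) := inferInstance
    rcases key_924_5 m (Nat.mem_divisors.mpr ⟨hmd, by norm_num⟩) hmod with h | h | h | h | h | h
    · exfalso
      obtain ⟨c, f, hc, hf1, hf2, hcf, hpc⟩ := key P0
      rw [hm, h] at hcf
      have hf4 : f ≤ 4 := Nat.le_of_dvd (by norm_num) hf1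
      interval_cases f <;> omega
    · left
      refine ⟨by rw [hm, h], ?_⟩
      intro P
      obtain ⟨c, f, hc, hf1, hf2, hcf, hpc⟩ := key P
      rw [hm, h] at hcf
      rw [← hc]
      have hf4 : f ≤ 4 := Nat.le_of_dvd (by norm_num) hf1
      interval_cases f <;> omega
    · exfalso
      obtain ⟨c, f, hc, hf1, hf2, hcf, hpc⟩ := key P0
      rw [hm, h] at hcf
      have hf4 : f ≤ 4 := Nat.le_of_dvd (by norm_num) hf1
      interval_cases f <;> omega
    · exfalso
      obtain ⟨c, f, hc, hf1, hf2, hcf, hpc⟩ := key P0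
      rw [hm, h] at hcf
      have hf4 : f ≤ 4 := Nat.le_of_dvd (by norm_num) hf1
      interval_cases f <;> omega
    · right
      refine ⟨by rw [hm, h], ?_⟩
      intro P
      obtain ⟨c, f, hc, hf1, hf2, hcf, hpc⟩ := key P
      rw [hm, h] at hcf
      rw [← hc]
      have hf4 : f ≤ 4 := Nat.le_of_dvd (by norm_num) hf1
      interval_cases f <;> omega
    · exfalso
      obtain ⟨c, f, hc, hf1, hf2, hcf, hpc⟩ := key P0
      rw [hm, h] at hcf
      have hf4 : f ≤ 4 := Nat.le_of_dvd (by norm_num) hf1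
      interval_cases f <;> omega
  have h7c5 : ∀ P : Sylow 5 K, ¬ 7 * 5 ∣ Nat.card (centralizer ((P : Subgroup K) : Set K)) := by
    intro P h
    rcases hn5 with ⟨-, hc⟩ | ⟨-, hc⟩
    · rw [hc P] at h; norm_num at h
    · rw [hc P] at h; norm_num at h
  -- Step 4: `n_7 = 4180`, `c_7 = 7`
  have hn7 : Nat.card (Sylow 7 K) = 4180 ∧
      ∀ P : Sylow 7 K, Nat.card (centralizer ((P : Subgroup K) : Set K)) = 7 := by
    obtain ⟨m, hm⟩ := h19_7
    have hd : Nat.card (Sylow 7 K) ∣ 12540 := card_sylow_dvd_of_card_eq hK7 (by norm_num)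
    have hmd : m ∣ 660 := by
      rw [hm] at hd
      exact Nat.dvd_of_mul_dvd_mul_left (by norm_num : 0 < 19) (by simpa using hd)
    have hmod : Nat.card (Sylow 7 K) % 7 = 1 := card_sylow_modEq_one 7 K
    rw [hm] at hmod
    obtain ⟨R⟩ : Nonempty (Sylow 7 K) := inferInstance
    have hN := card_normalizer_mul_card_sylow R
    rw [hcard, hm] at hN
    rcases key_660_7 m (Nat.mem_divisors.mpr ⟨hmd, by norm_num⟩) hmod with h | h | h | h
    · exfalso
      rw [h] at hN
      have hN' : Nat.card (normalizer ((R : Subgroup K) : Set K)) = 1540 := by omega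
      obtain ⟨Q, hQ, hQc⟩ := cen (p := 7) (q := 5) (by norm_num) R (hS7 R)
        (by rw [hcard]; norm_num) (by rw [hN']; norm_num) (by norm_num)
      exact h7c5 Q hQc
    · exfalso
      rw [h] at hN
      have hN' : Nat.card (normalizer ((R : Subgroup K) : Set K)) = 462 := by omega
      obtain ⟨Q, hQ, hQc⟩ := cen (p := 7) (q := 11) (by norm_num) R (hS7 R)
        (by rw [hcard]; norm_num) (by rw [hN']; norm_num) (by norm_num)
      have hQN : 77 ∣ Nat.card (normalizer ((Q : Subgroup K) : Set K)) :=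
        hQc.trans (Subgroup.card_dvd_of_le (Subgroup.centralizer_le_normalizer _))
      have hNQ := card_normalizer_mul_card_sylow Q
      rw [hcard] at hNQ
      obtain ⟨k, hk⟩ := hQN
      rw [hk] at hNQ
      have hd11 : Nat.card (Sylow 11 K) ∣ 1140 := ⟨k, by nlinarith⟩
      have hmod11 : Nat.card (Sylow 11 K) % 11 = 1 := card_sylow_modEq_one 11 K
      rcases key_1140_11 _ (Nat.mem_divisors.mpr ⟨hd11, by norm_num⟩) hmod11 with h' | h'
      · exact absurd h'
          (card_sylow_ne_one_of_simple hK11 (by norm_num) (by norm_num) (by norm_num))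
      · refine idx_false hG Q h' (by norm_num) ?_
        rw [hcard]; norm_num [Nat.factorial]
    · exfalso
      rw [h] at hN
      have hN' : Nat.card (normalizer ((R : Subgroup K) : Set K)) = 70 := by omega
      obtain ⟨Q, hQ, hQc⟩ := cen (p := 7) (q := 5) (by norm_num) R (hS7 R)
        (by rw [hcard]; norm_num) (by rw [hN']; norm_num) (by norm_num)
      exact h7c5 Q hQc
    · refine ⟨by rw [hm, h], ?_⟩
      intro P
      obtain ⟨c, f, hc, hf1, hf2, hcf, hpc, hNP⟩ :=
        normalizer_data P (hS7 P) (by rw [hcard]; norm_num)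
      rw [← hcf, hcard, hm, h] at hNP
      rw [← hc]
      have hf6 : f ≤ 6 := Nat.le_of_dvd (by norm_num) hf1
      interval_cases f <;> omega
  obtain ⟨hn7, hc7⟩ := hn7
  -- Step 5: the count
  obtain ⟨Q7⟩ : Nonempty (Sylow 7 K) := inferInstance
  obtain ⟨R5⟩ : Nonempty (Sylow 5 K) := inferInstance
  have hcount := hCNT 19 7 5 P19 Q7 R5 (hS19 _) (hS7 _) (hS5 _) (by rw [hc19]; norm_num)
    (by rw [hc19]; norm_num) (by rw [hc7]; norm_num)
  rcases hn5 with ⟨hn5, hc5⟩ | ⟨hn5, hc5⟩
  · rw [h19, hn5, hn7, hc19, hc5, hc7, hcard] at hcount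
    norm_num at hcount
  · rw [h19, hn5, hn7, hc19, hc5, hc7, hcard] at hcount
    norm_num at hcount

end L8

/-- helper61's `three_prime_count` gives `CNT` -/
theorem cnt (K : Type*) [Group K] [Finite K] : CNT K := by
  intro p q r _ _ _ P Q R hP hQ hR h1 h2 h3
  exact Cfsg.Agent.Helper61.J1.three_prime_count P Q R hP hQ hR h1 h2 h3

/-- **(L7)** of #3711/#3714 -/
theorem not_simple_87780_210 {K : Type*} [Group K] [Finite K] [IsSimpleGroup K]
    (hcard : Nat.card K = 87780) (h19 : Nat.card (Sylow 19 K) = 210) : False := by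
  haveI : Fact (Nat.Prime 19) := ⟨by norm_num⟩
  exact not_simple_87780_210_of (cnt K) hcard h19

/-- **(L8)** of #3711/#3714 -/
theorem not_simple_87780_1540 {K : Type*} [Group K] [Finite K] [IsSimpleGroup K]
    (hcard : Nat.card K = 87780) (h19 : Nat.card (Sylow 19 K) = 1540) : False := by
  haveI : Fact (Nat.Prime 19) := ⟨by norm_num⟩
  exact not_simple_87780_1540_of (cnt K) hcard h19

end Cfsg.Agent.Helper60.J1
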