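import Cfsg.Agent.Helper65.BrandtR1

/-!
# Piece (K-R2) of #6963 (helper60, for helper78's S4648): the corner version of Külshammer's lemma,
with the lemma itself (K-R1) as a hypothesis.

The corner ring `e A e` (Mathlib's `IsIdempotentElem.Corner`) is given its `k`-algebra structure;
the symmetrizing form restricts to it, the subspace `I` becomes a nilpotent two-sided ideal with
`e A e = k e + I`, and the dimension hypothesis bounds the dimension of the centre by `4`.
-/

set_option autoImplicit false

namespace Cfsg.Agent.Helper60.KuelR2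

open Module Cfsg.Agent.Helper78.Brandt

universe u v

section corner

variable {k : Type u} [Field k] {A : Type v} [Ring A] [Algebra k A] {e : A}
  (he : IsIdempotentElem e)

include he in
theorem smul_mem_corner (c : k) (a : A) (ha : a ∈ Subsemigroup.corner e) :
    c • a ∈ Subsemigroup.corner e := by
  rw [Subsemigroup.mem_corner_iff he] at ha ⊢
  exact ⟨by rw [mul_smul_comm, ha.1], by rw [smul_mul_assoc, ha.2]⟩

instance cornerSMul : SMul k he.Corner :=
  ⟨fun c a => ⟨c • a.1, smul_mem_corner he c a.1 a.2⟩⟩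

/-- the inclusion of the corner, as an additive map -/
def cornerValAdd : he.Corner →+ A where
  toFun := Subtype.val
  map_zero' := rfl
  map_add' _ _ := rfl

instance cornerModule : Module k he.Corner :=
  Function.Injective.module k (cornerValAdd he) Subtype.val_injective (fun _ _ => rfl)

instance cornerAlgebra : Algebra k he.Corner :=
  Algebra.ofModule (fun c x y => Subtype.ext (smul_mul_assoc c x.1 y.1))
    (fun c x y => Subtype.ext (mul_smul_comm c x.1 y.1))

/-- the inclusion of the corner, as a linear map -/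
def cornerVal : he.Corner →ₗ[k] A where
  toFun := Subtype.val
  map_add' _ _ := rfl
  map_smul' _ _ := rfl

@[simp] theorem cornerVal_apply (a : he.Corner) : cornerVal (k := k) he a = a.1 := rfl

theorem cornerVal_injective : Function.Injective (cornerVal (k := k) he) :=
  Subtype.val_injective

theorem cornerVal_mul (a b : he.Corner) : (a * b).1 = a.1 * b.1 := rfl

theorem cornerVal_sub (a b : he.Corner) : (a - b).1 = a.1 - b.1 := rfl

theorem cornerVal_one : (1 : he.Corner).1 = e := rfl

theorem cornerVal_algebraMap (c : k) : (algebraMap k he.Corner c).1 = c • e := by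
  rw [Algebra.algebraMap_eq_smul_one]
  rfl

theorem left_mul_val (a : he.Corner) : e * a.1 = a.1 :=
  ((Subsemigroup.mem_corner_iff he).mp a.2).1

theorem val_mul_right (a : he.Corner) : a.1 * e = a.1 :=
  ((Subsemigroup.mem_corner_iff he).mp a.2).2

theorem range_cornerVal : LinearMap.range (cornerVal (k := k) he) = cornerSpace k e := by
  ext x
  rw [LinearMap.mem_range, mem_cornerSpace]
  constructor
  · rintro ⟨a, rfl⟩
    exact ⟨a.1, by rw [cornerVal_apply, val_mul_right he, left_mul_val he]⟩
  · rintro ⟨a, rfl⟩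
    exact ⟨⟨e * (a * e), ⟨a, by simp only [mul_assoc]⟩⟩, rfl⟩

theorem mem_cornerSpace_val (a : he.Corner) : a.1 ∈ cornerSpace k e := by
  rw [← range_cornerVal he]
  exact ⟨a, rfl⟩

instance cornerFinite [FiniteDimensional k A] : FiniteDimensional k he.Corner :=
  FiniteDimensional.of_injective (cornerVal (k := k) he) (cornerVal_injective he)

theorem finrank_corner [FiniteDimensional k A] :
    finrank k he.Corner = finrank k (cornerSpace k e) := by
  rw [← range_cornerVal he, LinearMap.finrank_range_of_inj (cornerVal_injective he)]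

/-- the restriction of a symmetrizing form to the corner is symmetrizing -/
theorem isSymmForm_corner (lam : A →ₗ[k] k) (h : IsSymmForm k lam) :
    IsSymmForm k (lam ∘ₗ cornerVal (k := k) he) := by
  constructor
  · intro a b
    show lam (a * b).1 = lam (b * a).1
    rw [cornerVal_mul, cornerVal_mul]
    exact h.comm _ _
  · intro a ha
    apply Subtype.ext
    show a.1 = 0
    apply h.nondeg
    intro b
    have h1 := ha ⟨e * b * e, ⟨b, rfl⟩⟩
    have h2 : lam (a.1 * (e * b * e)) = 0 := h1
    -- `lam (a b) = lam (a (e b e))`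
    calc lam (a.1 * b) = lam (a.1 * e * b) := by rw [val_mul_right he]
      _ = lam (e * (a.1 * e * b)) := by
          rw [← mul_assoc, ← mul_assoc, left_mul_val he]
      _ = lam (a.1 * e * b * e) := h.comm _ _
      _ = lam (a.1 * (e * b * e)) := by simp only [mul_assoc]
      _ = 0 := h2

/-- the image of the commutator span of the corner ring -/
theorem map_commSpan_corner :
    (commSpan k he.Corner).map (cornerVal (k := k) he) = cornerCommSpan k e := by
  unfold commSpan cornerCommSpan
  rw [Submodule.map_span]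
  congr 1
  ext z
  constructor
  · rintro ⟨w, ⟨a, b, rfl⟩, rfl⟩
    refine ⟨a.1, b.1, ?_⟩
    rw [cornerVal_apply, cornerVal_sub, cornerVal_mul, cornerVal_mul, left_mul_val he,
      val_mul_right he, left_mul_val he, val_mul_right he]
  · rintro ⟨a, b, rfl⟩
    let a' : he.Corner := ⟨e * a * e, ⟨a, rfl⟩⟩
    let b' : he.Corner := ⟨e * b * e, ⟨b, rfl⟩⟩
    exact ⟨a' * b' - b' * a', ⟨a', b', rfl⟩, rfl⟩

theorem finrank_commSpan_corner [FiniteDimensional k A] :
    finrank k (commSpan k he.Corner) = finrank k (cornerCommSpan k e) := by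
  rw [← map_commSpan_corner (k := k) he, ← LinearMap.range_domRestrict]
  symm
  apply LinearMap.finrank_range_of_inj
  intro x y hxy
  exact Subtype.ext (cornerVal_injective (k := k) he hxy)

end corner

section ideal

variable {k : Type u} [Field k] {A : Type v} [Ring A] [Algebra k A] {e : A}
  (he : IsIdempotentElem e) (I : Submodule k A) (hI2 : I * I ≤ I)
  (hspan : cornerSpace k e ≤ Submodule.span k {e} ⊔ I)

include hspan in
theorem exists_decomp (a : he.Corner) : ∃ (c : k) (i : A), i ∈ I ∧ a.1 = c • e + i := by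
  have h1 := hspan (mem_cornerSpace_val (k := k) he a)
  obtain ⟨y, hy, i, hi, hyi⟩ := Submodule.mem_sup.mp h1
  obtain ⟨c, rfl⟩ := Submodule.mem_span_singleton.mp hy
  exact ⟨c, i, hi, hyi.symm⟩

include hI2 hspan in
/-- the ideal of the corner ring attached to `I` -/
def cornerIdeal : Ideal he.Corner where
  carrier := {a | a.1 ∈ I}
  add_mem' := fun {a b} ha hb => I.add_mem ha hb
  zero_mem' := I.zero_mem
  smul_mem' := by
    intro c x hx
    obtain ⟨t, i, hi, hci⟩ := exists_decomp he I hspan c
    show (c * x).1 ∈ I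
    rw [cornerVal_mul, hci, add_mul, smul_mul_assoc, left_mul_val he]
    exact I.add_mem (I.smul_mem t hx) (hI2 (Submodule.mul_mem_mul hi hx))

theorem mem_cornerIdeal (a : he.Corner) : a ∈ cornerIdeal he I hI2 hspan ↔ a.1 ∈ I := Iff.rfl

instance cornerIdeal_isTwoSided : (cornerIdeal he I hI2 hspan).IsTwoSided := by
  refine ⟨fun {a} b ha => ?_⟩
  rw [mem_cornerIdeal] at ha ⊢
  obtain ⟨t, i, hi, hbi⟩ := exists_decomp he I hspan b
  rw [cornerVal_mul, hbi, mul_add, mul_smul_comm, val_mul_right he]
  exact I.add_mem (I.smul_mem t ha) (hI2 (Submodule.mul_mem_mul ha hi))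

theorem val_mem_pow (n : ℕ) :
    ∀ x : he.Corner, x ∈ (cornerIdeal he I hI2 hspan) ^ (n + 1) → x.1 ∈ I ^ (n + 1) := by
  induction n with
  | zero =>
    intro x hx
    rw [zero_add, Submodule.pow_one] at hx ⊢
    exact hx
  | succ n ih =>
    intro x hx
    rw [Submodule.pow_succ] at hx ⊢
    refine Submodule.mul_induction_on hx ?_ ?_
    · intro m hm j hj
      rw [cornerVal_mul]
      exact Submodule.mul_mem_mul (ih m hm) hj
    · intro y z hy hz
      exact Submodule.add_mem _ hy hz

theorem cornerIdeal_nilpotent (hnil : ∃ N : ℕ, I ^ N = ⊥) :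
    ∃ N : ℕ, (cornerIdeal he I hI2 hspan) ^ N = ⊥ := by
  obtain ⟨N, hN⟩ := hnil
  refine ⟨N + 1, ?_⟩
  rw [eq_bot_iff]
  intro x hx
  have h1 := val_mem_pow he I hI2 hspan N x hx
  rw [Submodule.pow_succ, hN, Submodule.bot_mul, Submodule.mem_bot] at h1
  rw [Submodule.mem_bot]
  exact Subtype.ext h1

theorem cornerIdeal_local (a : he.Corner) :
    ∃ c : k, a - algebraMap k he.Corner c ∈ cornerIdeal he I hI2 hspan := by
  obtain ⟨c, i, hi, hai⟩ := exists_decomp he I hspan a
  refine ⟨c, ?_⟩
  rw [mem_cornerIdeal, cornerVal_sub, cornerVal_algebraMap, hai, add_sub_cancel_left]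
  exact hi

end ideal

set_option linter.unusedVariables false in
/-- **Piece (K-R2)**: the corner version of Külshammer's lemma, with (K-R1) as a hypothesis. -/
theorem cornerCommSpan_eq_bot_of_local {k : Type u} [Field k] {A : Type v} [Ring A] [Algebra k A]
    [FiniteDimensional k A]
    (hK : ∀ (Λ : Type v) [Ring Λ] [Algebra k Λ] [FiniteDimensional k Λ] (lam' : Λ →ₗ[k] k),
      IsSymmForm k lam' → ∀ (J : Ideal Λ) [J.IsTwoSided], (∃ N : ℕ, J ^ N = ⊥) →
      (∀ a : Λ, ∃ c : k, a - algebraMap k Λ c ∈ J) →
      finrank k (Subalgebra.center k Λ) ≤ 4 → ∀ a b : Λ, a * b = b * a)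
    (lam : A →ₗ[k] k) (h : IsSymmForm k lam) (e : A) (he : IsIdempotentElem e)
    (I : Submodule k A) (hI1 : I ≤ cornerSpace k e) (hI2 : I * I ≤ I)
    (hnil : ∃ N : ℕ, I ^ N = ⊥)
    (hspan : cornerSpace k e ≤ Submodule.span k {e} ⊔ I)
    (hdim : finrank k (cornerSpace k e) ≤ finrank k (cornerCommSpan k e) + 4) :
    cornerCommSpan k e = ⊥ := by
  have hsymm := isSymmForm_corner he lam h
  have hZ : finrank k (Subalgebra.center k he.Corner) ≤ 4 := by
    have h1 := Cfsg.Agent.Helper65.BrandtR1.finrank_center_add_finrank_commSpan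
      (lam ∘ₗ cornerVal (k := k) he) hsymm
    rw [finrank_commSpan_corner he, finrank_corner he] at h1
    omega
  have hcomm := hK he.Corner (lam ∘ₗ cornerVal (k := k) he) hsymm
    (cornerIdeal he I hI2 hspan) (cornerIdeal_nilpotent he I hI2 hspan hnil)
    (cornerIdeal_local he I hI2 hspan) hZ
  unfold cornerCommSpan
  rw [Submodule.span_eq_bot]
  rintro z ⟨a, b, rfl⟩
  have h2 := hcomm ⟨e * a * e, ⟨a, rfl⟩⟩ ⟨e * b * e, ⟨b, rfl⟩⟩
  have h3 : e * a * e * (e * b * e) = e * b * e * (e * a * e) := congrArg Subtype.val h2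
  exact sub_eq_zero.mpr h3

end Cfsg.Agent.Helper60.KuelR2
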