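import Cfsg.Agent.Helper78.Kuel.Defs
import Cfsg.Agent.Helper75.BrandtREL

/-!
# Piece (K-R5) of #6963 (helper60, for helper78's S4648): the relative version of the
"one simple module" structure theorem, with the abstract version as a hypothesis.
Mirror of `Cfsg.Agent.Helper75.BrandtREL.relative_RT_of_abstract`.
-/

set_option autoImplicit false

namespace Cfsg.Agent.Helper60.KuelR5

open Module Cfsg.Agent.Helper78.Brandt Cfsg.Agent.Helper78.Kuel Cfsg.Agent.Helper75.BrandtREL

universe u v

section pull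

variable {k : Type u} [Field k] {A : Type v} [Ring A] [Algebra k A]
  (I : Ideal A) [I.IsTwoSided] {ε : A} (hI : ∀ a, a ∈ I ↔ a * ε = 0) (hε : IsIdempotentElem ε)

include hI hε in
/-- the pullback of a trace form of `A ⧸ I` is a trace form of `A` supported at `ε` -/
theorem dualMap_mem_traceFormSpaceAt (f : Module.Dual k (A ⧸ I))
    (hf : f ∈ traceFormSpace k (A ⧸ I)) :
    (piLin (k := k) I).dualMap f ∈ traceFormSpaceAt k ε := by
  obtain ⟨hf1, hf2⟩ := mem_traceFormSpace.1 hf
  refine mem_traceFormSpaceAt.2 ⟨mem_traceFormSpace.2 ⟨fun a b => ?_, fun a ha => ?_⟩, fun a => ?_⟩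
  · show f (Ideal.Quotient.mk I (a * b)) = f (Ideal.Quotient.mk I (b * a))
    rw [map_mul (Ideal.Quotient.mk I), map_mul (Ideal.Quotient.mk I)]
    exact hf1 _ _
  · show f (Ideal.Quotient.mk I a) = 0
    exact hf2 _ (ha.map (Ideal.Quotient.mk I))
  · show f (Ideal.Quotient.mk I (a * ε)) = f (Ideal.Quotient.mk I a)
    rw [mk_mul_eps I hI hε]

include hI hε in
/-- `dim traceFormSpace (A ⧸ I) ≤ dim traceFormSpaceAt ε` -/
theorem finrank_traceFormSpace_quot_le [FiniteDimensional k A] :
    finrank k (traceFormSpace k (A ⧸ I)) ≤ finrank k (traceFormSpaceAt k ε) := by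
  have hsurj : Function.Surjective (piLin (k := k) I) := Ideal.Quotient.mk_surjective
  have hinj : Function.Injective ((piLin (k := k) I).dualMap) :=
    LinearMap.dualMap_injective_of_surjective hsurj
  have hinj' : Function.Injective
      (((piLin (k := k) I).dualMap).domRestrict (traceFormSpace k (A ⧸ I))) := by
    intro x y hxy
    exact Subtype.ext (hinj hxy)
  have h1 : finrank k ((traceFormSpace k (A ⧸ I)).map ((piLin (k := k) I).dualMap)) =
      finrank k (traceFormSpace k (A ⧸ I)) := by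
    rw [← LinearMap.range_domRestrict, LinearMap.finrank_range_of_inj hinj']
  rw [← h1]
  apply Submodule.finrank_mono
  rintro g ⟨f, hf, rfl⟩
  exact dualMap_mem_traceFormSpaceAt I hI hε f hf

end pull

/-- **Piece (K-R5)**, with `abstract_one_simple` (for algebras in the universe of `A`) as a
hypothesis. -/
theorem relative_one_simple_of_abstract {k : Type u} [Field k] {A : Type v} [Ring A] [Algebra k A]
    [FiniteDimensional k A]
    (hAbs : ∀ (A' : Type v) [Ring A'] [Algebra k A'] [FiniteDimensional k A'] [Nontrivial A']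
      (lam' : A' →ₗ[k] k), IsSymmForm k lam' → finrank k (traceFormSpace k A') ≤ 1 →
      finrank k (Subalgebra.center k A') ≤ 4 →
      ∃ (n c : ℕ) (e : A'), 0 < n ∧ 1 ≤ c ∧ c ≤ finrank k (Subalgebra.center k A') ∧
        IsIdempotentElem e ∧ finrank k A' = c * n ^ 2 ∧ finrank k (leftSpace k e) = c * n)
    (lam : A →ₗ[k] k) (h : IsSymmForm k lam) (ε : A) (hε : IsIdempotentElem ε)
    (hεc : ∀ a : A, ε * a = a * ε) (hε0 : ε ≠ 0)
    (hT : finrank k (traceFormSpaceAt k ε) ≤ 1)
    (hZ : finrank k (Submodule.map (LinearMap.mulRight k ε)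
      (Subalgebra.toSubmodule (Subalgebra.center k A))) ≤ 4) :
    ∃ (n c : ℕ) (e : A), 0 < n ∧ 1 ≤ c ∧
      c ≤ finrank k (Submodule.map (LinearMap.mulRight k ε)
        (Subalgebra.toSubmodule (Subalgebra.center k A))) ∧
      IsIdempotentElem e ∧ finrank k (leftSpace k ε) = c * n ^ 2 ∧
      finrank k (leftSpace k e) = c * n := by
  have : (annIdeal ε).IsTwoSided := annIdeal_isTwoSided hεc
  set I := annIdeal ε with hIdef
  have hI : ∀ a, a ∈ I ↔ a * ε = 0 := fun a => mem_annIdeal
  have hfd : FiniteDimensional k (A ⧸ I) :=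
    Module.Finite.of_surjective (Ideal.Quotient.mkₐ k I).toLinearMap
      (Ideal.Quotient.mkₐ_surjective k _)
  have hnt : Nontrivial (A ⧸ I) := by
    refine ⟨⟨Ideal.Quotient.mk I 1, Ideal.Quotient.mk I 0, ?_⟩⟩
    rw [Ne, mk_eq_mk_iff I hI, one_mul, zero_mul]
    exact hε0
  have hdim : finrank k (A ⧸ I) = finrank k (leftSpace k ε) :=
    (leftEquiv (k := k) I hI hε).finrank_eq.symm
  have hZ0 : finrank k (Subalgebra.center k (A ⧸ I)) ≤
      finrank k (Submodule.map (LinearMap.mulRight k ε)
        (Subalgebra.toSubmodule (Subalgebra.center k A))) := by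
    have h1 := Submodule.finrank_mono (center_le_map (k := k) I hI hε hεc)
    rw [finrank_map_piLin I hI hε] at h1
    · exact h1
    · rintro x ⟨z, -, rfl⟩
      exact mem_leftSpace.2 ⟨z, rfl⟩
  have hZ' : finrank k (Subalgebra.center k (A ⧸ I)) ≤ 4 := le_trans hZ0 hZ
  have hT' : finrank k (traceFormSpace k (A ⧸ I)) ≤ 1 :=
    le_trans (finrank_traceFormSpace_quot_le I hI hε) hT
  -- lifting idempotents
  have lift : ∀ e' : A ⧸ I, IsIdempotentElem e' → ∃ e : A, IsIdempotentElem e ∧
      finrank k (leftSpace k e) = finrank k (leftSpace k e') := by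
    intro e' he'
    obtain ⟨z, rfl⟩ := Ideal.Quotient.mk_surjective e'
    have hzz : z * z * ε = z * ε := by
      have := he'.eq
      rw [← map_mul, mk_eq_mk_iff I hI] at this
      exact this
    refine ⟨z * ε, ?_, ?_⟩
    · unfold IsIdempotentElem
      calc z * ε * (z * ε) = z * (ε * z) * ε := by simp only [mul_assoc]
        _ = z * (z * ε) * ε := by rw [hεc z]
        _ = z * z * ε * ε := by simp only [mul_assoc]
        _ = z * ε := by rw [hzz, mul_assoc, hε.eq]
    · rw [← finrank_map_piLin (k := k) I hI hε (leftSpace k (z * ε)), map_leftSpace I hI hε,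
        mk_mul_eps I hI hε]
      rintro x hx
      obtain ⟨a, rfl⟩ := mem_leftSpace.1 hx
      exact mem_leftSpace.2 ⟨a * z, by rw [mul_assoc]⟩
  obtain ⟨n, c, e', hn, hc1, hc2, he', hA, hl⟩ :=
    hAbs (A ⧸ I) (lamQ I hI hε lam) (isSymmForm_lamQ I hI hε hεc lam h) hT' hZ'
  obtain ⟨e, he, hle⟩ := lift e' he'
  exact ⟨n, c, e, hn, hc1, le_trans hc2 hZ0, he, by rw [← hdim, hA], by rw [hle, hl]⟩

end Cfsg.Agent.Helper60.KuelR5
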