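import Mathlib
import Cfsg.Agent.Helper59.SharpFour
import Cfsg.Agent.Helper59.MultTrans

set_option autoImplicit false

namespace Cfsg.Agent.Helper60.MillerFin

open MulAction Equiv

variable {X : Type*} [Fintype X] [DecidableEq X]

theorem threeCycle_of_double_swap {G : Subgroup (Perm X)} (h4 : IsMultiplyPretransitive G X 4)
    {a b c d e : X} (hab : a ≠ b) (hac : a ≠ c) (had : a ≠ d) (hbc : b ≠ c) (hbd : b ≠ d)
    (hcd : c ≠ d) (hae : a ≠ e) (hbe : b ≠ e) (hce : c ≠ e) (hde : d ≠ e)
    (hmem : swap a b * swap c d ∈ G) : ∃ g ∈ G, Perm.IsThreeCycle g := by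
  have := h4
  obtain ⟨g, hga, hgb, hgc, hgd⟩ := Cfsg.Agent.Helper59.exists_smul_four (G := G)
    hab hac had hbc hbd hcd hab hac hae hbc hbe hce
  have hga' : (g : Perm X) a = a := hga
  have hgb' : (g : Perm X) b = b := hgb
  have hgc' : (g : Perm X) c = c := hgc
  have hgd' : (g : Perm X) d = e := hgd
  have hconj : (g : Perm X) * (swap a b * swap c d) * (g : Perm X)⁻¹ = swap a b * swap c e := by
    have h1 := swap_apply_apply (g : Perm X) a b
    have h2 := swap_apply_apply (g : Perm X) c d
    rw [hga', hgb'] at h1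
    rw [hgc', hgd'] at h2
    conv_rhs => rw [h1, h2]
    group
  have hmem2 : swap a b * swap c e ∈ G := by
    rw [← hconj]
    exact G.mul_mem (G.mul_mem g.2 hmem) (G.inv_mem g.2)
  have hcomm : swap a b * swap c d = swap c d * swap a b :=
    (Perm.disjoint_swap_swap (by simp [hab, hac, had, hbc, hbd, hcd])).commute.eq
  have key : swap a b * swap c d * (swap a b * swap c e) = swap c d * swap c e := by
    rw [hcomm, mul_assoc, ← mul_assoc (swap a b), swap_mul_self, one_mul]
  refine ⟨_, G.mul_mem hmem hmem2, ?_⟩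
  rw [key]
  exact Perm.isThreeCycle_swap_mul_swap_same hcd hce hde

theorem involution_eq_double_swap {τ : Perm X} (h2 : τ ^ 2 = 1) (hs : τ.support.card = 4) :
    ∃ a b c d : X, a ≠ b ∧ a ≠ c ∧ a ≠ d ∧ b ≠ c ∧ b ≠ d ∧ c ≠ d ∧ τ = swap a b * swap c d := by
  have hττ : ∀ y, τ (τ y) = y := fun y => by
    have := congrArg (fun f : Perm X => f y) h2
    simpa [pow_two] using this
  obtain ⟨a, ha⟩ : τ.support.Nonempty := Finset.card_pos.mp (by omega)
  have hab : a ≠ τ a := fun h => (Perm.mem_support.mp ha) h.symm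
  have hb : τ a ∈ τ.support := Perm.apply_mem_support.mpr ha
  have hcard2 : ((τ.support.erase a).erase (τ a)).card = 2 := by
    rw [Finset.card_erase_of_mem (Finset.mem_erase.mpr ⟨hab.symm, hb⟩),
      Finset.card_erase_of_mem ha, hs]
  obtain ⟨c, hc⟩ : ((τ.support.erase a).erase (τ a)).Nonempty := Finset.card_pos.mp (by omega)
  rw [Finset.mem_erase, Finset.mem_erase] at hc
  obtain ⟨hcb, hca, hcS⟩ := hc
  have hcd : c ≠ τ c := fun h => (Perm.mem_support.mp hcS) h.symm
  have hd : τ c ∈ τ.support := Perm.apply_mem_support.mpr hcS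
  have had : a ≠ τ c := fun h => hcb (by rw [h, hττ])
  have hbd : τ a ≠ τ c := fun h => hca (τ.injective h).symm
  have hS : τ.support = {a, τ a, c, τ c} := by
    symm
    apply Finset.eq_of_subset_of_card_le
    · intro y hy
      simp only [Finset.mem_insert, Finset.mem_singleton] at hy
      rcases hy with rfl | rfl | rfl | rfl <;> assumption
    · rw [hs, Finset.card_insert_of_notMem, Finset.card_insert_of_notMem, Finset.card_pair hcd]
      · simp only [Finset.mem_insert, Finset.mem_singleton, not_or]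
        exact ⟨hcb.symm, hbd⟩
      · simp only [Finset.mem_insert, Finset.mem_singleton, not_or]
        exact ⟨hab, hca.symm, had⟩
  refine ⟨a, τ a, c, τ c, hab, hca.symm, had, hcb.symm, hbd, hcd, ?_⟩
  ext y
  by_cases hy : y ∈ τ.support
  · rw [hS] at hy
    simp only [Finset.mem_insert, Finset.mem_singleton] at hy
    rcases hy with rfl | rfl | rfl | rfl
    · rw [Perm.mul_apply, swap_apply_of_ne_of_ne hca.symm had, swap_apply_left]
    · rw [Perm.mul_apply, swap_apply_of_ne_of_ne hcb.symm hbd, swap_apply_right, hττ]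
    · rw [Perm.mul_apply, swap_apply_left, swap_apply_of_ne_of_ne had.symm hbd.symm]
    · rw [Perm.mul_apply, swap_apply_right, swap_apply_of_ne_of_ne hca hcb, hττ]
  · have h1 : τ y = y := Perm.notMem_support.mp hy
    rw [hS] at hy
    simp only [Finset.mem_insert, Finset.mem_singleton, not_or] at hy
    rw [h1, Perm.mul_apply, swap_apply_of_ne_of_ne hy.2.2.1 hy.2.2.2,
      swap_apply_of_ne_of_ne hy.1 hy.2.1]

/-- A primitive group containing a cycle of prime length `q` is `(n - q + 1)`-fold transitive
(Jordan, via Mathlib). -/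
theorem multTrans_of_prime_cycle {G : Subgroup (Perm X)} (hprim : IsPreprimitive G X) {τ : Perm X}
    (hτG : τ ∈ G) (hτc : τ.IsCycle) {q m : ℕ} (hq : q.Prime) (hsupp : τ.support.card = q)
    (hm : Fintype.card X = m + 1 + q) (hq2 : 2 ≤ q) :
    IsMultiplyPretransitive G X (m + 2) := by
  classical
  suffices IsMultiplyPreprimitive G X (m + 2) from
    IsMultiplyPreprimitive.isMultiplyPretransitive ..
  apply hprim.isMultiplyPreprimitive (s := (τ.supportᶜ : Set X))
  · apply Nat.add_left_cancel
    rw [Set.ncard_add_ncard_compl, Set.ncard_coe_finset, hsupp, Nat.card_eq_fintype_card, hm,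
      add_comm]
  · rw [Nat.card_eq_fintype_card, hm]
    omega
  have := Perm.isPretransitive_of_isCycle_mem hτc hτG
  apply IsPreprimitive.of_prime_card
  convert! hq
  rw [Nat.card_eq_fintype_card, Fintype.card_subtype, ← hsupp]
  apply congr_arg
  ext x
  simp [SubMulAction.mem_ofFixingSubgroup_iff]

/-- A 4-transitive group of degree 9 contains the alternating group, given the case `9 = 5 + 4`
of the main theorem for 5-transitive groups. -/
theorem deg9 (G : Subgroup (Perm X)) (h9 : Fintype.card X = 9)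
    (h4 : IsMultiplyPretransitive G X 4)
    (ih : IsMultiplyPretransitive G X 5 → alternatingGroup X ≤ G) :
    alternatingGroup X ≤ G := by
  have h2 : IsMultiplyPretransitive G X 2 := by
    have := h4
    exact isMultiplyPretransitive_of_le (n := 4) (by norm_num)
      (by rw [Nat.card_eq_fintype_card, h9]; norm_num)
  have hprim : IsPreprimitive G X := isPreprimitive_of_is_two_pretransitive h2
  by_cases hsharp : ∀ x : Fin 4 ↪ X, stabilizer G x = ⊥
  · exfalso
    have := Cfsg.Agent.Helper59.sharp4_card h4 hsharp (by omega)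
    omega
  push Not at hsharp
  obtain ⟨x, hx⟩ := hsharp
  obtain ⟨⟨g, hgx⟩, hg1⟩ := (Subgroup.ne_bot_iff_exists_ne_one).mp hx
  set σ : Perm X := (g : Perm X) with hσ
  have hσ1 : σ ≠ 1 := by
    intro h
    apply hg1
    apply Subtype.ext
    apply Subtype.ext
    exact h
  have hσx : ∀ i, σ (x i) = x i := by
    intro i
    have h1 : g • x = x := hgx
    have := DFunLike.congr_fun h1 i
    rwa [Function.Embedding.smul_apply] at this
  have hsupp : σ.support.card ≤ 5 := by
    have hsub : σ.support ⊆ (Finset.univ.map x)ᶜ := by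
      intro y hy
      rw [Finset.mem_compl, Finset.mem_map]
      rintro ⟨i, _, rfl⟩
      exact (Perm.mem_support.mp hy) (hσx i)
    have := Finset.card_le_card hsub
    rw [Finset.card_compl, Finset.card_map, Finset.card_univ, h9,
      Fintype.card_fin] at this
    exact this
  set q := (orderOf σ).minFac with hqdef
  have hq : q.Prime := Nat.minFac_prime (by rwa [Ne, orderOf_eq_one_iff])
  set τ := σ ^ (orderOf σ / q) with hτ
  have hτo : orderOf τ = q := orderOf_pow_orderOf_div (orderOf_pos σ).ne' (Nat.minFac_dvd _)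
  have hτG : τ ∈ G := G.pow_mem g.2 _
  have hτsupp : τ.support.card ≤ 5 := (Finset.card_le_card (Perm.support_pow_le σ _)).trans hsupp
  obtain ⟨m, hm⟩ := Perm.cycleType_prime_order (σ := τ) (by rw [hτo]; exact hq)
  have hsum : τ.cycleType.sum = τ.support.card := Perm.sum_cycleType τ
  rw [hm, Multiset.sum_replicate, smul_eq_mul, hτo] at hsum
  have hq2 : 2 ≤ q := hq.two_le
  have hqle : q ≤ 5 := by nlinarith
  have hcases : (q = 2 ∧ m = 0) ∨ (q = 2 ∧ m = 1) ∨ (q = 3 ∧ m = 0) ∨ (q = 5 ∧ m = 0) := by
    interval_cases q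
    · have : m ≤ 1 := by omega
      interval_cases m <;> simp
    · have : m = 0 := by omega
      simp [this]
    · exact absurd hq (by norm_num)
    · have : m = 0 := by omega
      simp [this]
  rcases hcases with ⟨hq2', hm0⟩ | ⟨hq2', hm1⟩ | ⟨hq3, hm0⟩ | ⟨hq5, hm0⟩
  · -- a transposition
    have hc : τ.support.card = 2 := by rw [← hsum, hq2', hm0]
    have hsw : τ.IsSwap := Perm.card_support_eq_two.mp hc
    rw [Perm.subgroup_eq_top_of_isPreprimitive_of_isSwap_mem hprim τ hsw hτG]
    exact le_top
  · -- a double transposition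
    have hc : τ.support.card = 4 := by rw [← hsum, hq2', hm1]
    have hτ2 : τ ^ 2 = 1 := by rw [← hq2', ← hτo]; exact pow_orderOf_eq_one τ
    obtain ⟨a, b, c, d, hab, hac, had, hbc, hbd, hcd, hτe⟩ := involution_eq_double_swap hτ2 hc
    obtain ⟨e, he⟩ := Cfsg.Agent.Helper59.exists_notMem_list [a, b, c, d]
      (by rw [Nat.card_eq_fintype_card, h9]; simp)
    simp only [List.mem_cons, List.not_mem_nil, or_false, not_or] at he
    obtain ⟨g3, hg3, h3⟩ := threeCycle_of_double_swap h4 hab hac had hbc hbd hcd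
      (Ne.symm he.1) (Ne.symm he.2.1) (Ne.symm he.2.2.1) (Ne.symm he.2.2.2) (hτe ▸ hτG)
    exact Perm.alternatingGroup_le_of_isPreprimitive_of_isThreeCycle_mem hprim h3 hg3
  · -- a 3-cycle
    have hc : τ.support.card = 3 := by rw [← hsum, hq3, hm0]
    have h3 : τ.IsThreeCycle := card_support_eq_three_iff.mp hc
    exact Perm.alternatingGroup_le_of_isPreprimitive_of_isThreeCycle_mem hprim h3 hτG
  · -- a 5-cycle
    have hc : τ.support.card = 5 := by rw [← hsum, hq5, hm0]
    have hcyc : τ.IsCycle := by
      rw [← Perm.card_cycleType_eq_one, hm, hm0]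
      simp
    apply ih
    exact multTrans_of_prime_cycle (m := 3) hprim hτG hcyc (by norm_num : Nat.Prime 5) hc
      (by rw [h9]) (by norm_num)

end Cfsg.Agent.Helper60.MillerFin
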