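import Mathlib

set_option autoImplicit false

namespace Cfsg.Agent.Helper60.PrimeNorm

open Equiv
open scoped commutatorElement

variable {O : Type*}

/-- A transitive commutative subgroup of `Perm O` is self-centralizing. -/
theorem mem_of_commute {C : Subgroup (Perm O)} (hc : ∀ a ∈ C, ∀ b ∈ C, a * b = b * a)
    (htr : ∀ x y : O, ∃ c ∈ C, c x = y) (g : Perm O) (hg : ∀ c ∈ C, g * c = c * g) : g ∈ C := by
  rcases isEmpty_or_nonempty O with h | ⟨⟨o⟩⟩
  · have : g = 1 := Subsingleton.elim _ _
    rw [this]; exact C.one_mem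
  obtain ⟨a, ha, hao⟩ := htr o (g o)
  have : g = a := by
    ext y
    obtain ⟨b, hb, hby⟩ := htr o y
    rw [← hby]
    have h1 : g (b o) = b (g o) := by
      have := congrArg (fun f : Perm O => f o) (hg b hb)
      simpa using this
    rw [h1, ← hao]
    have h2 := congrArg (fun f : Perm O => f o) (hc a ha b hb)
    simpa using h2.symm
  rw [this]; exact ha

/-- A nontrivial `p`-subgroup of the symmetric group of degree `p` has order `p`. -/
theorem card_eq_prime [Fintype O] {p : ℕ} [hp : Fact p.Prime] (hO : Fintype.card O = p)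
    {C : Subgroup (Perm O)} (hC : IsPGroup p C) (hne : C ≠ ⊥) : Nat.card C = p := by
  obtain ⟨n, hn⟩ := IsPGroup.iff_card.mp hC
  have hdvd : Nat.card C ∣ p.factorial := by
    have := Subgroup.card_subgroup_dvd_card C
    rwa [Nat.card_perm, Nat.card_eq_fintype_card (α := O), hO] at this
  have hn1 : n ≤ 1 := by
    by_contra hcon
    push Not at hcon
    have h2 : p ^ 2 ∣ p.factorial := by
      rw [hn] at hdvd
      exact (pow_dvd_pow p hcon).trans hdvd
    have hpos : 0 < p := hp.out.pos
    obtain ⟨m, hm⟩ : ∃ m, p = m + 1 := ⟨p - 1, by omega⟩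
    rw [hm, Nat.factorial_succ, ← hm, pow_two] at h2
    have h3 : p ∣ m.factorial := Nat.dvd_of_mul_dvd_mul_left hpos h2
    have := (hp.out.dvd_factorial).mp h3
    omega
  have hn0 : n ≠ 0 := by
    rintro rfl
    rw [pow_zero] at hn
    exact hne ((Subgroup.card_eq_one).mp hn)
  have : n = 1 := by omega
  rw [hn, this, pow_one]

/-- If `C ≤ Perm O` is transitive of prime order then commutators of elements normalizing `C`
lie in `C`. -/
theorem commutator_mem {p : ℕ} [hp : Fact p.Prime] {C : Subgroup (Perm O)} (hcard : Nat.card C = p)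
    (htr : ∀ x y : O, ∃ c ∈ C, c x = y) {x y : Perm O} (hx : x ∈ Subgroup.normalizer (C : Set (Perm O)))
    (hy : y ∈ Subgroup.normalizer (C : Set (Perm O))) : ⁅x, y⁆ ∈ C := by
  have hcyc : IsCyclic C := isCyclic_of_prime_card hcard
  let _ := (hcyc.mulAutMulEquiv _).toMonoidHom.commGroupOfInjective (hcyc.mulAutMulEquiv _).injective
  have hker := Abelianization.commutator_subset_ker C.normalizerMonoidHom
  rw [Subgroup.normalizerMonoidHom_ker] at hker
  have hmem : ⁅(⟨x, hx⟩ : Subgroup.normalizer (C : Set (Perm O))), ⟨y, hy⟩⁆ ∈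
      commutator (Subgroup.normalizer (C : Set (Perm O))) :=
    Subgroup.commutator_mem_commutator (Subgroup.mem_top _) (Subgroup.mem_top _)
  have h1 := hker hmem
  rw [Subgroup.mem_subgroupOf] at h1
  have h2 : ⁅x, y⁆ ∈ Subgroup.centralizer (C : Set (Perm O)) := by
    simpa [commutatorElement_def] using h1
  have hcomm : ∀ a ∈ C, ∀ b ∈ C, a * b = b * a := by
    intro a ha b hb
    have := hcyc.commGroup.mul_comm ⟨a, ha⟩ ⟨b, hb⟩
    exact congrArg Subtype.val this
  apply mem_of_commute hcomm htr
  intro c hc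
  exact ((Subgroup.mem_centralizer_iff.mp h2) c hc).symm

/-- A subgroup of prime order is commutative. -/
theorem comm_of_card_prime {p : ℕ} [hp : Fact p.Prime] {C : Subgroup (Perm O)}
    (hcard : Nat.card C = p) : ∀ a ∈ C, ∀ b ∈ C, a * b = b * a := by
  have hcyc : IsCyclic C := isCyclic_of_prime_card hcard
  intro a ha b hb
  have := hcyc.commGroup.mul_comm ⟨a, ha⟩ ⟨b, hb⟩
  exact congrArg Subtype.val this

end Cfsg.Agent.Helper60.PrimeNorm
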