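import Mathlib
import Cfsg.Agent.Helper60.PrimeNorm

set_option autoImplicit false

namespace Cfsg.Agent.Helper60.OrbKer

open MulAction
open scoped Pointwise commutatorElement

variable {Γ : Type*} [Group Γ] (Q : Subgroup Γ) [hQn : Q.Normal] (X : Type*) [MulAction Γ X]

variable {X}

theorem smul_mem_fixedPoints (g : Γ) {y : X} (hy : y ∈ fixedPoints Q X) :
    g • y ∈ fixedPoints Q X := by
  intro q
  have hq : g⁻¹ * (q : Γ) * g ∈ Q := hQn.conj_mem' q q.2 g
  have h := hy ⟨_, hq⟩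
  rw [Subgroup.smul_def] at h ⊢
  simp only at h
  calc (q : Γ) • g • y = g • (g⁻¹ * q * g) • y := by simp [mul_smul]
    _ = g • y := by rw [h]

variable (X)

/-- The fixed points of a normal subgroup, as an invariant subset. -/
def fixSub : SubMulAction Γ X where
  carrier := fixedPoints Q X
  smul_mem' g _ hy := smul_mem_fixedPoints Q g hy

/-- The moved points of a normal subgroup, as an invariant subset. -/
def movSub : SubMulAction Γ X where
  carrier := (fixedPoints Q X)ᶜ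
  smul_mem' g y hy := fun h => hy (by
    have := smul_mem_fixedPoints Q g⁻¹ h
    rwa [inv_smul_smul] at this)

variable {X}

theorem mem_fixSub {y : X} : y ∈ fixSub Q X ↔ y ∈ fixedPoints Q X := Iff.rfl

theorem mem_movSub {y : X} : y ∈ movSub Q X ↔ y ∉ fixedPoints Q X := Iff.rfl

theorem not_fixed_of_mem_orbit {y z : X} (hy : y ∉ fixedPoints Q X) (hz : z ∈ orbit Q y) :
    z ∉ fixedPoints Q X := by
  obtain ⟨q, hq⟩ := hz
  have hq : q • y = z := hq
  intro h
  apply hy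
  have := smul_mem_fixedPoints Q (q : Γ)⁻¹ h
  rwa [← hq, Subgroup.smul_def, inv_smul_smul] at this

variable (X)

/-- The set of nontrivial `Q`-orbits, as an invariant subset of `Set X`. -/
def orbSub : SubMulAction Γ (Set X) where
  carrier := {O | ∃ y, y ∉ fixedPoints Q X ∧ O = orbit Q y}
  smul_mem' g O := by
    rintro ⟨y, hy, rfl⟩
    exact ⟨g • y, (movSub Q X).smul_mem g hy, smul_orbit_eq_orbit_smul Q y g⟩

/-- The kernel of the action on the set of nontrivial `Q`-orbits. -/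
def orbKer : Subgroup Γ := (MulAction.toPermHom Γ ↥(orbSub Q X)).ker

instance : (orbKer Q X).Normal := MonoidHom.normal_ker _

variable {X}

theorem smul_mem_orbit_of_mem_orbKer {g : Γ} (hg : g ∈ orbKer Q X) {y : X}
    (hy : y ∉ fixedPoints Q X) : g • y ∈ orbit Q y := by
  have h1 : MulAction.toPermHom Γ ↥(orbSub Q X) g = 1 := hg
  have h2 : g • (⟨orbit Q y, y, hy, rfl⟩ : orbSub Q X) = ⟨orbit Q y, y, hy, rfl⟩ := by
    have := congrArg (fun f : Equiv.Perm ↥(orbSub Q X) => f ⟨orbit Q y, y, hy, rfl⟩) h1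
    simpa using this
  have h3 : g • (orbit Q y : Set X) = orbit Q y := congrArg Subtype.val h2
  rw [← h3]
  exact Set.smul_mem_smul_set (mem_orbit_self y)

theorem mem_orbKer_iff {g : Γ} :
    g ∈ orbKer Q X ↔ ∀ y, y ∉ fixedPoints Q X → g • (orbit Q y : Set X) = orbit Q y := by
  constructor
  · intro hg y hy
    have h1 : MulAction.toPermHom Γ ↥(orbSub Q X) g = 1 := hg
    have := congrArg (fun f : Equiv.Perm ↥(orbSub Q X) => f ⟨orbit Q y, y, hy, rfl⟩) h1
    have h2 : g • (⟨orbit Q y, y, hy, rfl⟩ : orbSub Q X) = ⟨orbit Q y, y, hy, rfl⟩ := by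
      simpa using this
    exact congrArg Subtype.val h2
  · intro h
    show MulAction.toPermHom Γ ↥(orbSub Q X) g = 1
    ext ⟨O, y, hy, rfl⟩ : 2
    simp only [toPermHom_apply, toPerm_apply, Equiv.Perm.coe_one, id_eq]
    exact h y hy

theorem le_orbKer : Q ≤ orbKer Q X := by
  intro q hq
  rw [mem_orbKer_iff]
  intro y _
  rw [smul_orbit_eq_orbit_smul Q y q]
  exact orbit_smul (⟨q, hq⟩ : Q) y

/-- The action of `orbKer` on one nontrivial orbit. -/
def orbAct (y₀ : X) (hy₀ : y₀ ∉ fixedPoints Q X) : SubMulAction (orbKer Q X) X where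
  carrier := orbit Q y₀
  smul_mem' g z hz := by
    have hz' : z ∉ fixedPoints Q X := not_fixed_of_mem_orbit Q hy₀ hz
    have h := smul_mem_orbit_of_mem_orbKer Q g.2 hz'
    rw [orbit_eq_iff.mpr hz] at h
    exact h

/-- The restriction homomorphism to one nontrivial orbit. -/
def orbHom (y₀ : X) (hy₀ : y₀ ∉ fixedPoints Q X) :
    ↥(orbKer Q X) →* Equiv.Perm ↥(orbAct Q y₀ hy₀) :=
  MulAction.toPermHom _ _

/-- The image of `Q` in the symmetric group of one nontrivial orbit. -/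
def orbImg (y₀ : X) (hy₀ : y₀ ∉ fixedPoints Q X) : Subgroup (Equiv.Perm ↥(orbAct Q y₀ hy₀)) :=
  (Q.subgroupOf (orbKer Q X)).map (orbHom Q y₀ hy₀)

theorem orbHom_apply {y₀ : X} {hy₀ : y₀ ∉ fixedPoints Q X} (g : orbKer Q X)
    (a : orbAct Q y₀ hy₀) : ((orbHom Q y₀ hy₀ g a : orbAct Q y₀ hy₀) : X) = (g : Γ) • (a : X) :=
  rfl

theorem orbImg_trans {y₀ : X} {hy₀ : y₀ ∉ fixedPoints Q X} (a b : orbAct Q y₀ hy₀) :
    ∃ c ∈ orbImg Q y₀ hy₀, c a = b := by
  obtain ⟨a, ha⟩ := a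
  obtain ⟨b, hb⟩ := b
  obtain ⟨q1, hq1⟩ := ha
  obtain ⟨q2, hq2⟩ := hb
  have hq1 : q1 • y₀ = a := hq1
  have hq2 : q2 • y₀ = b := hq2
  have hmem : ((q2 * q1⁻¹ : Q) : Γ) ∈ orbKer Q X := le_orbKer Q (q2 * q1⁻¹).2
  refine ⟨orbHom Q y₀ hy₀ ⟨_, hmem⟩, ⟨⟨_, hmem⟩, ?_, rfl⟩, ?_⟩
  · rw [SetLike.mem_coe, Subgroup.mem_subgroupOf]
    exact (q2 * q1⁻¹).2
  · apply Subtype.ext
    rw [orbHom_apply]
    show ((q2 * q1⁻¹ : Q) : Γ) • a = b
    rw [← hq1, ← hq2, ← Subgroup.smul_def, smul_smul, inv_mul_cancel_right]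

theorem orbHom_mem_normalizer {y₀ : X} {hy₀ : y₀ ∉ fixedPoints Q X} (g : orbKer Q X) :
    orbHom Q y₀ hy₀ g ∈ Subgroup.normalizer (orbImg Q y₀ hy₀ : Set (Equiv.Perm _)) := by
  have : (Q.subgroupOf (orbKer Q X)).Normal := hQn.subgroupOf _
  apply Subgroup.le_normalizer_map (orbHom Q y₀ hy₀)
  rw [Subgroup.normalizer_eq_top]
  exact ⟨g, Subgroup.mem_top _, rfl⟩

section Prime

variable {p : ℕ} [hp : Fact p.Prime]

theorem orbImg_card [Finite X] (hQ : IsPGroup p Q) {y₀ : X} {hy₀ : y₀ ∉ fixedPoints Q X}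
    (hcard : Nat.card (orbit Q y₀) = p) : Nat.card (orbImg Q y₀ hy₀) = p := by
  classical
  have : Fintype ↥(orbAct Q y₀ hy₀) := Fintype.ofFinite _
  have hO : Fintype.card ↥(orbAct Q y₀ hy₀) = p := by
    rw [← Nat.card_eq_fintype_card, ← hcard]
    exact Nat.card_congr (Equiv.subtypeEquivRight (fun _ => Iff.rfl))
  apply PrimeNorm.card_eq_prime hO
  · exact (hQ.comap_subtype).map _
  · intro hbot
    have h2 : 1 < Fintype.card ↥(orbAct Q y₀ hy₀) := by rw [hO]; exact hp.out.one_lt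
    obtain ⟨a, b, hab⟩ := Fintype.exists_pair_of_one_lt_card h2
    obtain ⟨c, hc, hcab⟩ := orbImg_trans Q a b
    rw [hbot, Subgroup.mem_bot] at hc
    rw [hc] at hcab
    exact hab hcab

theorem comm_le_comap [Finite X] (hQ : IsPGroup p Q) {y₀ : X} {hy₀ : y₀ ∉ fixedPoints Q X}
    (hcard : Nat.card (orbit Q y₀) = p) :
    commutator ↥(orbKer Q X) ≤ (orbImg Q y₀ hy₀).comap (orbHom Q y₀ hy₀) := by
  rw [commutator_def, Subgroup.commutator_le]
  intro g₁ _ g₂ _
  rw [Subgroup.mem_comap, map_commutatorElement]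
  exact PrimeNorm.commutator_mem (orbImg_card Q hQ hcard) (orbImg_trans Q)
    (orbHom_mem_normalizer Q g₁) (orbHom_mem_normalizer Q g₂)

/-- Elements of the second derived subgroup of `orbKer` fix all moved points of `Q`. -/
theorem fix_of_mem_comm_comm [Finite X] (hQ : IsPGroup p Q)
    (hcard : ∀ y, y ∉ fixedPoints Q X → Nat.card (orbit Q y) = p) {g : Γ}
    (hg : g ∈ ⁅⁅orbKer Q X, orbKer Q X⁆, ⁅orbKer Q X, orbKer Q X⁆⁆) {y : X}
    (hy : y ∉ fixedPoints Q X) : g • y = y := by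
  have h1 : ⁅orbKer Q X, orbKer Q X⁆ =
      (commutator ↥(orbKer Q X)).map (orbKer Q X).subtype :=
    (Subgroup.map_subtype_commutator _).symm
  rw [h1, ← Subgroup.map_commutator] at hg
  obtain ⟨g', hg', rfl⟩ := hg
  have h2 : ⁅commutator ↥(orbKer Q X), commutator ↥(orbKer Q X)⁆ ≤ (orbHom Q y hy).ker := by
    rw [Subgroup.commutator_le]
    intro g₁ hg₁ g₂ hg₂
    rw [MonoidHom.mem_ker, map_commutatorElement, commutatorElement_eq_one_iff_commute]
    have c1 := comm_le_comap Q hQ (hy₀ := hy) (hcard y hy) hg₁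
    have c2 := comm_le_comap Q hQ (hy₀ := hy) (hcard y hy) hg₂
    exact PrimeNorm.comm_of_card_prime (orbImg_card Q hQ (hcard y hy)) _ c1 _ c2
  have h3 := h2 hg'
  rw [MonoidHom.mem_ker] at h3
  have := congrArg (fun f => ((f ⟨y, mem_orbit_self y⟩ : orbAct Q y hy) : X)) h3
  simpa [orbHom_apply] using this

/-- The `p`-th power of an element of `orbKer` centralizing `Q` fixes all moved points of `Q`. -/
theorem pow_fix_of_mem_centralizer [Finite X] (hQ : IsPGroup p Q)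
    (hcard : ∀ y, y ∉ fixedPoints Q X → Nat.card (orbit Q y) = p) {g : Γ}
    (hgM : g ∈ orbKer Q X) (hgC : g ∈ Subgroup.centralizer (Q : Set Γ)) {y : X}
    (hy : y ∉ fixedPoints Q X) : g ^ p • y = y := by
  have hmem : orbHom Q y hy ⟨g, hgM⟩ ∈ orbImg Q y hy := by
    apply PrimeNorm.mem_of_commute
      (PrimeNorm.comm_of_card_prime (orbImg_card Q hQ (hcard y hy))) (orbImg_trans Q)
    rintro _ ⟨q, hq, rfl⟩
    rw [← map_mul, ← map_mul]
    congr 1
    apply Subtype.ext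
    simp only [Subgroup.coe_mul]
    exact ((Subgroup.mem_centralizer_iff.mp hgC) q (Subgroup.mem_subgroupOf.mp hq)).symm
  have hpow : (orbHom Q y hy ⟨g, hgM⟩) ^ p = 1 := by
    have := pow_card_eq_one' (G := orbImg Q y hy) (x := ⟨_, hmem⟩)
    rw [orbImg_card Q hQ (hcard y hy)] at this
    exact congrArg Subtype.val this
  rw [← map_pow] at hpow
  have := congrArg (fun f => ((f ⟨y, mem_orbit_self y⟩ : orbAct Q y hy) : X)) hpow
  simpa [orbHom_apply] using this

omit hp in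
/-- The number of nontrivial orbits times `p` is the number of moved points. -/
theorem card_orbSub_mul [Finite X]
    (hcard : ∀ y, y ∉ fixedPoints Q X → Nat.card (orbit Q y) = p) :
    Nat.card ↥(orbSub Q X) * p = Nat.card ↥(movSub Q X) := by
  classical
  have : Fintype ↥(orbSub Q X) := Fintype.ofFinite _
  let f : ↥(movSub Q X) → ↥(orbSub Q X) := fun y => ⟨orbit Q (y : X), y, y.2, rfl⟩
  rw [Nat.card_congr (Equiv.sigmaFiberEquiv f).symm, Nat.card_sigma]
  have hfib : ∀ o : ↥(orbSub Q X), Nat.card {y // f y = o} = p := by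
    rintro ⟨O, y₀, hy₀, rfl⟩
    rw [← hcard y₀ hy₀]
    refine Nat.card_congr ⟨fun y => ⟨y.1.1, ?_⟩, fun z => ⟨⟨z.1, ?_⟩, ?_⟩, ?_, ?_⟩
    · have := congrArg Subtype.val y.2
      simp only [f] at this
      have h2 : (y.1 : X) ∈ orbit Q (y.1 : X) := mem_orbit_self _
      rwa [this] at h2
    · exact not_fixed_of_mem_orbit Q hy₀ z.2
    · apply Subtype.ext
      exact orbit_eq_iff.mpr z.2
    · intro y; rfl
    · intro z; rfl
  simp only [hfib, Finset.sum_const, Finset.card_univ, smul_eq_mul, Nat.card_eq_fintype_card]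

end Prime

end Cfsg.Agent.Helper60.OrbKer
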