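import Mathlib
import Cfsg.Agent.Helper60.OrbKer

set_option autoImplicit false

namespace Cfsg.Agent.Helper60.MillerCore

open MulAction Equiv
open scoped Pointwise commutatorElement
open Cfsg.Agent.Helper60.OrbKer

theorem two_mul_factorial_lt {s f : ℕ} (h1 : s + 1 ≤ f) (h5 : 5 ≤ f) :
    2 * s.factorial < f.factorial := by
  rcases Nat.lt_or_ge s 2 with h | h
  · have hs : s.factorial = 1 := by
      interval_cases s <;> rfl
    have : (5 : ℕ).factorial ≤ f.factorial := Nat.factorial_le h5
    have h120 : (5 : ℕ).factorial = 120 := by decide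
    omega
  · have h2 : (s + 1).factorial ≤ f.factorial := Nat.factorial_le h1
    rw [Nat.factorial_succ] at h2
    have hpos : 0 < s.factorial := Nat.factorial_pos s
    nlinarith

variable {Γ : Type*} [Group Γ] (Q : Subgroup Γ) [hQn : Q.Normal] {X : Type*}
  [MulAction Γ X] [Finite X] {p : ℕ} [hp : Fact p.Prime]

/-- Lemma (I): if the normalizing group induces at least the alternating group on the fixed
points of `Q` (at least 5 of them, and more than the number of nontrivial orbits), then every even
permutation of the fixed points is induced by an element fixing all moved points. -/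
theorem exists_preimage_fixing
    [Fintype ↥(fixSub Q X)] [DecidableEq ↥(fixSub Q X)]
    (hQ : IsPGroup p Q)
    (hcard : ∀ y, y ∉ fixedPoints Q X → Nat.card (orbit Q y) = p)
    (h5 : 5 ≤ Fintype.card ↥(fixSub Q X))
    (hs : Nat.card ↥(orbSub Q X) + 1 ≤ Fintype.card ↥(fixSub Q X))
    (hA : alternatingGroup ↥(fixSub Q X) ≤ (toPermHom Γ ↥(fixSub Q X)).range)
    {π : Perm ↥(fixSub Q X)} (hπ : π ∈ alternatingGroup ↥(fixSub Q X)) :
    ∃ z : Γ, (∀ y, y ∉ fixedPoints Q X → z • y = y) ∧ toPermHom Γ ↥(fixSub Q X) z = π := by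
  classical
  set θ := toPermHom Γ ↥(fixSub Q X) with hθ
  set M := orbKer Q X with hM
  set A := alternatingGroup ↥(fixSub Q X) with hAdef
  have h5' : 5 ≤ Nat.card ↥(fixSub Q X) := by rwa [Nat.card_eq_fintype_card]
  have hsimple : IsSimpleGroup ↥A := alternatingGroup.isSimpleGroup h5'
  -- Step 1
  have step1 : A ≤ M.map θ := by
    have hnorm : ((M.map θ).subgroupOf A).Normal := by
      constructor
      intro n hn g
      rw [Subgroup.mem_subgroupOf] at hn ⊢
      obtain ⟨m, hm, hmn⟩ := hn
      obtain ⟨g', hg'⟩ := hA g.2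
      refine ⟨g' * m * g'⁻¹, (inferInstance : M.Normal).conj_mem m hm g', ?_⟩
      simp only [map_mul, map_inv, hmn, hg', Subgroup.coe_mul, Subgroup.coe_inv]
    rcases hnorm.eq_bot_or_eq_top with hbot | htop
    · exfalso
      rw [Subgroup.subgroupOf_eq_bot] at hbot
      let φ := toPermHom Γ ↥(orbSub Q X)
      let F : ↥A → Perm ↥(orbSub Q X) := fun a => φ (Classical.choose (hA a.2))
      have hF : Function.Injective F := by
        intro a b hab
        have ha := Classical.choose_spec (hA a.2)
        have hb := Classical.choose_spec (hA b.2)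
        set ga := Classical.choose (hA a.2)
        set gb := Classical.choose (hA b.2)
        have hker : ga⁻¹ * gb ∈ M := by
          show φ (ga⁻¹ * gb) = 1
          have hab' : φ ga = φ gb := hab
          rw [map_mul, map_inv, hab', inv_mul_cancel]
        have h1 : θ (ga⁻¹ * gb) ∈ M.map θ := ⟨_, hker, rfl⟩
        have h2 : θ (ga⁻¹ * gb) ∈ A := by
          rw [map_mul, map_inv, ha, hb]
          exact A.mul_mem (A.inv_mem a.2) b.2
        have h3 := Subgroup.disjoint_def.mp hbot h1 h2
        rw [map_mul, map_inv, ha, hb, inv_mul_eq_one] at h3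
        exact Subtype.ext h3
      have hle := Nat.card_le_card_of_injective F hF
      rw [Nat.card_perm] at hle
      have htwo : 2 * Nat.card ↥A = (Fintype.card ↥(fixSub Q X)).factorial := by
        have : Nontrivial ↥(fixSub Q X) := Fintype.one_lt_card_iff_nontrivial.mp (by omega)
        rw [Nat.card_eq_fintype_card, two_mul_card_alternatingGroup, Fintype.card_perm]
      have := two_mul_factorial_lt hs h5
      omega
    · rwa [Subgroup.subgroupOf_eq_top] at htop
  -- Step 2
  have step2 : A ≤ (⁅⁅M, M⁆, ⁅M, M⁆⁆).map θ := by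
    rw [Subgroup.map_commutator, Subgroup.map_commutator]
    have hperf : ⁅A, A⁆ = A := commutator_alternatingGroup_eq_self h5'
    calc A = ⁅⁅A, A⁆, ⁅A, A⁆⁆ := by rw [hperf, hperf]
      _ ≤ _ := Subgroup.commutator_mono (Subgroup.commutator_mono step1 step1)
          (Subgroup.commutator_mono step1 step1)
  obtain ⟨z, hz, hzπ⟩ := step2 hπ
  exact ⟨z, fun y hy => fix_of_mem_comm_comm Q hQ hcard hz hy, hzπ⟩

omit [Finite X] in
/-- an element acting on the fixed points as `π` and fixing all moved points is `ofSubtype π`. -/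
theorem toPerm_eq_ofSubtype [DecidablePred (· ∈ fixSub Q X)] {z : Γ} {π : Perm ↥(fixSub Q X)}
    (hfix : ∀ y, y ∉ fixedPoints Q X → z • y = y) (hz : toPermHom Γ ↥(fixSub Q X) z = π) :
    (MulAction.toPerm z : Perm X) = Perm.ofSubtype π := by
  ext y
  by_cases hy : y ∈ fixSub Q X
  · rw [Perm.ofSubtype_apply_of_mem π hy, ← hz]
    rfl
  · rw [Perm.ofSubtype_apply_of_not_mem π hy]
    exact hfix y hy

/-- Lemma (I), conclusion as a 3-cycle. -/
theorem exists_threeCycle [Fintype X] [DecidableEq X]
    [Fintype ↥(fixSub Q X)]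
    (hQ : IsPGroup p Q)
    (hcard : ∀ y, y ∉ fixedPoints Q X → Nat.card (orbit Q y) = p)
    (h5 : 5 ≤ Fintype.card ↥(fixSub Q X))
    (hs : Nat.card ↥(orbSub Q X) + 1 ≤ Fintype.card ↥(fixSub Q X))
    (hA : alternatingGroup ↥(fixSub Q X) ≤ (toPermHom Γ ↥(fixSub Q X)).range) :
    ∃ z : Γ, (MulAction.toPerm z : Perm X).IsThreeCycle := by
  obtain ⟨a, b, c, hab, hac, hbc⟩ :=
    Fintype.two_lt_card_iff.mp (show 2 < Fintype.card ↥(fixSub Q X) by omega)
  have h3 : (swap a b * swap a c).IsThreeCycle := Perm.isThreeCycle_swap_mul_swap_same hab hac hbc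
  obtain ⟨z, hfix, hz⟩ := exists_preimage_fixing Q hQ hcard h5 hs hA h3.mem_alternatingGroup
  refine ⟨z, ?_⟩
  have : DecidablePred (· ∈ fixSub Q X) := Classical.decPred _
  rw [toPerm_eq_ofSubtype Q hfix hz]
  unfold Perm.IsThreeCycle at h3 ⊢
  rw [Perm.cycleType_ofSubtype]
  exact h3

end Cfsg.Agent.Helper60.MillerCore
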