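import Mathlib
import Cfsg.Agent.Helper60.MillerCore

set_option autoImplicit false

namespace Cfsg.Agent.Helper60.MillerB

open MulAction Equiv
open scoped Pointwise commutatorElement
open Cfsg.Agent.Helper60.OrbKer Cfsg.Agent.Helper60.MillerCore

theorem comm_of_card_le_three {G : Type*} [Group G] [Finite G] (h : Nat.card G ≤ 3) (a b : G) :
    a * b = b * a := by
  have hpos : 0 < Nat.card G := Nat.card_pos
  have : Nat.card G = 1 ∨ Nat.card G = 2 ∨ Nat.card G = 3 := by omega
  rcases this with h1 | h2 | h3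
  · have := (Nat.card_eq_one_iff_unique.mp h1).1
    rw [Subsingleton.elim a b]
  · have : Fact (Nat.Prime 2) := ⟨Nat.prime_two⟩
    have hc : IsCyclic G := isCyclic_of_prime_card h2
    exact hc.commGroup.mul_comm a b
  · have : Fact (Nat.Prime 3) := ⟨Nat.prime_three⟩
    have hc : IsCyclic G := isCyclic_of_prime_card h3
    exact hc.commGroup.mul_comm a b

theorem perm_comm_of_card_le_two {α : Type*} [Finite α] (h : Nat.card α ≤ 2) (a b : Perm α) :
    a * b = b * a := by
  apply comm_of_card_le_three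
  rw [Nat.card_perm]
  have : (Nat.card α).factorial ≤ (2 : ℕ).factorial := Nat.factorial_le h
  have h2 : (2 : ℕ).factorial = 2 := by decide
  omega

theorem perm_metabelian_of_card_le_three {α : Type*} [Finite α] (h : Nat.card α ≤ 3)
    (a b c d : Perm α) : ⁅⁅a, b⁆, ⁅c, d⁆⁆ = 1 := by
  classical
  have := Fintype.ofFinite α
  rw [commutatorElement_eq_one_iff_commute]
  have ha : ⁅a, b⁆ ∈ alternatingGroup α := alternatingGroup.commutator_perm_le
    (Subgroup.commutator_mem_commutator (Subgroup.mem_top a) (Subgroup.mem_top b))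
  have hc : ⁅c, d⁆ ∈ alternatingGroup α := alternatingGroup.commutator_perm_le
    (Subgroup.commutator_mem_commutator (Subgroup.mem_top c) (Subgroup.mem_top d))
  have hcard : Nat.card (alternatingGroup α) ≤ 3 := by
    rcases subsingleton_or_nontrivial α with hs | hn
    · have : Subsingleton (Perm α) := inferInstance
      exact le_trans (Finite.card_le_one_iff_subsingleton.mpr inferInstance) (by norm_num)
    · have h2 := two_mul_card_alternatingGroup (α := α)
      rw [Fintype.card_perm, ← Nat.card_eq_fintype_card (α := α)] at h2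
      have : (Nat.card α).factorial ≤ (3 : ℕ).factorial := Nat.factorial_le h
      have h6 : (3 : ℕ).factorial = 6 := by decide
      rw [Nat.card_eq_fintype_card]
      omega
  have := comm_of_card_le_three hcard ⟨_, ha⟩ ⟨_, hc⟩
  exact congrArg Subtype.val this

theorem isThreeCycle_pow {α : Type*} [Fintype α] [DecidableEq α] {σ : Perm α}
    (h : σ.IsThreeCycle) {n : ℕ} (hn : ¬ 3 ∣ n) : (σ ^ n).IsThreeCycle := by
  rw [← pow_mod_orderOf, h.orderOf]
  have : n % 3 = 1 ∨ n % 3 = 2 := by omega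
  rcases this with h1 | h2
  · rw [h1, pow_one]; exact h
  · rw [h2]; exact h.isThreeCycle_sq

theorem isThreeCycle_comm_swap {α : Type*} [Fintype α] [DecidableEq α] {a b c : α}
    (hab : a ≠ b) (hac : a ≠ c) (hbc : b ≠ c) : (⁅swap a b, swap b c⁆ : Perm α).IsThreeCycle := by
  have h1 : (swap a b * swap b c).IsThreeCycle := by
    rw [swap_comm a b]
    exact Perm.isThreeCycle_swap_mul_swap_same hab.symm hbc hac
  have h2 : (⁅swap a b, swap b c⁆ : Perm α) = (swap a b * swap b c) ^ 2 := by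
    rw [commutatorElement_def, swap_inv, swap_inv, pow_two, mul_assoc, mul_assoc]
  rw [h2]
  exact h1.isThreeCycle_sq

variable {Γ : Type*} [Group Γ] (Q : Subgroup Γ) [hQn : Q.Normal] {X : Type*}
  [MulAction Γ X] {p : ℕ} [hp : Fact p.Prime]

omit hQn in
theorem orbit_card_of_card_prime (hQp : Nat.card Q = p) {y : X}
    (hy : y ∉ fixedPoints Q X) : Nat.card (orbit Q y) = p := by
  have h1 : Nat.card (orbit Q y) ∣ p := by
    rw [Nat.card_coe_set_eq, ← index_stabilizer, ← hQp]
    exact Subgroup.index_dvd_card _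
  rcases (Nat.dvd_prime hp.out).mp h1 with h | h
  · exfalso
    apply hy
    rw [Nat.card_coe_set_eq, ← index_stabilizer, Subgroup.index_eq_one] at h
    intro q
    have : q ∈ stabilizer Q y := by rw [h]; exact Subgroup.mem_top q
    exact this
  · exact h

theorem commutator_mem_centralizer (hQp : Nat.card Q = p) (g h : Γ) :
    ⁅g, h⁆ ∈ Subgroup.centralizer (Q : Set Γ) := by
  have hcyc : IsCyclic Q := isCyclic_of_prime_card hQp
  let _ := (hcyc.mulAutMulEquiv _).toMonoidHom.commGroupOfInjective (hcyc.mulAutMulEquiv _).injective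
  have hker := Abelianization.commutator_subset_ker (MulAut.conjNormal (H := Q))
  have hmem : ⁅g, h⁆ ∈ commutator Γ :=
    Subgroup.commutator_mem_commutator (Subgroup.mem_top g) (Subgroup.mem_top h)
  have h1 := hker hmem
  rw [MonoidHom.mem_ker] at h1
  rw [Subgroup.mem_centralizer_iff]
  intro q hq
  have h2 := congrArg (fun f : MulAut Q => ((f ⟨q, hq⟩ : Q) : Γ)) h1
  simp only [MulAut.conjNormal_apply, MulAut.one_apply] at h2
  rw [mul_inv_eq_iff_eq_mul] at h2
  exact h2.symm

/-- Case B, three fixed points. -/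
theorem caseB3 [Fintype X] [DecidableEq X] [Fintype ↥(fixSub Q X)]
    (hQp : Nat.card Q = p) (hp3 : p ≠ 3)
    (hF : Fintype.card ↥(fixSub Q X) = 3) (hO : Nat.card ↥(orbSub Q X) ≤ 2)
    (hsurj : Function.Surjective (toPermHom Γ ↥(fixSub Q X))) :
    ∃ z : Γ, (MulAction.toPerm z : Perm X).IsThreeCycle := by
  have hQ : IsPGroup p Q := IsPGroup.of_card (n := 1) (by rw [hQp, pow_one])
  have hcard : ∀ y, y ∉ fixedPoints Q X → Nat.card (orbit Q y) = p :=
    fun y hy => orbit_card_of_card_prime Q hQp hy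
  obtain ⟨a, b, c, hab, hac, hbc⟩ :=
    Fintype.two_lt_card_iff.mp (show 2 < Fintype.card ↥(fixSub Q X) by omega)
  obtain ⟨g1, hg1⟩ := hsurj (swap a b)
  obtain ⟨g2, hg2⟩ := hsurj (swap b c)
  set u := ⁅g1, g2⁆ with hu
  have huC : u ∈ Subgroup.centralizer (Q : Set Γ) := commutator_mem_centralizer Q hQp g1 g2
  have huM : u ∈ orbKer Q X := by
    show toPermHom Γ ↥(orbSub Q X) u = 1
    rw [hu, map_commutatorElement, commutatorElement_eq_one_iff_commute]
    exact perm_comm_of_card_le_two hO _ _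
  have hfix : ∀ y, y ∉ fixedPoints Q X → u ^ p • y = y :=
    fun y hy => pow_fix_of_mem_centralizer Q hQ hcard huM huC hy
  have hθ : toPermHom Γ ↥(fixSub Q X) (u ^ p) = ⁅swap a b, swap b c⁆ ^ p := by
    rw [map_pow, hu, map_commutatorElement, hg1, hg2]
  have h3 : (⁅swap a b, swap b c⁆ ^ p : Perm ↥(fixSub Q X)).IsThreeCycle := by
    apply isThreeCycle_pow (isThreeCycle_comm_swap hab hac hbc)
    intro h
    exact hp3 ((Nat.prime_dvd_prime_iff_eq Nat.prime_three hp.out).mp h).symm
  refine ⟨u ^ p, ?_⟩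
  have : DecidablePred (· ∈ fixSub Q X) := Classical.decPred _
  rw [toPerm_eq_ofSubtype Q hfix hθ]
  unfold Perm.IsThreeCycle at h3 ⊢
  rw [Perm.cycleType_ofSubtype]
  exact h3

theorem fin4_comm : (⁅⁅swap (0 : Fin 4) 1, swap (1 : Fin 4) 2⁆,
    ⁅swap (0 : Fin 4) 1, swap (1 : Fin 4) 3⁆⁆ : Perm (Fin 4)) =
    swap (0 : Fin 4) 1 * swap (2 : Fin 4) 3 := by decide

/-- Case B, four fixed points: a double transposition. -/
theorem caseB4 [Fintype X] [DecidableEq X] [Fintype ↥(fixSub Q X)]
    (hQp : Nat.card Q = p) (hp2 : p ≠ 2)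
    (hF : Fintype.card ↥(fixSub Q X) = 4) (hO : Nat.card ↥(orbSub Q X) ≤ 3)
    (hsurj : Function.Surjective (toPermHom Γ ↥(fixSub Q X))) :
    ∃ z : Γ, ∃ a b c d : X, a ≠ b ∧ a ≠ c ∧ a ≠ d ∧ b ≠ c ∧ b ≠ d ∧ c ≠ d ∧
      (MulAction.toPerm z : Perm X) = swap a b * swap c d := by
  have hQ : IsPGroup p Q := IsPGroup.of_card (n := 1) (by rw [hQp, pow_one])
  have hcard : ∀ y, y ∉ fixedPoints Q X → Nat.card (orbit Q y) = p :=
    fun y hy => orbit_card_of_card_prime Q hQp hy
  let e : Fin 4 ≃ ↥(fixSub Q X) := (Fintype.equivFinOfCardEq hF).symm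
  let Ψ : Perm (Fin 4) ≃* Perm ↥(fixSub Q X) := e.permCongrHom
  have hΨ : ∀ i j : Fin 4, Ψ (swap i j) = swap (e i) (e j) := by
    intro i j
    show e.permCongr (swap i j) = _
    rw [Equiv.permCongr_def, Equiv.symm_trans_swap_trans]
  obtain ⟨g1, hg1⟩ := hsurj (swap (e 0) (e 1))
  obtain ⟨g2, hg2⟩ := hsurj (swap (e 1) (e 2))
  obtain ⟨g4, hg4⟩ := hsurj (swap (e 1) (e 3))
  set u := ⁅⁅g1, g2⁆, ⁅g1, g4⁆⁆ with hu
  have huC : u ∈ Subgroup.centralizer (Q : Set Γ) := commutator_mem_centralizer Q hQp _ _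
  have huM : u ∈ orbKer Q X := by
    show toPermHom Γ ↥(orbSub Q X) u = 1
    rw [hu, map_commutatorElement, map_commutatorElement, map_commutatorElement]
    exact perm_metabelian_of_card_le_three hO _ _ _ _
  have hfix : ∀ y, y ∉ fixedPoints Q X → u ^ p • y = y :=
    fun y hy => pow_fix_of_mem_centralizer Q hQ hcard huM huC hy
  have hθu : toPermHom Γ ↥(fixSub Q X) u = swap (e 0) (e 1) * swap (e 2) (e 3) := by
    rw [hu, map_commutatorElement, map_commutatorElement, map_commutatorElement, hg1, hg2, hg4,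
      ← hΨ, ← hΨ, ← hΨ, ← hΨ, ← map_commutatorElement, ← map_commutatorElement,
      ← map_commutatorElement, fin4_comm, map_mul]
  have hv2 : (swap (e 0) (e 1) * swap (e 2) (e 3) : Perm ↥(fixSub Q X)) ^ 2 = 1 := by
    rw [← hΨ, ← hΨ, ← map_mul, ← map_pow]
    have : (swap (0 : Fin 4) 1 * swap 2 3) ^ 2 = 1 := by decide
    rw [this, map_one]
  have hodd : p % 2 = 1 := by
    rcases hp.out.eq_two_or_odd with h | h
    · exact absurd h hp2
    · exact h
  have hθ : toPermHom Γ ↥(fixSub Q X) (u ^ p) = swap (e 0) (e 1) * swap (e 2) (e 3) := by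
    rw [map_pow, hθu]
    conv_lhs => rw [← Nat.div_add_mod p 2, hodd, pow_succ, pow_mul, hv2, one_pow, one_mul]
  have : DecidablePred (· ∈ fixSub Q X) := Classical.decPred _
  refine ⟨u ^ p, (e 0 : X), (e 1 : X), (e 2 : X), (e 3 : X), ?_, ?_, ?_, ?_, ?_, ?_, ?_⟩
  · exact fun h => absurd (e.injective (Subtype.ext h)) (by decide)
  · exact fun h => absurd (e.injective (Subtype.ext h)) (by decide)
  · exact fun h => absurd (e.injective (Subtype.ext h)) (by decide)
  · exact fun h => absurd (e.injective (Subtype.ext h)) (by decide)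
  · exact fun h => absurd (e.injective (Subtype.ext h)) (by decide)
  · exact fun h => absurd (e.injective (Subtype.ext h)) (by decide)
  · rw [toPerm_eq_ofSubtype Q hfix hθ, map_mul, Perm.ofSubtype_swap_eq, Perm.ofSubtype_swap_eq]

end Cfsg.Agent.Helper60.MillerB
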