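import Mathlib

set_option autoImplicit false

namespace Cfsg.Agent.Helper60.Witt

open MulAction

variable {Γ : Type*} [Group Γ] [Finite Γ] {X : Type*} [MulAction Γ X] {p : ℕ} [hp : Fact p.Prime]

/-- Witt's lemma: if `Γ` is `t`-transitive on `X`, `x` is a `t`-tuple of distinct points and `P`
is a Sylow `p`-subgroup of the stabilizer of `x`, then the normalizer of `P` is `t`-transitive on
the fixed points of `P`. -/
theorem witt {t : ℕ} (htr : IsMultiplyPretransitive Γ X t) (x : Fin t ↪ X)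
    (P : Sylow p (stabilizer Γ x)) (y z : Fin t ↪ X)
    (hy : ∀ q ∈ (P : Subgroup (stabilizer Γ x)), (q : Γ) • y = y)
    (hz : ∀ q ∈ (P : Subgroup (stabilizer Γ x)), (q : Γ) • z = z) :
    ∃ g : Γ, g ∈ Subgroup.normalizer
      (((P : Subgroup (stabilizer Γ x)).map (stabilizer Γ x).subtype : Subgroup Γ) : Set Γ) ∧
      g • y = z := by
  set Q : Subgroup Γ := (P : Subgroup (stabilizer Γ x)).map (stabilizer Γ x).subtype with hQ
  have hQcard : Nat.card Q = p ^ (Nat.card (stabilizer Γ x)).factorization p := by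
    rw [hQ, Subgroup.card_map_of_injective (Subgroup.subtype_injective _)]
    exact P.card_eq_multiplicity
  have hstab : ∀ w : Fin t ↪ X, Nat.card (stabilizer Γ w) = Nat.card (stabilizer Γ x) := by
    intro w
    obtain ⟨g, rfl⟩ := htr.exists_smul_eq x w
    rw [stabilizer_smul_eq_stabilizer_map_conj,
      Subgroup.card_map_of_injective (MulAut.conj g).injective]
  have hQy : Q ≤ stabilizer Γ y := by
    rintro _ ⟨q, hq, rfl⟩
    exact hy q hq
  have hQz : Q ≤ stabilizer Γ z := by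
    rintro _ ⟨q, hq, rfl⟩
    exact hz q hq
  obtain ⟨g₀, hg₀⟩ := htr.exists_smul_eq y z
  set Q' : Subgroup Γ := Q.map (MulAut.conj g₀).toMonoidHom with hQ'
  have hQ'card : Nat.card Q' = Nat.card Q :=
    Subgroup.card_map_of_injective (MulAut.conj g₀).injective
  have hQ'z : Q' ≤ stabilizer Γ z := by
    rintro _ ⟨a, ha, rfl⟩
    have h1 : a • y = y := hQy ha
    rw [mem_stabilizer_iff]
    simp only [MulEquiv.coe_toMonoidHom, MulAut.conj_apply]
    rw [← hg₀, mul_smul, mul_smul, inv_smul_smul, h1]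
  have hc1 : Nat.card (Q'.subgroupOf (stabilizer Γ z)) =
      p ^ (Nat.card (stabilizer Γ z)).factorization p := by
    rw [hstab z, ← hQcard, ← hQ'card]
    exact Nat.card_congr (Subgroup.subgroupOfEquivOfLe hQ'z).toEquiv
  have hc2 : Nat.card (Q.subgroupOf (stabilizer Γ z)) =
      p ^ (Nat.card (stabilizer Γ z)).factorization p := by
    rw [hstab z, ← hQcard]
    exact Nat.card_congr (Subgroup.subgroupOfEquivOfLe hQz).toEquiv
  let P₁ : Sylow p (stabilizer Γ z) := Sylow.ofCard _ hc1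
  let P₂ : Sylow p (stabilizer Γ z) := Sylow.ofCard _ hc2
  obtain ⟨h, hh⟩ := MulAction.exists_smul_eq (stabilizer Γ z) P₁ P₂
  refine ⟨(h : Γ) * g₀, ?_, ?_⟩
  · apply Subgroup.mem_normalizer_fintype
    intro a ha
    have ha' : g₀ * a * g₀⁻¹ ∈ Q' := ⟨a, ha, rfl⟩
    have hm1 : (⟨g₀ * a * g₀⁻¹, hQ'z ha'⟩ : stabilizer Γ z) ∈ (P₁ : Subgroup (stabilizer Γ z)) := by
      show _ ∈ Q'.subgroupOf (stabilizer Γ z)
      rw [Subgroup.mem_subgroupOf]
      exact ha'
    have hm2 : h * ⟨g₀ * a * g₀⁻¹, hQ'z ha'⟩ * h⁻¹ ∈ (P₂ : Subgroup (stabilizer Γ z)) := by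
      have h0 := Subgroup.smul_mem_pointwise_smul _ (MulAut.conj h) _ hm1
      rw [← Sylow.coe_subgroup_smul, hh] at h0
      simpa [MulAut.smul_def] using h0
    have hm3 : (h * ⟨g₀ * a * g₀⁻¹, hQ'z ha'⟩ * h⁻¹ : stabilizer Γ z) ∈
        Q.subgroupOf (stabilizer Γ z) := hm2
    rw [Subgroup.mem_subgroupOf] at hm3
    have : ((h * ⟨g₀ * a * g₀⁻¹, hQ'z ha'⟩ * h⁻¹ : stabilizer Γ z) : Γ) =
        (h : Γ) * g₀ * a * ((h : Γ) * g₀)⁻¹ := by
      simp only [Subgroup.coe_mul, Subgroup.coe_inv, mul_inv_rev]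
      group
    rw [this] at hm3
    exact hm3
  · rw [mul_smul, hg₀]
    exact h.2

end Cfsg.Agent.Helper60.Witt
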