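import Mathlib
import Cfsg.Agent.Helper60.Witt
import Cfsg.Agent.Helper60.MillerB

set_option autoImplicit false

namespace Cfsg.Agent.Helper60.MillerGen

open MulAction Equiv
open scoped Pointwise commutatorElement
open Cfsg.Agent.Helper60.OrbKer

section General

variable {Γ : Type*} [Group Γ] {X : Type*} [MulAction Γ X]

theorem stab_trans {r : ℕ} (htr : IsMultiplyPretransitive Γ X (r + 1)) (x : Fin r ↪ X) {ω ω' : X}
    (hω : ω ∉ Set.range x) (hω' : ω' ∉ Set.range x) : ∃ g ∈ stabilizer Γ x, g • ω = ω' := by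
  obtain ⟨g, hg⟩ := htr.exists_smul_eq (Fin.Embedding.snoc x hω) (Fin.Embedding.snoc x hω')
  refine ⟨g, ?_, ?_⟩
  · rw [mem_stabilizer_iff]
    ext i
    have := DFunLike.congr_fun hg i.castSucc
    rw [Function.Embedding.smul_apply, Fin.Embedding.snoc_castSucc,
      Fin.Embedding.snoc_castSucc] at this
    rw [Function.Embedding.smul_apply]
    exact this
  · have := DFunLike.congr_fun hg (Fin.last r)
    rwa [Function.Embedding.smul_apply, Fin.Embedding.snoc_last, Fin.Embedding.snoc_last] at this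

theorem orbit_stab_eq {r : ℕ} (htr : IsMultiplyPretransitive Γ X (r + 1)) (x : Fin r ↪ X) {ω : X}
    (hω : ω ∉ Set.range x) : orbit (stabilizer Γ x) ω = (Set.range x)ᶜ := by
  ext y
  constructor
  · rintro ⟨g, rfl⟩ ⟨i, hi⟩
    apply hω
    refine ⟨i, ?_⟩
    have hg : (g : Γ) • x = x := g.2
    have h1 : (g : Γ) • x i = x i := by
      have := DFunLike.congr_fun hg i
      rwa [Function.Embedding.smul_apply] at this
    have h2 : (g : Γ) • ω = x i := hi.symm
    rw [← h1] at h2
    exact (smul_left_cancel _ h2).symm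
  · intro hy
    obtain ⟨g, hg, hgω⟩ := stab_trans htr x hω hy
    exact ⟨⟨g, hg⟩, hgω⟩

theorem card_orbit_stab [Finite X] {r : ℕ} (htr : IsMultiplyPretransitive Γ X (r + 1))
    (x : Fin r ↪ X) {ω : X} (hω : ω ∉ Set.range x) :
    Nat.card (orbit (stabilizer Γ x) ω) + r = Nat.card X := by
  rw [Nat.card_coe_set_eq, orbit_stab_eq htr x hω, ← Set.ncard_add_ncard_compl (Set.range x),
    Set.ncard_range_of_injective x.injective, Nat.card_fin, add_comm]

theorem range_subset_fixedPoints {r : ℕ} (x : Fin r ↪ X) (H : Subgroup (stabilizer Γ x)) :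
    Set.range x ⊆ fixedPoints (H.map (stabilizer Γ x).subtype) X := by
  rintro _ ⟨i, rfl⟩ ⟨_, q, _, rfl⟩
  have hq : (q : Γ) • x = x := q.2
  have := DFunLike.congr_fun hq i
  rwa [Function.Embedding.smul_apply] at this

/-- A Sylow `p`-subgroup of the stabilizer of `r` points in an `(r+1)`-transitive group of degree
`k p + r` (with `p ∤ k`... here simply `1 ≤ k`) fixes exactly those `r` points. -/
theorem fixedPoints_sylow {p : ℕ} [hp : Fact p.Prime] [Finite Γ] [Finite X] {r k : ℕ}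
    (htr : IsMultiplyPretransitive Γ X (r + 1)) (x : Fin r ↪ X)
    (hcard : Nat.card X = k * p + r) (P : Sylow p (stabilizer Γ x)) :
    fixedPoints ((P : Subgroup (stabilizer Γ x)).map (stabilizer Γ x).subtype) X = Set.range x := by
  apply Set.Subset.antisymm
  · intro ω hω
    by_contra hωx
    have hPS : (P : Subgroup (stabilizer Γ x)) ≤ stabilizer (stabilizer Γ x) ω := by
      intro q hq
      rw [mem_stabilizer_iff]
      exact hω ⟨(q : Γ), ⟨q, hq, rfl⟩⟩
    have h1 := Subgroup.index_dvd_of_le hPS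
    rw [index_stabilizer, ← Nat.card_coe_set_eq] at h1
    have h2 := card_orbit_stab htr x hωx
    have h3 : Nat.card (orbit (stabilizer Γ x) ω) = k * p := by omega
    rw [h3] at h1
    exact P.not_dvd_index ((dvd_mul_left p k).trans h1)
  · exact range_subset_fixedPoints x _

theorem orbit_card_eq_prime {p : ℕ} [hp : Fact p.Prime] [Finite X] (Q : Subgroup Γ)
    (hQ : IsPGroup p Q) {y : X} (hy : y ∉ fixedPoints Q X)
    (hsmall : Nat.card ↥((fixedPoints Q X)ᶜ : Set X) < p ^ 2) : Nat.card (orbit Q y) = p := by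
  obtain ⟨n, hn⟩ := hQ.card_orbit y
  have hsub : orbit Q y ⊆ (fixedPoints Q X)ᶜ := by
    rintro _ ⟨q, rfl⟩ h
    apply hy
    intro q'
    have := h (q * q' * q⁻¹)
    simp only [mul_smul, inv_smul_smul] at this
    exact smul_left_cancel _ this
  have hle : Nat.card (orbit Q y) ≤ Nat.card ↥((fixedPoints Q X)ᶜ : Set X) := by
    rw [Nat.card_coe_set_eq, Nat.card_coe_set_eq]
    exact Set.ncard_le_ncard hsub
  have hn0 : n ≠ 0 := by
    rintro rfl
    rw [pow_zero] at hn
    apply hy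
    intro q
    have hsing := (Nat.card_eq_one_iff_unique.mp hn).1
    have := hsing.elim ⟨q • y, mem_orbit y q⟩ ⟨y, mem_orbit_self y⟩
    exact congrArg Subtype.val this
  have hn2 : n < 2 := by
    by_contra hcon
    push Not at hcon
    have : p ^ 2 ≤ p ^ n := Nat.pow_le_pow_right hp.out.pos hcon
    omega
  have : n = 1 := by omega
  rw [hn, this, pow_one]

theorem fixedPoints_subgroupOf (H K : Subgroup Γ) (hHK : H ≤ K) :
    fixedPoints (H.subgroupOf K) X = fixedPoints H X := by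
  ext y
  constructor
  · intro h q
    exact h ⟨⟨q, hHK q.2⟩, Subgroup.mem_subgroupOf.mpr q.2⟩
  · intro h q
    exact h ⟨(q : K), Subgroup.mem_subgroupOf.mp q.2⟩

theorem orbit_subgroupOf (H K : Subgroup Γ) (hHK : H ≤ K) (y : X) :
    orbit (H.subgroupOf K) y = orbit H y := by
  ext z
  constructor
  · rintro ⟨q, rfl⟩
    exact ⟨⟨(q : K), Subgroup.mem_subgroupOf.mp q.2⟩, rfl⟩
  · rintro ⟨q, rfl⟩
    exact ⟨⟨⟨q, hHK q.2⟩, Subgroup.mem_subgroupOf.mpr q.2⟩, rfl⟩

end General

section Norm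

variable {Γ : Type*} [Group Γ] {X : Type*} [MulAction Γ X] (Q : Subgroup Γ)

/-- `Q` as a (normal) subgroup of its normalizer. -/
abbrev Qn : Subgroup ↥(Subgroup.normalizer (Q : Set Γ)) :=
  Q.subgroupOf (Subgroup.normalizer (Q : Set Γ))

theorem fixedPoints_Qn : fixedPoints (Qn Q) X = fixedPoints Q X :=
  fixedPoints_subgroupOf Q _ Subgroup.le_normalizer

theorem orbit_Qn (y : X) : orbit (Qn Q) y = orbit Q y :=
  orbit_subgroupOf Q _ Subgroup.le_normalizer y

theorem card_Qn : Nat.card (Qn Q) = Nat.card Q :=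
  Nat.card_congr (Subgroup.subgroupOfEquivOfLe Subgroup.le_normalizer).toEquiv

theorem surj_of_witt {r : ℕ} (x : Fin r ↪ X) (hfix : fixedPoints Q X = Set.range x)
    (hW : ∀ z : Fin r ↪ X, (∀ i, z i ∈ fixedPoints Q X) →
      ∃ g : Γ, g ∈ Subgroup.normalizer (Q : Set Γ) ∧ g • x = z) :
    Function.Surjective
      (toPermHom ↥(Subgroup.normalizer (Q : Set Γ)) ↥(fixSub (Qn Q) X)) := by
  intro π
  have hx : ∀ i, x i ∈ fixSub (Qn Q) X := by
    intro i
    rw [mem_fixSub, fixedPoints_Qn, hfix]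
    exact ⟨i, rfl⟩
  let z : Fin r ↪ X := ⟨fun i => ((π ⟨x i, hx i⟩ : ↥(fixSub (Qn Q) X)) : X), by
    intro i j hij
    have h1 := π.injective (Subtype.ext hij)
    exact x.injective (congrArg Subtype.val h1)⟩
  have hz : ∀ i, z i ∈ fixedPoints Q X := by
    intro i
    have := (π ⟨x i, hx i⟩).2
    rwa [mem_fixSub, fixedPoints_Qn] at this
  obtain ⟨g, hgN, hgz⟩ := hW z hz
  refine ⟨⟨g, hgN⟩, ?_⟩
  ext f
  obtain ⟨i, hi⟩ : ∃ i, x i = (f : X) := by
    have := f.2
    rwa [mem_fixSub, fixedPoints_Qn, hfix] at this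
  have hf : f = ⟨x i, hx i⟩ := Subtype.ext hi.symm
  rw [hf]
  have := DFunLike.congr_fun hgz i
  rw [Function.Embedding.smul_apply] at this
  exact this

theorem mult_trans_of_witt {t : ℕ}
    (hW : ∀ y z : Fin t ↪ X, (∀ i, y i ∈ fixedPoints Q X) → (∀ i, z i ∈ fixedPoints Q X) →
      ∃ g : Γ, g ∈ Subgroup.normalizer (Q : Set Γ) ∧ g • y = z) :
    IsMultiplyPretransitive ↥(Subgroup.normalizer (Q : Set Γ)) ↥(fixSub (Qn Q) X) t := by
  refine ⟨fun y z => ?_⟩
  have hy : ∀ i, ((y i : ↥(fixSub (Qn Q) X)) : X) ∈ fixedPoints Q X := by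
    intro i
    have := (y i).2
    rwa [mem_fixSub, fixedPoints_Qn] at this
  have hz : ∀ i, ((z i : ↥(fixSub (Qn Q) X)) : X) ∈ fixedPoints Q X := by
    intro i
    have := (z i).2
    rwa [mem_fixSub, fixedPoints_Qn] at this
  obtain ⟨g, hgN, hg⟩ := hW (y.trans (Function.Embedding.subtype _))
    (z.trans (Function.Embedding.subtype _)) hy hz
  refine ⟨⟨g, hgN⟩, ?_⟩
  ext i
  have := DFunLike.congr_fun hg i
  simp only [Function.Embedding.smul_apply, Function.Embedding.trans_apply,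
    Function.Embedding.subtype_apply] at this
  rw [Function.Embedding.smul_apply]
  exact this

end Norm

theorem isMultiplyPretransitive_range {Γ : Type*} [Group Γ] {X : Type*} [MulAction Γ X] {t : ℕ}
    (h : IsMultiplyPretransitive Γ X t) :
    IsMultiplyPretransitive (toPermHom Γ X).range X t := by
  refine ⟨fun y z => ?_⟩
  obtain ⟨g, hg⟩ := h.exists_smul_eq y z
  refine ⟨⟨toPermHom Γ X g, ⟨g, rfl⟩⟩, ?_⟩
  rw [← hg]
  rfl

end Cfsg.Agent.Helper60.MillerGen
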