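import Mathlib
import Cfsg.Agent.Helper60.MillerGen
import Cfsg.Agent.Helper60.MillerFin

set_option autoImplicit false

namespace Cfsg.Agent.Helper60.Miller

open MulAction Equiv
open scoped Pointwise commutatorElement
open Cfsg.Agent.Helper60.OrbKer Cfsg.Agent.Helper60.MillerGen

universe u

/-- card of the fixed-point sub-action type -/
theorem card_fixSub {Γ : Type*} [Group Γ] {X : Type*} [MulAction Γ X] (Q : Subgroup Γ) [Q.Normal] :
    Nat.card ↥(fixSub Q X) = Nat.card ↥(fixedPoints Q X) := rfl

theorem card_movSub {Γ : Type*} [Group Γ] {X : Type*} [MulAction Γ X] (Q : Subgroup Γ) [Q.Normal] :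
    Nat.card ↥(movSub Q X) = Nat.card ↥((fixedPoints Q X)ᶜ : Set X) := rfl

theorem miller_aux : ∀ k : ℕ, ∀ (p : ℕ) (_ : p.Prime) (X : Type u) [Fintype X] [DecidableEq X]
    (G : Subgroup (Perm X)) (r : ℕ), Fintype.card X = k * p + r → 1 ≤ k → k < p → k < r →
    ¬ (k = 1 ∧ r = 2) → IsMultiplyPretransitive G X (r + 1) → alternatingGroup X ≤ G := by
  intro k
  induction k using Nat.strong_induction_on with
  | _ k ih =>
  intro p hp X _ _ G r hcard hk hkp hkr hex htr
  have : Fact p.Prime := ⟨hp⟩
  have hr3 : 3 ≤ r := by omega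
  have hcardN : Nat.card X = k * p + r := by rw [Nat.card_eq_fintype_card, hcard]
  have hkp1 : 1 ≤ k * p := Nat.mul_pos hk hp.pos
  have hle : r + 1 ≤ Nat.card X := by omega
  have h2 : IsMultiplyPretransitive G X 2 :=
    isMultiplyPretransitive_of_le (n := r + 1) (by omega) hle
  have h4 : IsMultiplyPretransitive G X 4 :=
    isMultiplyPretransitive_of_le (n := r + 1) (by omega) hle
  have hrtr : IsMultiplyPretransitive G X r :=
    isMultiplyPretransitive_of_le (n := r + 1) (by omega) hle
  have hprim : IsPreprimitive G X := isPreprimitive_of_is_two_pretransitive h2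
  -- small case: `k p ≤ 3`
  by_cases hsmallkp : k * p ≤ 3
  · apply IsMultiplyPretransitive.alternatingGroup_le
    have h5 : Nat.card X - 2 ≤ r + 1 := by omega
    exact isMultiplyPretransitive_of_le (n := r + 1) h5 hle
  push Not at hsmallkp
  -- the exceptional degree 9
  by_cases h9 : k = 2 ∧ p = 3 ∧ r = 3
  · obtain ⟨rfl, rfl, rfl⟩ := h9
    apply MillerFin.deg9 G (by rw [hcard]) h4
    intro h5
    exact ih 1 (by norm_num) 5 (by norm_num) X G 4 (by rw [hcard]) le_rfl (by norm_num)
      (by norm_num) (by norm_num) h5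
  -- reduce to finding a 3-cycle or a swap
  suffices h : ∃ g : G, (g : Perm X).IsThreeCycle ∨ (g : Perm X).IsSwap by
    obtain ⟨g, hg | hg⟩ := h
    · exact Perm.alternatingGroup_le_of_isPreprimitive_of_isThreeCycle_mem hprim hg g.2
    · rw [Perm.subgroup_eq_top_of_isPreprimitive_of_isSwap_mem hprim g hg g.2]
      exact le_top
  -- the `r`-tuple and the Sylow subgroup
  obtain ⟨x⟩ : Nonempty (Fin r ↪ X) :=
    Function.Embedding.nonempty_of_card_le (by rw [Fintype.card_fin, hcard]; omega)
  obtain ⟨P⟩ : Nonempty (Sylow p (stabilizer G x)) := inferInstance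
  set Q : Subgroup G := (P : Subgroup (stabilizer G x)).map (stabilizer G x).subtype with hQdef
  have hQp : IsPGroup p Q := P.2.map _
  have hfix : fixedPoints Q X = Set.range x := fixedPoints_sylow htr x hcardN P
  have hW : ∀ y z : Fin r ↪ X, (∀ i, y i ∈ fixedPoints Q X) → (∀ i, z i ∈ fixedPoints Q X) →
      ∃ g : G, g ∈ Subgroup.normalizer (Q : Set G) ∧ g • y = z := by
    intro y z hy hz
    apply Witt.witt hrtr x P y z
    · intro q hq
      ext i
      rw [Function.Embedding.smul_apply]
      exact hy i ⟨(q : G), ⟨q, hq, rfl⟩⟩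
    · intro q hq
      ext i
      rw [Function.Embedding.smul_apply]
      exact hz i ⟨(q : G), ⟨q, hq, rfl⟩⟩
  have hmoved : Nat.card ↥((fixedPoints Q X)ᶜ : Set X) = k * p := by
    have h1 := Set.ncard_add_ncard_compl (Set.range x)
    rw [Set.ncard_range_of_injective x.injective, Nat.card_fin, hcardN] at h1
    rw [hfix, Nat.card_coe_set_eq]
    omega
  have hsmall : Nat.card ↥((fixedPoints Q X)ᶜ : Set X) < p ^ 2 := by
    rw [hmoved, pow_two]
    exact Nat.mul_lt_mul_of_pos_right hkp hp.pos
  have hcardorb : ∀ y, y ∉ fixedPoints Q X → Nat.card (orbit Q y) = p :=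
    fun y hy => orbit_card_eq_prime Q hQp hy hsmall
  have hcardorb' : ∀ y, y ∉ fixedPoints (Qn Q) X → Nat.card (orbit (Qn Q) y) = p := by
    intro y hy
    rw [orbit_Qn]
    rw [fixedPoints_Qn] at hy
    exact hcardorb y hy
  have hQnp : IsPGroup p (Qn Q) := hQp.comap_subtype
  have hsurj := surj_of_witt Q x hfix
    (fun z hz => hW x z (by intro i; rw [hfix]; exact ⟨i, rfl⟩) hz)
  have : Fintype ↥(fixSub (Qn Q) X) := Fintype.ofFinite _
  have hFcard : Fintype.card ↥(fixSub (Qn Q) X) = r := by
    rw [← Nat.card_eq_fintype_card, card_fixSub, fixedPoints_Qn, hfix, Nat.card_coe_set_eq,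
      Set.ncard_range_of_injective x.injective, Nat.card_fin]
  have hOcard : Nat.card ↥(orbSub (Qn Q) X) = k := by
    have h1 := card_orbSub_mul (Qn Q) hcardorb'
    rw [card_movSub, fixedPoints_Qn, hmoved] at h1
    exact Nat.eq_of_mul_eq_mul_right hp.pos h1
  have htoPerm : ∀ (H : Subgroup G) (z : H), (MulAction.toPerm z : Perm X) = ((z : G) : Perm X) := by
    intro H z
    ext y
    rfl
  -- Case 1: `5 ≤ r`
  by_cases hr5 : 5 ≤ r
  · obtain ⟨z, hz⟩ := MillerCore.exists_threeCycle (Qn Q) hQnp hcardorb' (by omega) (by omega)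
      (fun π _ => hsurj π)
    rw [htoPerm] at hz
    exact ⟨(z : G), Or.inl hz⟩
  push Not at hr5
  -- an extra point
  obtain ⟨ω, hω⟩ : ∃ ω, ω ∉ Set.range x := by
    by_contra hcon
    push Not at hcon
    have h1 : Set.range x = Set.univ := Set.eq_univ_of_forall hcon
    have h2 := Set.ncard_range_of_injective x.injective
    rw [h1, Set.ncard_univ, Nat.card_fin, hcardN] at h2
    omega
  have hωfix : ω ∉ fixedPoints Q X := by rwa [hfix]
  set x' : Fin (r + 1) ↪ X := Fin.Embedding.snoc x hω with hx'
  by_cases hdiv : p ∣ Nat.card (stabilizer G x')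
  · -- Case 2: a nontrivial `p`-subgroup fixing `r + 1` points
    obtain ⟨P'⟩ : Nonempty (Sylow p (stabilizer G x')) := inferInstance
    set Q' : Subgroup G := (P' : Subgroup (stabilizer G x')).map (stabilizer G x').subtype
      with hQ'def
    have hQ'p : IsPGroup p Q' := P'.2.map _
    have hrange' : Set.range x' ⊆ fixedPoints Q' X := range_subset_fixedPoints x' _
    -- the fixed points and moved points of `Q'`
    have hsplit := Set.ncard_add_ncard_compl (fixedPoints Q' X)
    rw [hcardN] at hsplit
    have hfixge : r + 1 ≤ (fixedPoints Q' X).ncard := by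
      have h1 := Set.ncard_le_ncard hrange' (Set.toFinite _)
      rwa [Set.ncard_range_of_injective x'.injective, Nat.card_fin] at h1
    have hmovedpos : 0 < ((fixedPoints Q' X)ᶜ : Set X).ncard := by
      have hne : (P' : Subgroup (stabilizer G x')) ≠ ⊥ := P'.ne_bot_of_dvd_card hdiv
      obtain ⟨⟨q, hq⟩, hq1⟩ := (Subgroup.ne_bot_iff_exists_ne_one).mp hne
      have hq1' : ((q : G) : Perm X) ≠ 1 := by
        intro h
        apply hq1
        apply Subtype.ext
        apply Subtype.ext
        apply Subtype.ext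
        exact h
      obtain ⟨y, hy⟩ : ∃ y, ((q : G) : Perm X) y ≠ y := by
        by_contra hcon
        push Not at hcon
        exact hq1' (Equiv.ext hcon)
      rw [Set.ncard_pos (Set.toFinite _)]
      refine ⟨y, fun hyfix => hy ?_⟩
      exact hyfix ⟨(q : G), ⟨q, hq, rfl⟩⟩
    have hsmall' : Nat.card ↥((fixedPoints Q' X)ᶜ : Set X) < p ^ 2 := by
      rw [Nat.card_coe_set_eq, pow_two]
      have : k * p < p * p := Nat.mul_lt_mul_of_pos_right hkp hp.pos
      omega
    have hcardorbQ' : ∀ y, y ∉ fixedPoints Q' X → Nat.card (orbit Q' y) = p :=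
      fun y hy => orbit_card_eq_prime Q' hQ'p hy hsmall'
    have hcardorbQ'n : ∀ y, y ∉ fixedPoints (Qn Q') X → Nat.card (orbit (Qn Q') y) = p := by
      intro y hy
      rw [orbit_Qn]
      rw [fixedPoints_Qn] at hy
      exact hcardorbQ' y hy
    have hQ'np : IsPGroup p (Qn Q') := hQ'p.comap_subtype
    set s' := Nat.card ↥(orbSub (Qn Q') X) with hs'
    have hs'mul : s' * p = ((fixedPoints Q' X)ᶜ : Set X).ncard := by
      have h1 := card_orbSub_mul (Qn Q') hcardorbQ'n
      rwa [card_movSub, fixedPoints_Qn, Nat.card_coe_set_eq] at h1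
    have hs'pos : 1 ≤ s' := by
      by_contra hcon
      have : s' = 0 := by omega
      rw [this, zero_mul] at hs'mul
      omega
    have hs'lt : s' < k := by
      by_contra hcon
      push Not at hcon
      have : k * p ≤ s' * p := Nat.mul_le_mul_right p hcon
      omega
    have : Fintype ↥(fixSub (Qn Q') X) := Fintype.ofFinite _
    have hF'card : Fintype.card ↥(fixSub (Qn Q') X) = (k - s') * p + r := by
      rw [← Nat.card_eq_fintype_card, card_fixSub, fixedPoints_Qn, Nat.card_coe_set_eq,
        Nat.sub_mul]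
      have : s' * p ≤ k * p := Nat.mul_le_mul_right p hs'lt.le
      omega
    -- Witt at level `r + 1`
    have hW' : ∀ y z : Fin (r + 1) ↪ X, (∀ i, y i ∈ fixedPoints Q' X) →
        (∀ i, z i ∈ fixedPoints Q' X) →
        ∃ g : G, g ∈ Subgroup.normalizer (Q' : Set G) ∧ g • y = z := by
      intro y z hy hz
      apply Witt.witt htr x' P' y z
      · intro q hq
        ext i
        rw [Function.Embedding.smul_apply]
        exact hy i ⟨(q : G), ⟨q, hq, rfl⟩⟩
      · intro q hq
        ext i
        rw [Function.Embedding.smul_apply]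
        exact hz i ⟨(q : G), ⟨q, hq, rfl⟩⟩
    have htr' := isMultiplyPretransitive_range (mult_trans_of_witt Q' hW')
    have hp3 : 3 ≤ p := by omega
    have hA := ih (k - s') (by omega) p hp ↥(fixSub (Qn Q') X) _ r hF'card (by omega) (by omega)
      (by omega) (by omega) htr'
    have hkp' : p ≤ (k - s') * p := Nat.le_mul_of_pos_left p (by omega)
    obtain ⟨z, hz⟩ := MillerCore.exists_threeCycle (Qn Q') hQ'np hcardorbQ'n
      (by rw [hF'card]; omega) (by rw [hF'card]; omega) hA
    rw [htoPerm] at hz
    exact ⟨(z : G), Or.inl hz⟩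
  · -- Case 3: `Q` has order `p`
    have hQcard : Nat.card Q = p := by
      have h1 : Nat.card (orbit Q ω) * Nat.card (stabilizer Q ω) = Nat.card Q := by
        rw [← Nat.card_prod]
        exact Nat.card_congr (orbitProdStabilizerEquivGroup Q ω)
      have h2 : Nat.card (stabilizer Q ω) = 1 := by
        set S' : Subgroup G := (stabilizer Q ω).map Q.subtype with hS'
        have hS'le : S' ≤ stabilizer G x' := by
          rintro _ ⟨s, hs, rfl⟩
          rw [mem_stabilizer_iff]
          ext i
          show (s : G) • (x' i) = x' i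
          rcases Fin.eq_castSucc_or_eq_last i with ⟨j, rfl⟩ | rfl
          · rw [hx', Fin.Embedding.snoc_castSucc]
            have : x j ∈ fixedPoints Q X := by rw [hfix]; exact ⟨j, rfl⟩
            exact this s
          · rw [hx', Fin.Embedding.snoc_last]
            exact hs
        have hS'p : IsPGroup p S' := (hQp.to_subgroup (stabilizer Q ω)).map _
        obtain ⟨j, hj⟩ := IsPGroup.iff_card.mp hS'p
        have hdvd : Nat.card S' ∣ Nat.card (stabilizer G x') := Subgroup.card_dvd_of_le hS'le
        have hj0 : j = 0 := by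
          by_contra hj0
          apply hdiv
          rw [hj] at hdvd
          exact (dvd_pow_self p hj0).trans hdvd
        rw [hj0, pow_zero, hS', Subgroup.card_map_of_injective (Subgroup.subtype_injective _)] at hj
        exact hj
      rw [h2, mul_one, hcardorb ω hωfix] at h1
      exact h1.symm
    have hQncard : Nat.card (Qn Q) = p := by rw [card_Qn, hQcard]
    have hr34 : r = 3 ∨ r = 4 := by omega
    rcases hr34 with hr | hr
    · -- three fixed points
      have hp3 : p ≠ 3 := by
        rintro rfl
        apply h9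
        omega
      obtain ⟨z, hz⟩ := MillerB.caseB3 (Qn Q) hQncard hp3 (by rw [hFcard, hr])
        (by rw [hOcard]; omega) hsurj
      rw [htoPerm] at hz
      exact ⟨(z : G), Or.inl hz⟩
    · -- four fixed points
      have hp2 : p ≠ 2 := by
        rintro rfl
        omega
      obtain ⟨z, a, b, c, d, hab, hac, had, hbc, hbd, hcd, hz⟩ :=
        MillerB.caseB4 (Qn Q) hQncard hp2 (by rw [hFcard, hr]) (by rw [hOcard]; omega) hsurj
      rw [htoPerm] at hz
      obtain ⟨e, he⟩ := Cfsg.Agent.Helper59.exists_notMem_list [a, b, c, d]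
        (by rw [hcardN]; simp; omega)
      simp only [List.mem_cons, List.not_mem_nil, or_false, not_or] at he
      have hmem : swap a b * swap c d ∈ G := by
        rw [← hz]
        exact (z : G).2
      obtain ⟨g3, hg3, h3⟩ := MillerFin.threeCycle_of_double_swap h4 hab hac had hbc hbd hcd
        (Ne.symm he.1) (Ne.symm he.2.1) (Ne.symm he.2.2.1) (Ne.symm he.2.2.2) hmem
      exact ⟨⟨g3, hg3⟩, Or.inl h3⟩

end Cfsg.Agent.Helper60.Miller
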