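-- helper60: piece (FPG) `fpf_of_not_mem` of helper79's farm for S4756.
import Mathlib
import Cfsg.Agent.Helper79.Mult.Defs

set_option autoImplicit false

universe u

namespace Cfsg.Agent.Helper60.Mult

open Cfsg Cfsg.Agent.Helper79.Mult

variable {G : Type u} [Group G] [Finite G]

/-- a fixed point of `g` is a fixed point of `g ^ n` -/
theorem FPG_pow_comm (g d : G) (h : g * d = d * g) (n : ℕ) : g ^ n * d = d * g ^ n :=
  ((show Commute g d from h).pow_left n)

/-- (FPG) an element outside the normal Sylow subgroup `P` has no fixed points on `D`. -/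
theorem fpf_of_not_mem (p : ℕ) (hp : p.Prime) (A P C D : Subgroup G) [P.Normal] [D.Normal] (hP : IsPGroup p P)
    (hcop : (Nat.card A).Coprime p) (hAP : A ⊔ P = ⊤) (hCD : C ⊔ D = P) (hCA : ∀ a ∈ A, ∀ c ∈ C, a * c = c * a)
    (hAB : commutator G ≤ D)
    (hCONJ : ∀ a : G, (∀ d ∈ D, a * d = d * a → d = 1) → ∀ d ∈ D, ∃ e ∈ D, e * a * e⁻¹ = d * a)
    (hfpf : ∀ a ∈ A, a ≠ 1 → ∀ d ∈ D, a * d = d * a → d = 1)
    (g : G) (hg : g ∉ P) : ∀ d ∈ D, g * d = d * g → d = 1 := by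
  classical
  -- `g = a * u`, `u = c * d'`
  have hgtop : g ∈ A ⊔ P := by rw [hAP]; trivial
  obtain ⟨a, ha, u, hu, rfl⟩ := Subgroup.mem_sup_of_normal_right.mp hgtop
  have ha1 : a ≠ 1 := by
    rintro rfl
    apply hg
    rw [one_mul]
    exact hu
  have hu' : u ∈ C ⊔ D := by rw [hCD]; exact hu
  obtain ⟨c, hc, d', hd', rfl⟩ := Subgroup.mem_sup_of_normal_right.mp hu'
  have hcP : c ∈ P := by rw [← hCD]; exact (le_sup_left : C ≤ C ⊔ D) hc
  -- `n = |P|`
  set n := Nat.card P with hn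
  have hcn : c ^ n = 1 := by
    have h1 : (⟨c, hcP⟩ : P) ^ Nat.card P = 1 := pow_card_eq_one'
    have h2 : (((⟨c, hcP⟩ : P) ^ Nat.card P : P) : G) = 1 := by rw [h1]; rfl
    rw [Subgroup.coe_pow] at h2
    exact h2
  -- `n` is a power of `p`, hence prime to `|A|`
  haveI : Fact p.Prime := ⟨hp⟩
  obtain ⟨k, hk⟩ := IsPGroup.iff_card.mp hP
  have hcopn : Nat.Coprime (Nat.card A) n := by
    rw [hn, hk]
    exact Nat.Coprime.pow_right k hcop
  have han1 : a ^ n ≠ 1 := by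
    intro h
    apply ha1
    have h1 : orderOf a ∣ n := orderOf_dvd_of_pow_eq_one h
    have h2 : orderOf a ∣ Nat.card A := by
      have := orderOf_dvd_natCard (⟨a, ha⟩ : A)
      rwa [Subgroup.orderOf_mk] at this
    have h3 : orderOf a = 1 := Nat.eq_one_of_dvd_coprimes hcopn h2 h1
    exact orderOf_eq_one_iff.mp h3
  have hanA : a ^ n ∈ A := pow_mem ha n
  have hfix' := hfpf (a ^ n) hanA han1
  -- `g ^ n = d'' * a ^ n` with `d'' ∈ D`
  have hd'' : (a * (c * d')) ^ n * (a ^ n)⁻¹ ∈ D := by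
    rw [← QuotientGroup.eq_one_iff]
    have e1 : ((a * (c * d') : G) : G ⧸ D) = ((a * c : G) : G ⧸ D) := by
      rw [← mul_assoc, QuotientGroup.mk_mul, (QuotientGroup.eq_one_iff d').mpr hd', mul_one]
    rw [QuotientGroup.mk_mul, QuotientGroup.mk_pow, e1, ← QuotientGroup.mk_pow, ← QuotientGroup.mk_mul,
      (show Commute a c from hCA a ha c hc).mul_pow, hcn, mul_one, mul_inv_cancel]
    rfl
  obtain ⟨e, he, hconj⟩ := hCONJ (a ^ n) hfix' _ hd''
  have hgn : (a * (c * d')) ^ n = e * a ^ n * e⁻¹ := by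
    rw [hconj]
    group
  -- the fixed points
  intro d hd hcomm
  have h1 := FPG_pow_comm _ _ hcomm n
  rw [hgn] at h1
  -- `a ^ n` commutes with `e⁻¹ d e`
  have h2 : a ^ n * (e⁻¹ * d * e) = (e⁻¹ * d * e) * a ^ n := by
    have : a ^ n * (e⁻¹ * d * e) = e⁻¹ * (e * a ^ n * e⁻¹ * d) * e := by group
    rw [this, h1]
    group
  have h3 : e⁻¹ * d * e ∈ D := by
    have := Subgroup.Normal.conj_mem (inferInstance : D.Normal) d hd e⁻¹
    rwa [inv_inv] at this
  have h4 := hfix' _ h3 h2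
  have : d = e * (e⁻¹ * d * e) * e⁻¹ := by group
  rw [this, h4]
  group

end Cfsg.Agent.Helper60.Mult
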