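-- helper60: piece (NP) `not_mem_of_copPP` of helper79's farm for S4756.
import Mathlib
import Cfsg.Agent.Helper79.Mult.Defs

set_option autoImplicit false

universe u

namespace Cfsg.Agent.Helper60.Mult

open Cfsg Cfsg.Agent.Helper79.Mult

variable {G : Type u} [Group G] [Finite G]

/-- an element of a `p`-subgroup whose order is a positive power of a prime `r`: `r = p` -/
theorem NP_prime_eq (p : ℕ) [Fact p.Prime] (P : Sylow p G) (x : G) (hx : x ≠ 1)
    (hxP : x ∈ (P : Subgroup G)) (r a : ℕ) (hr : r.Prime) (ho : orderOf x = r ^ a) : r = p := by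
  have hp : p.Prime := Fact.out
  obtain ⟨k, hk⟩ := P.isPGroup' ⟨x, hxP⟩
  have hk' : x ^ (p ^ k) = 1 := by
    have := congrArg Subtype.val hk
    simpa using this
  have hd : orderOf x ∣ p ^ k := orderOf_dvd_of_pow_eq_one hk'
  have ha : a ≠ 0 := by
    rintro rfl
    rw [pow_zero, orderOf_eq_one_iff] at ho
    exact hx ho
  have hr_dvd : r ∣ p ^ k := by
    rw [ho] at hd
    exact (dvd_pow_self r ha).trans hd
  exact (Nat.prime_dvd_prime_iff_eq hr hp).mp (hr.dvd_of_dvd_pow hr_dvd)

/-- (NP) products of elements of coprime prime power orders avoid a normal Sylow subgroup. -/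
theorem not_mem_of_copPP (p : ℕ) [Fact p.Prime] (P : Sylow p G) (hPn : (P : Subgroup G).Normal) (x y : G)
    (hx : x ≠ 1) (hy : y ≠ 1) (hxy : CopPP x y) :
    x * y ∉ (P : Subgroup G) ∧ (x ∉ (P : Subgroup G) ∨ y ∉ (P : Subgroup G)) := by
  obtain ⟨r, q, a, b, hr, hq, hrq, hox, hoy⟩ := hxy
  have hboth : ¬ (x ∈ (P : Subgroup G) ∧ y ∈ (P : Subgroup G)) := by
    rintro ⟨h1, h2⟩
    apply hrq
    rw [NP_prime_eq p P x hx h1 r a hr hox, NP_prime_eq p P y hy h2 q b hq hoy]
  refine ⟨?_, ?_⟩
  · intro hmem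
    haveI := hPn
    -- in `G ⧸ P` the images of `x` and `y` are inverse to each other, of coprime orders
    have h1 : (QuotientGroup.mk' (P : Subgroup G)) x * (QuotientGroup.mk' (P : Subgroup G)) y = 1 := by
      rw [← map_mul]
      exact (QuotientGroup.eq_one_iff _).mpr hmem
    have hinv : (QuotientGroup.mk' (P : Subgroup G)) x = ((QuotientGroup.mk' (P : Subgroup G)) y)⁻¹ :=
      eq_inv_of_mul_eq_one_left h1
    have hdx : orderOf ((QuotientGroup.mk' (P : Subgroup G)) x) ∣ r ^ a := by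
      rw [← hox]; exact orderOf_map_dvd _ x
    have hdy : orderOf ((QuotientGroup.mk' (P : Subgroup G)) x) ∣ q ^ b := by
      rw [hinv, orderOf_inv, ← hoy]; exact orderOf_map_dvd _ y
    have hcop : Nat.Coprime (r ^ a) (q ^ b) :=
      Nat.Coprime.pow _ _ ((Nat.coprime_primes hr hq).mpr hrq)
    have hone : orderOf ((QuotientGroup.mk' (P : Subgroup G)) x) = 1 :=
      Nat.eq_one_of_dvd_coprimes hcop hdx hdy
    rw [orderOf_eq_one_iff] at hone
    have hxP : x ∈ (P : Subgroup G) := (QuotientGroup.eq_one_iff _).mp hone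
    have hyP : y ∈ (P : Subgroup G) := by
      have : y = x⁻¹ * (x * y) := by group
      rw [this]
      exact mul_mem (inv_mem hxP) hmem
    exact hboth ⟨hxP, hyP⟩
  · by_contra hcon
    push_neg at hcon
    exact hboth hcon

end Cfsg.Agent.Helper60.Mult
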