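import Cfsg.Agent.Helper80.Pullback

/-!
# (INFL) of WANTED #9400 (helper78, S4931): characters of a subgroup with a normal complement
extend to the whole group.
-/

set_option autoImplicit false

namespace Cfsg.Agent.Helper60.NC

open Cfsg
open scoped ComplexConjugate

universe u

section G

variable {G : Type u} [Group G] [Fintype G]

omit [Fintype G] in
/-- The retraction `G →* N` with kernel `K` when `K` is a normal complement of `N`. -/
theorem exists_retraction_of_normal_complement (N K : Subgroup G) [K.Normal] (hsup : K ⊔ N = ⊤)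
    (hinf : K ⊓ N = ⊥) :
    ∃ f : G →* ↥N, Function.Surjective f ∧ ∀ x : ↥N, f (x : G) = x := by
  classical
  let φ : ↥N →* G ⧸ K := (QuotientGroup.mk' K).comp N.subtype
  have hinj : Function.Injective φ := by
    rw [injective_iff_map_eq_one]
    intro x hx
    have hxK : (x : G) ∈ K := by
      have : (QuotientGroup.mk' K) (x : G) = 1 := hx
      rwa [QuotientGroup.mk'_apply, QuotientGroup.eq_one_iff] at this
    have : (x : G) ∈ K ⊓ N := ⟨hxK, x.2⟩
    rw [hinf, Subgroup.mem_bot] at this
    exact Subtype.ext this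
  have hsurj : Function.Surjective φ := by
    intro y
    obtain ⟨g, rfl⟩ := QuotientGroup.mk'_surjective K y
    have hg : g ∈ ((K ⊔ N : Subgroup G) : Set G) := by rw [hsup]; trivial
    rw [Subgroup.normal_mul] at hg
    obtain ⟨k, hk, n, hn, rfl⟩ := Set.mem_mul.mp hg
    refine ⟨⟨n, hn⟩, ?_⟩
    change (QuotientGroup.mk' K) n = (QuotientGroup.mk' K) (k * n)
    rw [map_mul]
    have : (QuotientGroup.mk' K) k = 1 := by
      rw [QuotientGroup.mk'_apply, QuotientGroup.eq_one_iff]; exact hk
    rw [this, one_mul]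
  let e : ↥N ≃* G ⧸ K := MulEquiv.ofBijective φ ⟨hinj, hsurj⟩
  refine ⟨e.symm.toMonoidHom.comp (QuotientGroup.mk' K), ?_, ?_⟩
  · intro x
    obtain ⟨g, hg⟩ := QuotientGroup.mk'_surjective K (e x)
    refine ⟨g, ?_⟩
    change e.symm ((QuotientGroup.mk' K) g) = x
    rw [hg, MulEquiv.symm_apply_apply]
  · intro x
    change e.symm ((QuotientGroup.mk' K) (x : G)) = x
    have : (QuotientGroup.mk' K) (x : G) = e x := rfl
    rw [this, MulEquiv.symm_apply_apply]

/-- (INFL) characters of a subgroup with a normal complement extend. -/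
theorem exists_extension_of_normal_complement (N K : Subgroup G) [K.Normal] (hsup : K ⊔ N = ⊤)
    (hinf : K ⊓ N = ⊥) (θ : IrrCharacter ↥N) :
    ∃ χ : IrrCharacter G, ∀ x : ↥N, (χ : G → ℂ) x = (θ : ↥N → ℂ) x := by
  obtain ⟨f, hsurj, hf⟩ := exists_retraction_of_normal_complement N K hsup hinf
  refine ⟨⟨fun g => (θ : ↥N → ℂ) (f g),
    Cfsg.Agent.Helper80.IsIrrCharacter.comp_surjective θ.2 f hsurj⟩, ?_⟩
  intro x
  change (θ : ↥N → ℂ) (f (x : G)) = (θ : ↥N → ℂ) x
  rw [hf]

end G

end Cfsg.Agent.Helper60.NC
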