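-- helper60: piece (SGM) `singer_minus` of helper99's (C7) sub-farm for S2517, part A:
-- everything except the field data (SGF) and the sign character of a semiregular isometry (CYC).
import Mathlib
import Cfsg.Agent.Helper99.O9.Defs
import Cfsg.Agent.Helper99.O9.C7Defs
import Cfsg.Agent.Helper44.Spinor
import Cfsg.Agent.Helper44.QTypeFpf
import Cfsg.Agent.Helper44.QTypeClassify
import Cfsg.Agent.Helper94.Sg.P_MQ
import Cfsg.Agent.Helper94.Sg.P_ABS
import Cfsg.Agent.Helper41.O9ORB

set_option autoImplicit false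
set_option linter.unusedSectionVars false
set_option linter.unusedVariables false

namespace Cfsg.Agent.Helper60.O9

open Matrix Polynomial QuadraticMap Cfsg.Agent.Helper44 Cfsg.Agent.Helper44.QType Cfsg.Agent.Helper94
  Cfsg.Agent.Helper99.O9

universe u

variable {F : Type u} [Field F] [Fintype F]

/-! ### the form `Q x = Tr (x σ x)` on `K` -/

section form

variable {K : Type} [Field K] [Algebra F K] [Finite K]

/-- `Q x = Tr_{K/F} (x σ x)` -/
noncomputable def SGM_Q (σ : K ≃ₐ[F] K) : QuadraticForm F K :=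
  (Cfsg.Agent.Helper94.Sg.MQ_bil σ 1).toQuadraticMap

theorem SGM_Q_apply (σ : K ≃ₐ[F] K) (x : K) : SGM_Q σ x = Algebra.trace F K (x * σ x) := by
  show (Cfsg.Agent.Helper94.Sg.MQ_bil σ 1).toQuadraticMap x = _
  rw [LinearMap.BilinMap.toQuadraticMap_apply, Cfsg.Agent.Helper94.Sg.MQ_bil_apply, one_mul]

theorem SGM_polar (σ : K ≃ₐ[F] K) (hσ : ∀ x, σ (σ x) = x) (x y : K) :
    polar (SGM_Q σ) x y = 2 * Algebra.trace F K (x * σ y) := by
  show polar ((Cfsg.Agent.Helper94.Sg.MQ_bil σ 1).toQuadraticMap) x y = _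
  rw [LinearMap.BilinMap.polar_toQuadraticMap, Cfsg.Agent.Helper94.Sg.MQ_bil_apply,
    Cfsg.Agent.Helper94.Sg.MQ_bil_apply, one_mul, one_mul]
  have h1 : Algebra.trace F K (y * σ x) = Algebra.trace F K (x * σ y) := by
    have e : σ (y * σ x) = x * σ y := by
      rw [map_mul σ, hσ]; ring
    rw [← Algebra.trace_eq_of_algEquiv σ (y * σ x), e]
  rw [h1]
  ring

theorem SGM_nd (h2 : (2 : F) ≠ 0) (σ : K ≃ₐ[F] K) (hσ : ∀ x, σ (σ x) = x) :
    ∀ x : K, (∀ y, polar (SGM_Q σ) x y = 0) → x = 0 := by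
  have : FiniteDimensional F K := Module.Finite.of_finite
  intro x hx
  apply (traceForm_nondegenerate F K).1 x
  intro z
  rw [Algebra.traceForm_apply]
  have := hx (σ z)
  rw [SGM_polar σ hσ, hσ] at this
  exact (mul_eq_zero.mp this).resolve_left h2

theorem SGM_iso (σ : K ≃ₐ[F] K) (u : K) (hu : u * σ u = 1) (v : K) :
    SGM_Q σ (u * v) = SGM_Q σ v := by
  rw [SGM_Q_apply, SGM_Q_apply, map_mul σ]
  congr 1
  calc (u * v) * (σ u * σ v) = (u * σ u) * (v * σ v) := by ring
    _ = v * σ v := by rw [hu, one_mul]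

/-- multiplication by a unit of `K` -/
noncomputable def SGM_T (θ : Kˣ) : K ≃ₗ[F] K :=
  { toFun := fun x => (θ : K) * x
    map_add' := fun x y => mul_add _ _ _
    map_smul' := fun a x => by simp only [mul_smul_comm, RingHom.id_apply]
    invFun := fun x => ((θ⁻¹ : Kˣ) : K) * x
    left_inv := fun x => by simp
    right_inv := fun x => by simp }

theorem SGM_T_apply (θ : Kˣ) (v : K) : SGM_T (F := F) θ v = (θ : K) * v := rfl

theorem SGM_T_pow (θ : Kˣ) (n : ℕ) (v : K) : ((SGM_T (F := F) θ) ^ n) v = ((θ ^ n : Kˣ) : K) * v := by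
  induction n generalizing v with
  | zero => simp
  | succ n ih =>
    rw [pow_succ, LinearEquiv.mul_apply, ih, SGM_T_apply, pow_succ, Units.val_mul, mul_assoc]

theorem SGM_T_order (θ : Kˣ) : orderOf (SGM_T (F := F) θ) = orderOf θ := by
  rw [orderOf_eq_orderOf_iff]
  intro n
  constructor
  · intro h
    apply Units.ext
    have := SGM_T_pow (F := F) θ n 1
    rw [h, mul_one] at this
    rw [← this]
    simp
  · intro h
    apply LinearEquiv.ext
    intro v
    rw [SGM_T_pow, h]
    simp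

theorem SGM_T_semi (θ : Kˣ) (j : ℕ) :
    (SGM_T (F := F) θ) ^ j = 1 ∨ ∀ v, ((SGM_T (F := F) θ) ^ j) v = v → v = 0 := by
  by_cases h : θ ^ j = 1
  · left
    apply LinearEquiv.ext
    intro v
    rw [SGM_T_pow, h]
    simp
  · right
    intro v hv
    rw [SGM_T_pow] at hv
    have h1 : (((θ ^ j : Kˣ) : K) - 1) * v = 0 := by rw [sub_mul, hv, one_mul, sub_self]
    rcases mul_eq_zero.mp h1 with h2 | h2
    · exact absurd (Units.ext (sub_eq_zero.mp h2)) h
    · exact h2

theorem SGM_T_det (θ : Kˣ) :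
    LinearMap.det ((SGM_T (F := F) θ : K ≃ₗ[F] K) : K →ₗ[F] K) = Algebra.norm F (θ : K) := by
  rw [Algebra.norm_apply]
  congr 1

end form

/-! ### transport to coordinates -/

section transport

variable {V : Type} [AddCommGroup V] [Module F V] [FiniteDimensional F V]

theorem SGM_transport (Q : QuadraticForm F V) {m : ℕ} (hfr : Module.finrank F V = 2 * m)
    (hnd : ∀ x : V, (∀ y, polar Q x y = 0) → x = 0) (T : V ≃ₗ[F] V) (hTQ : ∀ v, Q (T v) = Q v)
    (hsemi : ∀ j : ℕ, T ^ j = 1 ∨ ∀ v, (T ^ j) v = v → v = 0) :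
    ∃ P : OPair F, P.dim = 2 * m ∧ P.ND ∧ P.ord = orderOf T ∧
      P.M.det = LinearMap.det (T : V →ₗ[F] V) ∧ P.Semi := by
  classical
  let b : Module.Basis (Fin (2 * m)) F V := (Module.finBasis F V).reindex (finCongr hfr)
  let C : V ≃ₗ[F] (Fin (2 * m) → F) := b.equivFun
  let Q' : QuadraticForm F (Fin (2 * m) → F) := Q.comp C.symm.toLinearMap
  have hQ' : ∀ x, Q' x = Q (C.symm x) := fun x => rfl
  have hpol : ∀ x y, QuadraticMap.polar Q' x y = QuadraticMap.polar Q (C.symm x) (C.symm y) := by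
    intro x y
    simp only [QuadraticMap.polar, hQ', map_add]
  have hmem : (Sg.ABS_conjMat C).toHomUnits T ∈ Cfsg.isometryGroup F ⇑Q' := by
    rw [Cfsg.Agent.Helper44.mem_isometryGroup_iff]
    intro v
    rw [MonoidHom.coe_toHomUnits, Sg.ABS_conjMat_mulVec, hQ', hQ', LinearEquiv.symm_apply_apply, hTQ]
  let P : OPair F := { ι := Fin (2 * m), Q := Q', g := ⟨(Sg.ABS_conjMat C).toHomUnits T, hmem⟩ }
  have hPM : P.M = Sg.ABS_conjMat C T := by
    rw [OPair.M_def]
    exact MonoidHom.coe_toHomUnits _ _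
  refine ⟨P, ?_, ?_, ?_, ?_, ?_⟩
  · rw [OPair.dim_def]
    exact Fintype.card_fin _
  · rw [OPair.nd_def]
    intro x hx
    have h0 : C.symm x = 0 := by
      apply hnd
      intro v
      have := hx (C v)
      rw [hpol, LinearEquiv.symm_apply_apply] at this
      exact this
    have := congrArg C h0
    rwa [LinearEquiv.apply_symm_apply, map_zero] at this
  · rw [OPair.ord_def]
    have hinj : Function.Injective (Sg.ABS_conjMat C).toHomUnits := by
      intro S S' h
      apply Sg.ABS_conjMat_injective C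
      have := congrArg (fun u : (Matrix (Fin (2 * m)) (Fin (2 * m)) F)ˣ => Units.val u) h
      simpa only [MonoidHom.coe_toHomUnits] using this
    show orderOf (⟨(Sg.ABS_conjMat C).toHomUnits T, hmem⟩ : ↥(Cfsg.isometryGroup F ⇑Q')) = _
    rw [← Subgroup.orderOf_coe, orderOf_injective _ hinj T]
  · rw [hPM]
    show (LinearMap.toMatrix' (C.toLinearMap ∘ₗ T.toLinearMap ∘ₗ C.symm.toLinearMap)).det = _
    rw [LinearMap.det_toMatrix']
    exact LinearMap.det_conj _ C
  · rw [OPair.semi_def]
    intro j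
    rw [hPM, ← map_pow]
    rcases hsemi j with h | h
    · left
      rw [h, map_one]
    · right
      rw [← Matrix.mulVec_injective_iff_isUnit]
      have hker : ∀ v, (Sg.ABS_conjMat C (T ^ j) - 1) *ᵥ v = 0 → v = 0 := by
        intro v hv
        rw [Matrix.sub_mulVec, Matrix.one_mulVec, Sg.ABS_conjMat_mulVec, sub_eq_zero] at hv
        have h1 : (T ^ j) (C.symm v) = C.symm v := by
          apply C.injective
          rw [LinearEquiv.apply_symm_apply]
          exact hv
        have h2 := h _ h1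
        have := congrArg C h2
        rwa [LinearEquiv.apply_symm_apply, map_zero] at this
      intro v w hvw
      have : (Sg.ABS_conjMat C (T ^ j) - 1) *ᵥ (v - w) = 0 := by
        rw [Matrix.mulVec_sub, hvw, sub_self]
      exact sub_eq_zero.mp (hker _ this)

end transport

end Cfsg.Agent.Helper60.O9
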