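-- helper60: piece (SOM) `sum_inOm_of_not` of helper99's (C7) sub-farm for S2517.
import Mathlib
import Cfsg.Agent.Helper99.O9.Defs
import Cfsg.Agent.Helper99.O9.C7Defs
import Cfsg.Agent.Helper44.Spinor
import Cfsg.Agent.Helper44.OmegaIndex
import Cfsg.Agent.Helper44.OrthSumOmega

set_option autoImplicit false
set_option linter.unusedSectionVars false
set_option linter.unusedVariables false

namespace Cfsg.Agent.Helper60.O9

open Matrix Polynomial QuadraticMap Cfsg.Agent.Helper44 Cfsg.Agent.Helper44.QType Cfsg.Agent.Helper94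
  Cfsg.Agent.Helper99.O9

universe u

variable {F : Type u} [Field F] [Fintype F]

theorem SOM_two_ne_zero (hF : Odd (Fintype.card F)) : (2 : F) ≠ 0 := by
  intro h
  haveI : CharP F 2 := CharTwo.of_one_ne_zero_of_two_eq_zero one_ne_zero h
  have h2 : ringChar F = 2 := ringChar.eq F 2
  have := FiniteField.even_card_iff_char_two.mp h2
  rcases hF with ⟨k, hk⟩
  omega

theorem SOM_isSquare_mul (h2 : (2 : F) ≠ 0) {a b : F} (ha : ¬ IsSquare a) (hb : ¬ IsSquare b) :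
    IsSquare (a * b) := by
  classical
  have ha0 : a ≠ 0 := by rintro rfl; exact ha ⟨0, by simp⟩
  have hb0 : b ≠ 0 := by rintro rfl; exact hb ⟨0, by simp⟩
  rw [← quadraticChar_one_iff_isSquare (mul_ne_zero ha0 hb0), map_mul,
    quadraticChar_neg_one_iff_not_isSquare.mpr ha, quadraticChar_neg_one_iff_not_isSquare.mpr hb]
  norm_num

section inr

variable {ι₁ ι₂ : Type} [Fintype ι₁] [DecidableEq ι₁] [Fintype ι₂] [DecidableEq ι₂]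
variable (Q₁ : QuadraticForm F (ι₁ → F)) (Q₂ : QuadraticForm F (ι₂ → F))

theorem SOM_zero_elim (u : ι₂ → F) : orthSumForm Q₁ Q₂ (Sum.elim 0 u) = Q₂ u := by
  rw [orthSumForm_apply]
  have e1 : (Sum.elim (0 : ι₁ → F) u) ∘ Sum.inl = 0 := rfl
  have e2 : (Sum.elim (0 : ι₁ → F) u) ∘ Sum.inr = u := rfl
  rw [e1, e2, map_zero, zero_add]

theorem SOM_polar_zero_elim (u : ι₂ → F) (x : ι₁ ⊕ ι₂ → F) :
    polar ⇑(orthSumForm Q₁ Q₂) (Sum.elim 0 u) x = polar ⇑Q₂ u (x ∘ Sum.inr) := by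
  rw [polar_orthSumForm]
  have e1 : (Sum.elim (0 : ι₁ → F) u) ∘ Sum.inl = 0 := rfl
  have e2 : (Sum.elim (0 : ι₁ → F) u) ∘ Sum.inr = u := rfl
  rw [e1, e2, polar_zero_left, zero_add]

/-- the embedding `O(Q₂) →* O(Q₁ ⊕ Q₂)`, `g ↦ diag(1, g)` -/
def SOM_inrIso : Cfsg.isometryGroup F ⇑Q₂ →* Cfsg.isometryGroup F ⇑(orthSumForm Q₁ Q₂) :=
  (blockDiagIso ⇑Q₁ ⇑Q₂).comp (MonoidHom.inr _ _)

theorem SOM_inrIso_coe (g : Cfsg.isometryGroup F ⇑Q₂) :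
    ((SOM_inrIso Q₁ Q₂ g).1 : Matrix (ι₁ ⊕ ι₂) (ι₁ ⊕ ι₂) F)
      = Matrix.fromBlocks 1 0 0 (g.1 : Matrix ι₂ ι₂ F) := rfl

theorem SOM_inrIso_mulVec (g : Cfsg.isometryGroup F ⇑Q₂) (x : ι₁ ⊕ ι₂ → F) :
    ((SOM_inrIso Q₁ Q₂ g).1 : Matrix (ι₁ ⊕ ι₂) (ι₁ ⊕ ι₂) F) *ᵥ x
      = Sum.elim (x ∘ Sum.inl) ((g.1 : Matrix ι₂ ι₂ F) *ᵥ (x ∘ Sum.inr)) := by
  rw [SOM_inrIso_coe, Matrix.fromBlocks_mulVec]
  simp only [Matrix.zero_mulVec, Matrix.one_mulVec, add_zero, zero_add]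

theorem SOM_inrIso_refl (u : ι₂ → F) (hu : Q₂ u ≠ 0)
    (hu' : orthSumForm Q₁ Q₂ (Sum.elim 0 u) ≠ 0) :
    SOM_inrIso Q₁ Q₂ (refl Q₂ u hu) = refl (orthSumForm Q₁ Q₂) (Sum.elim 0 u) hu' := by
  apply isometryGroup_ext
  intro x
  rw [SOM_inrIso_mulVec, refl_mulVec, refl_mulVec, SOM_zero_elim, SOM_polar_zero_elim]
  funext i
  rcases i with i | i
  · simp
  · simp

theorem SOM_inrIso_reflT (u : ι₂ → F) (hu : Q₂ u ≠ 0) :
    SOM_inrIso Q₁ Q₂ (reflT Q₂ u) = reflT (orthSumForm Q₁ Q₂) (Sum.elim 0 u) := by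
  have hu' : orthSumForm Q₁ Q₂ (Sum.elim 0 u) ≠ 0 := by rw [SOM_zero_elim]; exact hu
  rw [reflT_of_ne Q₂ u hu, reflT_of_ne _ _ hu', SOM_inrIso_refl]

theorem SOM_inrIso_prod_reflT (vs : List (ι₂ → F)) (hvs : ∀ x ∈ vs, Q₂ x ≠ 0) :
    SOM_inrIso Q₁ Q₂ ((vs.map (reflT Q₂)).prod)
      = ((vs.map (fun v => (Sum.elim 0 v : ι₁ ⊕ ι₂ → F))).map (reflT (orthSumForm Q₁ Q₂))).prod := by
  rw [map_list_prod, List.map_map, List.map_map]
  congr 1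
  apply List.map_congr_left
  intro v hv
  exact SOM_inrIso_reflT Q₁ Q₂ v (hvs v hv)

theorem SOM_blockDiag_eq (g₁ : Cfsg.isometryGroup F ⇑Q₁) (g₂ : Cfsg.isometryGroup F ⇑Q₂) :
    (blockDiagIso ⇑Q₁ ⇑Q₂ (g₁, g₂) : Cfsg.isometryGroup F ⇑(orthSumForm Q₁ Q₂))
      = inlIso Q₁ Q₂ g₁ * SOM_inrIso Q₁ Q₂ g₂ := by
  have e : (g₁, g₂) = (MonoidHom.inl _ _ g₁) * (MonoidHom.inr _ _ g₂) := by simp
  rw [e, map_mul]
  rfl

end inr

theorem SOM_nondeg (P : OPair F) (h : P.ND) : (QuadraticMap.polarBilin P.Q).Nondegenerate := by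
  rw [OPair.nd_def] at h
  constructor
  · intro x hx
    exact h x hx
  · intro y hy
    apply h y
    intro x
    rw [polar_comm]
    exact hy x

/-- an isometry of determinant one that is not in `Ω` is a product of an even number of reflections
with non-square spinor norm -/
theorem SOM_decomp (h2 : (2 : F) ≠ 0) (P : OPair F) (h : P.ND) (d : P.M.det = 1) (n : ¬ P.InOm) :
    ∃ vs : List (P.ι → F), (∀ x ∈ vs, P.Q x ≠ 0) ∧ P.g = (vs.map (reflT P.Q)).prod ∧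
      Even vs.length ∧ ¬ IsSquare (vs.map (fun v => P.Q v)).prod := by
  obtain ⟨vs, hvs, e⟩ := cartan_dieudonne P.Q h2 (SOM_nondeg P h) P.g
  have ev : Even vs.length := by
    by_contra hodd
    rw [Nat.not_even_iff_odd] at hodd
    have hd := detHom_prod_reflT P.Q vs hvs
    rw [← e, hodd.neg_one_pow] at hd
    have hd' : ((detHom ⇑P.Q P.g : Fˣ) : F) = -1 := by rw [hd]; simp
    have hd'' : ((detHom ⇑P.Q P.g : Fˣ) : F) = P.M.det := rfl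
    rw [hd'', d] at hd'
    apply h2
    linear_combination hd'
  refine ⟨vs, hvs, e, ev, ?_⟩
  intro hsq
  apply n
  rw [OPair.inOm_def, e]
  exact (prod_reflT_mem_Omega_iff P.Q h2 vs hvs).mpr ⟨ev, hsq⟩

/-- (SOM) -/
theorem sum_inOm_of_not (hF : Odd (Fintype.card F)) {P₁ P₂ : OPair F} (h₁ : P₁.ND) (h₂ : P₂.ND)
    (d₁ : P₁.M.det = 1) (d₂ : P₂.M.det = 1) (n₁ : ¬ P₁.InOm) (n₂ : ¬ P₂.InOm) :
    (P₁.sum P₂).InOm := by
  have h2 : (2 : F) ≠ 0 := SOM_two_ne_zero hF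
  obtain ⟨vs₁, hvs₁, e₁, ev₁, ns₁⟩ := SOM_decomp h2 P₁ h₁ d₁ n₁
  obtain ⟨vs₂, hvs₂, e₂, ev₂, ns₂⟩ := SOM_decomp h2 P₂ h₂ d₂ n₂
  rw [OPair.inOm_def, OPair.sum_g]
  show (blockDiagIso ⇑P₁.Q ⇑P₂.Q (P₁.g, P₂.g) : Cfsg.isometryGroup F ⇑(orthSumForm P₁.Q P₂.Q))
    ∈ Cfsg.Omega F ⇑(orthSumForm P₁.Q P₂.Q)
  rw [SOM_blockDiag_eq, e₁, e₂, inlIso_prod_reflT P₁.Q P₂.Q vs₁ hvs₁,
    SOM_inrIso_prod_reflT P₁.Q P₂.Q vs₂ hvs₂, ← List.prod_append, ← List.map_append]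
  have hvs : ∀ x ∈ vs₁.map (fun v => (Sum.elim v 0 : P₁.ι ⊕ P₂.ι → F))
      ++ vs₂.map (fun v => (Sum.elim 0 v : P₁.ι ⊕ P₂.ι → F)), orthSumForm P₁.Q P₂.Q x ≠ 0 := by
    intro x hx
    rcases List.mem_append.mp hx with hx | hx
    · obtain ⟨v, hv, rfl⟩ := List.mem_map.1 hx
      rw [orthSumForm_elim_zero]
      exact hvs₁ v hv
    · obtain ⟨v, hv, rfl⟩ := List.mem_map.1 hx
      rw [SOM_zero_elim]
      exact hvs₂ v hv
  refine (prod_reflT_mem_Omega_iff (orthSumForm P₁.Q P₂.Q) h2 _ hvs).mpr ⟨?_, ?_⟩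
  · rw [List.length_append, List.length_map, List.length_map]
    exact ev₁.add ev₂
  · rw [List.map_append, List.prod_append, List.map_map, List.map_map]
    have e1 : ((fun v => (orthSumForm P₁.Q P₂.Q) v) ∘ fun v => (Sum.elim v 0 : P₁.ι ⊕ P₂.ι → F))
        = fun v => P₁.Q v := by
      funext v
      exact orthSumForm_elim_zero P₁.Q P₂.Q v
    have e2' : ((fun v => (orthSumForm P₁.Q P₂.Q) v) ∘ fun v => (Sum.elim 0 v : P₁.ι ⊕ P₂.ι → F))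
        = fun v => P₂.Q v := by
      funext v
      exact SOM_zero_elim P₁.Q P₂.Q v
    rw [e1, e2']
    exact SOM_isSquare_mul h2 ns₁ ns₂

end Cfsg.Agent.Helper60.O9
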