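-- helper60: piece (SGM) `singer_minus` of helper99's (C7) sub-farm for S2517, assembly.
import Mathlib
import Cfsg.Agent.Helper60.O9SGMa
import Cfsg.Agent.Helper60.O9SOM
import Cfsg.Agent.Helper65.O9SGF
import Cfsg.Agent.Helper42.O9CYC
import Cfsg.Agent.Helper41.O9ORB

set_option autoImplicit false
set_option linter.unusedSectionVars false
set_option linter.unusedVariables false

namespace Cfsg.Agent.Helper60.O9

open Matrix Polynomial QuadraticMap Cfsg.Agent.Helper44 Cfsg.Agent.Helper44.QType Cfsg.Agent.Helper94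
  Cfsg.Agent.Helper99.O9

universe u

variable {F : Type u} [Field F] [Fintype F]

/-- a semiregular isometry of order `q^k + 1` in dimension `2k`: the type is `-1` and the isometry is not in `Ω` -/
theorem SGM_core (hF : Odd (Fintype.card F)) (k : ℕ) (hk : 1 ≤ k) (P : OPair F)
    (hdim : P.dim = 2 * k) (hnd : P.ND) (hord : P.ord = Fintype.card F ^ k + 1) (hsemi : P.Semi) :
    P.Typ k (-1) ∧ ¬ P.InOm := by
  classical
  obtain ⟨q, hq⟩ : ∃ q, q = Fintype.card F := ⟨_, rfl⟩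
  have hqN : Nat.card F = q := by rw [hq]; exact Nat.card_eq_fintype_card
  have hqodd : Odd q := by rw [hq]; exact hF
  have hq2 : 2 ≤ q := by rw [hq]; exact Fintype.one_lt_card
  have hq3 : 3 ≤ q := by
    rcases hqodd with ⟨t, ht⟩
    omega
  have hqk : q ≤ q ^ k := by
    calc q = q ^ 1 := (pow_one q).symm
      _ ≤ q ^ k := Nat.pow_le_pow_right (by omega) hk
  have hfr : Module.finrank F (P.ι → F) = 2 * k := by
    rw [Module.finrank_fintype_fun_eq_card, ← OPair.dim_def, hdim]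
  have hnd' : ∀ x : P.ι → F, (∀ y, polar P.Q x y = 0) → x = 0 := (OPair.nd_def P).mp hnd
  obtain ⟨ε, hε, hT⟩ := exists_hasType P.Q hfr hnd'
  have horb := Cfsg.Agent.Helper41.O9.ord_dvd_card_sphere hsemi 1 one_ne_zero
  have key := fc_one_mul P.Q hfr hnd' hT
  rw [hqN] at key
  have hfc : Nat.card {v : P.ι → F // P.Q v = 1} = fc (⇑P.Q) 1 := rfl
  rw [hfc, hord, ← hq] at horb
  obtain ⟨n1, hn1⟩ : ∃ n1, n1 = fc (⇑P.Q) 1 := ⟨_, rfl⟩
  rw [← hn1] at key horb
  have hεm : ε = -1 := by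
    rcases hε with rfl | rfl
    · exfalso
      obtain ⟨t, ht⟩ := horb
      have hA : 1 ≤ q ^ k := by omega
      have key' : (q ^ k + 1) * t * q = q ^ k * (q ^ k - 1) := by
        zify [hA]
        rw [ht] at key
        push_cast at key
        linarith
      have hd : (q ^ k + 1) ∣ q ^ k * (q ^ k - 1) := ⟨t * q, by rw [← key']; ring⟩
      have hcop : Nat.Coprime (q ^ k + 1) (q ^ k) := by
        rw [Nat.coprime_comm, add_comm]
        exact (Nat.coprime_add_self_right).mpr (Nat.coprime_one_right _)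
      have hd' := hcop.dvd_of_dvd_mul_left hd
      have := Nat.le_of_dvd (by omega : 0 < q ^ k - 1) hd'
      omega
    · rfl
  subst hεm
  refine ⟨(OPair.typ_def P k (-1)).mpr ⟨hdim, hT⟩, ?_⟩
  intro hin
  have hqk' : q ^ k = q ^ (k - 1) * q := by rw [← pow_succ, Nat.sub_add_cancel hk]
  have hn1' : n1 = q ^ (k - 1) * (q ^ k + 1) := by
    have h1 : (n1 : ℤ) * q = (q : ℤ) ^ k * ((q : ℤ) ^ k + 1) := by rw [key]; ring
    have h2 : n1 * q = q ^ (k - 1) * (q ^ k + 1) * q := by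
      zify
      rw [h1]
      have : ((q : ℤ)) ^ k = (q : ℤ) ^ (k - 1) * q := by exact_mod_cast hqk'
      rw [this]
      ring
    exact Nat.eq_of_mul_eq_mul_right (by omega) h2
  have he : Even P.ord := by
    rw [hord, ← hq]
    exact (Odd.pow hqodd).add_one
  have hsign := Cfsg.Agent.Helper42.O9.signChar_of_semi hsemi he 1 one_ne_zero
  rw [hfc, ← hn1, hn1', hord, ← hq, Nat.mul_div_cancel _ (by positivity)] at hsign
  have hodd : Odd (q ^ (k - 1)) := Odd.pow hqodd
  rw [hodd.neg_one_pow] at hsign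
  have h1 := hom_eq_one_of_mem_Omega (signChar (⇑P.Q) 1) ((OPair.inOm_def P).mp hin)
  rw [h1] at hsign
  exact absurd hsign (by decide)

/-- (SGM) -/
theorem singer_minus (hF : Odd (Fintype.card F)) (k : ℕ) (hk : 1 ≤ k) :
    ∃ P : OPair F, P.ND ∧ P.Typ k (-1) ∧ P.ord = Fintype.card F ^ k + 1 ∧ P.M.det = 1 ∧ ¬ P.InOm := by
  obtain ⟨K, iF, iA, iFin, σ, θ, hfr, hσ, hθ, hord, hnorm⟩ :=
    Cfsg.Agent.Helper65.O9.SGM_field (F := F) k hk
  have h2 : (2 : F) ≠ 0 := SOM_two_ne_zero hF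
  have : FiniteDimensional F K := Module.Finite.of_finite
  obtain ⟨P, hdim, hnd, hPord, hdet, hsemi⟩ := SGM_transport (SGM_Q σ) hfr (SGM_nd h2 σ hσ)
    (SGM_T θ) (fun v => SGM_iso σ θ hθ v) (SGM_T_semi θ)
  rw [SGM_T_order, hord] at hPord
  rw [SGM_T_det, hnorm] at hdet
  obtain ⟨htyp, hnin⟩ := SGM_core hF k hk P hdim hnd hPord hsemi
  exact ⟨P, hnd, htyp, hPord, hdet, hnin⟩

end Cfsg.Agent.Helper60.O9
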