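import Cfsg.Agent.Helper60.SolvGraph

set_option autoImplicit false

namespace Cfsg.Agent.Helper60

open Subgroup

universe u

/-- `Ω₁(Z(A))`-like subgroup: the elements of `A` central in `A` with `g ^ p = 1`. -/
def omegaCenter {G : Type u} [Group G] (A : Subgroup G) (p : ℕ) : Subgroup G where
  carrier := {g | g ∈ A ∧ (∀ h ∈ A, h * g = g * h) ∧ g ^ p = 1}
  mul_mem' := by
    rintro a b ⟨haA, hac, hap⟩ ⟨hbA, hbc, hbp⟩
    refine ⟨A.mul_mem haA hbA, ?_, ?_⟩
    · intro h hh
      rw [← mul_assoc, hac h hh, mul_assoc, hbc h hh, mul_assoc]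
    · have hc : Commute a b := (hbc a haA)
      rw [hc.mul_pow, hap, hbp, one_mul]
  one_mem' := ⟨A.one_mem, fun h _ => by simp, one_pow _⟩
  inv_mem' := by
    rintro a ⟨haA, hac, hap⟩
    refine ⟨A.inv_mem haA, ?_, by rw [inv_pow, hap, inv_one]⟩
    intro h hh
    have := hac h hh
    calc h * a⁻¹ = a⁻¹ * (a * h) * a⁻¹ := by group
      _ = a⁻¹ * (h * a) * a⁻¹ := by rw [this]
      _ = a⁻¹ * h := by group

theorem mem_omegaCenter {G : Type u} [Group G] (A : Subgroup G) (p : ℕ) (g : G) :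
    g ∈ omegaCenter A p ↔ g ∈ A ∧ (∀ h ∈ A, h * g = g * h) ∧ g ^ p = 1 := Iff.rfl

theorem omegaCenter_comm {G : Type u} [Group G] (A : Subgroup G) (p : ℕ) :
    ∀ a ∈ omegaCenter A p, ∀ b ∈ omegaCenter A p, a * b = b * a := by
  intro a ha b hb
  exact hb.2.1 a ha.1

theorem omegaCenter_pow {G : Type u} [Group G] (A : Subgroup G) (p : ℕ) :
    ∀ a ∈ omegaCenter A p, a ^ p = 1 := fun _ ha => ha.2.2

theorem omegaCenter_conj_mem {G : Type u} [Group G] (A : Subgroup G) (p : ℕ) (g : G)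
    (hg : g ∈ Subgroup.normalizer (A : Set G)) : ∀ u ∈ omegaCenter A p, g * u * g⁻¹ ∈ omegaCenter A p := by
  intro u hu
  rw [Subgroup.mem_normalizer_iff] at hg
  refine ⟨(hg u).mp hu.1, ?_, ?_⟩
  · intro h hh
    -- g⁻¹ h g ∈ A
    have h' : g⁻¹ * h * g ∈ A := by
      rw [hg]; convert hh using 1; group
    have := hu.2.1 _ h'
    calc h * (g * u * g⁻¹) = g * ((g⁻¹ * h * g) * u) * g⁻¹ := by group
      _ = g * (u * (g⁻¹ * h * g)) * g⁻¹ := by rw [this]
      _ = g * u * g⁻¹ * h := by group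
  · rw [conj_pow, hu.2.2, mul_one, mul_inv_cancel]

theorem omegaCenter_normal {G : Type u} [Group G] (A : Subgroup G) [hA : A.Normal] (p : ℕ) :
    (omegaCenter A p).Normal := by
  constructor
  intro n hn g
  apply omegaCenter_conj_mem A p g _ n hn
  rw [Subgroup.normalizer_eq_top A]
  exact Subgroup.mem_top g

theorem omegaCenter_ne_bot {G : Type u} [Group G] (A : Subgroup G) [Finite A] (p : ℕ)
    [hp : Fact p.Prime] (hA : IsPGroup p A) (hne : A ≠ ⊥) : omegaCenter A p ≠ ⊥ := by
  have hnt : Nontrivial A := (Subgroup.nontrivial_iff_ne_bot A).mpr hne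
  have hcnt : Nontrivial (Subgroup.center A) := hA.center_nontrivial
  have hcp : IsPGroup p (Subgroup.center A) := hA.to_subgroup _
  obtain ⟨n, hn0, hn⟩ := hcp.nontrivial_iff_card.mp hcnt
  have hdvd : p ∣ Nat.card (Subgroup.center A) := hn.symm ▸ dvd_pow_self _ (ne_of_gt hn0)
  obtain ⟨z, hz⟩ := exists_prime_orderOf_dvd_card' p hdvd
  intro hbot
  have hmem : ((z : A) : G) ∈ omegaCenter A p := by
    refine ⟨(z : A).2, ?_, ?_⟩
    · intro h hh
      have := (Subgroup.mem_center_iff.mp z.2) ⟨h, hh⟩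
      exact congrArg Subtype.val this
    · have : z ^ p = 1 := by rw [← hz, pow_orderOf_eq_one]
      have := congrArg (fun w : Subgroup.center A => ((w : A) : G)) this
      simpa using this
  rw [hbot, Subgroup.mem_bot] at hmem
  have : z = 1 := by
    apply Subtype.ext; apply Subtype.ext; exact hmem
  rw [this, orderOf_one] at hz
  exact hp.out.ne_one hz.symm

theorem hasEdge_of_normal_pgroup {G : Type u} [Group G] [Finite G] (p q r : ℕ) (hp : p.Prime)
    (hq : q.Prime) (hr : r.Prime) (hpq : p ≠ q) (hpr : p ≠ r) (hqr : q ≠ r)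
    (P : Subgroup G) [hPn : P.Normal] (hP : IsPGroup p P) (hPne : P ≠ ⊥)
    (M : Subgroup G) [hMn : M.Normal] (hqM : q ∣ Nat.card M) (hrM : r ∣ M.index) :
    HasEdge G p q r := by
  have : Fact p.Prime := ⟨hp⟩
  have : Fact q.Prime := ⟨hq⟩
  have : Fact r.Prime := ⟨hr⟩
  obtain ⟨Q⟩ := (inferInstance : Nonempty (Sylow q M))
  set Q' : Subgroup G := (Q : Subgroup M).map M.subtype with hQ'
  have hQne : Q' ≠ ⊥ := by
    intro h
    exact Q.ne_bot_of_dvd_card hqM ((Subgroup.map_eq_bot_iff_of_injective _ M.subtype_injective).mp h)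
  have hQp : IsPGroup q Q' := Q.isPGroup'.map M.subtype
  set H₂ : Subgroup G := Subgroup.normalizer (Q' : Set G) with hH₂
  have hsup : H₂ ⊔ M = ⊤ := Sylow.normalizer_sup_eq_top Q
  have hrH₂ : r ∣ Nat.card H₂ := by
    have h1 : M.relIndex H₂ = M.index := by
      rw [← Subgroup.relIndex_sup_right H₂ M, hsup, Subgroup.relIndex_top_right]
    rw [← h1] at hrM
    exact hrM.trans (Subgroup.relIndex_dvd_card M H₂)
  obtain ⟨x, hx⟩ := exists_prime_orderOf_dvd_card' r hrH₂
  have hxo : orderOf (x : G) = r := by rw [Subgroup.orderOf_coe, hx]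
  have hN : (omegaCenter P p).Normal := omegaCenter_normal P p
  have h := core p r q hp hr hq hpr hpq (Ne.symm hqr) (omegaCenter P p)
    (omegaCenter_ne_bot P p hP hPne) (omegaCenter_comm P p) (omegaCenter_pow P p)
    (omegaCenter Q' q) (omegaCenter_ne_bot Q' q hQp hQne) (omegaCenter_comm Q' q)
    (omegaCenter_pow Q' q) (x : G) hxo (omegaCenter_conj_mem Q' q (x : G) x.2)
  exact h.swap23

/-- Three primes across a normal chain `K ≤ M ≤ G` are not pairwise non-adjacent. -/
theorem hasEdge_of_normal_chain {G : Type u} [Group G] [Finite G] (K M : Subgroup G) [hKn : K.Normal]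
    [hMn : M.Normal] (hKM : K ≤ M) (p q r : ℕ) (hp : p.Prime) (hq : q.Prime) (hr : r.Prime)
    (hpq : p ≠ q) (hpr : p ≠ r) (hqr : q ≠ r) (hpK : p ∣ Nat.card K) (hqM : q ∣ K.relIndex M)
    (hrG : r ∣ M.index) : HasEdge G p q r := by
  have : Fact p.Prime := ⟨hp⟩
  obtain ⟨P⟩ := (inferInstance : Nonempty (Sylow p K))
  set P' : Subgroup G := (P : Subgroup K).map K.subtype with hP'
  have hP'ne : P' ≠ ⊥ := by
    intro h
    exact P.ne_bot_of_dvd_card hpK ((Subgroup.map_eq_bot_iff_of_injective _ K.subtype_injective).mp h)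
  have hP'p : IsPGroup p P' := P.isPGroup'.map K.subtype
  set H : Subgroup G := Subgroup.normalizer (P' : Set G) with hH
  have hsupK : H ⊔ K = ⊤ := Sylow.normalizer_sup_eq_top P
  have hsupM : H ⊔ M = ⊤ := by
    rw [eq_top_iff, ← hsupK]
    exact sup_le_sup_left hKM H
  have hP'H : P' ≤ H := Subgroup.le_normalizer
  -- the subgroups of `H`
  have hP₁n : (P'.subgroupOf H).Normal := Subgroup.normal_in_normalizer
  have hP₁p : IsPGroup p (P'.subgroupOf H) := hP'p.comap_subtype
  have hP₁ne : P'.subgroupOf H ≠ ⊥ := by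
    intro h
    rw [Subgroup.subgroupOf_eq_bot] at h
    exact hP'ne (h.eq_bot_of_le hP'H)
  have hM₁n : (M.subgroupOf H).Normal := hMn.subgroupOf H
  have hidxM : (M.subgroupOf H).index = M.index := by
    change M.relIndex H = M.index
    rw [← Subgroup.relIndex_sup_right H M, hsupM, Subgroup.relIndex_top_right]
  have hidxK : (K.subgroupOf H).index = K.index := by
    change K.relIndex H = K.index
    rw [← Subgroup.relIndex_sup_right H K, hsupK, Subgroup.relIndex_top_right]
  have hK₁M₁ : K.subgroupOf H ≤ M.subgroupOf H := by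
    intro x hx
    rw [Subgroup.mem_subgroupOf] at hx ⊢
    exact hKM hx
  have hrel : (K.subgroupOf H).relIndex (M.subgroupOf H) = K.relIndex M := by
    have e1 := Subgroup.relIndex_mul_index hK₁M₁
    have e2 := Subgroup.relIndex_mul_index hKM
    rw [hidxM, hidxK, ← e2] at e1
    exact Nat.eq_of_mul_eq_mul_right (Nat.pos_of_ne_zero Subgroup.index_ne_zero_of_finite) e1
  have hqM₁ : q ∣ Nat.card (M.subgroupOf H) := by
    rw [← hrel] at hqM
    exact hqM.trans (Subgroup.relIndex_dvd_card _ _)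
  have hrM₁ : r ∣ (M.subgroupOf H).index := by rwa [hidxM]
  have h := hasEdge_of_normal_pgroup (G := H) p q r hp hq hr hpq hpr hqr (P'.subgroupOf H) hP₁p hP₁ne
    (M.subgroupOf H) hqM₁ hrM₁
  exact h.of_injective H.subtype H.subtype_injective

end Cfsg.Agent.Helper60
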