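import Mathlib
import Cfsg.Agent.Helper62.Ore.Defs

/-!
# (SCB) of helper62's farm for S2444: the scalar `α • 1` of `SL_{2k}(F)` with `α ^ k = -1`
is a commutator.

`a = D * S`, `b = P'` in `k + k` blocks: `D = diag(D_k, -D_k)`, `D_k = diag(α^i)`,
`P' = [[N, -E], [E, N]]` (signed cyclic shift), `S = [[x, -y], [y, x]]` with `x² + y² = α`.
-/

set_option autoImplicit false

namespace Cfsg.Agent.Helper60.Ore

open Polynomial Module Cfsg.Agent.Helper62.Ore

variable {F : Type*} [Field F]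

/-- every nonzero element of a finite field is `x² + y²` with `x ≠ 0`. -/
theorem SCB_two_squares [Fintype F] (α : F) (hα : α ≠ 0) :
    ∃ x y : F, x ≠ 0 ∧ x ^ 2 + y ^ 2 = α := by
  classical
  by_cases hodd : Fintype.card F % 2 = 1
  · obtain ⟨a, b, hab⟩ := FiniteField.exists_root_sum_quadratic (R := F) (f := X ^ 2)
      (g := X ^ 2 - C α) (degree_X_pow 2) (degree_X_pow_sub_C (by decide) _) hodd
    simp only [eval_pow, eval_X, eval_sub, eval_C] at hab
    by_cases ha : a = 0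
    · refine ⟨b, a, ?_, ?_⟩
      · rintro rfl
        apply hα
        subst ha
        linear_combination -hab
      · linear_combination hab
    · exact ⟨a, b, ha, by linear_combination hab⟩
  · have h2 : ringChar F = 2 := by
      rw [FiniteField.even_card_iff_char_two]; omega
    obtain ⟨r, hr⟩ := FiniteField.isSquare_of_char_two h2 α
    refine ⟨r, 0, ?_, ?_⟩
    · rintro rfl
      apply hα
      simpa using hr
    · rw [hr]; ring

/-- `diag(α^i)`, `i < k`. -/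
def SCB_D (k : ℕ) (α : F) : Matrix (Fin k) (Fin k) F := Matrix.diagonal fun i => α ^ (i : ℕ)

/-- the nilpotent shift `e_j ↦ e_{j+1}`. -/
def SCB_N (k : ℕ) : Matrix (Fin k) (Fin k) F :=
  Matrix.of fun i j => if (i : ℕ) = j + 1 then 1 else 0

/-- the matrix unit `e_{k-1} ↦ e_0`. -/
def SCB_E (k : ℕ) : Matrix (Fin k) (Fin k) F :=
  Matrix.of fun i j => if (i : ℕ) = 0 ∧ (j : ℕ) + 1 = k then 1 else 0

theorem SCB_DN (k : ℕ) (α : F) :
    SCB_D k α * SCB_N k = α • (SCB_N k * SCB_D k α) := by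
  ext i j
  simp only [SCB_D, SCB_N, Matrix.diagonal_mul, Matrix.mul_diagonal, Matrix.smul_apply,
    Matrix.of_apply, smul_eq_mul]
  split_ifs with h
  · rw [h, pow_succ]; ring
  · simp

theorem SCB_DE (k : ℕ) (α : F) : SCB_D k α * SCB_E k = SCB_E k := by
  ext i j
  simp only [SCB_D, SCB_E, Matrix.diagonal_mul, Matrix.of_apply]
  split_ifs with h
  · rw [h.1]; simp
  · simp

theorem SCB_ED (k : ℕ) (α : F) (hα : α ^ k = -1) :
    α • (SCB_E k * SCB_D k α) = -SCB_E k := by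
  ext i j
  simp only [SCB_D, SCB_E, Matrix.mul_diagonal, Matrix.smul_apply, Matrix.neg_apply,
    Matrix.of_apply, smul_eq_mul]
  split_ifs with h
  · have h2 : α ^ ((j : ℕ) + 1) = -1 := by rw [h.2]; exact hα
    rw [pow_succ] at h2
    linear_combination h2
  · simp

/-- `diag(D_k, -D_k)`. -/
def SCB_Dm (k : ℕ) (α : F) : Matrix (Fin k ⊕ Fin k) (Fin k ⊕ Fin k) F :=
  Matrix.fromBlocks (SCB_D k α) 0 0 (-SCB_D k α)

/-- `x + y Q`, `Q = [[0,-1],[1,0]]`. -/
def SCB_Sm (k : ℕ) (x y : F) : Matrix (Fin k ⊕ Fin k) (Fin k ⊕ Fin k) F :=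
  Matrix.fromBlocks (x • 1) (-(y • 1)) (y • 1) (x • 1)

/-- the signed cyclic shift in `k + k` blocks. -/
def SCB_Pm (k : ℕ) : Matrix (Fin k ⊕ Fin k) (Fin k ⊕ Fin k) F :=
  Matrix.fromBlocks (SCB_N k) (-SCB_E k) (SCB_E k) (SCB_N k)

theorem SCB_SP (k : ℕ) (x y : F) :
    SCB_Sm k x y * SCB_Pm (F := F) k = SCB_Pm k * SCB_Sm k x y := by
  simp only [SCB_Sm, SCB_Pm, Matrix.fromBlocks_multiply]
  congr 1 <;> simp <;> abel

theorem SCB_DP (k : ℕ) (α : F) (hα : α ^ k = -1) :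
    SCB_Dm k α * SCB_Pm k = α • (SCB_Pm k * SCB_Dm k α) := by
  have h1 := SCB_DN k α
  have h2 := SCB_DE k α
  have h3 := SCB_ED k α hα
  simp only [SCB_Dm, SCB_Pm, Matrix.fromBlocks_multiply, Matrix.fromBlocks_smul]
  congr 1
  · simp [h1]
  · simp [h2, h3]
  · simp [h2, h3]
  · simp [h1]

theorem SCB_det_Dm (k : ℕ) (hk : 1 ≤ k) (α : F) (hα : α ^ k = -1) :
    (SCB_Dm k α).det = -1 := by
  have hπ : (∏ i : Fin k, α ^ (i : ℕ)) ^ 2 = (-1) ^ (k - 1) := by
    rw [Fin.prod_univ_eq_prod_range (fun i => α ^ i) k, Finset.prod_pow_eq_pow_sum, ← pow_mul,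
      Finset.sum_range_id_mul_two, pow_mul, hα]
  rw [SCB_Dm, Matrix.det_fromBlocks_zero₂₁, Matrix.det_neg, SCB_D, Matrix.det_diagonal,
    Fintype.card_fin]
  obtain ⟨k', rfl⟩ : ∃ k', k = k' + 1 := ⟨k - 1, by omega⟩
  simp only [Nat.add_sub_cancel] at hπ
  have h1 : ((-1 : F) ^ k') * ((-1) ^ k') = 1 := by rw [← mul_pow]; simp
  rw [pow_succ]
  linear_combination (-(-1 : F) ^ k') * hπ - h1

theorem SCB_det_Sm (k : ℕ) (x y : F) (hx : x ≠ 0) :
    (SCB_Sm k x y).det = (x ^ 2 + y ^ 2) ^ k := by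
  let _ : Invertible (x • (1 : Matrix (Fin k) (Fin k) F)) :=
    ⟨x⁻¹ • 1, by simp [smul_smul, hx], by simp [smul_smul, hx]⟩
  rw [SCB_Sm, Matrix.det_fromBlocks₁₁]
  have h1 : x • (1 : Matrix (Fin k) (Fin k) F) - y • 1 * ⅟(x • (1 : Matrix (Fin k) (Fin k) F))
      * -(y • 1) = (x + y * x⁻¹ * y) • 1 := by
    show x • (1 : Matrix (Fin k) (Fin k) F) - y • 1 * (x⁻¹ • 1) * -(y • 1) = _
    simp [smul_smul, add_smul, mul_comm]
  rw [h1, Matrix.det_smul, Matrix.det_smul, Matrix.det_one, Fintype.card_fin, mul_one, mul_one,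
    ← mul_pow]
  congr 1
  field_simp

/-- the signed cyclic shift on `Fin (m + 1)`: `e_j ↦ e_{j+1}`, `e_m ↦ -e_0`. -/
def SCB_Pn (m : ℕ) : Matrix (Fin (m + 1)) (Fin (m + 1)) F :=
  Matrix.of fun i j => if i = finRotate (m + 1) j then (if j = Fin.last m then -1 else 1) else 0

theorem SCB_det_Pn (m : ℕ) (hm : Odd m) : (SCB_Pn (F := F) m).det = 1 := by
  have h : SCB_Pn (F := F) m = (Matrix.diagonal
      fun j : Fin (m + 1) => if j = Fin.last m then (-1 : F) else 1).submatrix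
      (finRotate (m + 1)).symm id := by
    ext i j
    simp only [SCB_Pn, Matrix.of_apply, Matrix.submatrix_apply, id_eq, Matrix.diagonal_apply,
      Equiv.symm_apply_eq]
    by_cases h1 : i = finRotate (m + 1) j
    · subst h1
      simp only [if_true, EmbeddingLike.apply_eq_iff_eq]
    · simp only [h1, if_false]
  rw [h, Matrix.det_permute, Matrix.det_diagonal, Equiv.Perm.sign_symm, sign_finRotate,
    Finset.prod_ite_eq']
  simp [hm.neg_one_pow]

theorem SCB_Pm_eq (k m : ℕ) (hm : k + k = m + 1) :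
    SCB_Pm (F := F) k = (SCB_Pn m).submatrix (finSumFinEquiv.trans (finCongr hm))
      (finSumFinEquiv.trans (finCongr hm)) := by
  have hl : ∀ i : Fin k, ((finSumFinEquiv.trans (finCongr hm) (Sum.inl i) : Fin (m + 1)) : ℕ)
      = i := by
    intro i; simp
  have hr : ∀ i : Fin k, ((finSumFinEquiv.trans (finCongr hm) (Sum.inr i) : Fin (m + 1)) : ℕ)
      = k + i := by
    intro i; simp [Nat.add_comm]
  ext a b
  simp only [SCB_Pm, SCB_Pn, Matrix.submatrix_apply, Matrix.of_apply, Fin.ext_iff, coe_finRotate,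
    Fin.val_last]
  rcases a with i | i <;> rcases b with j | j
  · simp only [Matrix.fromBlocks_apply₁₁, SCB_N, Matrix.of_apply, hl]
    have := i.2; have := j.2
    split_ifs <;> first | rfl | (exfalso; omega)
  · simp only [Matrix.fromBlocks_apply₁₂, SCB_E, Matrix.neg_apply, Matrix.of_apply, hl, hr]
    have := i.2; have := j.2
    split_ifs <;> first | rfl | (exfalso; omega) | simp
  · simp only [Matrix.fromBlocks_apply₂₁, SCB_E, Matrix.of_apply, hl, hr]
    have := i.2; have := j.2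
    split_ifs <;> first | rfl | (exfalso; omega)
  · simp only [Matrix.fromBlocks_apply₂₂, SCB_N, Matrix.of_apply, hr]
    have := i.2; have := j.2
    split_ifs <;> first | rfl | (exfalso; omega)

theorem SCB_det_Pm (k : ℕ) (hk : 1 ≤ k) : (SCB_Pm (F := F) k).det = 1 := by
  obtain ⟨m, hm⟩ : ∃ m, k + k = m + 1 := ⟨k + k - 1, by omega⟩
  rw [SCB_Pm_eq k m hm, Matrix.det_submatrix_equiv_self]
  exact SCB_det_Pn m ⟨k - 1, by omega⟩

/-- (SCB) scalar case, `n = 2k`, `α ^ k = -1`. -/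
theorem scalar_hard {F : Type*} [Field F] [Fintype F] (k : ℕ) (hk : 1 ≤ k)
    (g : Matrix.SpecialLinearGroup (Fin (2 * k)) F) (α : F)
    (hg : (g : Matrix (Fin (2 * k)) (Fin (2 * k)) F) =
      α • (1 : Matrix (Fin (2 * k)) (Fin (2 * k)) F))
    (h : α ^ k = -1) :
    ∃ a b : Matrix.SpecialLinearGroup (Fin (2 * k)) F, g = a * b * a⁻¹ * b⁻¹ := by
  have hα0 : α ≠ 0 := by
    rintro rfl
    rw [zero_pow (by omega)] at h
    exact absurd h.symm (neg_ne_zero.mpr one_ne_zero)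
  obtain ⟨x, y, hx, hxy⟩ := SCB_two_squares α hα0
  have hA : (SCB_Dm k α * SCB_Sm k x y).det = 1 := by
    rw [Matrix.det_mul, SCB_det_Dm k hk α h, SCB_det_Sm k x y hx, hxy, h]; ring
  have hB : (SCB_Pm (F := F) k).det = 1 := SCB_det_Pm k hk
  have hAB : (SCB_Dm k α * SCB_Sm k x y) * SCB_Pm k =
      α • (SCB_Pm k * (SCB_Dm k α * SCB_Sm k x y)) := by
    rw [Matrix.mul_assoc, SCB_SP, ← Matrix.mul_assoc, SCB_DP k α h, Matrix.smul_mul,
      Matrix.mul_assoc]
  let e : Fin k ⊕ Fin k ≃ Fin (2 * k) := finSumFinEquiv.trans (finCongr (two_mul k).symm)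
  let a : Matrix.SpecialLinearGroup (Fin (2 * k)) F :=
    ⟨(SCB_Dm k α * SCB_Sm k x y).submatrix e.symm e.symm, by
      rw [Matrix.det_submatrix_equiv_self]; exact hA⟩
  let b : Matrix.SpecialLinearGroup (Fin (2 * k)) F :=
    ⟨(SCB_Pm k).submatrix e.symm e.symm, by
      rw [Matrix.det_submatrix_equiv_self]; exact hB⟩
  refine ⟨a, b, ?_⟩
  rw [eq_mul_inv_iff_mul_eq, eq_mul_inv_iff_mul_eq]
  apply Subtype.ext
  simp only [Matrix.SpecialLinearGroup.coe_mul, hg]
  show α • 1 * (SCB_Pm k).submatrix e.symm e.symm *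
      (SCB_Dm k α * SCB_Sm k x y).submatrix e.symm e.symm =
    (SCB_Dm k α * SCB_Sm k x y).submatrix e.symm e.symm * (SCB_Pm k).submatrix e.symm e.symm
  rw [Matrix.submatrix_mul_equiv, hAB, Matrix.smul_mul, Matrix.one_mul, Matrix.smul_mul,
    Matrix.submatrix_mul_equiv]
  rfl

end Cfsg.Agent.Helper60.Ore
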