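import Mathlib
import Cfsg.Prelude.Def_Transfer

set_option autoImplicit false

namespace Cfsg.Agent.Helper60.PClassCount

/-- Counting lemma: `f : X → T` surjective and constant on the orbits of `σ` gives
`2 |T| ≤ |X| + |Fix σ|`. -/
theorem two_mul_card_le {X T : Type*} [Finite X] (f : X → T) (hf : Function.Surjective f)
    (σ : X → X) (hσ : ∀ y, f (σ y) = f y) :
    2 * Nat.card T ≤ Nat.card X + Nat.card {y : X // σ y = y} := by
  classical
  haveI : Finite T := Finite.of_surjective f hf
  let r : T → X := fun c => (hf c).choose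
  have hr : ∀ c, f (r c) = c := fun c => (hf c).choose_spec
  let ψ : T ⊕ T → X ⊕ {y : X // σ y = y} := fun s =>
    match s with
    | Sum.inl c => Sum.inl (r c)
    | Sum.inr c => if h : σ (r c) = r c then Sum.inr ⟨r c, h⟩ else Sum.inl (σ (r c))
  have hψ : Function.Injective ψ := by
    rintro (c | c) (c' | c') h
    · simp only [ψ, Sum.inl.injEq] at h
      have := congrArg f h
      rw [hr, hr] at this
      rw [this]
    · exfalso
      simp only [ψ] at h
      by_cases h' : σ (r c') = r c'
      · rw [dif_pos h'] at h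
        exact Sum.inl_ne_inr h
      · rw [dif_neg h'] at h
        have h1 : r c = σ (r c') := Sum.inl.inj h
        have h2 := congrArg f h1
        rw [hσ, hr, hr] at h2
        rw [h2] at h1
        exact h' h1.symm
    · exfalso
      simp only [ψ] at h
      by_cases h' : σ (r c) = r c
      · rw [dif_pos h'] at h
        exact Sum.inl_ne_inr h.symm
      · rw [dif_neg h'] at h
        have h1 : σ (r c) = r c' := Sum.inl.inj h
        have h2 := congrArg f h1
        rw [hσ, hr, hr] at h2
        rw [← h2] at h1
        exact h' h1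
    · simp only [ψ] at h
      by_cases h1 : σ (r c) = r c <;> by_cases h2 : σ (r c') = r c'
      · rw [dif_pos h1, dif_pos h2] at h
        have h3 : r c = r c' := congrArg Subtype.val (Sum.inr.inj h)
        have := congrArg f h3
        rw [hr, hr] at this
        rw [this]
      · rw [dif_pos h1, dif_neg h2] at h
        exact absurd h.symm Sum.inl_ne_inr
      · rw [dif_neg h1, dif_pos h2] at h
        exact absurd h Sum.inl_ne_inr
      · rw [dif_neg h1, dif_neg h2] at h
        have h3 : σ (r c) = σ (r c') := Sum.inl.inj h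
        have := congrArg f h3
        rw [hσ, hσ, hr, hr] at this
        rw [this]
  have := Nat.card_le_card_of_injective ψ hψ
  rw [Nat.card_sum, Nat.card_sum] at this
  omega

/-- `|H| k(H) = ∑_a |C_H(a)|`. -/
theorem card_conjClasses_mul_card_eq_sum {H : Type*} [Group H] [Fintype H] :
    Nat.card (ConjClasses H) * Nat.card H =
      ∑ a : H, Nat.card (Subgroup.centralizer ({a} : Set H)) := by
  classical
  rw [← card_comm_eq_card_conjClasses_mul_card]
  rw [Nat.card_congr (Equiv.subtypeProdEquivSigmaSubtype (Commute : H → H → Prop))]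
  rw [Nat.card_sigma]
  refine Finset.sum_congr rfl (fun a _ => ?_)
  refine Nat.card_congr (Equiv.subtypeEquivRight (fun b => ?_))
  rw [Subgroup.mem_centralizer_iff]
  constructor
  · intro h x hx
    rw [Set.mem_singleton_iff] at hx
    rw [hx]; exact h.eq
  · intro h
    exact h a rfl

theorem card_conjClasses_bound {H : Type*} [Group H] [Finite H] {p : ℕ} [Fact p.Prime]
    (hH : IsPGroup p H) (hna : ¬ ∀ a b : H, a * b = b * a) :
    p ^ 3 * Nat.card (ConjClasses H) + Nat.card H ≤ (p ^ 2 + p) * Nat.card H := by
  classical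
  haveI : Fintype H := Fintype.ofFinite H
  have hp : p.Prime := Fact.out
  set N := Nat.card H with hN
  set z := Nat.card (Subgroup.center H) with hz
  set k := Nat.card (ConjClasses H) with hk
  have hNpos : 0 < N := Nat.card_pos
  -- (i) `p ^ 2 * z ≤ N`
  have hi : p ^ 2 * z ≤ N := by
    obtain ⟨j, hj⟩ := hH.index (Subgroup.center H)
    have hmul : z * (Subgroup.center H).index = N := Subgroup.card_mul_index _
    rw [hj] at hmul
    have hj2 : 2 ≤ j := by
      by_contra hlt
      push Not at hlt
      apply hna
      interval_cases j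
      · have : Subgroup.center H = ⊤ := by
          rw [← Subgroup.index_eq_one]; simpa using hj
        intro a b
        have ha : a ∈ Subgroup.center H := by rw [this]; trivial
        exact (Subgroup.mem_center_iff.mp ha b).symm
      · have hcard : Nat.card (H ⧸ Subgroup.center H) = p := by
          rw [← Subgroup.index_eq_card]; simpa using hj
        haveI : IsCyclic (H ⧸ Subgroup.center H) := isCyclic_of_prime_card hcard
        have hcomm := MonoidHom.isMulCommutative_of_isCyclic_of_ker_le_center
          (QuotientGroup.mk' (Subgroup.center H)) (by rw [QuotientGroup.ker_mk'])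
        intro a b
        exact hcomm.is_comm.comm a b
    calc p ^ 2 * z ≤ p ^ j * z := Nat.mul_le_mul_right _ (Nat.pow_le_pow_right hp.pos hj2)
      _ = N := by rw [mul_comm]; exact hmul
  -- (ii)
  have hsum := card_conjClasses_mul_card_eq_sum (H := H)
  have hbound : ∀ a : H, p * Nat.card (Subgroup.centralizer ({a} : Set H)) ≤
      if a ∈ Subgroup.center H then p * N else N := by
    intro a
    split_ifs with ha
    · exact Nat.mul_le_mul_left _ (Subgroup.card_le_card_group _)
    · obtain ⟨j, hj⟩ := hH.index (Subgroup.centralizer ({a} : Set H))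
      have hmul : Nat.card (Subgroup.centralizer ({a} : Set H)) *
          (Subgroup.centralizer ({a} : Set H)).index = N := Subgroup.card_mul_index _
      rw [hj] at hmul
      have hj1 : 1 ≤ j := by
        by_contra hlt
        push Not at hlt
        interval_cases j
        apply ha
        have : Subgroup.centralizer ({a} : Set H) = ⊤ := by
          rw [← Subgroup.index_eq_one]; simpa using hj
        rw [Subgroup.mem_center_iff]
        intro g
        have hg : g ∈ Subgroup.centralizer ({a} : Set H) := by rw [this]; trivial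
        exact (Subgroup.mem_centralizer_iff.mp hg a rfl).symm
      calc p * Nat.card (Subgroup.centralizer ({a} : Set H))
          ≤ p ^ j * Nat.card (Subgroup.centralizer ({a} : Set H)) := by
            apply Nat.mul_le_mul_right
            calc p = p ^ 1 := (pow_one p).symm
              _ ≤ p ^ j := Nat.pow_le_pow_right hp.pos hj1
        _ = N := by rw [mul_comm]; exact hmul
  have hii : p * (k * N) ≤ z * (p * N) + (N - z) * N := by
    rw [hsum, Finset.mul_sum]
    calc ∑ a : H, p * Nat.card (Subgroup.centralizer ({a} : Set H))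
        ≤ ∑ a : H, (if a ∈ Subgroup.center H then p * N else N) :=
          Finset.sum_le_sum (fun a _ => hbound a)
      _ = z * (p * N) + (N - z) * N := by
          rw [Finset.sum_ite, Finset.sum_const, Finset.sum_const, smul_eq_mul, smul_eq_mul]
          have h1 : (Finset.univ.filter (fun a : H => a ∈ Subgroup.center H)).card = z := by
            rw [hz, Nat.card_eq_fintype_card, Fintype.card_subtype]
          have h2 : (Finset.univ.filter (fun a : H => ¬ a ∈ Subgroup.center H)).card = N - z := by
            have h3 := Finset.card_filter_add_card_filter_not (s := (Finset.univ : Finset H))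
              (fun a : H => a ∈ Subgroup.center H)
            rw [h1, Finset.card_univ, ← Nat.card_eq_fintype_card] at h3
            omega
          rw [h1, h2]
  have hzN : z ≤ N := Subgroup.card_le_card_group _
  -- cancel `N`
  have hiii : p * k + z ≤ z * p + N := by
    have h1 : (p * k + z) * N ≤ (z * p + N) * N := by
      have : (N - z) * N + z * N = N * N := by
        rw [← add_mul, Nat.sub_add_cancel hzN]
      nlinarith [hii, this]
    exact Nat.le_of_mul_le_mul_right h1 hNpos
  obtain ⟨q, hq⟩ : ∃ q, p = q + 1 := ⟨p - 1, by have := hp.two_le; omega⟩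
  have hA := Nat.mul_le_mul_left (p ^ 2) hiii
  have hB := Nat.mul_le_mul_left q hi
  rw [hq] at hA hB ⊢
  nlinarith [hA, hB]

variable {G : Type*} [Group G] {p : ℕ}

/-- Conjugacy classes of `p`-elements. -/
abbrev PCl (p : ℕ) (G : Type*) [Group G] : Type _ :=
  {c : ConjClasses G // ∀ x ∈ c.carrier, ∃ k : ℕ, orderOf x = p ^ k}

theorem orderOf_eq_of_isConj {x y : G} (h : IsConj x y) : orderOf x = orderOf y := by
  obtain ⟨c, hc⟩ := isConj_iff.mp h
  have hs : SemiconjBy c x y := by
    unfold SemiconjBy
    rw [← hc]; group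
  exact hs.orderOf_eq c

theorem exists_orderOf_of_mem_sylow [Fact p.Prime] (P : Sylow p G) {y : G} (hy : y ∈ P) :
    ∃ k : ℕ, orderOf y = p ^ k := by
  obtain ⟨k, hk⟩ := (IsPGroup.iff_orderOf.mp P.2) ⟨y, hy⟩
  exact ⟨k, by rw [← hk]; exact (Subgroup.orderOf_mk y hy).symm⟩

/-- The class of an element of the Sylow subgroup. -/
noncomputable def toPCl [Fact p.Prime] (P : Sylow p G) (y : P) : PCl p G :=
  ⟨ConjClasses.mk (y : G), fun x hx => by
    rw [ConjClasses.mem_carrier_iff_mk_eq, ConjClasses.mk_eq_mk_iff_isConj] at hx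
    obtain ⟨k, hk⟩ := exists_orderOf_of_mem_sylow P y.2
    exact ⟨k, by rw [orderOf_eq_of_isConj hx, hk]⟩⟩

theorem toPCl_eq_iff [Fact p.Prime] (P : Sylow p G) (y y' : P) :
    toPCl P y = toPCl P y' ↔ IsConj (y : G) (y' : G) := by
  unfold toPCl
  rw [Subtype.mk.injEq, ConjClasses.mk_eq_mk_iff_isConj]

theorem toPCl_surjective [Fact p.Prime] [Finite G] (P : Sylow p G) :
    Function.Surjective (toPCl P) := by
  rintro ⟨c, hc⟩
  induction c using Quotient.inductionOn with
  | _ x =>
    change ∀ y ∈ (ConjClasses.mk x).carrier, ∃ k : ℕ, orderOf y = p ^ k at hc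
    obtain ⟨k, hk⟩ := hc x ConjClasses.mem_carrier_mk
    have hz : IsPGroup p (Subgroup.zpowers x) := by
      apply IsPGroup.of_card (n := k)
      rw [Nat.card_zpowers, hk]
    obtain ⟨Q, hQ⟩ := hz.exists_le_sylow
    obtain ⟨g, hg⟩ := MulAction.exists_smul_eq G Q P
    have hxQ : x ∈ Q := hQ (Subgroup.mem_zpowers x)
    have hgx : g * x * g⁻¹ ∈ P := by
      rw [← hg]
      change g * x * g⁻¹ ∈ ((g • Q : Sylow p G) : Subgroup G)
      rw [Sylow.coe_subgroup_smul]
      have : g * x * g⁻¹ = MulAut.conj g • x := by
        rw [MulAut.smul_def, MulAut.conj_apply]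
      rw [this, Subgroup.smul_mem_pointwise_smul_iff]
      exact hxQ
    refine ⟨⟨g * x * g⁻¹, hgx⟩, ?_⟩
    unfold toPCl
    apply Subtype.ext
    change ConjClasses.mk (g * x * g⁻¹) = ConjClasses.mk x
    rw [ConjClasses.mk_eq_mk_iff_isConj]
    exact isConj_iff.mpr ⟨g⁻¹, by group⟩

theorem card_pcl_le [Fact p.Prime] [Finite G] (P : Sylow p G) :
    Nat.card (PCl p G) ≤ Nat.card (ConjClasses ↥(P : Subgroup G)) := by
  let h : ConjClasses ↥(P : Subgroup G) → PCl p G := fun c => toPCl P (Quotient.out c)
  have hsurj : Function.Surjective h := by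
    intro t
    obtain ⟨y, rfl⟩ := toPCl_surjective P t
    refine ⟨ConjClasses.mk y, ?_⟩
    change toPCl P (Quotient.out (ConjClasses.mk y)) = toPCl P y
    rw [toPCl_eq_iff]
    have h1 : ConjClasses.mk (Quotient.out (ConjClasses.mk y)) = ConjClasses.mk y :=
      Quotient.out_eq (ConjClasses.mk y)
    rw [ConjClasses.mk_eq_mk_iff_isConj] at h1
    obtain ⟨u, hu⟩ := isConj_iff.mp h1
    exact isConj_iff.mpr ⟨(u : G), by
      have := congrArg Subtype.val hu
      simpa using this⟩
  exact Nat.card_le_card_of_surjective h hsurj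

/-- A proper subgroup of a finite `p`-group has `p * |C| ≤ |H|`. -/
theorem mul_card_le_of_ne_top {H : Type*} [Group H] [Finite H] [Fact p.Prime]
    (hH : IsPGroup p H) (C : Subgroup H) (hC : C ≠ ⊤) : p * Nat.card C ≤ Nat.card H := by
  have hp : p.Prime := Fact.out
  obtain ⟨j, hj⟩ := hH.index C
  have hmul : Nat.card C * C.index = Nat.card H := Subgroup.card_mul_index _
  rw [hj] at hmul
  have hj1 : 1 ≤ j := by
    by_contra hlt
    push Not at hlt
    interval_cases j
    apply hC
    rw [← Subgroup.index_eq_one]; simpa using hj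
  calc p * Nat.card C ≤ p ^ j * Nat.card C := by
        apply Nat.mul_le_mul_right
        calc p = p ^ 1 := (pow_one p).symm
          _ ≤ p ^ j := Nat.pow_le_pow_right hp.pos hj1
    _ = Nat.card H := by rw [mul_comm]; exact hmul

/-- Forward direction, any `p`: many classes of `p`-elements force `N_G(P) ≤ C_G(P)` (in particular
`P` is abelian). -/
theorem normalizer_le_centralizer_of_many_classes [Fact p.Prime] [Finite G] (P : Sylow p G)
    (hk : (p + 1) * Nat.card ↥(P : Subgroup G) < 2 * p * Nat.card (PCl p G)) :
    Subgroup.normalizer ((P : Subgroup G) : Set G) ≤ Subgroup.centralizer ((P : Subgroup G) : Set G) := by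
  by_contra hnot
  obtain ⟨x, hxN, hxC⟩ := SetLike.not_le_iff_exists.mp hnot
  have hx1 : ∀ y ∈ (P : Subgroup G), x * y * x⁻¹ ∈ (P : Subgroup G) :=
    fun y hy => (Subgroup.mem_normalizer_iff.mp hxN y).mp hy
  let σ : ↥(P : Subgroup G) → ↥(P : Subgroup G) := fun y => ⟨x * y * x⁻¹, hx1 y y.2⟩
  have hσ : ∀ y, toPCl P (σ y) = toPCl P y := by
    intro y
    rw [toPCl_eq_iff]
    exact isConj_iff.mpr ⟨x⁻¹, by simp only [σ]; group⟩
  have h2 := two_mul_card_le (toPCl P) (toPCl_surjective P) σ hσ
  -- the fixed points form a proper subgroup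
  let C : Subgroup ↥(P : Subgroup G) := (Subgroup.centralizer ({x} : Set G)).subgroupOf (P : Subgroup G)
  have hCfix : Nat.card {y : ↥(P : Subgroup G) // σ y = y} = Nat.card C := by
    refine Nat.card_congr (Equiv.subtypeEquivRight (fun y => ?_))
    rw [Subgroup.mem_subgroupOf, Subgroup.mem_centralizer_iff]
    constructor
    · intro h z hz
      rw [Set.mem_singleton_iff] at hz
      have h1 : x * (y : G) * x⁻¹ = (y : G) := congrArg Subtype.val h
      rw [hz]
      calc x * (y : G) = (x * (y : G) * x⁻¹) * x := by group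
        _ = (y : G) * x := by rw [h1]
    · intro h
      apply Subtype.ext
      change x * (y : G) * x⁻¹ = (y : G)
      rw [h x rfl]; group
  have hCtop : C ≠ ⊤ := by
    intro htop
    apply hxC
    rw [Subgroup.mem_centralizer_iff]
    intro y hy
    have : (⟨y, hy⟩ : ↥(P : Subgroup G)) ∈ C := by rw [htop]; trivial
    rw [Subgroup.mem_subgroupOf, Subgroup.mem_centralizer_iff] at this
    exact (this x rfl).symm
  have h3 := mul_card_le_of_ne_top (p := p) P.2 C hCtop
  have h2' : 2 * Nat.card (PCl p G) ≤ Nat.card ↥(P : Subgroup G) + Nat.card C := by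
    rw [← hCfix]; exact h2
  nlinarith [h2', h3, hk]

/-- The characterization (statement S3897, valid for every prime `p`). -/
theorem many_classes_iff [Fact p.Prime] [Finite G] (P : Sylow p G) :
    (p + 1) * Nat.card ↥(P : Subgroup G) < 2 * p * Nat.card (PCl p G) ↔
      Cfsg.HasNormalPComplement p G ∧ IsMulCommutative ↥(P : Subgroup G) := by
  have hp : p.Prime := Fact.out
  constructor
  · intro hk
    have hNC := normalizer_le_centralizer_of_many_classes P hk
    refine ⟨⟨P, (MonoidHom.transferSylow P hNC).ker, inferInstance,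
      MonoidHom.ker_transferSylow_isComplement' P hNC⟩, ⟨⟨fun a b => ?_⟩⟩⟩
    have ha : (a : G) ∈ Subgroup.centralizer ((P : Subgroup G) : Set G) :=
      hNC (Subgroup.le_normalizer a.2)
    apply Subtype.ext
    rw [Subgroup.mem_centralizer_iff] at ha
    exact (ha b b.2).symm
  · rintro ⟨⟨P', N, hNn, hcompl⟩, hab⟩
    -- `N` is a complement of `P` as well
    have hcardP : Nat.card ↥(P : Subgroup G) = Nat.card ↥(P' : Subgroup G) := by
      rw [Sylow.card_eq_multiplicity, Sylow.card_eq_multiplicity]
    have h1 : Nat.card N * Nat.card ↥(P : Subgroup G) = Nat.card G := by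
      rw [hcardP]; exact hcompl.card_mul_card
    have hcop : (Nat.card N).Coprime (Nat.card ↥(P : Subgroup G)) := by
      rw [Sylow.card_eq_multiplicity]
      apply Nat.Coprime.pow_right
      rw [Nat.coprime_comm, Nat.Prime.coprime_iff_not_dvd hp]
      intro hdvd
      have h2 : ¬ p ∣ (P' : Subgroup G).index := P'.not_dvd_index
      rw [hcompl.index_eq_card] at h2
      exact h2 hdvd
    have hcomplP : Subgroup.IsComplement' N (P : Subgroup G) :=
      Subgroup.isComplement'_of_coprime h1 hcop
    have hinj : Function.Injective (toPCl P) := by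
      intro y y' h
      rw [toPCl_eq_iff] at h
      obtain ⟨g, hg⟩ := isConj_iff.mp h
      obtain ⟨⟨n, u⟩, hnu, -⟩ := hcomplP.existsUnique g
      simp only at hnu
      have hu : (u : G) * (y : G) * (u : G)⁻¹ = (y : G) := by
        have := hab.is_comm.comm ⟨(u : G), u.2⟩ y
        have h3 := congrArg Subtype.val this
        simp only [Subgroup.coe_mul] at h3
        rw [h3]; group
      have h4 : (y' : G) = (n : G) * (y : G) * (n : G)⁻¹ := by
        rw [← hg, ← hnu]
        calc (n : G) * (u : G) * (y : G) * ((n : G) * (u : G))⁻¹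
            = (n : G) * ((u : G) * (y : G) * (u : G)⁻¹) * (n : G)⁻¹ := by group
          _ = (n : G) * (y : G) * (n : G)⁻¹ := by rw [hu]
      have h5 : (y' : G) * (y : G)⁻¹ ∈ N := by
        have : (y' : G) * (y : G)⁻¹ = (n : G) * ((y : G) * (n : G)⁻¹ * (y : G)⁻¹) := by
          rw [h4]; group
        rw [this]
        exact N.mul_mem n.2 (hNn.conj_mem _ (N.inv_mem n.2) _)
      have h6 : (y' : G) * (y : G)⁻¹ ∈ (P : Subgroup G) :=
        Subgroup.mul_mem _ y'.2 (Subgroup.inv_mem _ y.2)
      have h7 : (y' : G) * (y : G)⁻¹ = 1 := by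
        have := hcomplP.disjoint
        rw [Subgroup.disjoint_def] at this
        exact this h5 h6
      apply Subtype.ext
      exact (mul_inv_eq_one.mp h7).symm
    have hle : Nat.card ↥(P : Subgroup G) ≤ Nat.card (PCl p G) :=
      Nat.card_le_card_of_injective _ hinj
    have hpos : 0 < Nat.card ↥(P : Subgroup G) := Nat.card_pos
    have hp2 := hp.two_le
    nlinarith [hle, hpos, hp2]

end Cfsg.Agent.Helper60.PClassCount
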