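import Mathlib
import Cfsg.Prelude.Def_Transfer
import Cfsg.Agent.Helper60.PClassCount

/-!
# Helper60 / PiClassCount

Classes of `π`-elements: `k_π(H) ≤ |H|_π` and the fibration `k_{π ∪ {r}}(H) ≤ k_r(H) · m` over the
classes of `r`-elements (`m` a bound for `k_π` of the centralizers).
-/

set_option autoImplicit false

namespace Cfsg.Agent.Helper60.PClassCount

universe u

section Basic

variable {G : Type*} [Group G]

/-- `π`-elements. -/
def IsPiElt (π : Finset ℕ) (g : G) : Prop :=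
  ∀ r : ℕ, r.Prime → r ∣ orderOf g → r ∈ π

/-- Conjugacy classes of `π`-elements (as in the statements). -/
abbrev PiCl (π : Finset ℕ) (G : Type*) [Group G] : Type _ :=
  {c : ConjClasses G // ∀ x ∈ c.carrier, ∀ r : ℕ, r.Prime → r ∣ orderOf x → r ∈ π}

/-- The class of a `π`-element. -/
def mkPiCl (π : Finset ℕ) (g : G) (hg : IsPiElt π g) : PiCl π G :=
  ⟨ConjClasses.mk g, fun x hx r hr hdvd => by
    rw [ConjClasses.mem_carrier_iff_mk_eq, ConjClasses.mk_eq_mk_iff_isConj] at hx
    rw [orderOf_eq_of_isConj hx] at hdvd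
    exact hg r hr hdvd⟩

theorem mkPiCl_eq_iff (π : Finset ℕ) (g g' : G) (hg : IsPiElt π g) (hg' : IsPiElt π g') :
    mkPiCl π g hg = mkPiCl π g' hg' ↔ IsConj g g' := by
  unfold mkPiCl
  rw [Subtype.mk.injEq, ConjClasses.mk_eq_mk_iff_isConj]

theorem exists_mkPiCl (π : Finset ℕ) (c : PiCl π G) :
    ∃ g, ∃ hg : IsPiElt π g, mkPiCl π g hg = c := by
  obtain ⟨c, hc⟩ := c
  induction c using Quotient.inductionOn with
  | _ x =>
    change ∀ y ∈ (ConjClasses.mk x).carrier, ∀ r : ℕ, r.Prime → r ∣ orderOf y → r ∈ π at hc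
    exact ⟨x, hc x ConjClasses.mem_carrier_mk, rfl⟩

/-- Decomposition of an element into commuting `r`-part and `r'`-part. -/
theorem exists_rdecomp [Finite G] (r : ℕ) (hr : r.Prime) (g : G) :
    ∃ z y : G, z * y = g ∧ Commute z y ∧ (∃ k : ℕ, orderOf z = r ^ k) ∧ ¬ r ∣ orderOf y ∧
      orderOf y ∣ orderOf g := by
  set n := orderOf g with hn
  have hnpos : 0 < n := orderOf_pos g
  set a := n.factorization r with ha
  set m := n / r ^ a with hm
  have hnm : r ^ a * m = n := Nat.ordProj_mul_ordCompl_eq_self n r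
  have hcop : Nat.Coprime (r ^ a) m :=
    Nat.Coprime.pow_left _ (Nat.coprime_ordCompl hr hnpos.ne')
  have hpm : ¬ r ∣ m := Nat.not_dvd_ordCompl hr hnpos.ne'
  obtain ⟨c, hc1, hc2⟩ := Nat.chineseRemainder hcop 1 0
  obtain ⟨c', hc1', hc2'⟩ := Nat.chineseRemainder hcop 0 1
  have hmc : m ∣ c := (Nat.modEq_zero_iff_dvd).mp hc2
  have hpc' : r ^ a ∣ c' := (Nat.modEq_zero_iff_dvd).mp hc1'
  refine ⟨g ^ c, g ^ c', ?_, (Commute.refl g).pow_pow c c', ?_, ?_, orderOf_pow_dvd c'⟩
  · rw [← pow_add]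
    have h1 : c + c' ≡ 1 [MOD n] := by
      rw [← hnm]
      apply (Nat.modEq_and_modEq_iff_modEq_mul hcop).mp
      constructor
      · have := hc1.add hc1'
        simpa using this
      · have := hc2.add hc2'
        simpa using this
    have : g ^ (c + c') = g ^ 1 := by
      rw [pow_eq_pow_iff_modEq]
      exact h1
    rw [this, pow_one]
  · have h1 : (g ^ c) ^ (r ^ a) = 1 := by
      obtain ⟨c₁, rfl⟩ := hmc
      rw [← pow_mul, mul_comm, ← mul_assoc, hnm, pow_mul, pow_orderOf_eq_one, one_pow]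
    have h2 := orderOf_dvd_of_pow_eq_one h1
    obtain ⟨j, -, hj⟩ := (Nat.dvd_prime_pow hr).mp h2
    exact ⟨j, hj⟩
  · have h1 : (g ^ c') ^ m = 1 := by
      obtain ⟨c₁, rfl⟩ := hpc'
      rw [← pow_mul, mul_comm, ← mul_assoc, mul_comm m, hnm, pow_mul, pow_orderOf_eq_one, one_pow]
    have h2 := orderOf_dvd_of_pow_eq_one h1
    intro h3
    exact hpm (h3.trans h2)

end Basic

/-- Fibre counting. -/
theorem card_le_mul_of_fibre {A B : Type*} [Finite A] [Finite B] (Φ : A → B) (m : ℕ)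
    (h : ∀ b : B, Nat.card {a : A // Φ a = b} ≤ m) : Nat.card A ≤ Nat.card B * m := by
  classical
  haveI := Fintype.ofFinite A
  haveI := Fintype.ofFinite B
  have := Finset.card_le_mul_card_image_of_maps_to (f := Φ) (s := Finset.univ) (t := Finset.univ)
    (fun a _ => Finset.mem_univ _) m (fun b _ => by
      have h1 := h b
      rw [Nat.card_eq_fintype_card, Fintype.card_subtype] at h1
      exact h1)
  rw [Finset.card_univ, Finset.card_univ, ← Nat.card_eq_fintype_card, ← Nat.card_eq_fintype_card,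
    mul_comm] at this
  exact this

/-- The `π`-part of a natural number. -/
def piPart (π : Finset ℕ) (n : ℕ) : ℕ := π.prod (fun r => r ^ n.factorization r)

theorem piPart_insert (π : Finset ℕ) (r : ℕ) (hr : r ∉ π) (n : ℕ) :
    piPart (insert r π) n = r ^ n.factorization r * piPart π n := by
  unfold piPart
  rw [Finset.prod_insert hr]

theorem piPart_le_of_dvd (π : Finset ℕ) (hπ : ∀ q ∈ π, q.Prime) {a b : ℕ} (hb : b ≠ 0)
    (hab : a ∣ b) : piPart π a ≤ piPart π b := by
  unfold piPart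
  apply Finset.prod_le_prod'
  intro q hq
  have ha : a ≠ 0 := fun h => hb (by rw [h] at hab; exact Nat.eq_zero_of_zero_dvd hab)
  exact Nat.pow_le_pow_right (hπ q hq).pos
    ((Nat.factorization_le_iff_dvd ha hb).mpr hab q)

section Step

variable {H : Type u} [Group H]

/-- The class of an `r`-element. -/
def mkPCl (r : ℕ) (z : H) (hz : ∃ k : ℕ, orderOf z = r ^ k) : PCl r H :=
  ⟨ConjClasses.mk z, fun x hx => by
    rw [ConjClasses.mem_carrier_iff_mk_eq, ConjClasses.mk_eq_mk_iff_isConj] at hx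
    obtain ⟨k, hk⟩ := hz
    exact ⟨k, by rw [orderOf_eq_of_isConj hx, hk]⟩⟩

theorem exists_mkPCl (r : ℕ) (c : PCl r H) :
    ∃ z, ∃ hz : (∃ k : ℕ, orderOf z = r ^ k), mkPCl r z hz = c := by
  obtain ⟨c, hc⟩ := c
  induction c using Quotient.inductionOn with
  | _ x =>
    change ∀ y ∈ (ConjClasses.mk x).carrier, ∃ k : ℕ, orderOf y = r ^ k at hc
    exact ⟨x, hc x ConjClasses.mem_carrier_mk, rfl⟩

/-- Fibration of the classes of `(σ ∪ {r})`-elements over the classes of `r`-elements. -/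
theorem card_piCl_insert_le [Finite H] (r : ℕ) (hr : r.Prime) (σ : Finset ℕ) (m : ℕ)
    (hm : ∀ x : H, Nat.card (PiCl σ ↥(Subgroup.centralizer ({x} : Set H))) ≤ m) :
    Nat.card (PiCl (insert r σ) H) ≤ Nat.card (PCl r H) * m := by
  classical
  -- representatives and decompositions
  have hrep : ∀ c : PiCl (insert r σ) H, ∃ g z y : H, (∃ hg : IsPiElt (insert r σ) g,
      mkPiCl (insert r σ) g hg = c) ∧ z * y = g ∧ Commute z y ∧ (∃ k : ℕ, orderOf z = r ^ k) ∧
      ¬ r ∣ orderOf y ∧ orderOf y ∣ orderOf g := by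
    intro c
    obtain ⟨g, hg, hgc⟩ := exists_mkPiCl (insert r σ) c
    obtain ⟨z, y, h1, h2, h3, h4, h5⟩ := exists_rdecomp r hr g
    exact ⟨g, z, y, ⟨hg, hgc⟩, h1, h2, h3, h4, h5⟩
  choose g z y hgc hzy hcomm hz hy hyg using hrep
  let Φ : PiCl (insert r σ) H → PCl r H := fun c => mkPCl r (z c) (hz c)
  haveI : Finite (PCl r H) := Subtype.finite
  haveI : Finite (PiCl (insert r σ) H) := Subtype.finite
  apply card_le_mul_of_fibre Φ m
  intro b
  obtain ⟨x, hx, hxb⟩ := exists_mkPCl r b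
  set C : Subgroup H := Subgroup.centralizer ({x} : Set H) with hC
  refine le_trans ?_ (hm x)
  -- data for the fibre
  have hfib : ∀ c : {c : PiCl (insert r σ) H // Φ c = b}, ∃ y' : ↥C, IsPiElt σ y' ∧
      IsConj (g c.1) (x * (y' : H)) := by
    rintro ⟨c, hc⟩
    have h1 : IsConj (z c) x := by
      have : mkPCl r (z c) (hz c) = mkPCl r x hx := by rw [hxb]; exact hc
      unfold mkPCl at this
      rw [Subtype.mk.injEq, ConjClasses.mk_eq_mk_iff_isConj] at this
      exact this
    obtain ⟨u, hu⟩ := isConj_iff.mp h1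
    have hmem : u * y c * u⁻¹ ∈ C := by
      rw [hC, Subgroup.mem_centralizer_iff]
      intro w hw
      rw [Set.mem_singleton_iff] at hw
      rw [hw, ← hu]
      have := (hcomm c).eq
      calc u * z c * u⁻¹ * (u * y c * u⁻¹) = u * (z c * y c) * u⁻¹ := by group
        _ = u * (y c * z c) * u⁻¹ := by rw [this]
        _ = u * y c * u⁻¹ * (u * z c * u⁻¹) := by group
    refine ⟨⟨u * y c * u⁻¹, hmem⟩, ?_, ?_⟩
    · intro q hq hdvd
      have h2 : orderOf (⟨u * y c * u⁻¹, hmem⟩ : ↥C) = orderOf (y c) := by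
        rw [Subgroup.orderOf_mk]
        exact (MulAut.conj u).orderOf_eq (y c)
      rw [h2] at hdvd
      obtain ⟨hg, -⟩ := hgc c
      have h3 := hg q hq (hdvd.trans (hyg c))
      rw [Finset.mem_insert] at h3
      rcases h3 with h3 | h3
      · exfalso
        rw [h3] at hdvd
        exact hy c hdvd
      · exact h3
    · refine isConj_iff.mpr ⟨u, ?_⟩
      change u * g c * u⁻¹ = x * (u * y c * u⁻¹)
      rw [← hzy c, ← hu]; group
  choose y' hy'σ hy'conj using hfib
  let θ : {c : PiCl (insert r σ) H // Φ c = b} → PiCl σ ↥C := fun c => mkPiCl σ (y' c) (hy'σ c)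
  have hθ : Function.Injective θ := by
    intro c₁ c₂ h
    simp only [θ] at h
    rw [mkPiCl_eq_iff] at h
    obtain ⟨v, hv⟩ := isConj_iff.mp h
    have hvx : (v : H) * x = x * (v : H) := by
      have hvC : (v : H) ∈ Subgroup.centralizer ({x} : Set H) := v.2
      rw [Subgroup.mem_centralizer_iff] at hvC
      exact (hvC x rfl).symm
    have h1 : IsConj (x * (y' c₁ : H)) (x * (y' c₂ : H)) := by
      refine isConj_iff.mpr ⟨(v : H), ?_⟩
      have h2 : (v : H) * (y' c₁ : H) * (v : H)⁻¹ = (y' c₂ : H) := by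
        have := congrArg Subtype.val hv
        simpa using this
      rw [← h2]
      calc (v : H) * (x * (y' c₁ : H)) * (v : H)⁻¹
          = ((v : H) * x) * (y' c₁ : H) * (v : H)⁻¹ := by group
        _ = (x * (v : H)) * (y' c₁ : H) * (v : H)⁻¹ := by rw [hvx]
        _ = x * ((v : H) * (y' c₁ : H) * (v : H)⁻¹) := by group
    have h3 : IsConj (g c₁.1) (g c₂.1) := ((hy'conj c₁).trans h1).trans (hy'conj c₂).symm
    apply Subtype.ext
    obtain ⟨hg1, hgc1⟩ := hgc c₁.1
    obtain ⟨hg2, hgc2⟩ := hgc c₂.1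
    rw [← hgc1, ← hgc2, mkPiCl_eq_iff]
    exact h3
  haveI : Finite (PiCl σ ↥C) := Subtype.finite
  exact Nat.card_le_card_of_injective θ hθ

end Step

end Cfsg.Agent.Helper60.PClassCount
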