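import Mathlib
import Cfsg.Prelude.Def_Transfer
import Cfsg.Prelude.Def_OddOrderLocal
import Cfsg.Agent.Helper60.PiClassCount

/-!
# Helper60 / PiClassMain

`k_π(H) ≤ |H|_π`, and: many classes of `π`-elements force a normal `π`-complement with abelian
quotient (statement S3899).
-/

set_option autoImplicit false

namespace Cfsg.Agent.Helper60.PClassCount

universe u

theorem card_pCl_le_pow {H : Type u} [Group H] [Finite H] (r : ℕ) [Fact r.Prime] :
    Nat.card (PCl r H) ≤ r ^ (Nat.card H).factorization r := by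
  obtain ⟨R⟩ : Nonempty (Sylow r H) := inferInstance
  calc Nat.card (PCl r H) ≤ Nat.card ↥(R : Subgroup H) :=
        Nat.card_le_card_of_surjective (toPCl R) (toPCl_surjective R)
    _ = r ^ (Nat.card H).factorization r := Sylow.card_eq_multiplicity R

/-- `k_σ(H) ≤ |H|_σ`. -/
theorem card_piCl_le (σ : Finset ℕ) (hσ : ∀ q ∈ σ, q.Prime) :
    ∀ (H : Type u) [Group H] [Finite H], Nat.card (PiCl σ H) ≤ piPart σ (Nat.card H) := by
  classical
  induction σ using Finset.induction_on with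
  | empty =>
    intro H _ _
    have hone : piPart ∅ (Nat.card H) = 1 := by unfold piPart; simp
    rw [hone]
    haveI : Finite (PiCl ∅ H) := Subtype.finite
    rw [Finite.card_le_one_iff_subsingleton]
    constructor
    intro c c'
    obtain ⟨g, hg, rfl⟩ := exists_mkPiCl ∅ c
    obtain ⟨g', hg', rfl⟩ := exists_mkPiCl ∅ c'
    have h1 : ∀ x : H, IsPiElt ∅ x → x = 1 := by
      intro x hx
      by_contra hne
      have h2 : orderOf x ≠ 1 := fun h => hne (orderOf_eq_one_iff.mp h)
      obtain ⟨q, hq, hdvd⟩ := Nat.exists_prime_and_dvd h2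
      exact absurd (hx q hq hdvd) (Finset.notMem_empty q)
    rw [mkPiCl_eq_iff, h1 g hg, h1 g' hg']
  | insert r σ hrσ ih =>
    intro H _ _
    have hr : r.Prime := hσ r (Finset.mem_insert_self r σ)
    have hσ' : ∀ q ∈ σ, q.Prime := fun q hq => hσ q (Finset.mem_insert_of_mem hq)
    haveI : Fact r.Prime := ⟨hr⟩
    have h1 := card_piCl_insert_le (H := H) r hr σ (piPart σ (Nat.card H)) (fun x =>
      (ih hσ' _).trans (piPart_le_of_dvd σ hσ' (Nat.card_pos.ne')
        (Subgroup.card_subgroup_dvd_card _)))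
    rw [piPart_insert σ r hrσ]
    exact h1.trans (Nat.mul_le_mul_right _ (card_pCl_le_pow r))

section Main

variable {G : Type u} [Group G] [Finite G]

/-- Step A: the hypothesis on `π`-classes passes to each prime of `π`. -/
theorem many_r_classes (π : Finset ℕ) (hπ : ∀ r ∈ π, r.Prime) (p : ℕ) (hp : p ∈ π)
    (hmin : ∀ r ∈ π, p ≤ r)
    (hk : (p + 1) * piPart π (Nat.card G) < 2 * p * Nat.card (PiCl π G))
    (r : ℕ) (hr : r ∈ π) [Fact r.Prime] (R : Sylow r G) :
    (r + 1) * Nat.card ↥(R : Subgroup G) < 2 * r * Nat.card (PCl r G) := by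
  classical
  have hrp : r.Prime := hπ r hr
  set σ := π.erase r with hσdef
  have hπeq : π = insert r σ := (Finset.insert_erase hr).symm
  have hrσ : r ∉ σ := Finset.notMem_erase r π
  have hσ' : ∀ q ∈ σ, q.Prime := fun q hq => hπ q (Finset.mem_of_mem_erase hq)
  set S := piPart σ (Nat.card G) with hS
  have hSpos : 0 < S := by
    rw [hS]; unfold piPart
    exact Finset.prod_pos (fun q hq => pow_pos (hσ' q hq).pos _)
  have h1 : Nat.card (PiCl π G) ≤ Nat.card (PCl r G) * S := by
    rw [hπeq]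
    exact card_piCl_insert_le (H := G) r hrp σ S (fun x =>
      (card_piCl_le σ hσ' _).trans (piPart_le_of_dvd σ hσ' (Nat.card_pos.ne')
        (Subgroup.card_subgroup_dvd_card _)))
  have h2 : piPart π (Nat.card G) = Nat.card ↥(R : Subgroup G) * S := by
    rw [hπeq, piPart_insert σ r hrσ, Sylow.card_eq_multiplicity]
  rw [h2] at hk
  have h3 : (p + 1) * Nat.card ↥(R : Subgroup G) < 2 * p * Nat.card (PCl r G) := by
    have : (p + 1) * Nat.card ↥(R : Subgroup G) * S < 2 * p * Nat.card (PCl r G) * S := by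
      calc (p + 1) * Nat.card ↥(R : Subgroup G) * S
          = (p + 1) * (Nat.card ↥(R : Subgroup G) * S) := by ring
        _ < 2 * p * Nat.card (PiCl π G) := hk
        _ ≤ 2 * p * (Nat.card (PCl r G) * S) := Nat.mul_le_mul_left _ h1
        _ = 2 * p * Nat.card (PCl r G) * S := by ring
    exact Nat.lt_of_mul_lt_mul_right this
  have hpr : p ≤ r := hmin r hr
  by_contra hcon
  push Not at hcon
  set a := Nat.card ↥(R : Subgroup G) with ha
  set k := Nat.card (PCl r G) with hkk
  have hapos : 0 < a := Nat.card_pos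
  -- `r (p+1) a < 2 p r k ≤ p (r+1) a`
  have h4 : r * ((p + 1) * a) < p * ((r + 1) * a) := by
    calc r * ((p + 1) * a) < r * (2 * p * k) := Nat.mul_lt_mul_of_pos_left h3 hrp.pos
      _ = p * (2 * r * k) := by ring
      _ ≤ p * ((r + 1) * a) := Nat.mul_le_mul_left _ hcon
  have h5 : p * a ≤ r * a := Nat.mul_le_mul_right a hpr
  nlinarith [h4, h5]

/-- Statement S3899 (with `piPart`). -/
theorem normal_pi_complement_of_many_classes (π : Finset ℕ) (hπ : ∀ r ∈ π, r.Prime) (p : ℕ)
    (hp : p ∈ π) (hmin : ∀ r ∈ π, p ≤ r)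
    (hk : (p + 1) * piPart π (Nat.card G) < 2 * p * Nat.card (PiCl π G)) :
    (∃ N : Subgroup G, N.Normal ∧ (∀ r : ℕ, r.Prime → r ∣ Nat.card ↥N → r ∉ π) ∧
        ∀ r : ℕ, r.Prime → r ∣ N.index → r ∈ π) ∧
      ∃ H : Subgroup G, Cfsg.IsPiHall (↑π : Set ℕ) H ∧ IsMulCommutative ↥H := by
  classical
  have hloc : ∀ r ∈ π, ∃ K : Subgroup G, K.Normal ∧ ¬ r ∣ Nat.card K ∧
      (∃ j : ℕ, K.index = r ^ j) ∧ ∀ a b : G, a * b * a⁻¹ * b⁻¹ ∈ K := by
    intro r hr
    haveI : Fact r.Prime := ⟨hπ r hr⟩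
    obtain ⟨R⟩ : Nonempty (Sylow r G) := inferInstance
    have hkr := many_r_classes π hπ p hp hmin hk r hr R
    have hNC := normalizer_le_centralizer_of_many_classes R hkr
    have hcompl := MonoidHom.ker_transferSylow_isComplement' R hNC
    refine ⟨(MonoidHom.transferSylow R hNC).ker, inferInstance, ?_, ?_, ?_⟩
    · rw [← hcompl.index_eq_card]
      exact R.not_dvd_index
    · refine ⟨(Nat.card G).factorization r, ?_⟩
      rw [hcompl.symm.index_eq_card, Sylow.card_eq_multiplicity]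
    · intro a b
      rw [MonoidHom.mem_ker]
      have hcomm : ∀ u v : ↥(R : Subgroup G), u * v = v * u := by
        intro u v
        have hu : (u : G) ∈ Subgroup.centralizer ((R : Subgroup G) : Set G) :=
          hNC (Subgroup.le_normalizer u.2)
        apply Subtype.ext
        rw [Subgroup.mem_centralizer_iff] at hu
        exact (hu v v.2).symm
      simp only [map_mul, map_inv]
      rw [hcomm ((MonoidHom.transferSylow R hNC) a) ((MonoidHom.transferSylow R hNC) b)]
      group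
  choose! K hK using hloc
  let N : Subgroup G := ⨅ r : π, K r
  haveI hNn : N.Normal := Subgroup.normal_iInf_normal (fun r => (hK r r.2).1)
  have hNle : ∀ r ∈ π, N ≤ K r := fun r hr => iInf_le (fun r : π => K r) ⟨r, hr⟩
  have hN1 : ∀ q : ℕ, q.Prime → q ∣ Nat.card N → q ∉ π := by
    intro q hq hdvd hqπ
    exact (hK q hqπ).2.1 (hdvd.trans (Subgroup.card_dvd_of_le (hNle q hqπ)))
  have hN3 : ∀ a b : G, a * b * a⁻¹ * b⁻¹ ∈ N := by
    intro a b
    rw [Subgroup.mem_iInf]
    intro r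
    exact (hK r r.2).2.2.2 a b
  have hN2 : ∀ q : ℕ, q.Prime → q ∣ N.index → q ∈ π := by
    intro q hq hdvd
    haveI : Fact q.Prime := ⟨hq⟩
    set M := π.prod (fun r => (K r).index) with hM
    have hpow : ∀ g : G, g ^ M ∈ N := by
      intro g
      rw [Subgroup.mem_iInf]
      intro r
      haveI := (hK r r.2).1
      obtain ⟨c, hc⟩ : (K r).index ∣ M := Finset.dvd_prod_of_mem _ r.2
      rw [hc, pow_mul]
      exact Subgroup.pow_mem _ (Subgroup.pow_index_mem (K r) g) c
    have hcard : Nat.card (G ⧸ N) = N.index := (Subgroup.index_eq_card N).symm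
    obtain ⟨x, hx⟩ := exists_prime_orderOf_dvd_card' (G := G ⧸ N) q (by rw [hcard]; exact hdvd)
    obtain ⟨g, rfl⟩ := QuotientGroup.mk_surjective x
    have h1 : ((g : G ⧸ N)) ^ M = 1 := by
      rw [← QuotientGroup.mk_pow, QuotientGroup.eq_one_iff]
      exact hpow g
    have h2 : q ∣ M := hx ▸ orderOf_dvd_of_pow_eq_one h1
    obtain ⟨r, hr, hqr⟩ := (Prime.dvd_finsetProd_iff hq.prime _).mp h2
    obtain ⟨j, hj⟩ := (hK r hr).2.2.1
    rw [hj] at hqr
    have := (Nat.prime_dvd_prime_iff_eq hq (hπ r hr)).mp (hq.dvd_of_dvd_pow hqr)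
    rw [this]; exact hr
  refine ⟨⟨N, hNn, hN1, hN2⟩, ?_⟩
  have hcop : Nat.Coprime (Nat.card N) N.index :=
    Nat.Coprime.symm (Nat.coprime_of_dvd (fun q hq h1 h2 => hN1 q hq h2 (hN2 q hq h1)))
  obtain ⟨H, hH⟩ := Subgroup.exists_right_complement'_of_coprime hcop
  refine ⟨H, ⟨?_, ?_⟩, ⟨⟨fun a b => ?_⟩⟩⟩
  · intro q hq hdvd
    rw [Finset.mem_coe]
    apply hN2 q hq
    rw [hH.symm.index_eq_card]
    exact hdvd
  · intro q hq hqπ hdvd
    rw [Finset.mem_coe] at hqπ
    rw [hH.index_eq_card] at hdvd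
    exact hN1 q hq hdvd hqπ
  · have h1 : (a : G) * (b : G) * (a : G)⁻¹ * (b : G)⁻¹ ∈ N := hN3 a b
    have h2 : (a : G) * (b : G) * (a : G)⁻¹ * (b : G)⁻¹ ∈ H :=
      H.mul_mem (H.mul_mem (H.mul_mem a.2 b.2) (H.inv_mem a.2)) (H.inv_mem b.2)
    have h3 : (a : G) * (b : G) * (a : G)⁻¹ * (b : G)⁻¹ = 1 := by
      have := hH.disjoint
      rw [Subgroup.disjoint_def] at this
      exact this h1 h2
    apply Subtype.ext
    change (a : G) * (b : G) = (b : G) * (a : G)
    calc (a : G) * (b : G) = ((a : G) * (b : G) * (a : G)⁻¹ * (b : G)⁻¹) * ((b : G) * (a : G)) := by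
          group
      _ = (b : G) * (a : G) := by rw [h3, one_mul]

end Main

end Cfsg.Agent.Helper60.PClassCount
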