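import Mathlib
import Cfsg.Agent.Helper1.CoprimeSylow

set_option autoImplicit false

namespace Cfsg.Agent.Helper60.PiTwo

variable {G : Type*} [Group G] [Finite G]

/-- In a finite group a one-sided conjugation condition gives membership in the normalizer. -/
theorem mem_normalizer_of_conj_mem (R : Subgroup G) (t : G) (h : ∀ v ∈ R, t * v * t⁻¹ ∈ R) :
    t ∈ Subgroup.normalizer (R : Set G) := by
  have hpow : ∀ (j : ℕ) (v : G), v ∈ R → t ^ j * v * (t ^ j)⁻¹ ∈ R := by
    intro j
    induction j with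
    | zero => intro v hv; simpa using hv
    | succ j ih =>
      intro v hv
      have := h _ (ih v hv)
      have e : t ^ (j + 1) * v * (t ^ (j + 1))⁻¹ = t * (t ^ j * v * (t ^ j)⁻¹) * t⁻¹ := by
        rw [pow_succ']; group
      rw [e]; exact this
  rw [Subgroup.mem_normalizer_iff]
  intro v
  refine ⟨h v, fun hv => ?_⟩
  have hk : t ^ (orderOf t - 1) = t⁻¹ := by
    apply eq_inv_of_mul_eq_one_left
    rw [← pow_succ, Nat.sub_add_cancel (orderOf_pos t), pow_orderOf_eq_one]
  have := hpow (orderOf t - 1) _ hv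
  rw [hk] at this
  have e : t⁻¹ * (t * v * t⁻¹) * t⁻¹⁻¹ = v := by group
  rwa [e] at this

/-- A `2`-element normalizing a Sylow `r`-subgroup `R₁` of the odd-order normal subgroup `M` and
centralizing another one centralizes `R₁` (Glauberman's conjugacy of invariant Sylow subgroups). -/
theorem centralizes_of_normalizes (M : Subgroup G) [M.Normal] (hModd : Odd (Nat.card M))
    (r : ℕ) [Fact r.Prime] (R₁ R₂ : Subgroup G) (h₁ : R₁ ≤ M) (h₂ : R₂ ≤ M)
    (hc₁ : Nat.card R₁ = r ^ (Nat.card M).factorization r)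
    (hc₂ : Nat.card R₂ = r ^ (Nat.card M).factorization r)
    (t : G) (ht : ∃ k : ℕ, orderOf t = 2 ^ k) (hn : ∀ v ∈ R₁, t * v * t⁻¹ ∈ R₁)
    (hcent : ∀ v ∈ R₂, t * v = v * t) : ∀ v ∈ R₁, t * v = v * t := by
  obtain ⟨k, hk⟩ := ht
  set A : Subgroup G := Subgroup.zpowers t with hA
  have hAK : A ≤ Subgroup.normalizer (M : Set G) := by
    rw [Subgroup.normalizer_eq_top]; exact le_top
  have hcop : (Nat.card A).Coprime (Nat.card M) := by
    rw [hA, Nat.card_zpowers, hk]
    exact Nat.Coprime.pow_left k (Nat.coprime_two_left.mpr hModd)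
  have hsolv : Group.IsSolvable A ∨ Group.IsSolvable M := Or.inl inferInstance
  have hcard : ∀ R : Subgroup G, R ≤ M → Nat.card (R.subgroupOf M) = Nat.card R := fun R hR =>
    Nat.card_congr (Subgroup.subgroupOfEquivOfLe hR).toEquiv
  let P₁ : Sylow r M := Sylow.ofCard (R₁.subgroupOf M) (by rw [hcard R₁ h₁, hc₁])
  let P₂ : Sylow r M := Sylow.ofCard (R₂.subgroupOf M) (by rw [hcard R₂ h₂, hc₂])
  have e₁ : (P₁ : Subgroup M).map M.subtype = R₁ := by
    rw [Sylow.coe_ofCard, Subgroup.subgroupOf_map_subtype, inf_of_le_left h₁]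
  have e₂ : (P₂ : Subgroup M).map M.subtype = R₂ := by
    rw [Sylow.coe_ofCard, Subgroup.subgroupOf_map_subtype, inf_of_le_left h₂]
  have hP₁ : A ≤ Subgroup.normalizer ((P₁ : Subgroup M).map M.subtype : Set G) := by
    rw [e₁, hA, Subgroup.zpowers_le]
    exact mem_normalizer_of_conj_mem R₁ t hn
  have hP₂ : A ≤ Subgroup.normalizer ((P₂ : Subgroup M).map M.subtype : Set G) := by
    rw [e₂, hA, Subgroup.zpowers_le]
    apply mem_normalizer_of_conj_mem R₂ t
    intro v hv
    rw [hcent v hv]; simpa using hv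
  obtain ⟨c, hc, hconj⟩ := Cfsg.Agent.Helper1.invariant_sylow_conj A M hAK hcop hsolv r P₁ P₂ hP₁ hP₂
  rw [e₁, e₂] at hconj
  have hct : c * t = t * c := by
    have := (Subgroup.mem_inf.mp hc).2
    rw [Subgroup.mem_centralizer_iff] at this
    exact (this t (Subgroup.mem_zpowers t)).symm
  intro v hv
  have hcv : c * v * c⁻¹ ∈ R₂ := by
    rw [← hconj]
    have : c * v * c⁻¹ = MulAut.conj c • v := by rw [MulAut.smul_def, MulAut.conj_apply]
    rw [this, Subgroup.smul_mem_pointwise_smul_iff]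
    exact hv
  have h3 := hcent _ hcv
  -- t (c v c⁻¹) = (c v c⁻¹) t, and c commutes with t
  have h4 : c * (t * v) * c⁻¹ = c * (v * t) * c⁻¹ := by
    calc c * (t * v) * c⁻¹ = (c * t) * v * c⁻¹ := by group
      _ = (t * c) * v * c⁻¹ := by rw [hct]
      _ = t * (c * v * c⁻¹) := by group
      _ = (c * v * c⁻¹) * t := h3
      _ = c * v * (c⁻¹ * t) := by group
      _ = c * v * (t * c⁻¹) := by
          have : c⁻¹ * t = t * c⁻¹ := by
            calc c⁻¹ * t = c⁻¹ * (t * c) * c⁻¹ := by group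
              _ = c⁻¹ * (c * t) * c⁻¹ := by rw [hct]
              _ = t * c⁻¹ := by group
          rw [this]
      _ = c * (v * t) * c⁻¹ := by group
  exact mul_left_cancel (mul_right_cancel h4)

end Cfsg.Agent.Helper60.PiTwo
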