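import Mathlib
import Cfsg.Agent.Helper60.PClassCount
import Cfsg.Agent.Helper78.Frobenius

set_option autoImplicit false

namespace Cfsg.Agent.Helper60.TwoClassCount

open Cfsg.Agent.Helper60.PClassCount

/-- Counting lemma: `f : X → T` surjective, constant on the orbits of an injective `σ` all of whose
non-fixed points have `σ (σ y) ≠ y`: then `3 |T| ≤ |X| + 2 |Fix σ|`. -/
theorem three_mul_card_le {X T : Type*} [Finite X] (f : X → T) (hf : Function.Surjective f)
    (σ : X → X) (hσ : ∀ y, f (σ y) = f y) (hinj : Function.Injective σ)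
    (h2 : ∀ y, σ (σ y) = y → σ y = y) :
    3 * Nat.card T ≤ Nat.card X + 2 * Nat.card {y : X // σ y = y} := by
  classical
  have : Finite T := Finite.of_surjective f hf
  haveI : Fintype X := Fintype.ofFinite X
  haveI : Fintype T := Fintype.ofFinite T
  rw [Nat.card_eq_fintype_card, Nat.card_eq_fintype_card, Nat.card_eq_fintype_card,
    Fintype.card_subtype]
  have e1 : Fintype.card X = ∑ t : T, (Finset.univ.filter (fun y : X => f y = t)).card := by
    rw [← Finset.card_univ]
    exact Finset.card_eq_sum_card_fiberwise (fun x _ => Finset.mem_univ (f x))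
  have e2 : (Finset.univ.filter (fun y : X => σ y = y)).card =
      ∑ t : T, ((Finset.univ.filter (fun y : X => σ y = y)).filter (fun y : X => f y = t)).card :=
    Finset.card_eq_sum_card_fiberwise (fun x _ => Finset.mem_univ (f x))
  have e3 : 3 * Fintype.card T = ∑ _t : T, 3 := by
    rw [Finset.sum_const, Finset.card_univ, smul_eq_mul, mul_comm]
  rw [e1, e2, e3, Finset.mul_sum, ← Finset.sum_add_distrib]
  apply Finset.sum_le_sum
  intro t _
  obtain ⟨y, hy⟩ := hf t
  by_cases hfix : σ y = y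
  · have m1 : y ∈ Finset.univ.filter (fun y : X => f y = t) := by simp [hy]
    have m2 : y ∈ (Finset.univ.filter (fun y : X => σ y = y)).filter (fun y : X => f y = t) := by
      simp [hy, hfix]
    have c1 := Finset.card_pos.mpr ⟨y, m1⟩
    have c2 := Finset.card_pos.mpr ⟨y, m2⟩
    omega
  · have hsub : ({y, σ y, σ (σ y)} : Finset X) ⊆ Finset.univ.filter (fun y : X => f y = t) := by
      intro z hz
      simp only [Finset.mem_insert, Finset.mem_singleton] at hz
      rcases hz with rfl | rfl | rfl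
      · simp [hy]
      · simp [hσ, hy]
      · simp [hσ, hy]
    have hcard : ({y, σ y, σ (σ y)} : Finset X).card = 3 := by
      rw [Finset.card_insert_of_notMem, Finset.card_insert_of_notMem, Finset.card_singleton]
      · simp only [Finset.mem_singleton]
        intro h
        exact hfix (hinj h).symm
      · simp only [Finset.mem_insert, Finset.mem_singleton, not_or]
        exact ⟨fun h => hfix h.symm, fun h => hfix (h2 y h.symm)⟩
    have := Finset.card_le_card hsub
    omega

/-- An odd-order element acting nontrivially on a `2`-group `Q` has `|Q : C_Q(x)| ≥ 4`. -/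
theorem four_mul_card_fix_le {G : Type*} [Group G] [Finite G] (Q : Subgroup G) (hQ : IsPGroup 2 Q)
    (x : G) (hx : ∀ y ∈ Q, x * y * x⁻¹ ∈ Q) (hodd : Odd (orderOf x))
    (hne : ∃ y ∈ Q, x * y * x⁻¹ ≠ y) :
    4 * Nat.card ((Subgroup.centralizer ({x} : Set G)).subgroupOf Q) ≤ Nat.card Q := by
  have : Fact (Nat.Prime 2) := ⟨Nat.prime_two⟩
  set C : Subgroup Q := (Subgroup.centralizer ({x} : Set G)).subgroupOf Q with hC
  have memC : ∀ z : Q, z ∈ C ↔ x * (z : G) = (z : G) * x := by
    intro z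
    rw [hC, Subgroup.mem_subgroupOf, Subgroup.mem_centralizer_iff]
    constructor
    · intro h; exact h x rfl
    · intro h g hg
      rw [Set.mem_singleton_iff] at hg
      rw [hg]; exact h
  obtain ⟨y, hy, hyne⟩ := hne
  have hynC : (⟨y, hy⟩ : Q) ∉ C := by
    rw [memC]
    intro h
    apply hyne
    change x * y = y * x at h
    rw [h]; group
  obtain ⟨j, hj⟩ := hQ.index C
  have hmul : Nat.card C * C.index = Nat.card Q := Subgroup.card_mul_index C
  rw [hj] at hmul
  have hj2 : 2 ≤ j := by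
    by_contra hlt
    push Not at hlt
    interval_cases j
    · apply hynC
      have : C = ⊤ := by rw [← Subgroup.index_eq_one]; simpa using hj
      rw [this]; trivial
    · have hidx : C.index = 2 := by simpa using hj
      have hsynC : (⟨x * y * x⁻¹, hx y hy⟩ : Q) ∉ C := by
        rw [memC]
        intro h
        apply hyne
        change x * (x * y * x⁻¹) = x * y * x⁻¹ * x at h
        have h' : x * (x * y * x⁻¹) = x * y := by rw [h]; group
        exact mul_left_cancel h'
      have hc : (⟨y, hy⟩ : Q)⁻¹ * ⟨x * y * x⁻¹, hx y hy⟩ ∈ C := by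
        rw [Subgroup.mul_mem_iff_of_index_two hidx, inv_mem_iff]
        exact ⟨fun h => absurd h hynC, fun h => absurd h hsynC⟩
      rw [memC] at hc
      set c : G := y⁻¹ * (x * y * x⁻¹) with hcdef
      have hcQ : c ∈ Q := Q.mul_mem (Q.inv_mem hy) (hx y hy)
      have hcx : x * c = c * x := by simpa using hc
      have hxy : x * y * x⁻¹ = y * c := by rw [hcdef]; group
      have hcpow : ∀ k : ℕ, x * c ^ k * x⁻¹ = c ^ k := by
        intro k
        have : Commute x (c ^ k) := Commute.pow_right hcx k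
        rw [this.eq]; group
      have hpow : ∀ k : ℕ, x ^ k * y * (x ^ k)⁻¹ = y * c ^ k := by
        intro k
        induction k with
        | zero => simp
        | succ k ih =>
          calc x ^ (k + 1) * y * (x ^ (k + 1))⁻¹
              = x * (x ^ k * y * (x ^ k)⁻¹) * x⁻¹ := by rw [pow_succ']; group
            _ = x * (y * c ^ k) * x⁻¹ := by rw [ih]
            _ = (x * y * x⁻¹) * (x * c ^ k * x⁻¹) := by group
            _ = y * c * c ^ k := by rw [hxy, hcpow]
            _ = y * c ^ (k + 1) := by rw [pow_succ']; group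
      have h1 := hpow (orderOf x)
      rw [pow_orderOf_eq_one] at h1
      have hcm : c ^ orderOf x = 1 := by
        have : y * 1 = y * c ^ orderOf x := by simpa using h1
        exact (mul_left_cancel this).symm
      obtain ⟨i, hi⟩ := hQ ⟨c, hcQ⟩
      have hci : c ^ 2 ^ i = 1 := by
        have := congrArg Subtype.val hi
        simpa using this
      have hcop : Nat.Coprime (2 ^ i) (orderOf x) :=
        Nat.Coprime.pow_left i (Nat.coprime_two_left.mpr hodd)
      have hc1 : c = 1 := by
        have := pow_gcd_eq_one.mpr ⟨hci, hcm⟩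
        rw [hcop.gcd_eq_one, pow_one] at this
        exact this
      apply hyne
      rw [hxy, hc1, mul_one]
  calc 4 * Nat.card C = Nat.card C * 2 ^ 2 := by ring
    _ ≤ Nat.card C * 2 ^ j := Nat.mul_le_mul_left _ (Nat.pow_le_pow_right (by norm_num) hj2)
    _ = Nat.card Q := hmul

/-- Frattini + odd part: an odd-order element outside a normal subgroup `K` can be replaced by an
odd-order element outside `K` normalizing a given Sylow `2`-subgroup of `K`. -/
theorem exists_odd_normalizing {H : Type*} [Group H] [Finite H] (K : Subgroup H) [K.Normal]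
    (S : Sylow 2 K) (g : H) (hg : Odd (orderOf g)) (hgK : g ∉ K) :
    ∃ x : H, Odd (orderOf x) ∧ x ∉ K ∧
      x ∈ Subgroup.normalizer (((S : Subgroup K).map K.subtype : Subgroup H) : Set H) := by
  have : Fact (Nat.Prime 2) := ⟨Nat.prime_two⟩
  have hF := Sylow.normalizer_sup_eq_top S
  have hgtop : g ∈ Subgroup.normalizer (((S : Subgroup K).map K.subtype : Subgroup H) : Set H) ⊔ K := by
    rw [hF]; trivial
  obtain ⟨n, hn, c, hc, hnc⟩ := Subgroup.mem_sup_of_normal_right.mp hgtop
  obtain ⟨a, m, hm, hnm⟩ := Nat.exists_eq_two_pow_mul_odd (orderOf_pos n).ne'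
  refine ⟨n ^ 2 ^ a, ?_, ?_, Subgroup.pow_mem _ hn _⟩
  · have hdvd : orderOf (n ^ 2 ^ a) ∣ m := by
      apply orderOf_dvd_of_pow_eq_one
      rw [← pow_mul, ← hnm, pow_orderOf_eq_one]
    exact Odd.of_dvd_nat hm hdvd
  · intro hxK
    apply hgK
    have hq : (QuotientGroup.mk g : H ⧸ K) = QuotientGroup.mk n := by
      rw [← hnc, QuotientGroup.mk_mul, (QuotientGroup.eq_one_iff c).mpr hc, mul_one]
    have h1 : (QuotientGroup.mk g : H ⧸ K) ^ 2 ^ a = 1 := by
      rw [hq, ← QuotientGroup.mk_pow]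
      exact (QuotientGroup.eq_one_iff _).mpr hxK
    have h2 : (QuotientGroup.mk g : H ⧸ K) ^ orderOf g = 1 := by
      rw [← QuotientGroup.mk_pow, pow_orderOf_eq_one]; rfl
    have hcop : Nat.Coprime (2 ^ a) (orderOf g) :=
      Nat.Coprime.pow_left a (Nat.coprime_two_left.mpr hg)
    have := pow_gcd_eq_one.mpr ⟨h1, h2⟩
    rw [hcop.gcd_eq_one, pow_one] at this
    exact (QuotientGroup.eq_one_iff g).mp this

/-- The "centric" reduction: a failure of the Frobenius condition can be moved to a subgroup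
`Q₁` of a Sylow `2`-subgroup `P` containing `Z(P)`. -/
theorem exists_centric_pair {G : Type*} [Group G] [Finite G] (Q : Subgroup G) (hQ : IsPGroup 2 Q)
    (g : G) (hgN : g ∈ Subgroup.normalizer (Q : Set G)) (hodd : Odd (orderOf g))
    (hgC : g ∉ Subgroup.centralizer (Q : Set G)) :
    ∃ (P : Sylow 2 G) (Q₁ : Subgroup G) (x : G), Q₁ ≤ (P : Subgroup G) ∧
      (∀ z ∈ (P : Subgroup G), (∀ y ∈ (P : Subgroup G), z * y = y * z) → z ∈ Q₁) ∧
      (∀ y ∈ Q₁, x * y * x⁻¹ ∈ Q₁) ∧ Odd (orderOf x) ∧ ∃ y ∈ Q₁, x * y * x⁻¹ ≠ y := by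
  have : Fact (Nat.Prime 2) := ⟨Nat.prime_two⟩
  set N : Subgroup G := Subgroup.normalizer (Q : Set G) with hN
  set C : Subgroup G := Subgroup.centralizer (Q : Set G) with hC
  have hCN : C ≤ N := Subgroup.centralizer_le_normalizer _
  let K : Subgroup N := C.subgroupOf N
  have hKn : K.Normal := Subgroup.normal_subgroupOf_centralizer_normalizer (Q : Set G)
  let S : Sylow 2 K := default
  let g' : N := ⟨g, hgN⟩
  have hg'odd : Odd (orderOf g') := by
    rw [Subgroup.orderOf_mk]; exact hodd
  have hg'K : g' ∉ K := by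
    rw [Subgroup.mem_subgroupOf]; exact hgC
  obtain ⟨x', hx'odd, hx'K, hx'norm⟩ := exists_odd_normalizing K S g' hg'odd hg'K
  let SG : Subgroup G := ((S : Subgroup K).map K.subtype).map N.subtype
  have hSG2 : IsPGroup 2 SG := (S.2.map _).map _
  have hSGmem : ∀ s : K, s ∈ (S : Subgroup K) → (((s : K) : N) : G) ∈ SG :=
    fun s hs => ⟨_, ⟨s, hs, rfl⟩, rfl⟩
  have hSGC : SG ≤ C := by
    rintro _ ⟨_, ⟨s, -, rfl⟩, rfl⟩
    exact Subgroup.mem_subgroupOf.mp s.2
  have hSGN : SG ≤ N := hSGC.trans hCN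
  have hsup2 : IsPGroup 2 (Q ⊔ SG : Subgroup G) := IsPGroup.to_sup_of_normal_left' hQ hSG2 hSGN
  obtain ⟨P, hP⟩ := hsup2.exists_le_sylow
  refine ⟨P, Q ⊔ SG, (x' : G), hP, ?_, ?_, ?_, ?_⟩
  · intro z hzP hzc
    have hzC : z ∈ C := by
      rw [hC, Subgroup.mem_centralizer_iff]
      intro y hy
      exact (hzc y (hP (Subgroup.mem_sup_left hy))).symm
    have hzN : z ∈ N := hCN hzC
    let z' : K := ⟨⟨z, hzN⟩, Subgroup.mem_subgroupOf.mpr hzC⟩
    let R : Subgroup K := ((P : Subgroup G).subgroupOf N).subgroupOf K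
    have hR2 : IsPGroup 2 R := (P.2.comap_subtype).comap_subtype
    have hSR : (S : Subgroup K) ≤ R := by
      intro s hs
      rw [Subgroup.mem_subgroupOf, Subgroup.mem_subgroupOf]
      exact hP (Subgroup.mem_sup_right (hSGmem s hs))
    have hRS : R = S := S.is_maximal' hR2 hSR
    have hz'R : z' ∈ R := by
      rw [Subgroup.mem_subgroupOf, Subgroup.mem_subgroupOf]
      exact hzP
    rw [hRS] at hz'R
    exact Subgroup.mem_sup_right (hSGmem z' hz'R)
  · have hxQ : Q.map (MulAut.conj (x' : G)).toMonoidHom ≤ Q := by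
      rintro _ ⟨y, hy, rfl⟩
      have := (Subgroup.mem_normalizer_iff.mp x'.2 y).mp hy
      simpa [MulAut.conj_apply] using this
    have hxS : SG.map (MulAut.conj (x' : G)).toMonoidHom ≤ SG := by
      rintro _ ⟨_, ⟨_, ⟨s, hs, rfl⟩, rfl⟩, rfl⟩
      have := (Subgroup.mem_normalizer_iff.mp hx'norm (s : N)).mp ⟨s, hs, rfl⟩
      obtain ⟨s2, hs2, h⟩ := this
      have h' := congrArg Subtype.val h
      refine ⟨_, ⟨s2, hs2, rfl⟩, ?_⟩
      simp only [MulEquiv.coe_toMonoidHom, MulAut.conj_apply]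
      change ((K.subtype s2 : N) : G) = _
      rw [h']
      rfl
    intro y hy
    have hmap : (Q ⊔ SG).map (MulAut.conj (x' : G)).toMonoidHom ≤ Q ⊔ SG := by
      rw [Subgroup.map_sup]
      exact sup_le_sup hxQ hxS
    have := hmap ⟨y, hy, rfl⟩
    simpa [MulAut.conj_apply] using this
  · rw [Subgroup.orderOf_coe]; exact hx'odd
  · by_contra hall
    push Not at hall
    apply hx'K
    rw [Subgroup.mem_subgroupOf, hC, Subgroup.mem_centralizer_iff]
    intro y hy
    have := hall y (Subgroup.mem_sup_left hy)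
    calc y * (x' : G) = ((x' : G) * y * (x' : G)⁻¹) * (x' : G) := by rw [this]
      _ = (x' : G) * y := by group

variable {G : Type*} [Group G] [Finite G]

/-- The count: a subgroup `Q₁ ⊇ Z(P)` of the Sylow `2`-subgroup `P` with a nontrivial odd-order
automizing element forces `2 k₂(G) ≤ |P|`. -/
theorem two_mul_card_pcl_le [Fact (Nat.Prime 2)] (P : Sylow 2 G) (Q₁ : Subgroup G) (x : G)
    (hQP : Q₁ ≤ (P : Subgroup G))
    (hZ : ∀ z ∈ (P : Subgroup G), (∀ y ∈ (P : Subgroup G), z * y = y * z) → z ∈ Q₁)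
    (hx : ∀ y ∈ Q₁, x * y * x⁻¹ ∈ Q₁) (hodd : Odd (orderOf x))
    (hne : ∃ y ∈ Q₁, x * y * x⁻¹ ≠ y) :
    2 * Nat.card (PCl 2 G) ≤ Nat.card ↥(P : Subgroup G) := by
  classical
  let f : ↥(P : Subgroup G) → PCl 2 G := toPCl P
  let pA : PCl 2 G → Prop := fun t => ∃ y : Q₁, f ⟨y, hQP y.2⟩ = t
  have hsplit : Nat.card (PCl 2 G) = Nat.card {t // pA t} + Nat.card {t // ¬ pA t} := by
    rw [← Nat.card_sum]
    exact Nat.card_congr (Equiv.sumCompl pA).symm
  -- part A
  let fA : Q₁ → {t // pA t} := fun y => ⟨f ⟨y, hQP y.2⟩, ⟨y, rfl⟩⟩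
  have hfA : Function.Surjective fA := by
    rintro ⟨t, ⟨y, hy⟩⟩
    exact ⟨y, Subtype.ext hy⟩
  let σA : Q₁ → Q₁ := fun y => ⟨x * y * x⁻¹, hx y y.2⟩
  have hσA : ∀ y, fA (σA y) = fA y := by
    intro y
    apply Subtype.ext
    change toPCl P _ = toPCl P _
    rw [toPCl_eq_iff]
    exact isConj_iff.mpr ⟨x⁻¹, by simp only [σA]; group⟩
  have hσAinj : Function.Injective σA := by
    intro y y' h
    have h1 : x * (y : G) * x⁻¹ = x * (y' : G) * x⁻¹ := congrArg Subtype.val h
    exact Subtype.ext (mul_left_cancel (mul_right_cancel h1))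
  have hσA2 : ∀ y, σA (σA y) = y → σA y = y := by
    intro y h
    have h1 : x * (x * (y : G) * x⁻¹) * x⁻¹ = (y : G) := congrArg Subtype.val h
    have hc2 : Commute (x ^ 2) (y : G) := by
      change x ^ 2 * (y : G) = (y : G) * x ^ 2
      calc x ^ 2 * (y : G) = (x * (x * (y : G) * x⁻¹) * x⁻¹) * x ^ 2 := by
            rw [pow_two]; group
        _ = (y : G) * x ^ 2 := by rw [h1]
    obtain ⟨k, hk⟩ := hodd
    have hx1 : (x ^ 2) ^ (k + 1) = x := by
      rw [← pow_mul]
      have : 2 * (k + 1) = orderOf x + 1 := by omega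
      rw [this, pow_succ, pow_orderOf_eq_one, one_mul]
    have hc : Commute x (y : G) := by
      have := hc2.pow_left (k + 1)
      rwa [hx1] at this
    apply Subtype.ext
    change x * (y : G) * x⁻¹ = (y : G)
    rw [hc.eq]; group
  have hA := three_mul_card_le fA hfA σA hσA hσAinj hσA2
  have hCfix : Nat.card {y : Q₁ // σA y = y} =
      Nat.card ((Subgroup.centralizer ({x} : Set G)).subgroupOf Q₁) := by
    refine Nat.card_congr (Equiv.subtypeEquivRight (fun y => ?_))
    rw [Subgroup.mem_subgroupOf, Subgroup.mem_centralizer_iff]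
    constructor
    · intro h z hz
      rw [Set.mem_singleton_iff] at hz
      have h1 : x * (y : G) * x⁻¹ = (y : G) := congrArg Subtype.val h
      rw [hz]
      calc x * (y : G) = (x * (y : G) * x⁻¹) * x := by group
        _ = (y : G) * x := by rw [h1]
    · intro h
      apply Subtype.ext
      change x * (y : G) * x⁻¹ = (y : G)
      rw [h x rfl]; group
  have hQ₁2 : IsPGroup 2 Q₁ := P.2.to_le hQP
  have hC4 := four_mul_card_fix_le Q₁ hQ₁2 x hx hodd hne
  have hA' : 3 * Nat.card {t // pA t} ≤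
      Nat.card Q₁ + 2 * Nat.card ((Subgroup.centralizer ({x} : Set G)).subgroupOf Q₁) := by
    rw [← hCfix]; exact hA
  -- part B
  let XB : Type _ := {y : ↥(P : Subgroup G) // ¬ pA (f y)}
  let fB : XB → {t // ¬ pA t} := fun y => ⟨f y.1, y.2⟩
  have hfB : Function.Surjective fB := by
    rintro ⟨t, ht⟩
    obtain ⟨y, hy⟩ := toPCl_surjective P t
    exact ⟨⟨y, by change ¬ pA (toPCl P y); rw [hy]; exact ht⟩, Subtype.ext hy⟩
  have hXBnot : ∀ y : XB, ((y.1 : ↥(P : Subgroup G)) : G) ∉ Q₁ := by
    intro y hyQ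
    exact y.2 ⟨⟨_, hyQ⟩, rfl⟩
  have hXBu : ∀ y : XB, ∃ u : ↥(P : Subgroup G), (u : G) * (y.1 : G) * (u : G)⁻¹ ≠ (y.1 : G) := by
    intro y
    by_contra hall
    push Not at hall
    apply hXBnot y
    apply hZ _ y.1.2
    intro w hw
    have := hall ⟨w, hw⟩
    calc (y.1 : G) * w = w * (w⁻¹ * (y.1 : G) * w) := by group
      _ = w * (y.1 : G) := by
          have h3 : w⁻¹ * (y.1 : G) * w = (y.1 : G) := by
            calc w⁻¹ * (y.1 : G) * w = w⁻¹ * (w * (y.1 : G) * w⁻¹) * w := by rw [this]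
              _ = (y.1 : G) := by group
          rw [h3]
  choose u hu using hXBu
  have hconjf : ∀ y : XB, f ⟨(u y : G) * (y.1 : G) * (u y : G)⁻¹,
      Subgroup.mul_mem _ (Subgroup.mul_mem _ (u y).2 y.1.2) (Subgroup.inv_mem _ (u y).2)⟩ = f y.1 := by
    intro y
    change toPCl P _ = toPCl P _
    rw [toPCl_eq_iff]
    exact isConj_iff.mpr ⟨(u y : G)⁻¹, by group⟩
  let τ : XB → XB := fun y => ⟨⟨(u y : G) * (y.1 : G) * (u y : G)⁻¹,
      Subgroup.mul_mem _ (Subgroup.mul_mem _ (u y).2 y.1.2) (Subgroup.inv_mem _ (u y).2)⟩, by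
        rw [hconjf y]; exact y.2⟩
  have hτ : ∀ y, fB (τ y) = fB y := by
    intro y
    apply Subtype.ext
    exact hconjf y
  have hB := two_mul_card_le fB hfB τ hτ
  have hfixB : Nat.card {y : XB // τ y = y} = 0 := by
    have : IsEmpty {y : XB // τ y = y} := ⟨fun ⟨y, h⟩ => by
      apply hu y
      have := congrArg (fun z : XB => ((z.1 : ↥(P : Subgroup G)) : G)) h
      exact this⟩
    exact Nat.card_of_isEmpty
  rw [hfixB, add_zero] at hB
  have hXB : Nat.card XB + Nat.card Q₁ ≤ Nat.card ↥(P : Subgroup G) := by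
    rw [← Nat.card_sum]
    let ι : XB ⊕ Q₁ → ↥(P : Subgroup G) := Sum.elim (fun y => y.1) (fun y => ⟨y, hQP y.2⟩)
    apply Nat.card_le_card_of_injective ι
    rintro (a | a) (b | b) h
    · simp only [ι, Sum.elim_inl] at h
      rw [Subtype.ext h]
    · exfalso
      simp only [ι, Sum.elim_inl, Sum.elim_inr] at h
      apply hXBnot a
      rw [h]; exact b.2
    · exfalso
      simp only [ι, Sum.elim_inl, Sum.elim_inr] at h
      apply hXBnot b
      rw [← h]; exact a.2
    · simp only [ι, Sum.elim_inr] at h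
      have h' : (a : G) = (b : G) := congrArg (fun z : ↥(P : Subgroup G) => (z : G)) h
      rw [Subtype.ext h']
  omega

/-- Statement S3895: `k₂(G) > |P|/2` iff `G` is `2`-nilpotent and `k(P) > |P|/2`. -/
theorem many_two_classes_iff [Fact (Nat.Prime 2)] (P : Sylow 2 G) :
    Nat.card ↥(P : Subgroup G) < 2 * Nat.card (PCl 2 G) ↔
      Cfsg.HasNormalPComplement 2 G ∧
        Nat.card ↥(P : Subgroup G) < 2 * Nat.card (ConjClasses ↥(P : Subgroup G)) := by
  constructor
  · intro hk
    refine ⟨?_, lt_of_lt_of_le hk (Nat.mul_le_mul_left 2 (card_pcl_le P))⟩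
    by_contra hnot
    have h1 : ¬ ∃ N : Subgroup G, N.Normal ∧ N.IsComplement' (P : Subgroup G) :=
      fun ⟨N, hN⟩ => hnot ⟨P, N, hN⟩
    rw [Cfsg.Agent.Helper78.frobenius_normal_pComplement_iff P] at h1
    push Not at h1
    obtain ⟨Q, hQP, g, hgN, hgcop, hgC⟩ := h1
    obtain ⟨P', Q₁, x, h1, h2, h3, h4, h5⟩ :=
      exists_centric_pair Q (P.2.to_le hQP) g hgN (Nat.coprime_two_right.mp hgcop) hgC
    have h6 := two_mul_card_pcl_le P' Q₁ x h1 h2 h3 h4 h5
    have hcard : Nat.card ↥(P : Subgroup G) = Nat.card ↥(P' : Subgroup G) := by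
      rw [Sylow.card_eq_multiplicity, Sylow.card_eq_multiplicity]
    omega
  · rintro ⟨⟨P', N, hNn, hcompl⟩, hk⟩
    have hp : (2 : ℕ).Prime := Nat.prime_two
    have hcardP : Nat.card ↥(P : Subgroup G) = Nat.card ↥(P' : Subgroup G) := by
      rw [Sylow.card_eq_multiplicity, Sylow.card_eq_multiplicity]
    have h1 : Nat.card N * Nat.card ↥(P : Subgroup G) = Nat.card G := by
      rw [hcardP]; exact hcompl.card_mul_card
    have hcop : (Nat.card N).Coprime (Nat.card ↥(P : Subgroup G)) := by
      rw [Sylow.card_eq_multiplicity]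
      apply Nat.Coprime.pow_right
      rw [Nat.coprime_comm, Nat.Prime.coprime_iff_not_dvd hp]
      intro hdvd
      have h2 : ¬ 2 ∣ (P' : Subgroup G).index := P'.not_dvd_index
      rw [hcompl.index_eq_card] at h2
      exact h2 hdvd
    have hcomplP : Subgroup.IsComplement' N (P : Subgroup G) :=
      Subgroup.isComplement'_of_coprime h1 hcop
    -- fusion of elements of `P` is controlled by `P`
    have hctrl : ∀ y y' : ↥(P : Subgroup G), IsConj (y : G) (y' : G) → IsConj y y' := by
      intro y y' h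
      obtain ⟨g, hg⟩ := isConj_iff.mp h
      obtain ⟨⟨n, u⟩, hnu, -⟩ := hcomplP.existsUnique g
      simp only at hnu
      set w : G := (u : G) * (y : G) * (u : G)⁻¹ with hw
      have hwP : w ∈ (P : Subgroup G) :=
        Subgroup.mul_mem _ (Subgroup.mul_mem _ u.2 y.2) (Subgroup.inv_mem _ u.2)
      have h4 : (y' : G) = (n : G) * w * (n : G)⁻¹ := by
        rw [← hg, ← hnu, hw]; group
      have h5 : (y' : G) * w⁻¹ ∈ N := by
        have : (y' : G) * w⁻¹ = (n : G) * (w * (n : G)⁻¹ * w⁻¹) := by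
          rw [h4]; group
        rw [this]
        exact N.mul_mem n.2 (hNn.conj_mem _ (N.inv_mem n.2) _)
      have h6 : (y' : G) * w⁻¹ ∈ (P : Subgroup G) :=
        Subgroup.mul_mem _ y'.2 (Subgroup.inv_mem _ hwP)
      have h7 : (y' : G) * w⁻¹ = 1 := by
        have := hcomplP.disjoint
        rw [Subgroup.disjoint_def] at this
        exact this h5 h6
      have h8 : (y' : G) = w := mul_inv_eq_one.mp h7
      refine isConj_iff.mpr ⟨u, ?_⟩
      apply Subtype.ext
      rw [h8, hw]
      simp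
    let h : ConjClasses ↥(P : Subgroup G) → PCl 2 G := fun c => toPCl P (Quotient.out c)
    have hinj : Function.Injective h := by
      intro c c' hcc
      change toPCl P (Quotient.out c) = toPCl P (Quotient.out c') at hcc
      rw [toPCl_eq_iff] at hcc
      have := hctrl _ _ hcc
      rw [← ConjClasses.mk_eq_mk_iff_isConj] at this
      have e1 : ConjClasses.mk (Quotient.out c) = c := Quotient.out_eq c
      have e2 : ConjClasses.mk (Quotient.out c') = c' := Quotient.out_eq c'
      rw [e1, e2] at this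
      exact this
    have hle := Nat.card_le_card_of_injective h hinj
    omega

end Cfsg.Agent.Helper60.TwoClassCount
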