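import Mathlib
import Cfsg.Agent.Helper60.TwoClassCount
import Cfsg.Agent.Helper60.PiTwoA

set_option autoImplicit false

namespace Cfsg.Agent.Helper60.PiTwo

open Cfsg.Agent.Helper60.PClassCount Cfsg.Agent.Helper60.TwoClassCount

variable {G : Type*} [Group G] [Finite G]

/-- `k_r(G) > |R|/2` with `r ≥ 3` forces the Sylow `r`-subgroup to be abelian. -/
theorem sylow_abelian_of_many (r : ℕ) [Fact r.Prime] (hr3 : 3 ≤ r) (R : Sylow r G)
    (hk : Nat.card ↥(R : Subgroup G) < 2 * Nat.card (PCl r G)) :
    ∀ a b : ↥(R : Subgroup G), a * b = b * a := by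
  by_contra hna
  have h1 := card_conjClasses_bound (p := r) R.2 hna
  have h2 := card_pcl_le R
  have hpos : 0 < Nat.card ↥(R : Subgroup G) := Nat.card_pos
  set a := Nat.card ↥(R : Subgroup G)
  set k := Nat.card (PCl r G)
  set K := Nat.card (ConjClasses ↥(R : Subgroup G))
  have h3 : r ^ 3 * k ≤ r ^ 3 * K := Nat.mul_le_mul_left _ h2
  have h4 : r ^ 3 * a < r ^ 3 * (2 * k) := Nat.mul_lt_mul_of_pos_left hk (by positivity)
  have h5 : 3 * r ^ 2 ≤ r ^ 3 := by nlinarith
  -- r^3 * a < 2 * r^3 * k ≤ 2 * r^3 * K ≤ 2*((r^2+r) a - a)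
  have h6 : r ^ 3 * a < 2 * ((r ^ 2 + r) * a) - 2 * a := by
    have : r ^ 3 * K + a ≤ (r ^ 2 + r) * a := h1
    have h7 : r ^ 3 * a < 2 * (r ^ 3 * K) := by nlinarith
    omega
  have h8 : 2 * ((r ^ 2 + r) * a) ≤ r ^ 3 * a + 2 * a := by
    have h9 : 2 * (r ^ 2 + r) ≤ r ^ 3 + 2 := by nlinarith
    calc 2 * ((r ^ 2 + r) * a) = (2 * (r ^ 2 + r)) * a := by ring
      _ ≤ (r ^ 3 + 2) * a := Nat.mul_le_mul_right _ h9
      _ = r ^ 3 * a + 2 * a := by ring
  omega

/-- `k_r(G) > |R|/2`: elements of odd prime-power order normalizing the Sylow `r`-subgroup `R`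
centralize it. -/
theorem odd_ppower_centralizes (r : ℕ) [Fact r.Prime] (hr3 : 3 ≤ r) (R : Sylow r G)
    (hk : Nat.card ↥(R : Subgroup G) < 2 * Nat.card (PCl r G))
    (q : ℕ) [Fact q.Prime] (hq2 : q ≠ 2) (y : G) (j : ℕ) (hy : orderOf y = q ^ j)
    (hyN : ∀ v ∈ (R : Subgroup G), y * v * y⁻¹ ∈ (R : Subgroup G)) :
    ∀ v ∈ (R : Subgroup G), y * v = v * y := by
  classical
  have hq : q.Prime := Fact.out
  have hr : r.Prime := Fact.out
  have hab := sylow_abelian_of_many r hr3 R hk
  by_cases hqr : q = r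
  · -- `y ∈ R`
    have hyz : IsPGroup r (Subgroup.zpowers y) := by
      apply IsPGroup.of_card (n := j)
      rw [Nat.card_zpowers, hy, hqr]
    have hzn : Subgroup.zpowers y ≤ Subgroup.normalizer ((R : Subgroup G) : Set G) := by
      rw [Subgroup.zpowers_le]
      exact mem_normalizer_of_conj_mem (R : Subgroup G) y hyN
    have hsup : IsPGroup r (Subgroup.zpowers y ⊔ (R : Subgroup G) : Subgroup G) :=
      IsPGroup.to_sup_of_normal_right' hyz R.2 hzn
    have heq : Subgroup.zpowers y ⊔ (R : Subgroup G) = R := R.is_maximal' hsup le_sup_right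
    have hyR : y ∈ (R : Subgroup G) := by
      rw [← heq]; exact Subgroup.mem_sup_left (Subgroup.mem_zpowers y)
    intro v hv
    exact congrArg Subtype.val (hab ⟨y, hyR⟩ ⟨v, hv⟩)
  · by_contra hcon
    push Not at hcon
    obtain ⟨v₀, hv₀, hne₀⟩ := hcon
    have hodd : Odd (orderOf y) := by
      rw [hy]
      exact Odd.pow (hq.odd_of_ne_two hq2)
    let σ : ↥(R : Subgroup G) → ↥(R : Subgroup G) := fun v => ⟨y * v * y⁻¹, hyN v v.2⟩
    have hσ : ∀ v, toPCl R (σ v) = toPCl R v := by
      intro v
      rw [toPCl_eq_iff]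
      exact isConj_iff.mpr ⟨y⁻¹, by simp only [σ]; group⟩
    have hσinj : Function.Injective σ := by
      intro a b h
      have h1 : y * (a : G) * y⁻¹ = y * (b : G) * y⁻¹ := congrArg Subtype.val h
      exact Subtype.ext (mul_left_cancel (mul_right_cancel h1))
    have hσ2 : ∀ v, σ (σ v) = v → σ v = v := by
      intro v h
      have h1 : y * (y * (v : G) * y⁻¹) * y⁻¹ = (v : G) := congrArg Subtype.val h
      have hc2 : Commute (y ^ 2) (v : G) := by
        change y ^ 2 * (v : G) = (v : G) * y ^ 2
        calc y ^ 2 * (v : G) = (y * (y * (v : G) * y⁻¹) * y⁻¹) * y ^ 2 := by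
              rw [pow_two]; group
          _ = (v : G) * y ^ 2 := by rw [h1]
      obtain ⟨k, hk'⟩ := hodd
      have hx1 : (y ^ 2) ^ (k + 1) = y := by
        rw [← pow_mul]
        have : 2 * (k + 1) = orderOf y + 1 := by omega
        rw [this, pow_succ, pow_orderOf_eq_one, one_mul]
      have hc : Commute y (v : G) := by
        have := hc2.pow_left (k + 1)
        rwa [hx1] at this
      apply Subtype.ext
      change y * (v : G) * y⁻¹ = (v : G)
      rw [hc.eq]; group
    have h3 := three_mul_card_le (toPCl R) (toPCl_surjective R) σ hσ hσinj hσ2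
    -- fixed points = centralizer
    let C : Subgroup ↥(R : Subgroup G) := (Subgroup.centralizer ({y} : Set G)).subgroupOf (R : Subgroup G)
    have hfixiff : ∀ v : ↥(R : Subgroup G), σ v = v ↔ v ∈ C := by
      intro v
      rw [Subgroup.mem_subgroupOf, Subgroup.mem_centralizer_iff]
      constructor
      · intro h z hz
        rw [Set.mem_singleton_iff] at hz
        have h1 : y * (v : G) * y⁻¹ = (v : G) := congrArg Subtype.val h
        rw [hz]
        calc y * (v : G) = (y * (v : G) * y⁻¹) * y := by group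
          _ = (v : G) * y := by rw [h1]
      · intro h
        apply Subtype.ext
        change y * (v : G) * y⁻¹ = (v : G)
        rw [h y rfl]; group
    have hCfix : Nat.card {v : ↥(R : Subgroup G) // σ v = v} = Nat.card C :=
      Nat.card_congr (Equiv.subtypeEquivRight hfixiff)
    have hCtop : C ≠ ⊤ := by
      intro htop
      apply hne₀
      have : (⟨v₀, hv₀⟩ : ↥(R : Subgroup G)) ∈ C := by rw [htop]; trivial
      rw [Subgroup.mem_subgroupOf, Subgroup.mem_centralizer_iff] at this
      exact this y rfl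
    -- congruence mod q
    letI : Fintype ↥(R : Subgroup G) := Fintype.ofFinite _
    let f : Function.End ↥(R : Subgroup G) := σ
    have hiter : ∀ (n : ℕ) (v : ↥(R : Subgroup G)), ((σ^[n] v : ↥(R : Subgroup G)) : G) = y ^ n * (v : G) * (y ^ n)⁻¹ := by
      intro n
      induction n with
      | zero => intro v; simp
      | succ n ih =>
        intro v
        rw [Function.iterate_succ_apply']
        change y * ((σ^[n] v : ↥(R : Subgroup G)) : G) * y⁻¹ = _
        rw [ih v, pow_succ']; group
    have hf : f ^ q ^ j = 1 := by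
      change σ^[q ^ j] = id
      funext v
      apply Subtype.ext
      rw [hiter, ← hy, pow_orderOf_eq_one]
      simp
    have hmod := Equiv.Perm.card_fixedPoints_modEq (f := f) (p := q) (n := j) hf
    have hfp : Fintype.card (Function.fixedPoints f) = Nat.card C := by
      rw [← Nat.card_eq_fintype_card, ← hCfix]
      rfl
    rw [hfp, ← Nat.card_eq_fintype_card] at hmod
    -- index
    obtain ⟨i, hi⟩ := R.2.index C
    have hmul : Nat.card C * C.index = Nat.card ↥(R : Subgroup G) := Subgroup.card_mul_index C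
    rw [hi] at hmul
    have hi1 : 1 ≤ i := by
      by_contra hlt
      push Not at hlt
      interval_cases i
      apply hCtop
      rw [← Subgroup.index_eq_one]; simpa using hi
    have hCpos : 0 < Nat.card C := Nat.card_pos
    -- q ∣ (r^i - 1)
    have hqdvd : q ∣ r ^ i - 1 := by
      have h1 : Nat.card C * 1 ≡ Nat.card C * r ^ i [MOD q] := by
        rw [mul_one, hmul]; exact hmod.symm
      have hcop : Nat.Coprime (Nat.card C) q := by
        obtain ⟨e, he⟩ : ∃ e, Nat.card C = r ^ e := by
          have hCp : IsPGroup r C := R.2.to_subgroup C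
          exact IsPGroup.iff_card.mp hCp
        rw [he]
        apply Nat.Coprime.pow_left
        rw [Nat.coprime_primes hr hq]
        exact fun h => hqr h.symm
      have h2 : 1 ≡ r ^ i [MOD q] := Nat.ModEq.cancel_left_of_coprime hcop.symm h1
      exact (Nat.modEq_iff_dvd' (Nat.one_le_pow _ _ hr.pos)).mp h2
    have hm4 : 4 ≤ r ^ i := by
      have h1 : r ^ 1 ≤ r ^ i := Nat.pow_le_pow_right hr.pos hi1
      have h2 : 0 < r ^ i - 1 := by
        have : 3 ≤ r ^ i := by rw [pow_one] at h1; omega
        omega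
      have h3 := Nat.le_of_dvd h2 hqdvd
      have hq3 : 3 ≤ q := by
        have := hq.two_le
        omega
      omega
    have h3' : 3 * Nat.card (PCl r G) ≤ Nat.card ↥(R : Subgroup G) + 2 * Nat.card C := by
      rw [← hCfix]; exact h3
    have h10 : 4 * Nat.card C ≤ Nat.card ↥(R : Subgroup G) := by
      rw [← hmul, mul_comm]; exact Nat.mul_le_mul_left _ hm4
    omega

end Cfsg.Agent.Helper60.PiTwo
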