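import Mathlib
import Cfsg.Agent.Helper60.PiClassMain

/-!
# Helper60 / PiTwoC

Fibration of the `π`-classes over the `r`-classes in sum form, an abstract weighted counting lemma,
and the assembly of local normal complements.
-/

set_option autoImplicit false

namespace Cfsg.Agent.Helper60.PiTwo

open Cfsg.Agent.Helper60.PClassCount

universe u

section Fib

variable {H : Type u} [Group H]

/-- Fibration of the classes of `(σ ∪ {r})`-elements over the classes of `r`-elements, with the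
fibres bounded by the classes of `σ`-elements of the centralizers. -/
theorem exists_fibration [Finite H] (r : ℕ) (hr : r.Prime) (σ : Finset ℕ) :
    ∃ Φ : PiCl (insert r σ) H → PCl r H, ∀ (x : H) (hx : ∃ k : ℕ, orderOf x = r ^ k),
      Nat.card {c : PiCl (insert r σ) H // Φ c = mkPCl r x hx} ≤
        Nat.card (PiCl σ ↥(Subgroup.centralizer ({x} : Set H))) := by
  classical
  have hrep : ∀ c : PiCl (insert r σ) H, ∃ g z y : H, (∃ hg : IsPiElt (insert r σ) g,
      mkPiCl (insert r σ) g hg = c) ∧ z * y = g ∧ Commute z y ∧ (∃ k : ℕ, orderOf z = r ^ k) ∧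
      ¬ r ∣ orderOf y ∧ orderOf y ∣ orderOf g := by
    intro c
    obtain ⟨g, hg, hgc⟩ := exists_mkPiCl (insert r σ) c
    obtain ⟨z, y, h1, h2, h3, h4, h5⟩ := exists_rdecomp r hr g
    exact ⟨g, z, y, ⟨hg, hgc⟩, h1, h2, h3, h4, h5⟩
  choose g z y hgc hzy hcomm hz hy hyg using hrep
  let Φ : PiCl (insert r σ) H → PCl r H := fun c => mkPCl r (z c) (hz c)
  haveI : Finite (PCl r H) := Subtype.finite
  haveI : Finite (PiCl (insert r σ) H) := Subtype.finite
  refine ⟨Φ, fun x hx => ?_⟩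
  set b : PCl r H := mkPCl r x hx with hxb
  set C : Subgroup H := Subgroup.centralizer ({x} : Set H) with hC
  -- data for the fibre
  have hfib : ∀ c : {c : PiCl (insert r σ) H // Φ c = b}, ∃ y' : ↥C, IsPiElt σ y' ∧
      IsConj (g c.1) (x * (y' : H)) := by
    rintro ⟨c, hc⟩
    have h1 : IsConj (z c) x := by
      have : mkPCl r (z c) (hz c) = mkPCl r x hx := by rw [← hxb]; exact hc
      unfold mkPCl at this
      rw [Subtype.mk.injEq, ConjClasses.mk_eq_mk_iff_isConj] at this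
      exact this
    obtain ⟨u, hu⟩ := isConj_iff.mp h1
    have hmem : u * y c * u⁻¹ ∈ C := by
      rw [hC, Subgroup.mem_centralizer_iff]
      intro w hw
      rw [Set.mem_singleton_iff] at hw
      rw [hw, ← hu]
      have := (hcomm c).eq
      calc u * z c * u⁻¹ * (u * y c * u⁻¹) = u * (z c * y c) * u⁻¹ := by group
        _ = u * (y c * z c) * u⁻¹ := by rw [this]
        _ = u * y c * u⁻¹ * (u * z c * u⁻¹) := by group
    refine ⟨⟨u * y c * u⁻¹, hmem⟩, ?_, ?_⟩
    · intro q hq hdvd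
      have h2 : orderOf (⟨u * y c * u⁻¹, hmem⟩ : ↥C) = orderOf (y c) := by
        rw [Subgroup.orderOf_mk]
        exact (MulAut.conj u).orderOf_eq (y c)
      rw [h2] at hdvd
      obtain ⟨hg, -⟩ := hgc c
      have h3 := hg q hq (hdvd.trans (hyg c))
      rw [Finset.mem_insert] at h3
      rcases h3 with h3 | h3
      · exfalso
        rw [h3] at hdvd
        exact hy c hdvd
      · exact h3
    · refine isConj_iff.mpr ⟨u, ?_⟩
      change u * g c * u⁻¹ = x * (u * y c * u⁻¹)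
      rw [← hzy c, ← hu]; group
  choose y' hy'σ hy'conj using hfib
  let θ : {c : PiCl (insert r σ) H // Φ c = b} → PiCl σ ↥C := fun c => mkPiCl σ (y' c) (hy'σ c)
  have hθ : Function.Injective θ := by
    intro c₁ c₂ h
    simp only [θ] at h
    rw [mkPiCl_eq_iff] at h
    obtain ⟨v, hv⟩ := isConj_iff.mp h
    have hvx : (v : H) * x = x * (v : H) := by
      have hvC : (v : H) ∈ Subgroup.centralizer ({x} : Set H) := v.2
      rw [Subgroup.mem_centralizer_iff] at hvC
      exact (hvC x rfl).symm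
    have h1 : IsConj (x * (y' c₁ : H)) (x * (y' c₂ : H)) := by
      refine isConj_iff.mpr ⟨(v : H), ?_⟩
      have h2 : (v : H) * (y' c₁ : H) * (v : H)⁻¹ = (y' c₂ : H) := by
        have := congrArg Subtype.val hv
        simpa using this
      rw [← h2]
      calc (v : H) * (x * (y' c₁ : H)) * (v : H)⁻¹
          = ((v : H) * x) * (y' c₁ : H) * (v : H)⁻¹ := by group
        _ = (x * (v : H)) * (y' c₁ : H) * (v : H)⁻¹ := by rw [hvx]
        _ = x * ((v : H) * (y' c₁ : H) * (v : H)⁻¹) := by group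
    have h3 : IsConj (g c₁.1) (g c₂.1) := ((hy'conj c₁).trans h1).trans (hy'conj c₂).symm
    apply Subtype.ext
    obtain ⟨hg1, hgc1⟩ := hgc c₁.1
    obtain ⟨hg2, hgc2⟩ := hgc c₂.1
    rw [← hgc1, ← hgc2, mkPiCl_eq_iff]
    exact h3
  haveI : Finite (PiCl σ ↥C) := Subtype.finite
  exact Nat.card_le_card_of_injective θ hθ

/-- Sum form of the fibration, for an arbitrary system of representatives of the `r`-classes. -/
theorem card_piCl_insert_le_sum [Finite H] (r : ℕ) (hr : r.Prime) (σ : Finset ℕ)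
    [Fintype (PCl r H)] (rep : PCl r H → H)
    (hrep : ∀ b, ∃ hx : (∃ k : ℕ, orderOf (rep b) = r ^ k), mkPCl r (rep b) hx = b) :
    Nat.card (PiCl (insert r σ) H) ≤
      ∑ b : PCl r H, Nat.card (PiCl σ ↥(Subgroup.centralizer ({rep b} : Set H))) := by
  obtain ⟨Φ, hΦ⟩ := exists_fibration (H := H) r hr σ
  haveI : Finite (PiCl (insert r σ) H) := Subtype.finite
  rw [← Nat.card_congr (Equiv.sigmaFiberEquiv Φ), Nat.card_sigma]
  apply Finset.sum_le_sum
  intro b _
  obtain ⟨hx, hb⟩ := hrep b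
  have := hΦ (rep b) hx
  rw [hb] at this
  exact this

end Fib

/-- Abstract weighted count: if every fibre of `f` contains a finite set of total weight at least
`W b`, then `∑ W ≤ ∑ ω`. -/
theorem weighted_count {X T : Type*} [Fintype X] [Fintype T] (f : X → T) (W : T → ℕ)
    (ω : X → ℕ)
    (h : ∀ b : T, ∃ s : Finset X, (∀ x ∈ s, f x = b) ∧ W b ≤ ∑ x ∈ s, ω x) :
    ∑ b, W b ≤ ∑ x, ω x := by
  classical
  rw [← Finset.sum_fiberwise Finset.univ f ω]
  apply Finset.sum_le_sum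
  intro b _
  obtain ⟨s, hs, hW⟩ := h b
  refine hW.trans (Finset.sum_le_sum_of_subset ?_)
  intro x hx
  simp [hs x hx]

section Assemble

variable {G : Type u} [Group G] [Finite G]

/-- Intersection of local normal complements. -/
theorem exists_normal_of_local (τ : Finset ℕ) (hτ : ∀ r ∈ τ, r.Prime) (K : ℕ → Subgroup G)
    (hK : ∀ r ∈ τ, (K r).Normal ∧ ¬ r ∣ Nat.card (K r) ∧ ∃ j : ℕ, (K r).index = r ^ j) :
    ∃ N : Subgroup G, N.Normal ∧ (∀ q : ℕ, q.Prime → q ∣ Nat.card N → q ∉ τ) ∧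
      (∀ q : ℕ, q.Prime → q ∣ N.index → q ∈ τ) ∧ ∀ g : G, (∀ r ∈ τ, g ∈ K r) → g ∈ N := by
  classical
  let N : Subgroup G := ⨅ r : τ, K r
  haveI hNn : N.Normal := Subgroup.normal_iInf_normal (fun r => (hK r r.2).1)
  have hNle : ∀ r ∈ τ, N ≤ K r := fun r hr => iInf_le (fun r : τ => K r) ⟨r, hr⟩
  have hN1 : ∀ q : ℕ, q.Prime → q ∣ Nat.card N → q ∉ τ := by
    intro q hq hdvd hqπ
    exact (hK q hqπ).2.1 (hdvd.trans (Subgroup.card_dvd_of_le (hNle q hqπ)))
  have hN2 : ∀ q : ℕ, q.Prime → q ∣ N.index → q ∈ τ := by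
    intro q hq hdvd
    haveI : Fact q.Prime := ⟨hq⟩
    set M := τ.prod (fun r => (K r).index) with hM
    have hpow : ∀ g : G, g ^ M ∈ N := by
      intro g
      rw [Subgroup.mem_iInf]
      intro r
      haveI := (hK r r.2).1
      obtain ⟨c, hc⟩ : (K r).index ∣ M := Finset.dvd_prod_of_mem _ r.2
      rw [hc, pow_mul]
      exact Subgroup.pow_mem _ (Subgroup.pow_index_mem (K r) g) c
    have hcard : Nat.card (G ⧸ N) = N.index := (Subgroup.index_eq_card N).symm
    obtain ⟨x, hx⟩ := exists_prime_orderOf_dvd_card' (G := G ⧸ N) q (by rw [hcard]; exact hdvd)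
    obtain ⟨g, rfl⟩ := QuotientGroup.mk_surjective x
    have h1 : ((g : G ⧸ N)) ^ M = 1 := by
      rw [← QuotientGroup.mk_pow, QuotientGroup.eq_one_iff]
      exact hpow g
    have h2 : q ∣ M := hx ▸ orderOf_dvd_of_pow_eq_one h1
    obtain ⟨r, hr, hqr⟩ := (Prime.dvd_finsetProd_iff hq.prime _).mp h2
    obtain ⟨j, hj⟩ := (hK r hr).2.2
    rw [hj] at hqr
    have := (Nat.prime_dvd_prime_iff_eq hq (hτ r hr)).mp (hq.dvd_of_dvd_pow hqr)
    rw [this]; exact hr
  refine ⟨N, hNn, hN1, hN2, ?_⟩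
  intro g hg
  rw [Subgroup.mem_iInf]
  intro r
  exact hg r r.2

/-- Abelian Hall subgroup from local normal complements containing all commutators. -/
theorem exists_abelian_hall_of_local (τ : Finset ℕ) (hτ : ∀ r ∈ τ, r.Prime) (K : ℕ → Subgroup G)
    (hK : ∀ r ∈ τ, (K r).Normal ∧ ¬ r ∣ Nat.card (K r) ∧ (∃ j : ℕ, (K r).index = r ^ j) ∧
      ∀ a b : G, a * b * a⁻¹ * b⁻¹ ∈ K r) :
    ∃ H : Subgroup G, Cfsg.IsPiHall (↑τ : Set ℕ) H ∧ IsMulCommutative ↥H := by
  obtain ⟨N, hNn, hN1, hN2, hN3⟩ := exists_normal_of_local τ hτ K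
    (fun r hr => ⟨(hK r hr).1, (hK r hr).2.1, (hK r hr).2.2.1⟩)
  haveI := hNn
  have hcop : Nat.Coprime (Nat.card N) N.index :=
    Nat.Coprime.symm (Nat.coprime_of_dvd (fun q hq h1 h2 => hN1 q hq h2 (hN2 q hq h1)))
  obtain ⟨H, hH⟩ := Subgroup.exists_right_complement'_of_coprime hcop
  refine ⟨H, ⟨?_, ?_⟩, ⟨⟨fun a b => ?_⟩⟩⟩
  · intro q hq hdvd
    rw [Finset.mem_coe]
    apply hN2 q hq
    rw [hH.symm.index_eq_card]
    exact hdvd
  · intro q hq hqπ hdvd
    rw [Finset.mem_coe] at hqπ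
    rw [hH.index_eq_card] at hdvd
    exact hN1 q hq hdvd hqπ
  · have h1 : (a : G) * (b : G) * (a : G)⁻¹ * (b : G)⁻¹ ∈ N :=
      hN3 _ (fun r hr => (hK r hr).2.2.2 a b)
    have h2 : (a : G) * (b : G) * (a : G)⁻¹ * (b : G)⁻¹ ∈ H :=
      H.mul_mem (H.mul_mem (H.mul_mem a.2 b.2) (H.inv_mem a.2)) (H.inv_mem b.2)
    have h3 : (a : G) * (b : G) * (a : G)⁻¹ * (b : G)⁻¹ = 1 := by
      have := hH.disjoint
      rw [Subgroup.disjoint_def] at this
      exact this h1 h2
    apply Subtype.ext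
    change (a : G) * (b : G) = (b : G) * (a : G)
    calc (a : G) * (b : G) = ((a : G) * (b : G) * (a : G)⁻¹ * (b : G)⁻¹) * ((b : G) * (a : G)) := by
          group
      _ = (b : G) * (a : G) := by rw [h3, one_mul]

end Assemble

end Cfsg.Agent.Helper60.PiTwo
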