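import Mathlib
import Cfsg.Agent.Helper60.PiTwoB
import Cfsg.Agent.Helper60.PiTwoC

/-!
# Helper60 / PiTwoD

Local bounds for the number of classes of `r`-elements of the centralizer of a `2`-element in a
`2`-nilpotent group.
-/

set_option autoImplicit false

namespace Cfsg.Agent.Helper60.PiTwo

open Cfsg.Agent.Helper60.PClassCount

universe u

variable {G : Type u} [Group G] [Finite G]

/-- Elements of odd order lie in every normal subgroup of `2`-power index. -/
theorem mem_of_odd_orderOf (M : Subgroup G) [M.Normal] (k : ℕ) (hidx : M.index = 2 ^ k) (x : G)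
    (hx : Odd (orderOf x)) : x ∈ M := by
  have h1 : x ^ (2 ^ k) ∈ M := by rw [← hidx]; exact Subgroup.pow_index_mem M x
  have hcop : (2 ^ k).Coprime (orderOf x) := Nat.Coprime.pow_left k (Nat.coprime_two_left.mpr hx)
  obtain ⟨m, hm⟩ := exists_pow_eq_self_of_coprime hcop
  rw [← hm]; exact M.pow_mem h1 m

/-- The `r`-part of the order of a subgroup of `2`-power index, `r` odd. -/
theorem factorization_eq_of_index (M : Subgroup G) (k : ℕ) (hidx : M.index = 2 ^ k) (r : ℕ)
    (hr : r.Prime) (hr3 : 3 ≤ r) : (Nat.card M).factorization r = (Nat.card G).factorization r := by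
  have h1 : Nat.card M * 2 ^ k = Nat.card G := by rw [← hidx]; exact Subgroup.card_mul_index M
  have h2 : (2 ^ k).factorization r = 0 := by
    apply Nat.factorization_eq_zero_of_not_dvd
    intro h
    have := Nat.le_of_dvd (by norm_num) (hr.dvd_of_dvd_pow h)
    omega
  rw [← h1, Nat.factorization_mul Nat.card_pos.ne' (by positivity), Finsupp.add_apply, h2,
    add_zero]

/-- (F1) `k_r(C_G(t)) ≤ |G|_r`. -/
theorem card_pCl_centralizer_le (r : ℕ) [Fact r.Prime] (t : G) :
    Nat.card (PCl r ↥(Subgroup.centralizer ({t} : Set G))) ≤ r ^ (Nat.card G).factorization r := by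
  refine (card_pCl_le_pow r).trans (Nat.pow_le_pow_right (Fact.out : r.Prime).pos ?_)
  exact (Nat.factorization_le_iff_dvd Nat.card_pos.ne' Nat.card_pos.ne').mpr
    (Subgroup.card_subgroup_dvd_card _) r

/-- (F3) A `2`-element normalizing but not centralizing the Sylow `r`-subgroup `R₀ ≤ M`. -/
theorem three_mul_card_pCl_le_of_not_centralizes (M : Subgroup G) [M.Normal]
    (hModd : Odd (Nat.card M)) (k : ℕ) (hidx : M.index = 2 ^ k) (r : ℕ) [Fact r.Prime]
    (hr3 : 3 ≤ r) (R₀ : Subgroup G) (hR₀M : R₀ ≤ M)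
    (hR₀ : Nat.card R₀ = r ^ (Nat.card G).factorization r) (t : G)
    (ht : ∃ k : ℕ, orderOf t = 2 ^ k) (htn : ∀ v ∈ R₀, t * v * t⁻¹ ∈ R₀)
    (htc : ¬ ∀ v ∈ R₀, t * v = v * t) :
    3 * Nat.card (PCl r ↥(Subgroup.centralizer ({t} : Set G))) ≤
      r ^ (Nat.card G).factorization r := by
  have hr : r.Prime := Fact.out
  set H : Subgroup G := Subgroup.centralizer ({t} : Set G) with hH
  set a := (Nat.card H).factorization r with ha
  have hale : a ≤ (Nat.card G).factorization r :=
    (Nat.factorization_le_iff_dvd Nat.card_pos.ne' Nat.card_pos.ne').mpr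
      (Subgroup.card_subgroup_dvd_card _) r
  have hκ : Nat.card (PCl r ↥H) ≤ r ^ a := card_pCl_le_pow r
  rcases Nat.lt_or_ge a ((Nat.card G).factorization r) with hlt | hge
  · calc 3 * Nat.card (PCl r ↥H) ≤ r * r ^ a := Nat.mul_le_mul hr3 hκ
      _ = r ^ (a + 1) := by rw [pow_succ, mul_comm]
      _ ≤ r ^ (Nat.card G).factorization r := Nat.pow_le_pow_right hr.pos hlt
  · exfalso
    have haeq : a = (Nat.card G).factorization r := le_antisymm hale hge
    obtain ⟨Q⟩ : Nonempty (Sylow r ↥H) := inferInstance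
    set R₂ : Subgroup G := (Q : Subgroup ↥H).map H.subtype with hR₂
    have hcard₂ : Nat.card R₂ = r ^ (Nat.card G).factorization r := by
      rw [hR₂, Subgroup.card_map_of_injective H.subtype_injective, Sylow.card_eq_multiplicity,
        ← ha, haeq]
    have hfM := factorization_eq_of_index M k hidx r hr hr3
    have hR₂M : R₂ ≤ M := by
      intro x hx
      apply mem_of_odd_orderOf M k hidx
      have hp : IsPGroup r R₂ := IsPGroup.of_card hcard₂
      obtain ⟨j, hj⟩ := (IsPGroup.iff_orderOf.mp hp) ⟨x, hx⟩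
      rw [Subgroup.orderOf_mk] at hj
      rw [hj]
      apply Odd.pow
      apply hr.odd_of_ne_two
      omega
    have hcent : ∀ v ∈ R₂, t * v = v * t := by
      intro v hv
      rw [hR₂, Subgroup.mem_map] at hv
      obtain ⟨w, -, rfl⟩ := hv
      have := Subgroup.mem_centralizer_iff.mp w.2
      exact this t rfl
    exact htc (centralizes_of_normalizes M hModd r R₀ R₂ hR₀M hR₂M (by rw [hfM]; exact hR₀)
      (by rw [hfM]; exact hcard₂) t ht htn hcent)

/-- (F2) `t` centralizes the Sylow `r`-subgroup `R₀`, and some element of `C_G(t)` normalizes but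
does not centralize `R₀`. -/
theorem three_mul_card_pCl_le_of_central (r : ℕ) [Fact r.Prime] (hr3 : 3 ≤ r) (R₀ : Subgroup G)
    (hR₀ : Nat.card R₀ = r ^ (Nat.card G).factorization r) (t : G)
    (htc : ∀ v ∈ R₀, t * v = v * t) (u : G) (hut : u * t = t * u)
    (hun : ∀ v ∈ R₀, u * v * u⁻¹ ∈ R₀) (huc : ¬ ∀ v ∈ R₀, u * v = v * u) :
    3 * Nat.card (PCl r ↥(Subgroup.centralizer ({t} : Set G))) ≤
      2 * r ^ (Nat.card G).factorization r := by
  have hr : r.Prime := Fact.out
  set H : Subgroup G := Subgroup.centralizer ({t} : Set G) with hH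
  have hR₀H : R₀ ≤ H := by
    intro v hv
    rw [hH, Subgroup.mem_centralizer_iff]
    intro w hw
    rw [Set.mem_singleton_iff] at hw
    rw [hw]; exact htc v hv
  have hcard' : Nat.card (R₀.subgroupOf H) = r ^ (Nat.card G).factorization r := by
    rw [← hR₀]
    exact Nat.card_congr (Subgroup.subgroupOfEquivOfLe hR₀H).toEquiv
  have hfac : (Nat.card H).factorization r = (Nat.card G).factorization r := by
    apply le_antisymm
    · exact (Nat.factorization_le_iff_dvd Nat.card_pos.ne' Nat.card_pos.ne').mpr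
        (Subgroup.card_subgroup_dvd_card _) r
    · rw [← hr.pow_dvd_iff_le_factorization Nat.card_pos.ne', ← hcard']
      exact Subgroup.card_subgroup_dvd_card _
  let Q : Sylow r ↥H := Sylow.ofCard (R₀.subgroupOf H) (by rw [hcard', hfac])
  have hQ : (Q : Subgroup ↥H) = R₀.subgroupOf H := Sylow.coe_ofCard _ _
  have huH : u ∈ H := by
    rw [hH, Subgroup.mem_centralizer_iff]
    intro w hw
    rw [Set.mem_singleton_iff] at hw
    rw [hw]; exact hut.symm
  have hbound : 2 * r * Nat.card (PCl r ↥H) ≤ (r + 1) * r ^ (Nat.card G).factorization r := by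
    by_contra hlt
    push Not at hlt
    have hlt' : (r + 1) * Nat.card ↥(Q : Subgroup ↥H) < 2 * r * Nat.card (PCl r ↥H) := by
      rw [hQ, hcard']; exact hlt
    have hNC := normalizer_le_centralizer_of_many_classes Q hlt'
    have huN : (⟨u, huH⟩ : ↥H) ∈ Subgroup.normalizer ((Q : Subgroup ↥H) : Set ↥H) := by
      apply mem_normalizer_of_conj_mem
      intro v hv
      rw [hQ, Subgroup.mem_subgroupOf] at hv ⊢
      exact hun _ hv
    have huC := hNC huN
    rw [Subgroup.mem_centralizer_iff] at huC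
    apply huc
    intro v hv
    have hvH : v ∈ H := hR₀H hv
    have hvQ : (⟨v, hvH⟩ : ↥H) ∈ ((Q : Subgroup ↥H) : Set ↥H) := by
      rw [SetLike.mem_coe, hQ, Subgroup.mem_subgroupOf]; exact hv
    have := huC _ hvQ
    exact (congrArg Subtype.val this).symm
  set κ := Nat.card (PCl r ↥H)
  set ρ := r ^ (Nat.card G).factorization r
  -- `2r·3κ ≤ 3(r+1)ρ ≤ 4rρ`
  have h1 : 2 * r * (3 * κ) ≤ 2 * r * (2 * ρ) := by
    calc 2 * r * (3 * κ) = 3 * (2 * r * κ) := by ring
      _ ≤ 3 * ((r + 1) * ρ) := Nat.mul_le_mul_left 3 hbound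
      _ = (3 * (r + 1)) * ρ := by ring
      _ ≤ (4 * r) * ρ := Nat.mul_le_mul_right ρ (by omega)
      _ = 2 * r * (2 * ρ) := by ring
  exact Nat.le_of_mul_le_mul_left h1 (by positivity)

end Cfsg.Agent.Helper60.PiTwo
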