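import Mathlib
import Cfsg.Agent.Helper60.PiTwoD

/-!
# Helper60 / PiTwoE

The weighted count: in a `2`-nilpotent group with many classes of `π`-elements the Sylow
`2`-subgroup centralizes each invariant Sylow `r`-subgroup of the normal `2`-complement.
-/

set_option autoImplicit false

namespace Cfsg.Agent.Helper60.PiTwo

open Cfsg.Agent.Helper60.PClassCount

universe u

variable {G : Type u} [Group G] [Finite G]

theorem piPart_pos (τ : Finset ℕ) (hτ : ∀ q ∈ τ, q.Prime) (n : ℕ) : 0 < piPart τ n := by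
  unfold piPart
  exact Finset.prod_pos (fun q hq => pow_pos (hτ q hq).pos _)

/-- `k_σ(C_G(t)) ≤ k_r(C_G(t)) · |G|_{σ'}` for `σ = σ' ∪ {r}`. -/
theorem card_piCl_centralizer_le (r : ℕ) (hr : r.Prime) (σ' : Finset ℕ)
    (hσ' : ∀ q ∈ σ', q.Prime) (t : G) :
    Nat.card (PiCl (insert r σ') ↥(Subgroup.centralizer ({t} : Set G))) ≤
      Nat.card (PCl r ↥(Subgroup.centralizer ({t} : Set G))) * piPart σ' (Nat.card G) := by
  apply card_piCl_insert_le (H := ↥(Subgroup.centralizer ({t} : Set G))) r hr σ'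
  intro x
  refine (card_piCl_le σ' hσ' _).trans (piPart_le_of_dvd σ' hσ' (Nat.card_pos.ne') ?_)
  exact (Subgroup.card_subgroup_dvd_card _).trans (Subgroup.card_subgroup_dvd_card _)

theorem toPCl_eq_mkPCl [Fact (Nat.Prime 2)] (P : Sylow 2 G) (y : ↥(P : Subgroup G)) :
    ∃ hx : (∃ k : ℕ, orderOf (y : G) = 2 ^ k), mkPCl 2 (y : G) hx = toPCl P y :=
  ⟨exists_orderOf_of_mem_sylow P y.2, Subtype.ext rfl⟩

/-- Claim A. -/
theorem sylow_two_le_centralizer (π : Finset ℕ) (hπ : ∀ r ∈ π, r.Prime) (h2 : 2 ∈ π)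
    (hk : piPart π (Nat.card G) < 2 * Nat.card (PiCl π G))
    [Fact (Nat.Prime 2)] (P : Sylow 2 G) (M : Subgroup G) [M.Normal]
    (hc : M.IsComplement' (P : Subgroup G))
    (r : ℕ) [Fact r.Prime] (hr : r ∈ π) (hr2 : r ≠ 2) (R₀ : Subgroup G) (hR₀M : R₀ ≤ M)
    (hR₀ : Nat.card R₀ = r ^ (Nat.card G).factorization r)
    (hPn : (P : Subgroup G) ≤ Subgroup.normalizer (R₀ : Set G)) :
    (P : Subgroup G) ≤ Subgroup.centralizer (R₀ : Set G) := by
  classical
  by_contra hnot
  have hrp : r.Prime := Fact.out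
  have hr3 : 3 ≤ r := by
    have := hrp.two_le
    omega
  -- the sets of primes
  set σ := π.erase 2 with hσdef
  have hπeq : π = insert 2 σ := (Finset.insert_erase h2).symm
  have h2σ : 2 ∉ σ := Finset.notMem_erase 2 π
  have hrσ : r ∈ σ := Finset.mem_erase.mpr ⟨hr2, hr⟩
  set σ' := σ.erase r with hσ'def
  have hσeq : σ = insert r σ' := (Finset.insert_erase hrσ).symm
  have hrσ' : r ∉ σ' := Finset.notMem_erase r σ
  have hσ' : ∀ q ∈ σ', q.Prime := fun q hq =>
    hπ q (Finset.mem_of_mem_erase (Finset.mem_of_mem_erase hq))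
  set ρ := r ^ (Nat.card G).factorization r with hρ
  set S' := piPart σ' (Nat.card G) with hS'
  have hS'pos : 0 < S' := piPart_pos σ' hσ' _
  have hpi : piPart π (Nat.card G) = Nat.card ↥(P : Subgroup G) * (ρ * S') := by
    rw [hπeq, piPart_insert σ 2 h2σ, hσeq, piPart_insert σ' r hrσ', Sylow.card_eq_multiplicity]
  -- the 2-nilpotent structure
  have hModd : Odd (Nat.card M) := by
    rw [← hc.index_eq_card, ← Nat.not_even_iff_odd, even_iff_two_dvd]
    exact P.not_dvd_index
  have hidx : M.index = 2 ^ (Nat.card G).factorization 2 := by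
    rw [hc.symm.index_eq_card, Sylow.card_eq_multiplicity]
  have htwo : ∀ t : ↥(P : Subgroup G), ∃ k : ℕ, orderOf (t : G) = 2 ^ k :=
    fun t => exists_orderOf_of_mem_sylow P t.2
  have hnorm : ∀ t : ↥(P : Subgroup G), ∀ v ∈ R₀, (t : G) * v * (t : G)⁻¹ ∈ R₀ :=
    fun t v hv => (Subgroup.mem_normalizer_iff.mp (hPn t.2) v).mp hv
  -- the centralizer of `R₀` in `P`
  set C₀ : Subgroup ↥(P : Subgroup G) :=
    (Subgroup.centralizer (R₀ : Set G)).subgroupOf (P : Subgroup G) with hC₀
  have hC₀top : C₀ ≠ ⊤ := by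
    intro htop
    apply hnot
    intro x hx
    have : (⟨x, hx⟩ : ↥(P : Subgroup G)) ∈ C₀ := by rw [htop]; trivial
    rwa [hC₀, Subgroup.mem_subgroupOf] at this
  have hC₀card : 2 * Nat.card C₀ ≤ Nat.card ↥(P : Subgroup G) := mul_card_le_of_ne_top P.2 C₀ hC₀top
  have hcentiff : ∀ t : G, t ∈ Subgroup.centralizer (R₀ : Set G) ↔ ∀ v ∈ R₀, t * v = v * t := by
    intro t
    rw [Subgroup.mem_centralizer_iff]
    exact ⟨fun h v hv => (h v hv).symm, fun h v hv => (h v hv).symm⟩
  obtain ⟨u₀, hu₀P, hu₀C⟩ := SetLike.not_le_iff_exists.mp hnot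
  -- weights
  let κ : ↥(P : Subgroup G) → ℕ := fun t =>
    Nat.card (PCl r ↥(Subgroup.centralizer ({(t : G)} : Set G)))
  let ω : ↥(P : Subgroup G) → ℕ := fun t => ρ + if t ∈ C₀ then ρ else 0
  have hex : ∀ b : PCl 2 G, ∃ t : ↥(P : Subgroup G), toPCl P t = b ∧
      ∃ s : Finset ↥(P : Subgroup G), (∀ x ∈ s, toPCl P x = b) ∧ 3 * κ t ≤ ∑ x ∈ s, ω x := by
    intro b
    by_cases h : ∃ t : ↥(P : Subgroup G), toPCl P t = b ∧ t ∉ C₀
    · obtain ⟨t, htb, htC⟩ := h
      refine ⟨t, htb, {t}, fun x hx => by rw [Finset.mem_singleton.mp hx]; exact htb, ?_⟩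
      rw [Finset.sum_singleton]
      have h1 : 3 * κ t ≤ ρ := by
        apply three_mul_card_pCl_le_of_not_centralizes M hModd _ hidx r hr3 R₀ hR₀M hR₀ (t : G)
          (htwo t) (hnorm t)
        intro hcon
        apply htC
        rw [hC₀, Subgroup.mem_subgroupOf, hcentiff]
        exact hcon
      exact h1.trans (Nat.le_add_right _ _)
    · push Not at h
      obtain ⟨t, htb⟩ : ∃ t : ↥(P : Subgroup G), toPCl P t = b := toPCl_surjective P b
      have htC : t ∈ C₀ := h t htb
      have htC' : ∀ v ∈ R₀, (t : G) * v = v * (t : G) := by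
        rw [hC₀, Subgroup.mem_subgroupOf, hcentiff] at htC
        exact htC
      have hωt : ω t = 2 * ρ := by
        simp only [ω, if_pos htC]; ring
      by_cases hcent : ∀ u : ↥(P : Subgroup G), u * t = t * u
      · refine ⟨t, htb, {t}, fun x hx => by rw [Finset.mem_singleton.mp hx]; exact htb, ?_⟩
        rw [Finset.sum_singleton, hωt]
        apply three_mul_card_pCl_le_of_central r hr3 R₀ hR₀ (t : G) htC' u₀
        · exact congrArg Subtype.val (hcent ⟨u₀, hu₀P⟩)
        · exact hnorm ⟨u₀, hu₀P⟩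
        · intro hcon
          apply hu₀C
          rw [hcentiff]; exact hcon
      · push Not at hcent
        obtain ⟨u, hu⟩ := hcent
        set t' : ↥(P : Subgroup G) := u * t * u⁻¹ with ht'
        have hne : t ≠ t' := by
          intro heq
          apply hu
          calc u * t = (u * t * u⁻¹) * u := by group
            _ = t * u := by rw [← ht', ← heq]
        have ht'b : toPCl P t' = b := by
          rw [← htb, toPCl_eq_iff]
          refine isConj_iff.mpr ⟨(u : G)⁻¹, ?_⟩
          have h9 : ((t' : ↥(P : Subgroup G)) : G) = (u : G) * (t : G) * (u : G)⁻¹ := by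
            rw [ht']; rfl
          rw [h9]; group
        have ht'C : t' ∈ C₀ := h t' ht'b
        have hωt' : ω t' = 2 * ρ := by
          simp only [ω, if_pos ht'C]; ring
        refine ⟨t, htb, {t, t'}, ?_, ?_⟩
        · intro x hx
          rw [Finset.mem_insert, Finset.mem_singleton] at hx
          rcases hx with rfl | rfl
          · exact htb
          · exact ht'b
        · have hsum : ∑ x ∈ ({t, t'} : Finset ↥(P : Subgroup G)), ω x = ω t + ω t' :=
            Finset.sum_pair hne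
          have h1 : κ t ≤ ρ := card_pCl_centralizer_le r (t : G)
          refine le_of_le_of_eq ?_ hsum.symm
          rw [hωt, hωt']; omega
  choose rep hrep s hs hW using hex
  haveI : Finite (PCl 2 G) := Subtype.finite
  letI : Fintype (PCl 2 G) := Fintype.ofFinite _
  letI : Fintype ↥(P : Subgroup G) := Fintype.ofFinite _
  -- fibration over the 2-classes
  have hfib : Nat.card (PiCl π G) ≤
      ∑ b : PCl 2 G, Nat.card (PiCl σ ↥(Subgroup.centralizer ({((rep b : ↥(P : Subgroup G)) : G)} : Set G))) := by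
    rw [hπeq]
    apply card_piCl_insert_le_sum (H := G) 2 Nat.prime_two σ (fun b => ((rep b : ↥(P : Subgroup G)) : G))
    intro b
    obtain ⟨hx, hb⟩ := toPCl_eq_mkPCl P (rep b)
    exact ⟨hx, by rw [hb, hrep b]⟩
  have hfib2 : Nat.card (PiCl π G) ≤ (∑ b : PCl 2 G, κ (rep b)) * S' := by
    refine hfib.trans ?_
    rw [Finset.sum_mul]
    apply Finset.sum_le_sum
    intro b _
    rw [hσeq]
    exact card_piCl_centralizer_le r hrp σ' hσ' _
  -- weighted count
  have hwc : ∑ b : PCl 2 G, 3 * κ (rep b) ≤ ∑ t : ↥(P : Subgroup G), ω t :=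
    weighted_count (toPCl P) (fun b => 3 * κ (rep b)) ω
      (fun b => ⟨s b, hs b, hW b⟩)
  have hωsum : ∑ t : ↥(P : Subgroup G), ω t =
      Nat.card ↥(P : Subgroup G) * ρ + Nat.card C₀ * ρ := by
    have e1 : Nat.card ↥(P : Subgroup G) = Fintype.card ↥(P : Subgroup G) :=
      Nat.card_eq_fintype_card
    have e2 : Nat.card C₀ = (Finset.univ.filter (fun t : ↥(P : Subgroup G) => t ∈ C₀)).card :=
      Nat.subtype_card _ (fun x => by simp)
    rw [e1, e2]
    simp only [ω]
    rw [Finset.sum_add_distrib, Finset.sum_const, Finset.card_univ, smul_eq_mul,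
      ← Finset.sum_filter, Finset.sum_const, smul_eq_mul]
  rw [← Finset.mul_sum, hωsum] at hwc
  set SK := ∑ b : PCl 2 G, κ (rep b) with hSK
  set a := Nat.card ↥(P : Subgroup G) with ha
  set c := Nat.card C₀ with hc'
  -- arithmetic
  have h6 : 2 * SK ≤ a * ρ := by
    have h7 : 2 * (c * ρ) ≤ a * ρ := by
      calc 2 * (c * ρ) = (2 * c) * ρ := by ring
        _ ≤ a * ρ := Nat.mul_le_mul_right ρ hC₀card
    omega
  have h8 : 2 * Nat.card (PiCl π G) ≤ a * (ρ * S') := by
    calc 2 * Nat.card (PiCl π G) ≤ 2 * (SK * S') := Nat.mul_le_mul_left 2 hfib2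
      _ = (2 * SK) * S' := by ring
      _ ≤ (a * ρ) * S' := Nat.mul_le_mul_right S' h6
      _ = a * (ρ * S') := by ring
  rw [hpi] at hk
  omega

end Cfsg.Agent.Helper60.PiTwo
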