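import Mathlib
import Cfsg.Agent.Helper60.PiTwoE

/-!
# Helper60 / PiTwoF

Many classes of `π`-elements with `2 ∈ π` (`k_π(G) > |G|_π / 2`) force a normal `π`-complement
and an abelian Hall subgroup for the odd primes of `π` (statement S3898).
-/

set_option autoImplicit false

namespace Cfsg.Agent.Helper60.PiTwo

open Cfsg.Agent.Helper60.PClassCount Cfsg.Agent.Helper60.TwoClassCount

universe u

variable {G : Type u} [Group G] [Finite G]

/-- Decomposition of an element into its `r`-part and `r'`-part, as powers. -/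
theorem exists_rdecomp_pow (r : ℕ) (hr : r.Prime) (g : G) :
    ∃ c c' : ℕ, g ^ c * g ^ c' = g ∧ (∃ k : ℕ, orderOf (g ^ c) = r ^ k) ∧
      ¬ r ∣ orderOf (g ^ c') := by
  set n := orderOf g with hn
  have hnpos : 0 < n := orderOf_pos g
  set a := n.factorization r with ha
  set m := n / r ^ a with hm
  have hnm : r ^ a * m = n := Nat.ordProj_mul_ordCompl_eq_self n r
  have hcop : Nat.Coprime (r ^ a) m :=
    Nat.Coprime.pow_left _ (Nat.coprime_ordCompl hr hnpos.ne')
  have hpm : ¬ r ∣ m := Nat.not_dvd_ordCompl hr hnpos.ne'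
  obtain ⟨c, hc1, hc2⟩ := Nat.chineseRemainder hcop 1 0
  obtain ⟨c', hc1', hc2'⟩ := Nat.chineseRemainder hcop 0 1
  have hmc : m ∣ c := (Nat.modEq_zero_iff_dvd).mp hc2
  have hpc' : r ^ a ∣ c' := (Nat.modEq_zero_iff_dvd).mp hc1'
  refine ⟨c, c', ?_, ?_, ?_⟩
  · rw [← pow_add]
    have h1 : c + c' ≡ 1 [MOD n] := by
      rw [← hnm]
      apply (Nat.modEq_and_modEq_iff_modEq_mul hcop).mp
      constructor
      · have := hc1.add hc1'
        simpa using this
      · have := hc2.add hc2'
        simpa using this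
    have : g ^ (c + c') = g ^ 1 := by
      rw [pow_eq_pow_iff_modEq]
      exact h1
    rw [this, pow_one]
  · have h1 : (g ^ c) ^ (r ^ a) = 1 := by
      obtain ⟨c₁, rfl⟩ := hmc
      rw [← pow_mul, mul_comm, ← mul_assoc, hnm, pow_mul, pow_orderOf_eq_one, one_pow]
    have h2 := orderOf_dvd_of_pow_eq_one h1
    obtain ⟨j, -, hj⟩ := (Nat.dvd_prime_pow hr).mp h2
    exact ⟨j, hj⟩
  · have h1 : (g ^ c') ^ m = 1 := by
      obtain ⟨c₁, rfl⟩ := hpc'
      rw [← pow_mul, mul_comm, ← mul_assoc, mul_comm m, hnm, pow_mul, pow_orderOf_eq_one, one_pow]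
    have h2 := orderOf_dvd_of_pow_eq_one h1
    intro h3
    exact hpm (h3.trans h2)

/-- The hypothesis on `π`-classes passes to each prime of `π`. -/
theorem many_r_classes_two (π : Finset ℕ) (hπ : ∀ r ∈ π, r.Prime)
    (hk : piPart π (Nat.card G) < 2 * Nat.card (PiCl π G))
    (r : ℕ) (hr : r ∈ π) [Fact r.Prime] (R : Sylow r G) :
    Nat.card ↥(R : Subgroup G) < 2 * Nat.card (PCl r G) := by
  classical
  have hrp : r.Prime := hπ r hr
  set σ := π.erase r with hσdef
  have hπeq : π = insert r σ := (Finset.insert_erase hr).symm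
  have hrσ : r ∉ σ := Finset.notMem_erase r π
  have hσ' : ∀ q ∈ σ, q.Prime := fun q hq => hπ q (Finset.mem_of_mem_erase hq)
  set S := piPart σ (Nat.card G) with hS
  have hSpos : 0 < S := piPart_pos σ hσ' _
  have h1 : Nat.card (PiCl π G) ≤ Nat.card (PCl r G) * S := by
    rw [hπeq]
    exact card_piCl_insert_le (H := G) r hrp σ S (fun x =>
      (card_piCl_le σ hσ' _).trans (piPart_le_of_dvd σ hσ' (Nat.card_pos.ne')
        (Subgroup.card_subgroup_dvd_card _)))
  have h2 : piPart π (Nat.card G) = Nat.card ↥(R : Subgroup G) * S := by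
    rw [hπeq, piPart_insert σ r hrσ, Sylow.card_eq_multiplicity]
  rw [h2] at hk
  have : Nat.card ↥(R : Subgroup G) * S < 2 * Nat.card (PCl r G) * S := by
    calc Nat.card ↥(R : Subgroup G) * S < 2 * Nat.card (PiCl π G) := hk
      _ ≤ 2 * (Nat.card (PCl r G) * S) := Nat.mul_le_mul_left _ h1
      _ = 2 * Nat.card (PCl r G) * S := by ring
  exact Nat.lt_of_mul_lt_mul_right this

/-- Claim B: `N_G(R₀) = C_G(R₀)`. -/
theorem normalizer_centralizes (M : Subgroup G) [M.Normal] (hModd : Odd (Nat.card M)) (k : ℕ)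
    (hidx : M.index = 2 ^ k) [Fact (Nat.Prime 2)] (P : Sylow 2 G)
    (r : ℕ) [Fact r.Prime] (hr3 : 3 ≤ r) (R : Sylow r G) (hRM : (R : Subgroup G) ≤ M)
    (hkr : Nat.card ↥(R : Subgroup G) < 2 * Nat.card (PCl r G))
    (hPC : (P : Subgroup G) ≤ Subgroup.centralizer ((R : Subgroup G) : Set G)) :
    ∀ n : ℕ, ∀ g : G, orderOf g = n → g ∈ Subgroup.normalizer ((R : Subgroup G) : Set G) →
      ∀ v ∈ (R : Subgroup G), g * v = v * g := by
  have hrp : r.Prime := Fact.out
  have hR₀ : Nat.card ↥(R : Subgroup G) = r ^ (Nat.card M).factorization r := by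
    rw [Sylow.card_eq_multiplicity, factorization_eq_of_index M k hidx r hrp hr3]
  intro n
  induction n using Nat.strong_induction_on with
  | _ n ih =>
    intro g hgn hgN
    by_cases h1 : n = 1
    · rw [h1, orderOf_eq_one_iff] at hgn
      intro v _
      rw [hgn, one_mul, mul_one]
    · obtain ⟨q, hq, hqdvd⟩ := Nat.exists_prime_and_dvd h1
      haveI : Fact q.Prime := ⟨hq⟩
      obtain ⟨c, c', hcc, ⟨j, hj⟩, hnd⟩ := exists_rdecomp_pow q hq g
      set z := g ^ c with hz
      set y := g ^ c' with hy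
      have hzN : z ∈ Subgroup.normalizer ((R : Subgroup G) : Set G) := Subgroup.pow_mem _ hgN c
      have hyN : y ∈ Subgroup.normalizer ((R : Subgroup G) : Set G) := Subgroup.pow_mem _ hgN c'
      have hylt : orderOf y < n := by
        have hdvd : orderOf y ∣ n := hgn ▸ orderOf_pow_dvd c'
        have hnpos : 0 < n := hgn ▸ orderOf_pos g
        rcases (Nat.le_of_dvd hnpos hdvd).lt_or_eq with h | h
        · exact h
        · exact absurd (h ▸ hqdvd) hnd
      have hyc := ih (orderOf y) hylt y rfl hyN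
      have hzn : ∀ v ∈ (R : Subgroup G), z * v * z⁻¹ ∈ (R : Subgroup G) :=
        fun v hv => (Subgroup.mem_normalizer_iff.mp hzN v).mp hv
      have hzc : ∀ v ∈ (R : Subgroup G), z * v = v * z := by
        by_cases hq2 : q = 2
        · subst hq2
          obtain ⟨p, hp⟩ := toPCl_surjective P (mkPCl 2 z ⟨j, hj⟩)
          have hconj : IsConj (p : G) z :=
            ConjClasses.mk_eq_mk_iff_isConj.mp (congrArg Subtype.val hp)
          obtain ⟨x, hx⟩ := isConj_iff.mp hconj
          set R₂ : Subgroup G := (R : Subgroup G).map (MulAut.conj x).toMonoidHom with hR₂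
          have hR₂M : R₂ ≤ M := by
            rintro _ ⟨v, hv, rfl⟩
            change x * v * x⁻¹ ∈ M
            exact (inferInstance : M.Normal).conj_mem v (hRM hv) x
          have hcard₂ : Nat.card R₂ = r ^ (Nat.card M).factorization r := by
            rw [hR₂, Subgroup.card_map_of_injective (MulAut.conj x).injective]
            exact hR₀
          have hcent : ∀ w ∈ R₂, z * w = w * z := by
            rintro _ ⟨v, hv, rfl⟩
            change z * (x * v * x⁻¹) = (x * v * x⁻¹) * z
            have hpv : v * (p : G) = (p : G) * v :=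
              (Subgroup.mem_centralizer_iff.mp (hPC p.2)) v hv
            rw [← hx]
            calc x * (p : G) * x⁻¹ * (x * v * x⁻¹) = x * ((p : G) * v) * x⁻¹ := by group
              _ = x * (v * (p : G)) * x⁻¹ := by rw [hpv]
              _ = x * v * x⁻¹ * (x * (p : G) * x⁻¹) := by group
          exact centralizes_of_normalizes M hModd r (R : Subgroup G) R₂ hRM hR₂M hR₀ hcard₂ z
            ⟨j, hj⟩ hzn hcent
        · exact odd_ppower_centralizes r hr3 R hkr q hq2 z j hj hzn
      intro v hv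
      rw [← hcc]
      calc z * y * v = z * (y * v) := by group
        _ = z * (v * y) := by rw [hyc v hv]
        _ = (z * v) * y := by group
        _ = (v * z) * y := by rw [hzc v hv]
        _ = v * (z * y) := by group

/-- The local normal complements. -/
theorem exists_local_complement (π : Finset ℕ) (hπ : ∀ r ∈ π, r.Prime) (h2 : 2 ∈ π)
    (hk : piPart π (Nat.card G) < 2 * Nat.card (PiCl π G)) (r : ℕ) (hr : r ∈ π) :
    ∃ K : Subgroup G, K.Normal ∧ ¬ r ∣ Nat.card K ∧ (∃ j : ℕ, K.index = r ^ j) ∧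
      (r ≠ 2 → ∀ a b : G, a * b * a⁻¹ * b⁻¹ ∈ K) := by
  haveI : Fact (Nat.Prime 2) := ⟨Nat.prime_two⟩
  obtain ⟨P₀⟩ : Nonempty (Sylow 2 G) := inferInstance
  have hk2 := many_r_classes_two π hπ hk 2 h2 P₀
  obtain ⟨⟨P, M, hMn, hc⟩, -⟩ := (many_two_classes_iff P₀).mp hk2
  haveI := hMn
  have hM2 : ¬ 2 ∣ Nat.card M := by
    rw [← hc.index_eq_card]
    exact P.not_dvd_index
  have hModd : Odd (Nat.card M) := by
    rw [← Nat.not_even_iff_odd, even_iff_two_dvd]
    exact hM2
  have hidx : M.index = 2 ^ (Nat.card G).factorization 2 := by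
    rw [hc.symm.index_eq_card, Sylow.card_eq_multiplicity]
  by_cases hr2 : r = 2
  · subst hr2
    exact ⟨M, hMn, hM2, ⟨_, hidx⟩, fun h => absurd rfl h⟩
  · haveI : Fact r.Prime := ⟨hπ r hr⟩
    have hrp : r.Prime := hπ r hr
    have hr3 : 3 ≤ r := by
      have := hrp.two_le
      omega
    -- a `P`-invariant Sylow `r`-subgroup of `M`
    have hAK : (P : Subgroup G) ≤ Subgroup.normalizer (M : Set G) := by
      rw [Subgroup.normalizer_eq_top]; exact le_top
    have hcop : (Nat.card ↥(P : Subgroup G)).Coprime (Nat.card M) := by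
      rw [Sylow.card_eq_multiplicity]
      exact Nat.Coprime.pow_left _ (Nat.coprime_two_left.mpr hModd)
    have hsolv : Group.IsSolvable ↥(P : Subgroup G) ∨ Group.IsSolvable M := by
      left
      haveI := P.2.isNilpotent
      infer_instance
    obtain ⟨Q, hQ⟩ := Cfsg.Agent.Helper1.exists_invariant_sylow (P : Subgroup G) M hAK hcop hsolv r
    set R₀ : Subgroup G := (Q : Subgroup M).map M.subtype with hR₀def
    have hR₀M : R₀ ≤ M := Subgroup.map_subtype_le _
    have hR₀ : Nat.card R₀ = r ^ (Nat.card G).factorization r := by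
      rw [hR₀def, Subgroup.card_map_of_injective M.subtype_injective, Sylow.card_eq_multiplicity,
        factorization_eq_of_index M _ hidx r hrp hr3]
    have hPC := sylow_two_le_centralizer π hπ h2 hk P M hc r hr hr2 R₀ hR₀M hR₀ hQ
    let R : Sylow r G := Sylow.ofCard R₀ hR₀
    have hRcoe : (R : Subgroup G) = R₀ := Sylow.coe_ofCard _ _
    have hkr := many_r_classes_two π hπ hk r hr R
    have hNC : Subgroup.normalizer ((R : Subgroup G) : Set G) ≤
        Subgroup.centralizer ((R : Subgroup G) : Set G) := by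
      intro g hg
      rw [Subgroup.mem_centralizer_iff]
      intro v hv
      exact (normalizer_centralizes M hModd _ hidx P r hr3 R (hRcoe ▸ hR₀M) hkr (hRcoe ▸ hPC)
        (orderOf g) g rfl hg v hv).symm
    have hcompl := MonoidHom.ker_transferSylow_isComplement' R hNC
    refine ⟨(MonoidHom.transferSylow R hNC).ker, inferInstance, ?_, ?_, fun _ => ?_⟩
    · rw [← hcompl.index_eq_card]
      exact R.not_dvd_index
    · refine ⟨(Nat.card G).factorization r, ?_⟩
      rw [hcompl.symm.index_eq_card, Sylow.card_eq_multiplicity]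
    · intro a b
      rw [MonoidHom.mem_ker]
      have hcomm : ∀ u v : ↥(R : Subgroup G), u * v = v * u := by
        intro u v
        have hu : (u : G) ∈ Subgroup.centralizer ((R : Subgroup G) : Set G) :=
          hNC (Subgroup.le_normalizer u.2)
        apply Subtype.ext
        rw [Subgroup.mem_centralizer_iff] at hu
        exact (hu v v.2).symm
      simp only [map_mul, map_inv]
      rw [hcomm ((MonoidHom.transferSylow R hNC) a) ((MonoidHom.transferSylow R hNC) b)]
      group

/-- Statement S3898 (with `piPart`). -/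
theorem normal_pi_complement_of_many_classes_two (π : Finset ℕ) (hπ : ∀ r ∈ π, r.Prime)
    (h2 : 2 ∈ π) (hk : piPart π (Nat.card G) < 2 * Nat.card (PiCl π G)) :
    (∃ N : Subgroup G, N.Normal ∧ (∀ r : ℕ, r.Prime → r ∣ Nat.card ↥N → r ∉ π) ∧
        ∀ r : ℕ, r.Prime → r ∣ N.index → r ∈ π) ∧
      ∃ H : Subgroup G, Cfsg.IsPiHall ((↑π : Set ℕ) \ {2}) H ∧ IsMulCommutative ↥H := by
  classical
  have hloc := exists_local_complement π hπ h2 hk
  choose! K hK using hloc
  constructor
  · obtain ⟨N, h1, h2', h3, -⟩ := exists_normal_of_local π hπ K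
      (fun r hr => ⟨(hK r hr).1, (hK r hr).2.1, (hK r hr).2.2.1⟩)
    exact ⟨N, h1, h2', h3⟩
  · obtain ⟨H, hH, hcomm⟩ := exists_abelian_hall_of_local (π.erase 2)
      (fun r hr => hπ r (Finset.mem_of_mem_erase hr)) K
      (fun r hr => ⟨(hK r (Finset.mem_of_mem_erase hr)).1, (hK r (Finset.mem_of_mem_erase hr)).2.1,
        (hK r (Finset.mem_of_mem_erase hr)).2.2.1,
        (hK r (Finset.mem_of_mem_erase hr)).2.2.2 (Finset.ne_of_mem_erase hr)⟩)
    refine ⟨H, ?_, hcomm⟩
    rw [← Finset.coe_erase]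
    exact hH

end Cfsg.Agent.Helper60.PiTwo
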