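import Mathlib

/-!
# Helper60 / QuatProdA

Elementary facts on `QuaternionGroup m` (unique involution, a commutator equal to it), existence of
involutions in nontrivial `2`-subgroups, and the "product over an orbit" fixed point lemma.
-/

set_option autoImplicit false

namespace Cfsg.Agent.Helper60.QuatProd

open QuaternionGroup

theorem zmod_double_eq_zero (m : ℕ) (hm : 1 ≤ m) (k : ZMod (2 * m)) (h : k + k = 0) :
    k = 0 ∨ k = (m : ZMod (2 * m)) := by
  haveI : NeZero (2 * m) := ⟨by omega⟩
  have hk : ((k.val + k.val : ℕ) : ZMod (2 * m)) = 0 := by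
    push_cast
    rw [ZMod.natCast_zmod_val]
    exact h
  rw [ZMod.natCast_eq_zero_iff] at hk
  have hlt : k.val < 2 * m := ZMod.val_lt k
  obtain ⟨c, hc⟩ := hk
  have hkk : k = ((k.val : ℕ) : ZMod (2 * m)) := (ZMod.natCast_zmod_val k).symm
  have hc2 : c = 0 ∨ c = 1 := by
    rcases c with _ | _ | c
    · left; rfl
    · right; rfl
    · exfalso
      have : 2 * m * (c + 1 + 1) = 2 * m * c + 4 * m := by ring
      omega
  rcases hc2 with rfl | rfl
  · left
    have : k.val = 0 := by omega
    rw [hkk, this]; simp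
  · right
    have : k.val = m := by omega
    rw [hkk, this]

theorem zmod_m_ne_zero' (m : ℕ) (hm : 1 ≤ m) : (m : ZMod (2 * m)) ≠ 0 := by
  intro h
  rw [ZMod.natCast_eq_zero_iff] at h
  have := Nat.le_of_dvd (by omega) h
  omega

theorem quat_sq_eq_one (m : ℕ) (hm : 1 ≤ m) (q : QuaternionGroup m) (hq : q * q = 1) :
    q = 1 ∨ q = a (m : ZMod (2 * m)) := by
  rcases q with k | k
  · rw [a_mul_a, one_def] at hq
    have h2 : k + k = 0 := by injection hq
    rcases zmod_double_eq_zero m hm k h2 with h | h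
    · left; rw [h, one_def]
    · right; rw [h]
  · exfalso
    rw [xa_mul_xa, one_def] at hq
    have h2 : (m : ZMod (2 * m)) + k - k = 0 := by injection hq
    apply zmod_m_ne_zero' m hm
    linear_combination h2

theorem quat_am_ne_one (m : ℕ) (hm : 1 ≤ m) : (a (m : ZMod (2 * m)) : QuaternionGroup m) ≠ 1 := by
  intro h
  rw [one_def] at h
  have h2 : (m : ZMod (2 * m)) = 0 := by injection h
  exact zmod_m_ne_zero' m hm h2

theorem quat_am_sq (m : ℕ) : (a (m : ZMod (2 * m)) : QuaternionGroup m) * a (m : ZMod (2 * m)) = 1 := by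
  rw [a_mul_a, one_def]
  congr 1
  have : ((2 * m : ℕ) : ZMod (2 * m)) = 0 := ZMod.natCast_self _
  push_cast at this
  linear_combination this

theorem quat_comm (m j : ℕ) (hm : m = 2 * j) :
    (xa 0 : QuaternionGroup m) * a (j : ZMod (2 * m)) =
      a (m : ZMod (2 * m)) * (a (j : ZMod (2 * m)) * xa 0) := by
  rw [xa_mul_a, a_mul_xa, a_mul_xa]
  congr 1
  have h0 : ((2 * m : ℕ) : ZMod (2 * m)) = 0 := ZMod.natCast_self _
  have hmj : (m : ZMod (2 * m)) = 2 * (j : ZMod (2 * m)) := by
    rw [hm]; push_cast; ring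
  push_cast at h0
  rw [hmj] at h0 ⊢
  linear_combination h0

variable {G : Type*} [Group G]

/-- A nontrivial finite `2`-subgroup contains an involution. -/
theorem exists_involution_of_ne_bot [Finite G] (P : Subgroup G) (hP : IsPGroup 2 P) (hne : P ≠ ⊥) :
    ∃ y ∈ P, y ≠ 1 ∧ y * y = 1 := by
  haveI : Fact (Nat.Prime 2) := ⟨Nat.prime_two⟩
  have h2 : 2 ∣ Nat.card P := by
    obtain ⟨n, hn⟩ := hP.exists_card_eq
    have hn0 : n ≠ 0 := by
      rintro rfl
      have : Nat.card P = 1 := by simpa using hn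
      exact hne (Subgroup.card_eq_one.mp this)
    rw [hn]
    exact dvd_pow_self 2 hn0
  obtain ⟨z, hz⟩ := exists_prime_orderOf_dvd_card' 2 h2
  refine ⟨(z : G), z.2, ?_, ?_⟩
  · intro h1
    have : z = 1 := Subtype.ext h1
    rw [this, orderOf_one] at hz
    omega
  · have := pow_orderOf_eq_one z
    rw [hz, pow_two] at this
    have h3 := congrArg Subtype.val this
    simpa using h3

/-- Product over an orbit: `A` an abelian subgroup normalized by `N`, `t ∈ A` such that every
`N`-conjugate of `t` is `t` or lies in the subgroup `B`.  Then some `N`-invariant element of `A`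
is of the form `t * b` with `b ∈ B`. -/
theorem exists_invariant_mul [Finite G] (N A B : Subgroup G) (t : G) (htA : t ∈ A)
    (hcomm : ∀ x ∈ A, ∀ y ∈ A, x * y = y * x)
    (hNA : ∀ n ∈ N, ∀ x ∈ A, n * x * n⁻¹ ∈ A)
    (hB : ∀ n ∈ N, n * t * n⁻¹ = t ∨ n * t * n⁻¹ ∈ B) :
    ∃ z ∈ A, (∀ n ∈ N, n * z * n⁻¹ = z) ∧ ∃ b ∈ B, z = t * b := by
  classical
  haveI : Fintype G := Fintype.ofFinite G
  set O : Finset G := Finset.univ.filter (fun x => ∃ n ∈ N, x = n * t * n⁻¹) with hO
  have hmemO : ∀ x, x ∈ O ↔ ∃ n ∈ N, x = n * t * n⁻¹ := by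
    intro x; simp [hO]
  have hOA : ∀ x ∈ O, x ∈ A := by
    intro x hx
    obtain ⟨n, hn, rfl⟩ := (hmemO x).mp hx
    exact hNA n hn t htA
  have htO : t ∈ O := (hmemO t).mpr ⟨1, N.one_mem, by simp⟩
  have hpair : ∀ L : List G, (∀ x ∈ L, x ∈ A) → L.Pairwise Commute := by
    intro L hL
    exact List.pairwise_of_forall_mem_list (fun x hx y hy => hcomm x (hL x hx) y (hL y hy))
  have hLA : ∀ x ∈ O.toList, x ∈ A := fun x hx => hOA x (Finset.mem_toList.mp hx)
  refine ⟨O.toList.prod, Subgroup.list_prod_mem A hLA, ?_, ?_⟩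
  · intro n hn
    have h1 : n * O.toList.prod * n⁻¹ = (O.toList.map (MulAut.conj n)).prod := by
      rw [← map_list_prod (MulAut.conj n)]
      simp [MulAut.conj_apply]
    rw [h1]
    symm
    apply List.Perm.prod_eq' _ (hpair _ hLA)
    apply (List.perm_ext_iff_of_nodup (Finset.nodup_toList O) ?_).mpr
    · intro x
      rw [Finset.mem_toList, List.mem_map]
      constructor
      · intro hx
        obtain ⟨k, hk, rfl⟩ := (hmemO x).mp hx
        refine ⟨n⁻¹ * (k * t * k⁻¹) * n, ?_, ?_⟩
        · rw [Finset.mem_toList, hmemO]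
          exact ⟨n⁻¹ * k, N.mul_mem (N.inv_mem hn) hk, by group⟩
        · simp [MulAut.conj_apply]; group
      · rintro ⟨y, hy, rfl⟩
        rw [Finset.mem_toList] at hy
        obtain ⟨k, hk, rfl⟩ := (hmemO y).mp hy
        rw [hmemO]
        exact ⟨n * k, N.mul_mem hn hk, by simp [MulAut.conj_apply]; group⟩
    · exact (Finset.nodup_toList O).map (MulAut.conj n).injective
  · have hperm : O.toList.Perm (t :: (O.erase t).toList) := by
      have h2 := Finset.toList_insert (Finset.notMem_erase t O)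
      rwa [Finset.insert_erase htO] at h2
    refine ⟨(O.erase t).toList.prod, ?_, ?_⟩
    · apply Subgroup.list_prod_mem
      intro x hx
      rw [Finset.mem_toList, Finset.mem_erase] at hx
      obtain ⟨hxt, hxO⟩ := hx
      obtain ⟨k, hk, rfl⟩ := (hmemO x).mp hxO
      rcases hB k hk with h | h
      · exact absurd h hxt
      · exact h
    · rw [List.Perm.prod_eq' hperm (hpair _ hLA), List.prod_cons]

end Cfsg.Agent.Helper60.QuatProd
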