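import Mathlib
import Cfsg.Prelude.Def_TwoFusion
import Cfsg.Agent.Helper60.QuatProdA

/-!
# Helper60 / QuatProdB

Sylow `2`-subgroup `S = Q × R`, `Q` with a unique involution `t` which is a commutator in `Q`
(generalized quaternion), involutions of `R` central in `R`.  Then, given the Z*-theorem for `G`,
`G` is not simple.
-/

set_option autoImplicit false

namespace Cfsg.Agent.Helper60.QuatProd

variable {G : Type*} [Group G]

/-- A "quaternion-like" subgroup: unique involution `t`, which is a commutator. -/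
structure QData (Q : Subgroup G) (t : G) : Prop where
  mem : t ∈ Q
  ne_one : t ≠ 1
  sq : t * t = 1
  uniq : ∀ q ∈ Q, q * q = 1 → q = 1 ∨ q = t
  comm : ∃ x ∈ Q, ∃ y ∈ Q, x * y = t * (y * x)

/-- Unbundled internal direct product. -/
structure DP (Q R S : Subgroup G) : Prop where
  hQ : Q ≤ S
  hR : R ≤ S
  comm : ∀ a ∈ Q, ∀ b ∈ R, a * b = b * a
  disj : ∀ x, x ∈ Q → x ∈ R → x = 1
  dec : ∀ s ∈ S, ∃ q ∈ Q, ∃ r ∈ R, s = q * r

theorem DP.of_internal {Q R S : Subgroup G} (h : Cfsg.IsInternalDirectProduct Q R S) :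
    DP Q R S := by
  obtain ⟨hQ, hR, hc, hd, hs⟩ := h
  refine ⟨hQ, hR, hc, ?_, ?_⟩
  · intro x hxQ hxR
    have : x ∈ Q ⊓ R := ⟨hxQ, hxR⟩
    rw [hd] at this
    exact Subgroup.mem_bot.mp this
  · let M : Subgroup G :=
      { carrier := {x | ∃ q ∈ Q, ∃ r ∈ R, x = q * r}
        one_mem' := ⟨1, Q.one_mem, 1, R.one_mem, by simp⟩
        mul_mem' := by
          rintro _ _ ⟨q, hq, r, hr, rfl⟩ ⟨q', hq', r', hr', rfl⟩
          refine ⟨q * q', Q.mul_mem hq hq', r * r', R.mul_mem hr hr', ?_⟩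
          have := hc q' hq' r hr
          calc q * r * (q' * r') = q * (r * q') * r' := by group
            _ = q * (q' * r) * r' := by rw [this]
            _ = q * q' * (r * r') := by group
        inv_mem' := by
          rintro _ ⟨q, hq, r, hr, rfl⟩
          refine ⟨q⁻¹, Q.inv_mem hq, r⁻¹, R.inv_mem hr, ?_⟩
          have := hc q⁻¹ (Q.inv_mem hq) r⁻¹ (R.inv_mem hr)
          rw [mul_inv_rev, this] }
    have hQM : Q ≤ M := fun q hq => ⟨q, hq, 1, R.one_mem, by simp⟩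
    have hRM : R ≤ M := fun r hr => ⟨1, Q.one_mem, r, hr, by simp⟩
    intro s hs'
    have : s ∈ M := (sup_le hQM hRM) (by rw [hs]; exact hs')
    exact this

theorem conj_cancel (a b c : G) (h : b * c = c * b) :
    (a * b) * c * (a * b)⁻¹ = a * c * a⁻¹ := by
  rw [mul_inv_rev, mul_assoc a b c, h]; group

section
variable {Q R S : Subgroup G}

theorem DP.normQ (h : DP Q R S) : ∀ s ∈ S, ∀ q ∈ Q, s * q * s⁻¹ ∈ Q := by
  intro s hs q hq
  obtain ⟨q', hq', r', hr', rfl⟩ := h.dec s hs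
  rw [conj_cancel q' r' q (h.comm q hq r' hr').symm]
  exact Q.mul_mem (Q.mul_mem hq' hq) (Q.inv_mem hq')

theorem DP.normR (h : DP Q R S) : ∀ s ∈ S, ∀ r ∈ R, s * r * s⁻¹ ∈ R := by
  intro s hs r hr
  obtain ⟨q', hq', r', hr', rfl⟩ := h.dec s hs
  rw [h.comm q' hq' r' hr', conj_cancel r' q' r (h.comm q' hq' r hr)]
  exact R.mul_mem (R.mul_mem hr' hr) (R.inv_mem hr')

theorem DP.sq_split (h : DP Q R S) {q r : G} (hq : q ∈ Q) (hr : r ∈ R)
    (hs : (q * r) * (q * r) = 1) : q * q = 1 ∧ r * r = 1 := by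
  have h1 : (q * q) * (r * r) = 1 := by
    have := h.comm q hq r hr
    calc q * q * (r * r) = q * (q * r) * r := by group
      _ = q * (r * q) * r := by rw [this]
      _ = (q * r) * (q * r) := by group
      _ = 1 := hs
  have h2 : q * q = (r * r)⁻¹ := eq_inv_of_mul_eq_one_left h1
  have h3 : q * q = 1 :=
    h.disj _ (Q.mul_mem hq hq) (by rw [h2]; exact R.inv_mem (R.mul_mem hr hr))
  refine ⟨h3, ?_⟩
  rw [h3, one_mul] at h1
  exact h1

theorem QData.central {t : G} (hQd : QData Q t) : ∀ g ∈ Q, g * t = t * g := by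
  intro g hg
  have h1 : g * t * g⁻¹ ∈ Q := Q.mul_mem (Q.mul_mem hg hQd.mem) (Q.inv_mem hg)
  have h2 : (g * t * g⁻¹) * (g * t * g⁻¹) = 1 := by
    calc (g * t * g⁻¹) * (g * t * g⁻¹) = g * (t * t) * g⁻¹ := by group
      _ = 1 := by rw [hQd.sq]; group
  rcases hQd.uniq _ h1 h2 with h3 | h3
  · exfalso
    apply hQd.ne_one
    have : t = g⁻¹ * (g * t * g⁻¹) * g := by group
    rw [this, h3]; group
  · calc g * t = (g * t * g⁻¹) * g := by group
      _ = t * g := by rw [h3]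

/-- Every element of `S` squaring to `1` is central in `S`. -/
theorem invol_central (h : DP Q R S) {t : G} (hQd : QData Q t)
    (hR : ∀ r ∈ R, orderOf r = 2 → ∀ s ∈ R, r * s = s * r) :
    ∀ s ∈ S, s * s = 1 → ∀ x ∈ S, s * x = x * s := by
  haveI : Fact (Nat.Prime 2) := ⟨Nat.prime_two⟩
  intro s hs hss x hx
  obtain ⟨q, hq, r, hr, rfl⟩ := h.dec s hs
  obtain ⟨q', hq', r', hr', rfl⟩ := h.dec x hx
  obtain ⟨hqq, hrr⟩ := h.sq_split hq hr hss
  have hq1 : Commute q q' := by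
    rcases hQd.uniq q hq hqq with rfl | rfl
    · exact Commute.one_left _
    · exact (hQd.central q' hq').symm
  have hq2 : Commute q r' := h.comm q hq r' hr'
  have hr1 : Commute r q' := (h.comm q' hq' r hr).symm
  have hr2 : Commute r r' := by
    by_cases hr0 : r = 1
    · rw [hr0]; exact Commute.one_left _
    · have : orderOf r = 2 := orderOf_eq_prime (by rw [pow_two]; exact hrr) hr0
      exact hR r hr this r' hr'
  exact ((hq1.mul_right hq2).mul_left (hr1.mul_right hr2)).eq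

/-- Key lemma: an automorphism of `S` induced by `n` maps `t` to `t` or into `R`. -/
theorem conj_t [Finite G] (h : DP Q R S) {t : G} (hQd : QData Q t) (hS2 : IsPGroup 2 S)
    (n : G) (hn1 : ∀ s ∈ S, n * s * n⁻¹ ∈ S) (hn2 : ∀ s ∈ S, n⁻¹ * s * n ∈ S) :
    n * t * n⁻¹ = t ∨ n * t * n⁻¹ ∈ R := by
  set t' := n * t * n⁻¹ with ht'
  have ht'S : t' ∈ S := hn1 t (h.hQ hQd.mem)
  have ht'sq : t' * t' = 1 := by
    calc t' * t' = n * (t * t) * n⁻¹ := by rw [ht']; group
      _ = 1 := by rw [hQd.sq]; group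
  obtain ⟨q, hq, r, hr, hdec⟩ := h.dec t' ht'S
  obtain ⟨hqq, hrr⟩ := h.sq_split hq hr (by rw [← hdec]; exact ht'sq)
  rcases hQd.uniq q hq hqq with hq1 | hq1
  · right
    rw [hdec, hq1, one_mul]; exact hr
  · left
    rw [hq1] at hdec
    -- `t' ∉ R`
    have ht'R : t' ∉ R := by
      intro hmem
      apply hQd.ne_one
      apply h.disj t hQd.mem
      have : t = t' * r⁻¹ := by rw [hdec]; group
      rw [this]
      exact R.mul_mem hmem (R.inv_mem hr)
    -- the subgroup of `Q` mapped into `R` is trivial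
    let P : Subgroup G := Q ⊓ R.comap (MulAut.conj n).toMonoidHom
    have hPmem : ∀ y, y ∈ P ↔ y ∈ Q ∧ n * y * n⁻¹ ∈ R := by
      intro y
      simp only [P, Subgroup.mem_inf, Subgroup.mem_comap]
      rfl
    have hPbot : P = ⊥ := by
      by_contra hne
      have hP2 : IsPGroup 2 P := hS2.to_le (le_trans inf_le_left h.hQ)
      obtain ⟨y, hyP, hy1, hyy⟩ := exists_involution_of_ne_bot P hP2 hne
      obtain ⟨hyQ, hyR⟩ := (hPmem y).mp hyP
      rcases hQd.uniq y hyQ hyy with h1 | h1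
      · exact hy1 h1
      · rw [h1] at hyR
        exact ht'R hyR
    -- Claim 1
    have hcl1 : ∀ x ∈ Q, ∀ ρ ∈ R, (n * x * n⁻¹) * ρ = ρ * (n * x * n⁻¹) := by
      intro x hx ρ hρ
      have hXS : n * x * n⁻¹ ∈ S := hn1 x (h.hQ hx)
      set c := (n * x * n⁻¹) * ρ * (n * x * n⁻¹)⁻¹ * ρ⁻¹ with hc
      have hcR : c ∈ R := R.mul_mem (h.normR _ hXS ρ hρ) (R.inv_mem hρ)
      set σ := n⁻¹ * ρ * n with hσ
      have hσS : σ ∈ S := hn2 ρ (h.hR hρ)
      have hyQ : x * (σ * x⁻¹ * σ⁻¹) ∈ Q :=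
        Q.mul_mem hx (h.normQ σ hσS x⁻¹ (Q.inv_mem hx))
      have hyc : n * (x * (σ * x⁻¹ * σ⁻¹)) * n⁻¹ = c := by
        rw [hc, hσ]; group
      have hyP : x * (σ * x⁻¹ * σ⁻¹) ∈ P := (hPmem _).mpr ⟨hyQ, by rw [hyc]; exact hcR⟩
      rw [hPbot, Subgroup.mem_bot] at hyP
      have hc1 : c = 1 := by rw [← hyc, hyP]; group
      have : (n * x * n⁻¹) * ρ = c * (ρ * (n * x * n⁻¹)) := by rw [hc]; group
      rw [this, hc1, one_mul]
    -- Claim 2
    obtain ⟨x₀, hx₀, y₀, hy₀, hxy⟩ := hQd.comm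
    set X := n * x₀ * n⁻¹ with hX
    set Y := n * y₀ * n⁻¹ with hY
    have hXS : X ∈ S := hn1 x₀ (h.hQ hx₀)
    have hYS : Y ∈ S := hn1 y₀ (h.hQ hy₀)
    have hXY : X * Y = t' * (Y * X) := by
      calc X * Y = n * (x₀ * y₀) * n⁻¹ := by rw [hX, hY]; group
        _ = n * (t * (y₀ * x₀)) * n⁻¹ := by rw [hxy]
        _ = t' * (Y * X) := by rw [ht', hX, hY]; group
    obtain ⟨qX, hqX, rX, hrX, hXdec⟩ := h.dec X hXS
    have hrXR : ∀ ρ ∈ R, Commute rX ρ := by
      intro ρ hρ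
      have h1 : Commute X ρ := hcl1 x₀ hx₀ ρ hρ
      have h2 : Commute qX ρ := h.comm qX hqX ρ hρ
      have h3 : rX = qX⁻¹ * X := by rw [hXdec]; group
      rw [h3]
      exact h2.inv_left.mul_left h1
    have hrXY : Commute rX Y := by
      obtain ⟨qY, hqY, rY, hrY, hYdec⟩ := h.dec Y hYS
      rw [hYdec]
      exact (Commute.mul_right (h.comm qY hqY rX hrX).symm (hrXR rY hrY))
    have ht'Q : t' ∈ Q := by
      have h1 : t' = X * Y * X⁻¹ * Y⁻¹ := by rw [hXY]; group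
      have h2 : X * Y * X⁻¹ = qX * Y * qX⁻¹ := by
        rw [hXdec]; exact conj_cancel qX rX Y hrXY.eq
      have h3 : t' = qX * (Y * qX⁻¹ * Y⁻¹) := by rw [h1, h2]; group
      rw [h3]
      exact Q.mul_mem hqX (h.normQ Y hYS qX⁻¹ (Q.inv_mem hqX))
    have hr1 : r = 1 := by
      apply h.disj r _ hr
      have : r = t⁻¹ * t' := by rw [hdec]; group
      rw [this]
      exact Q.mul_mem (Q.inv_mem hQd.mem) ht'Q
    rw [hdec, hr1, mul_one]

end

end Cfsg.Agent.Helper60.QuatProd
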