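import Mathlib
import Cfsg.Prelude.Def_TwoFusion
import Cfsg.Agent.Helper60.QuatProdB

/-!
# Helper60 / QuatProdC

Main theorem: Sylow `2`-subgroup `S = Q × R`, `Q` quaternion-like, involutions of `R` central in `R`,
Z*-theorem available for `G` ⇒ `G` not simple.  Then the specialization to
`Q ≃* QuaternionGroup (2 ^ n)`.
-/

set_option autoImplicit false

namespace Cfsg.Agent.Helper60.QuatProd

theorem not_simple_core {G : Type*} [Group G] [Finite G]
    (ZS : ∀ (P : Sylow 2 G) (u : G), orderOf u = 2 → u ∈ P →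
      (∀ g : G, g * u * g⁻¹ ∈ P → g * u * g⁻¹ = u) →
      ∃ N : Subgroup G, N.Normal ∧ Odd (Nat.card N) ∧ ∀ g : G, (u * g * u⁻¹ * g⁻¹) ∈ N)
    (S : Sylow 2 G) (Q R : Subgroup G)
    (hQR : Cfsg.IsInternalDirectProduct Q R (S : Subgroup G))
    (t : G) (hQd : QData Q t)
    (hR : ∀ r ∈ R, orderOf r = 2 → ∀ s ∈ R, r * s = s * r) : ¬ IsSimpleGroup G := by
  classical
  haveI : Fact (Nat.Prime 2) := ⟨Nat.prime_two⟩
  intro hsimple
  haveI := hsimple
  have h := DP.of_internal hQR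
  have hS2 : IsPGroup 2 (S : Subgroup G) := S.isPGroup'
  have hcent := invol_central h hQd hR
  let E : Subgroup G :=
    { carrier := {s | s ∈ (S : Subgroup G) ∧ s * s = 1}
      one_mem' := ⟨Subgroup.one_mem _, by simp⟩
      mul_mem' := by
        rintro a b ⟨ha, haa⟩ ⟨hb, hbb⟩
        refine ⟨Subgroup.mul_mem _ ha hb, ?_⟩
        have := hcent a ha haa b hb
        calc a * b * (a * b) = a * (b * a) * b := by group
          _ = a * (a * b) * b := by rw [this]
          _ = (a * a) * (b * b) := by group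
          _ = 1 := by rw [haa, hbb, one_mul]
      inv_mem' := by
        rintro a ⟨ha, haa⟩
        refine ⟨Subgroup.inv_mem _ ha, ?_⟩
        rw [← mul_inv_rev, haa, inv_one] }
  have hEmem : ∀ x, x ∈ E ↔ x ∈ (S : Subgroup G) ∧ x * x = 1 := fun x => Iff.rfl
  set N : Subgroup G := Subgroup.normalizer ((S : Subgroup G) : Set G) with hN
  have hN1 : ∀ n ∈ N, ∀ s ∈ (S : Subgroup G), n * s * n⁻¹ ∈ (S : Subgroup G) :=
    fun n hn s hs => (Subgroup.mem_normalizer_iff.mp hn s).mp hs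
  have hN2 : ∀ n ∈ N, ∀ s ∈ (S : Subgroup G), n⁻¹ * s * n ∈ (S : Subgroup G) := by
    intro n hn s hs
    have := hN1 n⁻¹ (N.inv_mem hn) s hs
    simpa using this
  have hconjsq : ∀ (g x : G), x * x = 1 → (g * x * g⁻¹) * (g * x * g⁻¹) = 1 := by
    intro g x hx
    calc (g * x * g⁻¹) * (g * x * g⁻¹) = g * (x * x) * g⁻¹ := by group
      _ = 1 := by rw [hx]; group
  obtain ⟨z, hzE, hzinv, b, hbR, hzb⟩ := exists_invariant_mul N E R t
    ((hEmem t).mpr ⟨h.hQ hQd.mem, hQd.sq⟩)
    (fun x hx y hy => hcent x hx.1 hx.2 y hy.1)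
    (fun n hn x hx => (hEmem _).mpr ⟨hN1 n hn x hx.1, hconjsq n x hx.2⟩)
    (fun n hn => conj_t h hQd hS2 n (hN1 n hn) (hN2 n hn))
  obtain ⟨hzS, hzz⟩ := (hEmem z).mp hzE
  have hz1 : z ≠ 1 := by
    intro hz
    apply hQd.ne_one
    apply h.disj t hQd.mem
    have : t = b⁻¹ := by
      rw [hz] at hzb
      exact eq_inv_of_mul_eq_one_left hzb.symm
    rw [this]
    exact R.inv_mem hbR
  have hz2 : orderOf z = 2 := orderOf_eq_prime (by rw [pow_two]; exact hzz) hz1
  have hzC : z ∈ Subgroup.centralizer ((S : Subgroup G) : Set G) := by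
    rw [Subgroup.mem_centralizer_iff]
    intro x hx
    exact (hcent z hzS hzz x hx).symm
  have hiso : ∀ g : G, g * z * g⁻¹ ∈ S → g * z * g⁻¹ = z := by
    intro g hg
    have hsq : (g * z * g⁻¹) * (g * z * g⁻¹) = 1 := hconjsq g z hzz
    have hC : g * z * g⁻¹ ∈ Subgroup.centralizer ((S : Subgroup G) : Set G) := by
      rw [Subgroup.mem_centralizer_iff]
      intro x hx
      exact (hcent _ hg hsq x hx).symm
    obtain ⟨n, hn, hnz⟩ := S.conj_eq_normalizer_conj_of_mem_centralizer z g⁻¹ hzC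
      (by simpa using hC)
    have h3 := hzinv n⁻¹ (N.inv_mem hn)
    rw [inv_inv] at hnz h3
    rw [hnz, h3]
  obtain ⟨N₀, hN₀n, hN₀odd, hN₀⟩ := ZS S z hz2 hzS hiso
  rcases hN₀n.eq_bot_or_eq_top with hbot | htop
  · have hzc : ∀ g : G, z * g = g * z := by
      intro g
      have := hN₀ g
      rw [hbot, Subgroup.mem_bot] at this
      calc z * g = (z * g * z⁻¹ * g⁻¹) * (g * z) := by group
        _ = g * z := by rw [this, one_mul]
    have hzcenter : z ∈ Subgroup.center G :=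
      Subgroup.mem_center_iff.mpr (fun g => (hzc g).symm)
    have hcn : (Subgroup.center G).Normal := inferInstance
    rcases hcn.eq_bot_or_eq_top with hb | ht
    · rw [hb, Subgroup.mem_bot] at hzcenter
      exact hz1 hzcenter
    · obtain ⟨x₀, hx₀, y₀, hy₀, hxy⟩ := hQd.comm
      have hx0c : x₀ ∈ Subgroup.center G := by rw [ht]; trivial
      have h4 := Subgroup.mem_center_iff.mp hx0c y₀
      apply hQd.ne_one
      rw [h4] at hxy
      have h5 : 1 * (x₀ * y₀) = t * (x₀ * y₀) := by rw [one_mul]; exact hxy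
      exact (mul_right_cancel h5).symm
  · rw [htop, Subgroup.card_top] at hN₀odd
    have h2 : 2 ∣ Nat.card G := hz2 ▸ orderOf_dvd_natCard z
    rcases hN₀odd with ⟨k, hk⟩
    omega

/-- The statement of S3269 with the Z*-theorem for `G` as a hypothesis. -/
theorem not_simple_of_quaternion {G : Type*} [Group G] [Finite G]
    (ZS : ∀ (P : Sylow 2 G) (u : G), orderOf u = 2 → u ∈ P →
      (∀ g : G, g * u * g⁻¹ ∈ P → g * u * g⁻¹ = u) →
      ∃ N : Subgroup G, N.Normal ∧ Odd (Nat.card N) ∧ ∀ g : G, (u * g * u⁻¹ * g⁻¹) ∈ N)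
    (S : Sylow 2 G) (Q R : Subgroup G)
    (hQR : Cfsg.IsInternalDirectProduct Q R (S : Subgroup G))
    (n : ℕ) (hn : 1 ≤ n) (eQ : ↥Q ≃* QuaternionGroup (2 ^ n))
    (hR : ∀ r ∈ R, orderOf r = 2 → ∀ s ∈ R, r * s = s * r) : ¬ IsSimpleGroup G := by
  have hm : 1 ≤ 2 ^ n := Nat.one_le_two_pow
  set m := 2 ^ n with hmdef
  have hmj : m = 2 * 2 ^ (n - 1) := by
    rw [hmdef]
    obtain ⟨k, rfl⟩ : ∃ k, n = k + 1 := ⟨n - 1, by omega⟩
    rw [pow_succ, Nat.add_sub_cancel, mul_comm]
  set tq : ↥Q := eQ.symm (QuaternionGroup.a (m : ZMod (2 * m))) with htq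
  have hQd : QData Q (tq : G) := by
    refine ⟨tq.2, ?_, ?_, ?_, ?_⟩
    · intro h1
      have h2 : tq = 1 := Subtype.ext h1
      have h3 : eQ tq = 1 := by rw [h2, map_one]
      rw [htq, MulEquiv.apply_symm_apply] at h3
      exact quat_am_ne_one m hm h3
    · have h1 : tq * tq = 1 := by
        rw [htq, ← map_mul, quat_am_sq, map_one]
      have := congrArg Subtype.val h1
      simpa using this
    · intro q hq hqq
      have h1 : (⟨q, hq⟩ : ↥Q) * ⟨q, hq⟩ = 1 := Subtype.ext hqq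
      have h2 : eQ ⟨q, hq⟩ * eQ ⟨q, hq⟩ = 1 := by rw [← map_mul, h1, map_one]
      rcases quat_sq_eq_one m hm _ h2 with h3 | h3
      · left
        have : (⟨q, hq⟩ : ↥Q) = 1 := by
          apply eQ.injective; rw [h3, map_one]
        exact congrArg Subtype.val this
      · right
        have : (⟨q, hq⟩ : ↥Q) = tq := by
          apply eQ.injective; rw [h3, htq, MulEquiv.apply_symm_apply]
        exact congrArg Subtype.val this
    · refine ⟨(eQ.symm (QuaternionGroup.xa 0) : ↥Q), Subtype.property _,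
        (eQ.symm (QuaternionGroup.a ((2 ^ (n - 1) : ℕ) : ZMod (2 * m))) : ↥Q),
        Subtype.property _, ?_⟩
      have h1 := quat_comm m (2 ^ (n - 1)) hmj
      have h2 := congrArg eQ.symm h1
      rw [map_mul, map_mul, map_mul] at h2
      have h3 := congrArg Subtype.val h2
      simpa using h3
  exact not_simple_core ZS S Q R hQR (tq : G) hQd hR

end Cfsg.Agent.Helper60.QuatProd
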