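import Mathlib

set_option autoImplicit false

namespace Cfsg.Agent.Helper60.SC3

universe u

/-- (ALG) the key algebra. -/
theorem alg_pair {G : Type u} [Group G] {t a b : G} (ht : orderOf t = 2) (ha : orderOf a = 3)
    (hb : orderOf b = 3) (hab : a * b = t) :
    (a⁻¹ * t * a) ^ 2 = 1 ∧ a⁻¹ * t * a ≠ 1 ∧ a⁻¹ * t * a ≠ t ∧
      (a⁻¹ * t * a) * t = t * (a⁻¹ * t * a) ∧
      a⁻¹ * (a⁻¹ * t * a) * a = (a⁻¹ * t * a) * t := by
  have ht2 : t * t = 1 := by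
    have := pow_orderOf_eq_one t
    rw [ht, pow_two] at this
    exact this
  have ht1 : t ≠ 1 := by
    intro h
    rw [h, orderOf_one] at ht
    norm_num at ht
  have ti : t⁻¹ = t := inv_eq_of_mul_eq_one_left ht2
  have ha3 : a * a * a = 1 := by
    have := pow_orderOf_eq_one a
    rw [ha, pow_succ, pow_two] at this
    exact this
  have a2 : a * a = a⁻¹ := eq_inv_of_mul_eq_one_left ha3
  have hbe : b = a⁻¹ * t := by
    rw [← hab]; group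
  have hb3 : a⁻¹ * t * (a⁻¹ * t) * (a⁻¹ * t) = 1 := by
    have := pow_orderOf_eq_one b
    rw [hb, pow_succ, pow_two, hbe] at this
    exact this
  -- E'' : t * a⁻¹ = a * t * a * t
  have E : t * a⁻¹ = a * t * a * t := by
    have h1 : t * a⁻¹ = a * (a⁻¹ * t * (a⁻¹ * t) * (a⁻¹ * t)) * (t⁻¹ * a * t⁻¹) := by group
    rw [h1, hb3, ti]
    group
  have h5 : a⁻¹ * (a⁻¹ * t * a) * a = (a⁻¹ * t * a) * t := by
    calc a⁻¹ * (a⁻¹ * t * a) * a = (a * a)⁻¹ * t * (a * a) := by group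
      _ = a * t * a⁻¹ := by rw [a2, inv_inv]
      _ = a * (t * a⁻¹) := by group
      _ = a * (a * t * a * t) := by rw [E]
      _ = (a * a) * t * a * t := by group
      _ = a⁻¹ * t * a * t := by rw [a2]
  have hs2 : (a⁻¹ * t * a) ^ 2 = 1 := by
    rw [pow_two]
    calc a⁻¹ * t * a * (a⁻¹ * t * a) = a⁻¹ * (t * t) * a := by group
      _ = 1 := by rw [ht2]; group
  have hs1 : a⁻¹ * t * a ≠ 1 := by
    intro h
    apply ht1
    calc t = a * (a⁻¹ * t * a) * a⁻¹ := by group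
      _ = 1 := by rw [h]; group
  -- (s t)^2 = 1 since s t is conjugate to s
  have hst2 : (a⁻¹ * t * a * t) * (a⁻¹ * t * a * t) = 1 := by
    rw [← h5]
    calc a⁻¹ * (a⁻¹ * t * a) * a * (a⁻¹ * (a⁻¹ * t * a) * a)
        = a⁻¹ * ((a⁻¹ * t * a) * (a⁻¹ * t * a)) * a := by group
      _ = 1 := by rw [← pow_two, hs2]; group
  have hss : (a⁻¹ * t * a) * (a⁻¹ * t * a) = 1 := by rw [← pow_two]; exact hs2
  have h4 : (a⁻¹ * t * a) * t = t * (a⁻¹ * t * a) := by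
    have h1 : (a⁻¹ * t * a) * t = (t * (a⁻¹ * t * a))⁻¹ := by
      apply eq_inv_of_mul_eq_one_left
      calc a⁻¹ * t * a * t * (t * (a⁻¹ * t * a))
          = a⁻¹ * t * a * (t * t) * (a⁻¹ * t * a) := by group
        _ = 1 := by rw [ht2, mul_one, hss]
    have h2 : (t * (a⁻¹ * t * a))⁻¹ = (a⁻¹ * t * a)⁻¹ * t⁻¹ := by group
    have h3 : (a⁻¹ * t * a)⁻¹ = a⁻¹ * t * a := inv_eq_of_mul_eq_one_left hss
    -- (s t)^2 = 1 gives s t = (s t)⁻¹ = t⁻¹ s⁻¹ = t s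
    have h6 : (a⁻¹ * t * a * t)⁻¹ = a⁻¹ * t * a * t := inv_eq_of_mul_eq_one_left hst2
    calc a⁻¹ * t * a * t = (a⁻¹ * t * a * t)⁻¹ := h6.symm
      _ = t⁻¹ * (a⁻¹ * t * a)⁻¹ := by group
      _ = t * (a⁻¹ * t * a) := by rw [ti, h3]
  refine ⟨hs2, hs1, ?_, h4, h5⟩
  intro hst
  -- s = t forces s t = 1, but s t is conjugate to s = t ≠ 1
  have h7 : a⁻¹ * (a⁻¹ * t * a) * a = 1 := by
    rw [h5, hst, ht2]
  apply hs1
  calc a⁻¹ * t * a = a * (a⁻¹ * (a⁻¹ * t * a) * a) * a⁻¹ := by group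
    _ = 1 := by rw [h7]; group

/-- (FIB) two pairs with the same `s` differ by an element centralizing `t` and `s`. -/
theorem fib_mem {G : Type u} [Group G] {t a b a' b' : G} (ht : orderOf t = 2)
    (ha : orderOf a = 3) (hb : orderOf b = 3) (hab : a * b = t)
    (ha' : orderOf a' = 3) (hb' : orderOf b' = 3) (hab' : a' * b' = t)
    (hs : a'⁻¹ * t * a' = a⁻¹ * t * a) :
    (a' * a⁻¹) * t = t * (a' * a⁻¹) ∧
      (a' * a⁻¹) * (a⁻¹ * t * a) = (a⁻¹ * t * a) * (a' * a⁻¹) := by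
  have h5 := (alg_pair ht ha hb hab).2.2.2.2
  have h5' := (alg_pair ht ha' hb' hab').2.2.2.2
  rw [hs] at h5'
  -- h5  : a⁻¹ * s * a = s * t,  h5' : a'⁻¹ * s * a' = s * t   (s = a⁻¹ t a)
  constructor
  · -- a' a⁻¹ t = a' s a⁻¹ = t a' a⁻¹
    calc a' * a⁻¹ * t = a' * (a⁻¹ * t * a) * a⁻¹ := by group
      _ = a' * (a'⁻¹ * t * a') * a⁻¹ := by rw [hs]
      _ = t * (a' * a⁻¹) := by group
  · have h8 : a⁻¹ * (a⁻¹ * t * a) * a = a'⁻¹ * (a⁻¹ * t * a) * a' := by rw [h5, h5']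
    calc a' * a⁻¹ * (a⁻¹ * t * a) = a' * (a⁻¹ * (a⁻¹ * t * a) * a) * a⁻¹ := by group
      _ = a' * (a'⁻¹ * (a⁻¹ * t * a) * a') * a⁻¹ := by rw [h8]
      _ = (a⁻¹ * t * a) * (a' * a⁻¹) := by group

end Cfsg.Agent.Helper60.SC3
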