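import Cfsg.Agent.Helper62.SC3.Defs2
import Cfsg.Agent.Helper60.SC3A_AF

set_option autoImplicit false

namespace Cfsg.Agent.Helper60.SC3

open Cfsg.Agent.Helper62.SC3

universe u

/-- (CNT) counting the pairs through the fibres of `(a, b) ↦ a⁻¹ t a`. -/
theorem pairs3_le {G : Type u} [Group G] [Finite G] (t : G) (ht : orderOf t = 2)
    (τ : Subgroup.centralizer ({t} : Set G)) (hτ : (τ : G) = t)
    (I : Finset (Subgroup.centralizer ({t} : Set G)))
    (hI : ∀ s : Subgroup.centralizer ({t} : Set G), s ∈ I ↔ s ^ 2 = 1 ∧ s ≠ 1 ∧ s ≠ τ) :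
    pairs3 t ≤ ∑ s ∈ I, Nat.card (Subgroup.centralizer
      ({s} : Set (Subgroup.centralizer ({t} : Set G)))) := by
  classical
  haveI : Fintype (Subgroup.centralizer ({t} : Set G)) := Fintype.ofFinite _
  -- the set of pairs
  let P := {ab : G × G // orderOf ab.1 = 3 ∧ orderOf ab.2 = 3 ∧ ab.1 * ab.2 = t}
  have hmem : ∀ p : P, p.1.1⁻¹ * t * p.1.1 ∈ Subgroup.centralizer ({t} : Set G) := by
    intro p
    obtain ⟨⟨a, b⟩, ha, hb, hab⟩ := p
    have h := (alg_pair ht ha hb hab).2.2.2.1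
    rw [Subgroup.mem_centralizer_singleton_iff]
    exact h
  let Φ : P → Subgroup.centralizer ({t} : Set G) := fun p => ⟨p.1.1⁻¹ * t * p.1.1, hmem p⟩
  have hΦI : ∀ p : P, Φ p ∈ I := by
    intro p
    obtain ⟨⟨a, b⟩, ha, hb, hab⟩ := p
    obtain ⟨h1, h2, h3, -, -⟩ := alg_pair ht ha hb hab
    rw [hI]
    refine ⟨Subtype.ext ?_, fun h => h2 ?_, fun h => h3 ?_⟩
    · simpa using h1
    · exact congrArg Subtype.val h
    · have := congrArg Subtype.val h
      rw [hτ] at this
      exact this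
  -- fibre decomposition
  have hcard : pairs3 t = ∑ s : Subgroup.centralizer ({t} : Set G), Nat.card {p : P // Φ p = s} := by
    unfold pairs3
    rw [← Nat.card_sigma]
    exact Nat.card_congr (Equiv.sigmaFiberEquiv Φ).symm
  have hzero : ∀ s : Subgroup.centralizer ({t} : Set G), s ∉ I → Nat.card {p : P // Φ p = s} = 0 := by
    intro s hs
    have : IsEmpty {p : P // Φ p = s} := ⟨fun p => hs (p.2 ▸ hΦI p.1)⟩
    exact Nat.card_of_isEmpty
  have hsum : ∑ s : Subgroup.centralizer ({t} : Set G), Nat.card {p : P // Φ p = s} =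
      ∑ s ∈ I, Nat.card {p : P // Φ p = s} := by
    symm
    apply Finset.sum_subset (Finset.subset_univ I)
    intro s _ hs
    exact hzero s hs
  rw [hcard, hsum]
  apply Finset.sum_le_sum
  intro s _
  -- the fibre injects into the centralizer of s
  by_cases hne : Nonempty {p : P // Φ p = s}
  · obtain ⟨⟨p0, hp0⟩⟩ := hne
    obtain ⟨⟨a, b⟩, ha, hb, hab⟩ := p0
    have hsa : (s : G) = a⁻¹ * t * a := by
      rw [← hp0]
    have key : ∀ p : {p : P // Φ p = s},
        (p.1.1.1 * a⁻¹) * t = t * (p.1.1.1 * a⁻¹) ∧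
          (p.1.1.1 * a⁻¹) * (a⁻¹ * t * a) = (a⁻¹ * t * a) * (p.1.1.1 * a⁻¹) := by
      rintro ⟨⟨⟨a', b'⟩, ha', hb', hab'⟩, hp⟩
      have hs' : a'⁻¹ * t * a' = a⁻¹ * t * a := by
        have := congrArg Subtype.val hp
        rw [hsa] at this
        exact this
      exact fib_mem ht ha hb hab ha' hb' hab' hs'
    have hm1 : ∀ p : {p : P // Φ p = s}, p.1.1.1 * a⁻¹ ∈ Subgroup.centralizer ({t} : Set G) := by
      intro p
      rw [Subgroup.mem_centralizer_singleton_iff]
      exact (key p).1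
    have hm2 : ∀ p : {p : P // Φ p = s},
        (⟨p.1.1.1 * a⁻¹, hm1 p⟩ : Subgroup.centralizer ({t} : Set G)) ∈
          Subgroup.centralizer ({s} : Set (Subgroup.centralizer ({t} : Set G))) := by
      intro p
      rw [Subgroup.mem_centralizer_singleton_iff]
      apply Subtype.ext
      have := (key p).2
      rw [← hsa] at this
      exact this
    let ψ : {p : P // Φ p = s} →
        Subgroup.centralizer ({s} : Set (Subgroup.centralizer ({t} : Set G))) :=
      fun p => ⟨⟨p.1.1.1 * a⁻¹, hm1 p⟩, hm2 p⟩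
    have hψ : Function.Injective ψ := by
      rintro ⟨⟨⟨a1, b1⟩, ha1, hb1, hab1⟩, hp1⟩ ⟨⟨⟨a2, b2⟩, ha2, hb2, hab2⟩, hp2⟩ h
      have h1 : a1 * a⁻¹ = a2 * a⁻¹ := congrArg (fun z => ((z : Subgroup.centralizer
        ({s} : Set (Subgroup.centralizer ({t} : Set G)))) : Subgroup.centralizer ({t} : Set G)).1) h
      have h2 : a1 = a2 := mul_right_cancel h1
      subst h2
      have h3 : b1 = b2 := mul_left_cancel (hab1.trans hab2.symm)
      subst h3
      rfl
    exact Nat.card_le_card_of_injective ψ hψ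
  · have : IsEmpty {p : P // Φ p = s} := not_nonempty_iff.mp hne
    rw [Nat.card_of_isEmpty]
    exact Nat.zero_le _

end Cfsg.Agent.Helper60.SC3
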