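import Cfsg.Agent.Helper62.SC3.Defs2
import Cfsg.Agent.Helper60.SC3A_AF
import Cfsg.Agent.Helper64.SC3A_SYL
import Cfsg.Agent.Helper60.SC3A_CNT

/-!
# S3331 BLOCK A (helper60 for helper62): `boundA`

For an involution `t` of a finite group `G` and `C = C_G(t)`:
`pairs3 t + 2 |C| ≤ |C| · |C|_2`.   (The element `x` of the `Setup` is not needed.)
-/

set_option autoImplicit false

namespace Cfsg.Agent.Helper60.SC3

open Cfsg.Agent.Helper62.SC3

universe u

/-- BLOCK A of S3331. -/
theorem boundA {G : Type u} [Group G] [Finite G] (S : Setup G) :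
    pairs3 S.t + 2 * Nat.card (Subgroup.centralizer ({S.t} : Set G)) ≤
      Nat.card (Subgroup.centralizer ({S.t} : Set G)) *
        2 ^ (Nat.card (Subgroup.centralizer ({S.t} : Set G))).factorization 2 := by
  classical
  have htmem : S.t ∈ Subgroup.centralizer ({S.t} : Set G) :=
    Subgroup.mem_centralizer_singleton_iff.mpr rfl
  set τ : Subgroup.centralizer ({S.t} : Set G) := ⟨S.t, htmem⟩ with hτdef
  have hτc : τ ∈ Subgroup.center (Subgroup.centralizer ({S.t} : Set G)) := by
    rw [Subgroup.mem_center_iff]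
    intro g
    apply Subtype.ext
    have := Subgroup.mem_centralizer_singleton_iff.mp g.2
    simpa [hτdef] using this
  have hτ2 : orderOf τ = 2 := by
    rw [← S.ht, hτdef, Subgroup.orderOf_mk]
  haveI : Fintype (Subgroup.centralizer ({S.t} : Set G)) := Fintype.ofFinite _
  let I : Finset (Subgroup.centralizer ({S.t} : Set G)) :=
    Finset.univ.filter fun s => s ^ 2 = 1 ∧ s ≠ 1 ∧ s ≠ τ
  have hI : ∀ s : Subgroup.centralizer ({S.t} : Set G), s ∈ I ↔ s ^ 2 = 1 ∧ s ≠ 1 ∧ s ≠ τ := by
    intro s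
    simp [I]
  have h1 := pairs3_le S.t S.ht τ rfl I hI
  have h2 := Cfsg.Agent.Helper64.SC3.sylow_count τ hτc hτ2 I (fun s hs => (hI s).mp hs)
  omega

end Cfsg.Agent.Helper60.SC3
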