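import Cfsg.Agent.Helper21.SC3C.Defs
import Cfsg.Agent.S0840
import Cfsg.Agent.Helper17.G4320d
import Cfsg.Agent.Helper17.InvolPairs
import Cfsg.Agent.Helper74.DefectZero
import Cfsg.Agent.Helper79.Counting

set_option autoImplicit false

namespace Cfsg.Agent.Helper60.SC3C

open Cfsg Cfsg.Agent Cfsg.Agent.Helper62.SC3 Cfsg.Agent.Helper21.SC3C
open scoped ComplexConjugate

universe u

variable {G : Type u} [Group G]

/-- (PM) column orthogonality `(x, x)`: `∑ θ(x)² = |C(x)| = 3` with integer values (INT), so exactly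
three irreducible characters do not vanish at `x` (values `±1`, `Helper17.G4320.sq_sum_three`);
one of them is the principal character. -/
theorem exists_pm [Finite G] (S : Setup G)
    (hint : ∀ θ : G → ℂ, IsCharacter G θ → ∃ v : ℤ, θ S.x = (v : ℂ)) :
    ∃ a b : IrrCharacter G, a ≠ Helper79.principalIrr G ∧ b ≠ Helper79.principalIrr G ∧ a ≠ b ∧
      ((a : G → ℂ) S.x = 1 ∨ (a : G → ℂ) S.x = -1) ∧
      ((b : G → ℂ) S.x = 1 ∨ (b : G → ℂ) S.x = -1) ∧
      ∀ θ : IrrCharacter G, θ ≠ Helper79.principalIrr G → θ ≠ a → θ ≠ b →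
        (θ : G → ℂ) S.x = 0 := by
  classical
  haveI : Fintype G := Fintype.ofFinite G
  haveI : Fintype (IrrCharacter G) := Fintype.ofFinite _
  -- integer values
  have hv : ∀ θ : IrrCharacter G, ∃ v : ℤ, (θ : G → ℂ) S.x = (v : ℂ) :=
    fun θ => hint θ (Helper80.IsIrrCharacter.isCharacter θ.2)
  choose v hvs using hv
  -- column orthogonality
  have hcol := Helper79.column_orthogonality (G := G) S.x S.x
  rw [if_pos (IsConj.refl S.x)] at hcol
  have hcard : Nat.card (Subgroup.centralizer ({S.x} : Set G)) = 3 := by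
    rw [S.hC, Nat.card_zpowers, S.hx]
  rw [hcard] at hcol
  have hcol' : ∑ θ : IrrCharacter G, (θ : G → ℂ) S.x * conj ((θ : G → ℂ) S.x) = 3 := by
    rw [hcol]; norm_num
  have hsum : ∑ θ : IrrCharacter G, v θ ^ 2 = 3 := by
    have h1 : ∑ θ : IrrCharacter G, ((v θ ^ 2 : ℤ) : ℂ) = 3 := by
      rw [← hcol']
      apply Finset.sum_congr rfl
      intro θ _
      rw [hvs θ]
      simp [pow_two]
    have h2 : ((∑ θ : IrrCharacter G, v θ ^ 2 : ℤ) : ℂ) = ((3 : ℤ) : ℂ) := by
      push_cast
      push_cast at h1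
      exact h1
    exact_mod_cast h2
  obtain ⟨i, -, j, -, k, -, hij, hik, hjk, hi, hj, hk, hoth⟩ :=
    Helper17.G4320.sq_sum_three Finset.univ v hsum
  -- the principal character is one of them
  have hp1 : v (Helper79.principalIrr G) = 1 := by
    have h := hvs (Helper79.principalIrr G)
    have h1 : ((Helper79.principalIrr G : IrrCharacter G) : G → ℂ) S.x = 1 := rfl
    rw [h1] at h
    exact_mod_cast h.symm
  have hval : ∀ θ : IrrCharacter G, (v θ = 1 ∨ v θ = -1) →
      ((θ : G → ℂ) S.x = 1 ∨ (θ : G → ℂ) S.x = -1) := by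
    intro θ h
    rcases h with h | h
    · left; rw [hvs θ, h]; norm_num
    · right; rw [hvs θ, h]; norm_num
  have hzero : ∀ θ : IrrCharacter G, v θ = 0 → (θ : G → ℂ) S.x = 0 := by
    intro θ h
    rw [hvs θ, h]; norm_num
  have hmem : Helper79.principalIrr G = i ∨ Helper79.principalIrr G = j ∨
      Helper79.principalIrr G = k := by
    by_contra hcon
    push Not at hcon
    have := hoth _ (Finset.mem_univ _) hcon.1 hcon.2.1 hcon.2.2
    rw [hp1] at this
    norm_num at this
  rcases hmem with h | h | h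
  · refine ⟨j, k, ?_, ?_, hjk, hval j hj, hval k hk, ?_⟩
    · rw [h]; exact fun e => hij e.symm
    · rw [h]; exact fun e => hik e.symm
    · intro θ h1 h2 h3
      exact hzero θ (hoth θ (Finset.mem_univ _) (h ▸ h1) h2 h3)
  · refine ⟨i, k, ?_, ?_, hik, hval i hi, hval k hk, ?_⟩
    · rw [h]; exact hij
    · rw [h]; exact fun e => hjk e.symm
    · intro θ h1 h2 h3
      exact hzero θ (hoth θ (Finset.mem_univ _) h2 (h ▸ h1) h3)
  · refine ⟨i, j, ?_, ?_, hij, hval i hi, hval j hj, ?_⟩
    · rw [h]; exact hik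
    · rw [h]; exact hjk
    · intro θ h1 h2 h3
      exact hzero θ (hoth θ (Finset.mem_univ _) h2 h3 (h ▸ h1))

end Cfsg.Agent.Helper60.SC3C
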