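import Cfsg.Agent.Helper21.SC3C.Defs
import Cfsg.Agent.S0840
import Cfsg.Agent.Helper17.G4320d
import Cfsg.Agent.Helper17.InvolPairs
import Cfsg.Agent.Helper74.DefectZero
import Cfsg.Agent.Helper79.Counting

set_option autoImplicit false

namespace Cfsg.Agent.Helper60.SC3C

open Cfsg Cfsg.Agent Cfsg.Agent.Helper62.SC3 Cfsg.Agent.Helper21.SC3C
open scoped ComplexConjugate

universe u

variable {G : Type u} [Group G]

/-- (PXT) the two instances `g = x`, `g = t` of (P3), with `|G| = 3 f (f+1) w²`. -/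
theorem pairs3_x_t [Finite G] (S : Setup G) (D : CData S) (hp3 : HP3 S D) (hf : 0 < D.f) (w : ℕ)
    (hG : Nat.card G = 3 * D.f * (D.f + 1) * w ^ 2) :
    3 * pairs3 S.x = w ^ 2 * (D.f ^ 2 + D.f + 1) ∧
    (3 * (pairs3 S.t : ℤ)) = (w : ℤ) ^ 2 * ((D.f : ℤ) ^ 2 + 2 * D.f + D.c * (2 * D.f + 1)) := by
  have hGc : (Nat.card G : ℂ) = 3 * (D.f : ℂ) * ((D.f : ℂ) + 1) * (w : ℂ) ^ 2 := by
    rw [hG]; push_cast; ring
  have hf0 : (D.f : ℂ) ≠ 0 := by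
    exact_mod_cast hf.ne'
  have hf1 : (D.f : ℂ) + 1 ≠ 0 := by
    have : ((D.f + 1 : ℕ) : ℂ) ≠ 0 := by exact_mod_cast (Nat.succ_ne_zero D.f)
    simpa using this
  have hne : (3 : ℂ) * (D.f : ℂ) * ((D.f : ℂ) + 1) ≠ 0 :=
    mul_ne_zero (mul_ne_zero (by norm_num) hf0) hf1
  constructor
  · have h := hp3 S.x
    rw [D.hχx, D.hψx, hGc] at h
    simp only [map_one, map_neg] at h
    have h2 : (3 : ℂ) * (D.f : ℂ) * ((D.f : ℂ) + 1) * (3 * (pairs3 S.x : ℂ)) =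
        (3 : ℂ) * (D.f : ℂ) * ((D.f : ℂ) + 1) *
          ((w : ℂ) ^ 2 * ((D.f : ℂ) ^ 2 + (D.f : ℂ) + 1)) := by
      linear_combination h
    have h3 := mul_left_cancel₀ hne h2
    exact_mod_cast h3
  · have h := hp3 S.t
    have hψt : D.ψ S.t = 1 + (D.c : ℂ) := by
      rw [D.hrel S.t (by rw [S.ht]; norm_num), D.hχt]
    rw [hψt, D.hχt, hGc] at h
    simp only [map_add, map_one, map_intCast] at h
    have h2 : (3 : ℂ) * (D.f : ℂ) * ((D.f : ℂ) + 1) * (3 * (pairs3 S.t : ℂ)) =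
        (3 : ℂ) * (D.f : ℂ) * ((D.f : ℂ) + 1) *
          ((w : ℂ) ^ 2 * ((D.f : ℂ) ^ 2 + 2 * (D.f : ℂ) + (D.c : ℂ) * (2 * (D.f : ℂ) + 1))) := by
      linear_combination h
    have h3 := mul_left_cancel₀ hne h2
    exact_mod_cast h3

end Cfsg.Agent.Helper60.SC3C
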