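import Cfsg.Agent.Helper74.SN.Defs
import Cfsg.Agent.Helper5.PSL2Simple
import Cfsg.Agent.Helper46.PSL2Card

set_option autoImplicit false
set_option linter.unusedSectionVars false
set_option linter.unusedVariables false
set_option linter.dupNamespace false

namespace Cfsg.Agent.Helper60.SNG

open Cfsg Cfsg.Agent.Helper74.SNG

universe u

/-- a nonabelian subgroup of a group of order `6` is the whole group -/
theorem PSL_top_of_card_six {X : Type*} [Group X] (hX : Nat.card X = 6) (J : Subgroup X)
    (hJ : ¬ IsMulCommutative J) : J = ⊤ := by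
  haveI : Finite X := Nat.finite_of_card_ne_zero (by rw [hX]; decide)
  have hdvd : Nat.card J ∣ 6 := hX ▸ J.card_subgroup_dvd_card
  have hpos : 0 < Nat.card J := Nat.card_pos
  have hle : Nat.card J ≤ 6 := Nat.le_of_dvd (by decide) hdvd
  have hcases : Nat.card J = 1 ∨ Nat.card J = 2 ∨ Nat.card J = 3 ∨ Nat.card J = 6 := by
    obtain ⟨c, hc⟩ := hdvd
    have : Nat.card J = 1 ∨ Nat.card J = 2 ∨ Nat.card J = 3 ∨ Nat.card J = 4 ∨ Nat.card J = 5 ∨
        Nat.card J = 6 := by omega
    rcases this with h | h | h | h | h | h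
    · exact Or.inl h
    · exact Or.inr (Or.inl h)
    · exact Or.inr (Or.inr (Or.inl h))
    · rw [h] at hc; omega
    · rw [h] at hc; omega
    · exact Or.inr (Or.inr (Or.inr h))
  rcases hcases with h | h | h | h
  · exfalso
    apply hJ
    haveI : Subsingleton J := (Nat.card_eq_one_iff_unique.mp h).1
    exact ⟨⟨fun a b => Subsingleton.elim _ _⟩⟩
  · exfalso
    apply hJ
    haveI : Fact (Nat.Prime 2) := ⟨Nat.prime_two⟩
    haveI : IsCyclic J := isCyclic_of_prime_card h
    exact ⟨⟨fun a b => IsCyclic.commGroup.mul_comm a b⟩⟩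
  · exfalso
    apply hJ
    haveI : Fact (Nat.Prime 3) := ⟨Nat.prime_three⟩
    haveI : IsCyclic J := isCyclic_of_prime_card h
    exact ⟨⟨fun a b => IsCyclic.commGroup.mul_comm a b⟩⟩
  · exact Subgroup.eq_top_of_card_eq J (by rw [h, hX])

/-- (D6a) `PSL_2(2^k)`: simple for `k ≥ 2` (`Helper5.isSimpleGroup_PSL2_of_card`), of order `6` for
`k = 1` (`Helper46.card_PSL2_mul_gcd'`; a nonabelian subgroup of a group of order `6` has order `6`). -/
theorem NAN_PSL2_char_two {K : Type*} [Field K] [Fintype K] (k : ℕ)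
    (hK : Fintype.card K = 2 ^ k) : NAN (Matrix.ProjectiveSpecialLinearGroup (Fin 2) K) := by
  intro J hJn hJ
  have h1 : 1 < Fintype.card K := Fintype.one_lt_card
  rcases Nat.lt_or_ge k 2 with hk | hk
  · -- k = 0 impossible, k = 1 order 6
    have hk1 : k = 1 := by
      rcases Nat.eq_zero_or_pos k with h0 | h0
      · subst h0; simp at hK; omega
      · omega
    subst hk1
    have hK2 : Fintype.card K = 2 := by simpa using hK
    have hc := Cfsg.Agent.Helper46.Dk.card_PSL2_mul_gcd' (F := K)
    rw [hK2] at hc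
    have h6 : Nat.card (Matrix.ProjectiveSpecialLinearGroup (Fin 2) K) = 6 := by
      have : Nat.gcd 2 (2 - 1) = 1 := by decide
      rw [this] at hc
      simpa using hc
    exact PSL_top_of_card_six h6 J hJ
  · have h4 : 4 ≤ Fintype.card K := by
      rw [hK]
      calc 4 = 2 ^ 2 := by norm_num
        _ ≤ 2 ^ k := Nat.pow_le_pow_right (by norm_num) hk
    haveI := Cfsg.Agent.Helper5.isSimpleGroup_PSL2_of_card (F := K) h4
    rcases hJn.eq_bot_or_eq_top with h | h
    · exfalso
      apply hJ
      subst h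
      exact ⟨⟨fun a b => Subsingleton.elim _ _⟩⟩
    · exact h

end Cfsg.Agent.Helper60.SNG
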