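-- helper60: piece (MR2) `rel_comm` of helper84's farm for S2289 (part 3).
import Mathlib
import Cfsg.Agent.Helper84.SU3P.Words

set_option autoImplicit false

namespace Cfsg.Agent.Helper60.SU3P

open Matrix Polynomial Cfsg.Agent.Helper84.RU3 Cfsg.Agent.Helper96.SLPres
  Cfsg.Agent.Helper96.StemSLTwo Cfsg.Agent.Helper96.StPres Cfsg.Agent.Helper84.SU3P

variable {K : Type*} [Field K] (bar : K →+* K) (hb : ∀ x, bar (bar x) = x)

/-- the inverse of an upper unitriangular element of the model. -/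
theorem MR2_inv (Z : SUJ bar) {a b : K} (hZ : mt bar Z = uM bar a b) :
    mt bar Z⁻¹ = uM bar (-a) (-b - bar a * a) := by
  have h1 : mt bar Z * uM bar (-a) (-b - bar a * a) = 1 := by
    rw [hZ]
    unfold uM
    ext i j
    fin_cases i <;> fin_cases j <;>
      simp [Matrix.mul_apply, Fin.sum_univ_three, Matrix.one_apply] <;> ring
  calc mt bar Z⁻¹ = mt bar Z⁻¹ * (mt bar Z * uM bar (-a) (-b - bar a * a)) := by
        rw [h1, Matrix.mul_one]
    _ = (mt bar Z⁻¹ * mt bar Z) * uM bar (-a) (-b - bar a * a) := by rw [Matrix.mul_assoc]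
    _ = uM bar (-a) (-b - bar a * a) := by rw [mt_inv_mul, Matrix.one_mul]

include hb

/-- (MR2) commutators of upper unitriangular elements -/
theorem rel_comm (X Y : SUJ bar) {a b a' b' : K} (hX : mt bar X = uM bar a b)
    (hY : mt bar Y = uM bar a' b') :
    mt bar (X * Y * X⁻¹ * Y⁻¹) = uM bar 0 (bar a' * a - bar a * a') := by
  rw [mt_mul, mt_mul, mt_mul, MR2_inv bar X hX, MR2_inv bar Y hY, hX, hY]
  unfold uM
  ext i j
  fin_cases i <;> fin_cases j <;>
    simp [Matrix.mul_apply, Fin.sum_univ_three] <;> ring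

end Cfsg.Agent.Helper60.SU3P
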