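import Mathlib
import Cfsg.Prelude.Def_Local
import Cfsg.Prelude.Def_SolvableStructure
import Cfsg.Agent.Lib.Cores

/-!
# Piece (B4a) of #5897 (helper60, for helper71's S4394): a cyclic self-centralizing `O_p(Γ)`
forces the Sylow `p`-subgroup to be normal.
-/

set_option autoImplicit false

namespace Cfsg.Agent.Helper60.Sch

open Cfsg

/-- (B4a) `O_p(Γ)` cyclic and self-centralizing forces the Sylow subgroup to be normal. -/
theorem le_pCore_of_isCyclic {Γ : Type*} [Group Γ] [Finite Γ] {p : ℕ} [Fact p.Prime]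
    (hC : Subgroup.centralizer (Cfsg.pCore p Γ : Set Γ) ≤ Cfsg.pCore p Γ)
    (hcyc : IsCyclic ↥(Cfsg.pCore p Γ)) (S : Sylow p Γ) : (S : Subgroup Γ) ≤ Cfsg.pCore p Γ := by
  have hRS : Cfsg.pCore p Γ ≤ (S : Subgroup Γ) := Cfsg.Agent.Lib.pCore_le_sylow S
  -- the automorphism group of a cyclic group is commutative
  have hmc : ∀ a b : MulAut ↥(Cfsg.pCore p Γ), a * b = b * a := by
    intro a b
    apply (hcyc.mulAutMulEquiv _).injective
    rw [map_mul, map_mul, mul_comm]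
  -- commutators centralize `O_p(Γ)`, hence lie in it
  have hcomm : ∀ g h : Γ, g * h * g⁻¹ * h⁻¹ ∈ Cfsg.pCore p Γ := by
    intro g h
    apply hC
    rw [Subgroup.mem_centralizer_iff]
    intro r hr
    have h1 : (MulAut.conjNormal (g * h * g⁻¹ * h⁻¹) : MulAut ↥(Cfsg.pCore p Γ)) = 1 := by
      rw [map_mul, map_mul, map_mul, map_inv, map_inv,
        hmc (MulAut.conjNormal g) (MulAut.conjNormal h)]
      group
    have h2 : ((MulAut.conjNormal (g * h * g⁻¹ * h⁻¹) : MulAut ↥(Cfsg.pCore p Γ))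
        ⟨r, hr⟩ : Γ) = r := by
      rw [h1]; rfl
    rw [MulAut.conjNormal_apply] at h2
    -- h2 : c * r * c⁻¹ = r
    calc r * (g * h * g⁻¹ * h⁻¹)
        = (g * h * g⁻¹ * h⁻¹) * r * (g * h * g⁻¹ * h⁻¹)⁻¹ * (g * h * g⁻¹ * h⁻¹) := by
          rw [h2]
      _ = (g * h * g⁻¹ * h⁻¹) * r := by group
  -- so `S` is normal
  have hSn : (S : Subgroup Γ).Normal := by
    constructor
    intro s hs g
    have e : g * s * g⁻¹ = (g * s * g⁻¹ * s⁻¹) * s := by group
    rw [e]
    exact (S : Subgroup Γ).mul_mem (hRS (hcomm g s)) hs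
  exact Cfsg.Agent.Lib.le_pCore hSn S.isPGroup'

end Cfsg.Agent.Helper60.Sch
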