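import Mathlib
import Cfsg.Prelude.Def_Local
import Cfsg.Prelude.Def_SolvableStructure
import Cfsg.Agent.Lib.Cores

/-!
# Piece (C1) of #5897 (helper60, for helper71's S4394): the image of a Sylow `p`-subgroup in
`G / O_{p'}(G)` is a Sylow `p`-subgroup isomorphic to it.
-/

set_option autoImplicit false

namespace Cfsg.Agent.Helper60.Sch

open Cfsg

/-- (C1) the image of a Sylow `p`-subgroup in `G / O_{p'}(G)`. -/
theorem exists_sylow_quotient_equiv {G : Type*} [Group G] [Finite G] {p : ℕ} [Fact p.Prime]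
    (Q : Sylow p G) :
    ∃ Q' : Sylow p (G ⧸ Cfsg.pPrimeCore p G),
      Nonempty (↥(Q' : Subgroup (G ⧸ Cfsg.pPrimeCore p G)) ≃* ↥(Q : Subgroup G)) := by
  have hsurj : Function.Surjective (QuotientGroup.mk' (Cfsg.pPrimeCore p G)) :=
    QuotientGroup.mk'_surjective _
  refine ⟨Q.mapSurjective hsurj, ?_⟩
  have hinj : Function.Injective
      ((QuotientGroup.mk' (Cfsg.pPrimeCore p G)).comp (Q : Subgroup G).subtype) := by
    rw [injective_iff_map_eq_one]
    intro x hx
    have hxN : (x : G) ∈ Cfsg.pPrimeCore p G := by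
      have : (QuotientGroup.mk' (Cfsg.pPrimeCore p G)) (x : G) = 1 := hx
      rwa [QuotientGroup.mk'_apply, QuotientGroup.eq_one_iff] at this
    obtain ⟨k, hk⟩ := Q.isPGroup' x
    have h1 : orderOf x ∣ p ^ k := orderOf_dvd_of_pow_eq_one hk
    have h2 : orderOf (x : G) ∣ Nat.card (Cfsg.pPrimeCore p G) :=
      Subgroup.orderOf_dvd_natCard _ hxN
    rw [Subgroup.orderOf_coe] at h2
    have hcop : (Nat.card (Cfsg.pPrimeCore p G)).Coprime (p ^ k) :=
      (Cfsg.Agent.Lib.card_pPrimeCore_coprime p).pow_right k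
    have h3 : orderOf x = 1 := Nat.Coprime.eq_one_of_dvd (hcop.coprime_dvd_left h2) h1
    exact orderOf_eq_one_iff.mp h3
  have hrange : ((QuotientGroup.mk' (Cfsg.pPrimeCore p G)).comp (Q : Subgroup G).subtype).range =
      ((Q.mapSurjective hsurj : Sylow p (G ⧸ Cfsg.pPrimeCore p G)) :
        Subgroup (G ⧸ Cfsg.pPrimeCore p G)) := by
    rw [MonoidHom.range_comp, Subgroup.range_subtype]
    rfl
  exact ⟨((MonoidHom.ofInjective hinj).trans (MulEquiv.subgroupCongr hrange)).symm⟩

end Cfsg.Agent.Helper60.Sch
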