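-- helper60: leaf (NJ) of helper88's farm for S2772.
import Mathlib
import Cfsg.Agent.Helper88.SimsD.Defs

set_option autoImplicit false

namespace Cfsg.Agent.Helper60.SimsD

open Cfsg.Agent.Helper88.SimsD Subgroup

/-- a subgroup whose elements conjugate `K` into itself normalizes `K`. -/
theorem NJ_le_normalizer {H : Type*} [Group H] (N K : Subgroup H)
    (h : ∀ g ∈ N, ∀ x ∈ K, g * x * g⁻¹ ∈ K) : N ≤ Subgroup.normalizer (K : Set H) := by
  intro g hg
  rw [Subgroup.mem_normalizer_iff]
  intro x
  constructor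
  · exact h g hg x
  · intro hx
    have := h g⁻¹ (N.inv_mem hg) _ hx
    simpa [mul_assoc] using this

/-- conjugation by an element of `N_H(T)` permutes `maxAb T`. -/
theorem NJ_map_mem {H : Type*} [Group H] (T : Subgroup H) (g : H)
    (hg : g ∈ Subgroup.normalizer (T : Set H)) (A : Subgroup H) (hA : A ∈ maxAb T) :
    A.map (MulAut.conj g).toMonoidHom ∈ maxAb T := by
  obtain ⟨hAT, hAc, hmax⟩ := hA
  refine ⟨?_, inferInstance, ?_⟩
  · rintro _ ⟨x, hx, rfl⟩
    exact (Subgroup.mem_normalizer_iff.mp hg x).mp (hAT hx)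
  · intro B hBT hBc
    rw [Subgroup.card_map_of_injective (MulAut.conj g).injective]
    exact hmax B hBT hBc

/-- (NJ) `J(T) = ⟨maxAb T⟩` is normalized by `N_H(T)`. -/
theorem normalizer_le_normalizer_sSup_maxAb {H : Type*} [Group H] (T : Subgroup H) :
    Subgroup.normalizer (T : Set H) ≤
      Subgroup.normalizer ((sSup (maxAb T) : Subgroup H) : Set H) := by
  apply NJ_le_normalizer
  intro g hg x hx
  have hle : sSup (maxAb T) ≤ (sSup (maxAb T)).comap (MulAut.conj g).toMonoidHom := by
    apply sSup_le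
    intro A hA
    rw [← Subgroup.map_le_iff_le_comap]
    exact le_sSup (NJ_map_mem T g hg A hA)
  exact hle hx

end Cfsg.Agent.Helper60.SimsD
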