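-- helper60: leaf (NOZ) of helper88's farm for S2772.
import Mathlib
import Cfsg.Agent.Helper88.SimsD.Defs

set_option autoImplicit false

namespace Cfsg.Agent.Helper60.SimsD

open Cfsg.Agent.Helper88.SimsD Subgroup

/-- a subgroup whose elements conjugate `K` into itself normalizes `K`. -/
theorem NOZ_le_normalizer {H : Type*} [Group H] (N K : Subgroup H)
    (h : ∀ g ∈ N, ∀ x ∈ K, g * x * g⁻¹ ∈ K) : N ≤ Subgroup.normalizer (K : Set H) := by
  intro g hg
  rw [Subgroup.mem_normalizer_iff]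
  intro x
  constructor
  · exact h g hg x
  · intro hx
    have := h g⁻¹ (N.inv_mem hg) _ hx
    simpa [mul_assoc] using this

/-- (NOZ) `Ω₁ Z(T)` is normalized by `N_H(T)`. -/
theorem normalizer_le_normalizer_omegaZ {H : Type*} [Group H] (T : Subgroup H) :
    Subgroup.normalizer (T : Set H) ≤ Subgroup.normalizer ((omegaZ T : Subgroup H) : Set H) := by
  apply NOZ_le_normalizer
  intro g hg v hv
  obtain ⟨hvT, hvc, hv2⟩ := hv
  refine ⟨(Subgroup.mem_normalizer_iff.mp hg v).mp hvT, ?_, ?_⟩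
  · intro y hy
    have hy' : g⁻¹ * y * g ∈ T := (Subgroup.mem_normalizer_iff''.mp hg y).mp hy
    have hc := hvc _ hy'
    calc y * (g * v * g⁻¹) = g * ((g⁻¹ * y * g) * v) * g⁻¹ := by group
      _ = g * (v * (g⁻¹ * y * g)) * g⁻¹ := by rw [hc]
      _ = g * v * g⁻¹ * y := by group
  · rw [pow_two] at hv2 ⊢
    calc g * v * g⁻¹ * (g * v * g⁻¹) = g * (v * v) * g⁻¹ := by group
      _ = 1 := by rw [hv2]; group

end Cfsg.Agent.Helper60.SimsD
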