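import Mathlib
import Cfsg.Agent.Helper43.Spec5.Defs

/-!
# (AR) for S2511 (helper43): the division in `cU` is exact, and `cU (p^a) n` is prime to `p`.
Also the shared core `exists_cofactor` used by (NTS).
-/

set_option autoImplicit false

namespace Cfsg.Agent.Helper60.Spec5

open Cfsg.Agent.Helper43.Spec5

/-- the cofactor `R = (x^n - (-1)^n)/(x+1)` over `ℤ`, with its residues mod `x+1` and `x-1` -/
theorem exists_int_cofactor (x : ℤ) (n : ℕ) :
    ∃ R : ℤ, x ^ n - (-1) ^ n = (x + 1) * R ∧ (x + 1) ∣ R + n * (-1) ^ n ∧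
      (x - 1) ∣ R - (if Odd n then 1 else 0) := by
  induction n with
  | zero => exact ⟨0, by simp, by simp, by simp⟩
  | succ n ih =>
    obtain ⟨R, h1, h2, h3⟩ := ih
    refine ⟨x * R + (-1) ^ n, ?_, ?_, ?_⟩
    · have : x ^ n = (x + 1) * R + (-1) ^ n := by linarith
      rw [pow_succ, pow_succ, this]; ring
    · obtain ⟨c, hc⟩ := h2
      refine ⟨x * c - n * (-1) ^ n, ?_⟩
      have hR : R = (x + 1) * c - n * (-1) ^ n := by linarith
      rw [hR, pow_succ]
      push_cast
      ring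
    · obtain ⟨c, hc⟩ := h3
      rcases Nat.even_or_odd n with he | ho
      · have hno : ¬ Odd n := Nat.not_odd_iff_even.mpr he
        have hso : Odd (n + 1) := he.add_one
        rw [if_neg hno] at hc
        rw [if_pos hso, he.neg_one_pow]
        refine ⟨R + c, ?_⟩
        have hR : R = (x - 1) * c := by linarith
        rw [hR]; ring
      · have hse : ¬ Odd (n + 1) := Nat.not_odd_iff_even.mpr ho.add_one
        rw [if_pos ho] at hc
        rw [if_neg hse, ho.neg_one_pow]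
        refine ⟨x * c + 1, ?_⟩
        have hR : R = (x - 1) * c + 1 := by linarith
        rw [hR]; ring

/-- the natural cofactor `M` with `q^n ∓ 1 = (q+1) M`, `gcd(M, q+1) = gcd(n, q+1)` and, for odd
`n`, `gcd(M, q-1) = 1` -/
theorem exists_cofactor (q n : ℕ) (hq : 1 ≤ q) :
    ∃ M : ℕ, (if Even n then q ^ n - 1 else q ^ n + 1) = (q + 1) * M ∧
      Nat.gcd M (q + 1) = Nat.gcd n (q + 1) ∧ (Odd n → Nat.Coprime M (q - 1)) := by
  obtain ⟨R, h1, h2, h3⟩ := exists_int_cofactor (q : ℤ) n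
  have hq1 : 1 ≤ q ^ n := Nat.one_le_pow _ _ hq
  have hpos : (0 : ℤ) < (q : ℤ) + 1 := by positivity
  -- `R ≥ 0`
  have hR0 : 0 ≤ R := by
    by_contra hneg
    push Not at hneg
    have hle : ((q : ℤ) + 1) * R ≤ ((q : ℤ) + 1) * (-1) := by
      apply mul_le_mul_of_nonneg_left _ hpos.le
      omega
    have hq1' : (1 : ℤ) ≤ (q : ℤ) ^ n := by exact_mod_cast hq1
    rcases Nat.even_or_odd n with he | ho
    · rw [he.neg_one_pow] at h1
      nlinarith
    · rw [ho.neg_one_pow] at h1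
      nlinarith
  obtain ⟨M, rfl⟩ := Int.eq_ofNat_of_zero_le hR0
  refine ⟨M, ?_, ?_, ?_⟩
  · rcases Nat.even_or_odd n with he | ho
    · rw [if_pos he]
      rw [he.neg_one_pow] at h1
      have : ((q ^ n - 1 : ℕ) : ℤ) = (((q + 1) * M : ℕ) : ℤ) := by
        rw [Nat.cast_sub hq1]
        push_cast
        linarith
      exact_mod_cast this
    · rw [if_neg (Nat.not_even_iff_odd.mpr ho)]
      rw [ho.neg_one_pow] at h1
      have : ((q ^ n + 1 : ℕ) : ℤ) = (((q + 1) * M : ℕ) : ℤ) := by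
        push_cast
        linarith
      exact_mod_cast this
  · -- a divisor of `q+1` divides `M` iff it divides `n`
    have key : ∀ d : ℕ, d ∣ q + 1 → (d ∣ M ↔ d ∣ n) := by
      intro d hd
      have hdZ : (d : ℤ) ∣ (M : ℤ) + n * (-1) ^ n := by
        have : (d : ℤ) ∣ ((q + 1 : ℕ) : ℤ) := Int.natCast_dvd_natCast.mpr hd
        push_cast at this
        exact this.trans h2
      constructor
      · intro hM
        have hMZ : (d : ℤ) ∣ (M : ℤ) := Int.natCast_dvd_natCast.mpr hM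
        have h4 : (d : ℤ) ∣ (n : ℤ) * (-1) ^ n := (Int.dvd_add_right hMZ).mp hdZ
        have h5 : (d : ℤ) ∣ (n : ℤ) := by
          rcases Nat.even_or_odd n with he | ho
          · rwa [he.neg_one_pow, mul_one] at h4
          · rw [ho.neg_one_pow, mul_neg, mul_one] at h4
            exact (Int.dvd_neg).mp h4
        exact Int.natCast_dvd_natCast.mp h5
      · intro hn
        have hnZ : (d : ℤ) ∣ (n : ℤ) * (-1) ^ n :=
          Dvd.dvd.mul_right (Int.natCast_dvd_natCast.mpr hn) _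
        have h4 : (d : ℤ) ∣ (M : ℤ) := (Int.dvd_add_left hnZ).mp hdZ
        exact Int.natCast_dvd_natCast.mp h4
    apply Nat.dvd_antisymm
    · exact Nat.dvd_gcd ((key _ (Nat.gcd_dvd_right _ _)).mp (Nat.gcd_dvd_left _ _))
        (Nat.gcd_dvd_right _ _)
    · exact Nat.dvd_gcd ((key _ (Nat.gcd_dvd_right _ _)).mpr (Nat.gcd_dvd_left _ _))
        (Nat.gcd_dvd_right _ _)
  · intro ho
    rw [if_pos ho] at h3
    -- a common divisor of `M` and `q - 1` divides `1`
    apply Nat.Coprime.symm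
    rw [Nat.coprime_iff_gcd_eq_one]
    apply Nat.eq_one_of_dvd_one
    set d := Nat.gcd (q - 1) M with hd
    have hd1 : d ∣ q - 1 := Nat.gcd_dvd_left _ _
    have hd2 : d ∣ M := Nat.gcd_dvd_right _ _
    have hdZ1 : (d : ℤ) ∣ (q : ℤ) - 1 := by
      have := Int.natCast_dvd_natCast.mpr hd1
      rwa [Nat.cast_sub hq, Nat.cast_one] at this
    have hdZ2 : (d : ℤ) ∣ (M : ℤ) := Int.natCast_dvd_natCast.mpr hd2
    have h5 : (d : ℤ) ∣ (M : ℤ) - 1 := hdZ1.trans h3
    have h6 : (d : ℤ) ∣ 1 := by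
      have := Int.dvd_sub hdZ2 h5
      simpa using this
    exact Int.natCast_dvd_natCast.mp (by simpa using h6)

/-- (AR1) the division in `cU` is exact. -/
theorem cU_spec (q n : ℕ) (hq : 1 ≤ q) :
    cU q n * ((q + 1) * Nat.gcd n (q + 1)) = if Even n then q ^ n - 1 else q ^ n + 1 := by
  obtain ⟨M, hM, hg, -⟩ := exists_cofactor q n hq
  unfold cU
  apply Nat.div_mul_cancel
  rw [hM]
  apply Nat.mul_dvd_mul_left
  rw [← hg]
  exact Nat.gcd_dvd_left _ _

/-- (AR2) `cU` is prime to `p`. -/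
theorem coprime_cU {p a n : ℕ} (hp : p.Prime) (ha : 1 ≤ a) (hn : 1 ≤ n) :
    Nat.Coprime p (cU (p ^ a) n) := by
  have hq : 1 ≤ p ^ a := Nat.one_le_pow _ _ hp.pos
  have hspec := cU_spec (p ^ a) n hq
  rw [Nat.Prime.coprime_iff_not_dvd hp]
  intro hdvd
  have hpq : p ∣ (p ^ a) ^ n := by
    rw [← pow_mul]
    exact dvd_pow_self p (by positivity)
  have hq1 : 1 ≤ (p ^ a) ^ n := Nat.one_le_pow _ _ hq
  have hT : p ∣ if Even n then (p ^ a) ^ n - 1 else (p ^ a) ^ n + 1 := by
    rw [← hspec]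
    exact Dvd.dvd.mul_right hdvd _
  have h1 : p ∣ 1 := by
    split_ifs at hT with he
    · have := Nat.dvd_sub hpq hT
      rwa [Nat.sub_sub_self hq1] at this
    · exact (Nat.dvd_add_right hpq).mp hT
  exact hp.one_lt.ne' (Nat.dvd_one.mp h1)

end Cfsg.Agent.Helper60.Spec5
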