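import Mathlib
import Cfsg.Agent.Helper60.Spec5AR

/-!
# (NTS) for S2511 (helper43): the arithmetic of the Singer cycle in `PSU_n(q)`.
-/

set_option autoImplicit false

namespace Cfsg.Agent.Helper60.Spec5

open Cfsg.Agent.Helper43.Spec5

/-- `M ∣ Q * j ↔ M / gcd M Q ∣ j` for `Q > 0` -/
theorem dvd_mul_iff_div_gcd_dvd (M Q j : ℕ) (hQ : 0 < Q) :
    M ∣ Q * j ↔ M / Nat.gcd M Q ∣ j := by
  have hg : 0 < Nat.gcd M Q := Nat.gcd_pos_of_pos_right _ hQ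
  have hcop : Nat.Coprime (M / Nat.gcd M Q) (Q / Nat.gcd M Q) :=
    Nat.coprime_div_gcd_div_gcd hg
  obtain ⟨M', hM'⟩ := Nat.gcd_dvd_left M Q
  obtain ⟨Q', hQ'⟩ := Nat.gcd_dvd_right M Q
  have e1 : M / Nat.gcd M Q = M' := Nat.div_eq_of_eq_mul_right hg hM'
  have e2 : Q / Nat.gcd M Q = Q' := Nat.div_eq_of_eq_mul_right hg hQ'
  rw [e1, e2] at hcop
  rw [e1]
  have h3 : M ∣ Q * j ↔ M' ∣ Q' * j := by
    generalize Nat.gcd M Q = g at hg hM' hQ'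
    rw [hM', hQ', mul_assoc]
    exact Nat.mul_dvd_mul_iff_left hg
  rw [h3]
  exact hcop.dvd_mul_left

/-- `cU q n = M / gcd M (q+1)` for the cofactor `M` -/
theorem cU_eq_div (q n M : ℕ)
    (hM : (if Even n then q ^ n - 1 else q ^ n + 1) = (q + 1) * M)
    (hg : Nat.gcd M (q + 1) = Nat.gcd n (q + 1)) :
    cU q n = M / Nat.gcd M (q + 1) := by
  unfold cU
  rw [hM, hg]
  exact Nat.mul_div_mul_left _ _ (Nat.succ_pos q)

/-- (NTO) the arithmetic of the Singer cycle, `n` odd. -/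
theorem nt_odd (q n j : ℕ) (hq : 2 ≤ q) (hn : Odd n) :
    q ^ n + 1 ∣ (q + 1) * (q ^ 2 - 1) * j ↔ cU q n ∣ j := by
  obtain ⟨M, hM, hg, hc⟩ := exists_cofactor q n (by omega)
  have hcU := cU_eq_div q n M hM hg
  rw [if_neg (Nat.not_even_iff_odd.mpr hn)] at hM
  have hcop : Nat.Coprime M (q - 1) := hc hn
  have hsq : q ^ 2 - 1 = (q + 1) * (q - 1) := by
    have := Nat.sq_sub_sq q 1
    simpa using this
  rw [hM, hsq, hcU]
  have h1 : (q + 1) * ((q + 1) * (q - 1)) * j = (q + 1) * ((q + 1) * ((q - 1) * j)) := by ring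
  rw [h1, Nat.mul_dvd_mul_iff_left (Nat.succ_pos q),
    dvd_mul_iff_div_gcd_dvd M (q + 1) _ (Nat.succ_pos q)]
  have hcop' : Nat.Coprime (M / Nat.gcd M (q + 1)) (q - 1) :=
    Nat.Coprime.coprime_dvd_left (Nat.div_dvd_of_dvd (Nat.gcd_dvd_left _ _)) hcop
  exact hcop'.dvd_mul_left

/-- (NTE) the arithmetic of the Singer cycle, `n` even. -/
theorem nt_even (q n j : ℕ) (hq : 2 ≤ q) (hn : Even n) (hn0 : 1 ≤ n) :
    q ^ n - 1 ∣ (q + 1) ^ 2 * j ↔ cU q n ∣ j := by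
  have _ := hn0
  obtain ⟨M, hM, hg, -⟩ := exists_cofactor q n (by omega)
  have hcU := cU_eq_div q n M hM hg
  rw [if_pos hn] at hM
  rw [hM, hcU]
  have h1 : (q + 1) ^ 2 * j = (q + 1) * ((q + 1) * j) := by ring
  rw [h1, Nat.mul_dvd_mul_iff_left (Nat.succ_pos q),
    dvd_mul_iff_div_gcd_dvd M (q + 1) _ (Nat.succ_pos q)]

end Cfsg.Agent.Helper60.Spec5
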