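import Cfsg.Agent.Helper94.Srg77.Facts9

set_option autoImplicit false
set_option linter.unusedSectionVars false
set_option linter.unusedVariables false

namespace Cfsg.Agent.Helper60.Srg77

open Finset Cfsg.Agent.Helper94.Srg77

variable {V : Type*} [Fintype V] [DecidableEq V] {G : SimpleGraph V} [DecidableRel G.Adj]

/-- (BG) An isomorphism of set systems induces an isomorphism of block graphs
(`(fun b => b.image e) '' B = B'`; images under the bijection e preserve disjointness). -/
theorem blockGraph_iso {α β : Type*} [DecidableEq β] {B : Set (Finset α)} {B' : Set (Finset β)}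
    (hiso : Cfsg.SetSystemIso B B') : Nonempty (Cfsg.blockGraph B ≃g Cfsg.blockGraph B') := by
  obtain ⟨e, he⟩ := hiso
  have hmem : ∀ b : B, (b : Finset α).image e ∈ B' := by
    intro b
    rw [← he]
    exact ⟨b.1, b.2, rfl⟩
  let φ : B → B' := fun b => ⟨(b : Finset α).image e, hmem b⟩
  have hinj : Function.Injective φ := by
    intro a b hab
    have h1 : (a : Finset α).image e = (b : Finset α).image e := congrArg Subtype.val hab
    exact Subtype.ext (Finset.image_injective e.injective h1)
  have hsurj : Function.Surjective φ := by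
    rintro ⟨c, hc⟩
    rw [← he] at hc
    obtain ⟨b, hb, hbc⟩ := hc
    exact ⟨⟨b, hb⟩, Subtype.ext hbc⟩
  refine ⟨⟨Equiv.ofBijective φ ⟨hinj, hsurj⟩, ?_⟩⟩
  intro a b
  show (Cfsg.blockGraph B').Adj (φ a) (φ b) ↔ (Cfsg.blockGraph B).Adj a b
  unfold Cfsg.blockGraph
  rw [SimpleGraph.fromRel_adj, SimpleGraph.fromRel_adj]
  have hd : ∀ s t : Finset α, Disjoint (s.image e) (t.image e) ↔ Disjoint s t :=
    fun s t => Finset.disjoint_image e.injective
  constructor
  · rintro ⟨hne, hdis⟩
    refine ⟨fun hab => hne (congrArg φ hab), ?_⟩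
    rcases hdis with hdis | hdis
    · exact Or.inl ((hd _ _).mp hdis)
    · exact Or.inr ((hd _ _).mp hdis)
  · rintro ⟨hne, hdis⟩
    refine ⟨fun hab => hne (hinj hab), ?_⟩
    rcases hdis with hdis | hdis
    · exact Or.inl ((hd _ _).mpr hdis)
    · exact Or.inr ((hd _ _).mpr hdis)

end Cfsg.Agent.Helper60.Srg77
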