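import Cfsg.Agent.Helper94.Srg77.Facts9

set_option autoImplicit false
set_option linter.unusedSectionVars false
set_option linter.unusedVariables false

namespace Cfsg.Agent.Helper60.Srg77

open Finset Cfsg.Agent.Helper94.Srg77

variable {V : Type*} [Fintype V] [DecidableEq V] {G : SimpleGraph V} [DecidableRel G.Adj]

/-- (ISO) ROUTE: x ↦ ⟨blk G x, x, rfl⟩ is a bijection V ≃ Blocks G (`f.blk_injective`), and
`(Cfsg.blockGraph B).Adj a b ↔ a ≠ b ∧ (Disjoint a b ∨ Disjoint b a)` (`SimpleGraph.fromRel_adj`);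
x ~ y ⇒ disjoint blocks (`f.blk_adj`) and x ≠ y; x ≠ y non-adjacent ⇒ 2 common points (`f.blk_nadj`). -/
theorem isoBlock (h : Hyp G) (f : F9 G) : Nonempty (G ≃g Cfsg.blockGraph (Blocks G)) := by
  classical
  let φ : V → Blocks G := fun x => ⟨blk G x, ⟨x, rfl⟩⟩
  have hinj : Function.Injective φ := by
    intro x y hxy
    exact f.blk_injective (congrArg Subtype.val hxy)
  have hsurj : Function.Surjective φ := by
    rintro ⟨c, ⟨x, rfl⟩⟩
    exact ⟨x, rfl⟩
  refine ⟨⟨Equiv.ofBijective φ ⟨hinj, hsurj⟩, ?_⟩⟩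
  intro x y
  show (Cfsg.blockGraph (Blocks G)).Adj (φ x) (φ y) ↔ G.Adj x y
  unfold Cfsg.blockGraph
  rw [SimpleGraph.fromRel_adj]
  constructor
  · rintro ⟨hne, hdis⟩
    by_contra hnadj
    have hxy : x ≠ y := fun hxy => hne (congrArg φ hxy)
    have h2 := f.blk_nadj hxy hnadj
    have hdis' : Disjoint (blk G x) (blk G y) := by
      rcases hdis with hdis | hdis
      · exact hdis
      · exact hdis.symm
    rw [Finset.disjoint_iff_inter_eq_empty] at hdis'
    rw [hdis'] at h2
    simp at h2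
  · intro hadj
    refine ⟨fun hxy => ?_, Or.inl (f.blk_adj hadj)⟩
    have : x = y := hinj hxy
    subst this
    exact G.loopless.irrefl _ hadj

end Cfsg.Agent.Helper60.Srg77
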