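import Cfsg.Agent.Helper94.Srg77.Facts9

set_option autoImplicit false
set_option linter.unusedSectionVars false
set_option linter.unusedVariables false

namespace Cfsg.Agent.Helper60.Srg77

open Finset Cfsg.Agent.Helper94.Srg77

variable {V : Type*} [Fintype V] [DecidableEq V] {G : SimpleGraph V} [DecidableRel G.Adj]

/-- the non-neighbours of `x` other than `x`: 60 of them -/
theorem LA_card_far (h : Hyp G) (x : V) : (far G x).card = 60 := by
  have hfar : far G x = univ \ insert x (G.neighborFinset x) := by
    ext y
    simp only [mem_far, mem_sdiff, mem_univ, true_and, mem_insert, SimpleGraph.mem_neighborFinset,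
      not_or]
  have hx : x ∉ G.neighborFinset x := by
    simp
  rw [hfar, card_sdiff_of_subset (subset_univ _), card_insert_of_notMem hx, h.deg x, card_univ, h.card]

/-- (LA) ROUTE: |far G x| = 77 - 1 - 16 = 60; the fibre of `line G x` over `line G x y` is
`line G x y \ {x}` (4 elements) by `f.line_eq`; `Finset.card_eq_sum_card_image`. -/
theorem card_linesAt (h : Hyp G) (f : F5 G) (x : V) : (linesAt G x).card = 15 := by
  have h60 := LA_card_far h x
  have hsum := Finset.card_eq_sum_card_image (line G x) (far G x)
  have hfib : ∀ m ∈ (far G x).image (line G x),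
      ((far G x).filter fun y => line G x y = m).card = 4 := by
    intro m hm
    obtain ⟨y, hy, rfl⟩ := mem_image.mp hm
    obtain ⟨hyx, hnadj⟩ := mem_far.mp hy
    have hxy : x ≠ y := fun e => hyx e.symm
    have heq : ((far G x).filter fun y' => line G x y' = line G x y) = (line G x y).erase x := by
      ext y'
      simp only [mem_filter, mem_erase, mem_far]
      constructor
      · rintro ⟨⟨h1, h2⟩, h3⟩
        refine ⟨h1, ?_⟩
        rw [← h3]
        exact right_mem_line x y'
      · rintro ⟨h1, h2⟩
        have hn : ¬ G.Adj x y' := f.line_noEdges hxy hnadj x (left_mem_line x y) y' h2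
        refine ⟨⟨h1, hn⟩, ?_⟩
        exact f.line_eq hxy hnadj (left_mem_line x y) h2 (fun e => h1 e.symm)
    rw [heq, card_erase_of_mem (left_mem_line x y), f.line_card hxy hnadj]
  rw [Finset.sum_congr rfl hfib, sum_const, smul_eq_mul, h60] at hsum
  unfold linesAt
  omega

end Cfsg.Agent.Helper60.Srg77
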