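import Cfsg.Agent.Helper94.Srg77.Facts9
import Cfsg.Agent.Helper68.Srg77_AB

set_option autoImplicit false
set_option linter.unusedSectionVars false
set_option linter.unusedVariables false

namespace Cfsg.Agent.Helper60.Srg77

open Finset Cfsg.Agent.Helper94.Srg77

variable {V : Type*} [Fintype V] [DecidableEq V] {G : SimpleGraph V} [DecidableRel G.Adj]

/-- two different blocks share at most two points -/
theorem ST_inter_le (f : F9 G) {x y : V} (hxy : x ≠ y) : (blk G x ∩ blk G y).card ≤ 2 := by
  by_cases hadj : G.Adj x y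
  · have hd := f.blk_adj hadj
    rw [Finset.disjoint_iff_inter_eq_empty] at hd
    rw [hd]
    simp
  · exact (f.blk_nadj hxy hadj).le

/-- (ST) ROUTE: blocks have 6 elements (`f.blk_card`); two different blocks share 0 or 2 points
(`f.blk_adj`, `f.blk_nadj`), so a 3-set lies in at most one block; existence by
`exists_block_of_count` (restate it with sorry locally or import it once it is DONE) applied to
`blk G : V → Finset (Pt G)` (`h.card`, `f.card_Pt`). -/
theorem steiner (h : Hyp G) (f : F9 G) : Cfsg.IsSteinerSystem 3 6 (Blocks G) := by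
  classical
  refine ⟨?_, ?_⟩
  · rintro b ⟨x, rfl⟩
    exact f.blk_card x
  · intro s hs
    obtain ⟨x, hx⟩ := Cfsg.Agent.Helper68.Srg77.exists_block_of_count (blk G) f.card_Pt h.card
      f.blk_card (fun i j hij => ST_inter_le f hij) s hs
    refine ⟨blk G x, ⟨⟨x, rfl⟩, hx⟩, ?_⟩
    rintro b ⟨⟨y, rfl⟩, hy⟩
    by_contra hne
    have hxy : y ≠ x := fun e => hne (by rw [e])
    have h2 := ST_inter_le f hxy
    have h3 : s ⊆ blk G y ∩ blk G x := Finset.subset_inter hy hx
    have := Finset.card_le_card h3
    omega

end Cfsg.Agent.Helper60.Srg77
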