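import Mathlib
import Cfsg.Agent.Helper95.TIC.Defs

/-!
# (F2) for S4064 (helper95, #12259): a Frobenius complement of a Frobenius complement is a Frobenius complement
-/

set_option autoImplicit false

namespace Cfsg.Agent.Helper60.TICent

open Subgroup Cfsg.Agent.Helper95.TICent
open scoped Pointwise

variable {G : Type*} [Group G]

/-- (F2) A Frobenius complement of a Frobenius complement is a Frobenius complement.
For `g ∉ E`: `H' ∩ g H' g⁻¹ ≤ E ∩ g E g⁻¹ = 1`.  For `g ∈ E` not in the image of `H`: use `hH`. -/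
theorem isFrobeniusComplement_map_subtype {E : Subgroup G} (hE : Cfsg.IsFrobeniusComplement E)
    {H : Subgroup E} (hH : Cfsg.IsFrobeniusComplement H) :
    Cfsg.IsFrobeniusComplement (H.map E.subtype) := by
  obtain ⟨-, hEtop, hEg⟩ := hE
  obtain ⟨hHbot, -, hHg⟩ := hH
  refine ⟨?_, ?_, ?_⟩
  · rw [Ne, map_eq_bot_iff_of_injective H E.subtype_injective]
    exact hHbot
  · intro h
    apply hEtop
    rw [eq_top_iff, ← h]
    exact map_subtype_le H
  · intro g hg
    rw [eq_bot_iff]
    intro x hx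
    rw [mem_bot]
    obtain ⟨hx1, hx2⟩ := mem_inf.mp hx
    obtain ⟨h, hhH, rfl⟩ := mem_map.mp hx1
    obtain ⟨y, hy, hyx⟩ := (mem_smul_pointwise_iff_exists _ _ _).mp hx2
    obtain ⟨h', hh'H, rfl⟩ := mem_map.mp hy
    have hyx' : g * (h' : G) * g⁻¹ = (h : G) := by
      simpa [MulAut.smul_def, MulAut.conj_apply] using hyx
    by_cases hgE : g ∈ E
    · -- work inside `E`
      have hgH : (⟨g, hgE⟩ : E) ∉ H := by
        intro hmem
        apply hg
        exact mem_map.mpr ⟨⟨g, hgE⟩, hmem, rfl⟩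
      have h1 : h ∈ H ⊓ (MulAut.conj (⟨g, hgE⟩ : E) • H) := by
        refine mem_inf.mpr ⟨hhH, ?_⟩
        rw [mem_smul_pointwise_iff_exists]
        refine ⟨h', hh'H, ?_⟩
        apply Subtype.ext
        simpa [MulAut.smul_def, MulAut.conj_apply] using hyx'
      rw [hHg _ hgH, mem_bot] at h1
      rw [h1]
      rfl
    · have h1 : (h : G) ∈ E ⊓ (MulAut.conj g • E) := by
        refine mem_inf.mpr ⟨h.2, ?_⟩
        rw [mem_smul_pointwise_iff_exists]
        exact ⟨(h' : G), h'.2, by simpa [MulAut.smul_def, MulAut.conj_apply] using hyx'⟩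
      rw [hEg g hgE, mem_bot] at h1
      exact h1

end Cfsg.Agent.Helper60.TICent
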