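import Mathlib
import Cfsg.Agent.Helper95.TIC.Defs

/-!
# (SOLV) for S4064 (helper95, #12259): a non-trivial finite solvable group has a non-trivial abelian normal subgroup
-/

set_option autoImplicit false

namespace Cfsg.Agent.Helper60.TICent

open Subgroup Cfsg.Agent.Helper95.TICent

variable {G : Type*} [Group G]

/-- (SOLV) A non-trivial finite solvable group has a non-trivial abelian normal subgroup
(the last non-trivial term of the derived series). -/
theorem exists_abelian_normal [Finite G] [Nontrivial G] (hs : Group.IsSolvable G) :
    ∃ K : Subgroup G, K.Normal ∧ K ≠ ⊥ ∧ ∀ a ∈ K, ∀ b ∈ K, a * b = b * a := by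
  classical
  have hex : ∃ n, derivedSeries G n = ⊥ := hs.solvable
  have hmin : ∀ m, m < Nat.find hex → ¬ derivedSeries G m = ⊥ := fun m => Nat.find_min hex
  have hspec := Nat.find_spec hex
  obtain ⟨n, hn⟩ : ∃ n, Nat.find hex = n + 1 := by
    cases h0 : Nat.find hex with
    | zero =>
      exfalso
      rw [h0, derivedSeries_zero] at hspec
      exact top_ne_bot hspec
    | succ n => exact ⟨n, rfl⟩
  refine ⟨derivedSeries G n, inferInstance, ?_, ?_⟩
  · exact hmin n (by omega)
  · rw [hn, derivedSeries_succ, commutator_eq_bot_iff_le_centralizer] at hspec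
    intro a ha b hb
    have := hspec ha
    rw [mem_centralizer_iff] at this
    exact (this b hb).symm

end Cfsg.Agent.Helper60.TICent
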