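import Mathlib
import Cfsg.Agent.Helper95.TIC.Defs
import Cfsg.Agent.Helper95.TIC.SE5

/-!
# (ZE) for S4064 (helper95, #12373): if `|A| - 1 ≤ 2 |N : A|` then `A` has exponent `2`
-/

set_option autoImplicit false

namespace Cfsg.Agent.Helper60.TICent

open Subgroup Cfsg Cfsg.Agent.Helper75 Cfsg.Agent.Helper21 Cfsg.Agent.Helper4 Cfsg.Agent.Helper95.TICent

universe u

variable {G : Type u} [Group G]

/-- the subgroup of the elements of `A` of square `1` -/
def sqSub (c : BData G) [Finite G] : Subgroup G where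
  carrier := {x | x ∈ c.A ∧ x ^ 2 = 1}
  one_mem' := ⟨c.A.one_mem, one_pow 2⟩
  mul_mem' := by
    rintro x y ⟨hxA, hx⟩ ⟨hyA, hy⟩
    refine ⟨c.A.mul_mem hxA hyA, ?_⟩
    by_cases hx1 : x = 1
    · rw [hx1, one_mul]
      exact hy
    · have : Fact (Nat.Prime 2) := ⟨Nat.prime_two⟩
      have hox : orderOf x = 2 := orderOf_eq_prime hx hx1
      have hcomm : y * x = x * y := c.invol_comm hox hxA hyA
      calc (x * y) ^ 2 = (x * y) * (x * y) := pow_two _
        _ = x * (y * x) * y := by simp only [mul_assoc]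
        _ = x * (x * y) * y := by rw [hcomm]
        _ = (x * x) * (y * y) := by simp only [mul_assoc]
        _ = 1 := by rw [← pow_two, ← pow_two, hx, hy, one_mul]
  inv_mem' := by
    rintro x ⟨hxA, hx⟩
    exact ⟨c.A.inv_mem hxA, by rw [inv_pow, hx, inv_one]⟩

theorem mem_sqSub (c : BData G) [Finite G] (x : G) : x ∈ sqSub c ↔ x ∈ c.A ∧ x ^ 2 = 1 := Iff.rfl

theorem sqSub_le (c : BData G) [Finite G] : sqSub c ≤ c.A := fun _ hx => hx.1

theorem card_sqSub (c : BData G) [Finite G] : Nat.card (sqSub c) = caE c.A + 1 := by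
  have : Fact (Nat.Prime 2) := ⟨Nat.prime_two⟩
  have hset : ((sqSub c : Subgroup G) : Set G) = insert 1 {s : G | orderOf s = 2 ∧ s ∈ c.A} := by
    ext x
    constructor
    · rintro ⟨hxA, hx⟩
      by_cases hx1 : x = 1
      · exact Or.inl hx1
      · exact Or.inr ⟨orderOf_eq_prime hx hx1, hxA⟩
    · rintro (rfl | ⟨h2, hA⟩)
      · exact (sqSub c).one_mem
      · exact ⟨hA, by rw [← h2]; exact pow_orderOf_eq_one x⟩
  have h1 : Nat.card (sqSub c) = Set.ncard ((sqSub c : Subgroup G) : Set G) :=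
    Nat.card_coe_set_eq _
  have h2 : Nat.card {s : G // orderOf s = 2 ∧ s ∈ c.A} =
      Set.ncard {s : G | orderOf s = 2 ∧ s ∈ c.A} := Nat.card_coe_set_eq _
  rw [h1, hset, Set.ncard_insert_of_notMem _ (Set.toFinite _), ← h2, c.card_invol_A]
  rintro ⟨h, -⟩
  rw [orderOf_one] at h
  omega

/-- (ZE) If `|A| - 1 ≤ 2 |N : A|` then `A` has exponent `2`. -/
theorem BData.sq_eq_one (c : BData G) [Finite G] (hw : 2 ≤ caE c.A)
    (hh : Nat.card c.A - 1 ≤ 2 * caE c.A) : ∀ x ∈ c.A, x ^ 2 = 1 := by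
  have hle := sqSub_le c
  have hdvd : Nat.card (sqSub c) ∣ Nat.card c.A := Subgroup.card_dvd_of_le hle
  rw [card_sqSub] at hdvd
  obtain ⟨k, hk⟩ := hdvd
  have hpos : 0 < Nat.card c.A := Nat.card_pos
  have hk1 : k = 1 := by
    have hk0 : k ≠ 0 := by
      rintro rfl
      rw [mul_zero] at hk
      omega
    by_contra hne
    have hk2 : 2 ≤ k := by omega
    have : (caE c.A + 1) * 2 ≤ (caE c.A + 1) * k := Nat.mul_le_mul_left _ hk2
    omega
  have hcard : Nat.card c.A ≤ Nat.card (sqSub c) := by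
    rw [card_sqSub, hk, hk1, mul_one]
  have heq : sqSub c = c.A := Subgroup.eq_of_le_of_card_ge hle hcard
  intro x hx
  rw [← heq] at hx
  exact hx.2

end Cfsg.Agent.Helper60.TICent
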