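import Mathlib
import Cfsg.Agent.Helper56.PSLCongr

/-!
# (ZG) for S4064 (helper95, #12373): `PSL₂` of a field with `2 ^ n` elements is `PSL₂ (GaloisField 2 n)`
-/

set_option autoImplicit false

namespace Cfsg.Agent.Helper60.TICent

open Subgroup Cfsg

/-- (ZG) `PSL₂` of a field with `2 ^ n` elements is `PSL₂ (GaloisField 2 n)`. -/
theorem psl_galois {F : Type} [Field F] [Fintype F] {n : ℕ} (hn : n ≠ 0)
    (hF : Fintype.card F = 2 ^ n) :
    Nonempty (Matrix.ProjectiveSpecialLinearGroup (Fin 2) F ≃*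
      Matrix.ProjectiveSpecialLinearGroup (Fin 2) (GaloisField 2 n)) := by
  have : Fact (Nat.Prime 2) := ⟨Nat.prime_two⟩
  have : CharP F 2 := charP_of_card_eq_prime_pow hF
  let _ : Algebra (ZMod 2) F := ZMod.algebra F 2
  have hcard : Nat.card F = 2 ^ n := by rw [Nat.card_eq_fintype_card, hF]
  have e : F ≃ₐ[ZMod 2] GaloisField 2 n := GaloisField.algEquivGaloisField 2 n hcard
  exact ⟨Cfsg.Agent.Helper56.PSLCongr.pslCongr e.toRingEquiv⟩

end Cfsg.Agent.Helper60.TICent
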