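import Mathlib
import Cfsg.Prelude.Def_OddOrderLocal
import Cfsg.Prelude.Def_Solvable
import Cfsg.Agent.S0034

/-!
# Piece (T3) of helper95's plan #3963 for S4118 (helper60)

A TI-subgroup `K` which is a Hall subgroup of its normalizer is normal as soon as the group has a
nontrivial normal subgroup `U` all of whose prime divisors divide `|K|`.
-/

set_option autoImplicit false

namespace Cfsg.Agent.Helper60.TIHallT3

open Subgroup

theorem card_mul_relIndex_of_le' {Γ : Type*} [Group Γ] {H K : Subgroup Γ} (h : H ≤ K) :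
    Nat.card H * H.relIndex K = Nat.card K := by
  have h1 := (H.subgroupOf K).card_mul_index
  have e : Nat.card (H.subgroupOf K) = Nat.card H :=
    Nat.card_congr (Subgroup.subgroupOfEquivOfLe h).toEquiv
  rw [e] at h1
  exact h1

theorem normal_of_ti_of_normal_pi {Γ : Type*} [Group Γ] [Finite Γ] (K U : Subgroup Γ) [U.Normal]
    (hTI : Cfsg.IsTISubset (K : Set Γ))
    (hHall : (Nat.card K).Coprime (K.subgroupOf (normalizer (K : Set Γ))).index) (hU1 : U ≠ ⊥)
    (hUpi : ∀ q : ℕ, q.Prime → q ∣ Nat.card U → q ∣ Nat.card K) : K.Normal := by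
  by_cases hK1 : K = ⊥
  · rw [hK1]; infer_instance
  have hKL : K ≤ U ⊔ K := le_sup_right
  -- primes of `|L : K|` divide `|K|`
  have hprimes : ∀ q : ℕ, q.Prime → q ∣ K.relIndex (U ⊔ K) → q ∣ Nat.card K := by
    intro q hq hd
    have h1 : Nat.card K * K.relIndex (U ⊔ K) = Nat.card U * U.relIndex K := by
      rw [card_mul_relIndex_of_le' hKL, ← card_mul_relIndex_of_le' (le_sup_left : U ≤ U ⊔ K),
        Subgroup.relIndex_sup_left]
    have h2 : q ∣ Nat.card U * U.relIndex K := h1 ▸ Dvd.dvd.mul_left hd _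
    rcases (Nat.Prime.dvd_mul hq).mp h2 with h | h
    · exact hUpi q hq h
    · have h3 : U.relIndex K ∣ Nat.card K := by
        rw [← Subgroup.inf_relIndex_right]
        exact Dvd.intro_left _ (card_mul_relIndex_of_le' (inf_le_right : U ⊓ K ≤ K))
      exact h.trans h3
  -- (1) `N_L(K) = K`
  have hself : ∀ g ∈ U ⊔ K, g ∈ normalizer (K : Set Γ) → g ∈ K := by
    have hKM : K ≤ normalizer (K : Set Γ) ⊓ (U ⊔ K) := le_inf le_normalizer hKL
    have ha : K.relIndex (normalizer (K : Set Γ) ⊓ (U ⊔ K)) ∣ K.relIndex (normalizer (K : Set Γ)) :=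
      Dvd.intro _ (Subgroup.relIndex_mul_relIndex K _ _ hKM inf_le_left)
    have hb : K.relIndex (normalizer (K : Set Γ) ⊓ (U ⊔ K)) ∣ K.relIndex (U ⊔ K) :=
      Dvd.intro _ (Subgroup.relIndex_mul_relIndex K _ _ hKM inf_le_right)
    have hr1 : K.relIndex (normalizer (K : Set Γ) ⊓ (U ⊔ K)) = 1 := by
      by_contra hne
      obtain ⟨q, hq, hqd⟩ := Nat.exists_prime_and_dvd hne
      have h1 : q ∣ Nat.card K := hprimes q hq (hqd.trans hb)
      have h2 : q ∣ (K.subgroupOf (normalizer (K : Set Γ))).index := hqd.trans ha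
      exact (Nat.Prime.not_coprime_iff_dvd.mpr ⟨q, hq, h1, h2⟩) hHall
    have hle : normalizer (K : Set Γ) ⊓ (U ⊔ K) ≤ K := Subgroup.relIndex_eq_one.mp hr1
    intro g hgL hgN
    exact hle ⟨hgN, hgL⟩
  -- (2) `U ≤ K`
  have hUK : U ≤ K := by
    by_contra hUK
    have hfrob : Cfsg.IsFrobeniusComplement (K.subgroupOf (U ⊔ K)) := by
      refine ⟨?_, ?_, ?_⟩
      · intro h
        apply hK1
        rw [eq_bot_iff]
        intro x hx
        have : (⟨x, hKL hx⟩ : ↥(U ⊔ K)) ∈ K.subgroupOf (U ⊔ K) := Subgroup.mem_subgroupOf.mpr hx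
        rw [h, Subgroup.mem_bot] at this
        exact Subgroup.mem_bot.mpr (congrArg Subtype.val this)
      · intro h
        apply hUK
        have : U ⊔ K ≤ K := Subgroup.subgroupOf_eq_top.mp h
        exact le_sup_left.trans this
      · intro g hg
        rw [eq_bot_iff]
        rintro x ⟨hx1, hx2⟩
        rw [Subgroup.mem_bot]
        obtain ⟨y, hy, hyx⟩ := hx2
        have hgN : (g : Γ) ∉ normalizer (K : Set Γ) := fun h =>
          hg (Subgroup.mem_subgroupOf.mpr (hself g g.2 h))
        have hyx' : (g : Γ) * (y : Γ) * (g : Γ)⁻¹ = (x : Γ) := by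
          have := congrArg Subtype.val hyx
          simpa [MulAut.conj_apply] using this
        have hy1 : (y : Γ) = 1 :=
          hTI g hgN y (Subgroup.mem_subgroupOf.mp hy)
            (by rw [hyx']; exact Subgroup.mem_subgroupOf.mp hx1)
        apply Subtype.ext
        rw [← hyx', hy1]
        simp
    have h34 := (Cfsg.Agent.S0034.result (K.subgroupOf (U ⊔ K)) hfrob).2
    have hc : Nat.card (K.subgroupOf (U ⊔ K)) = Nat.card K :=
      Nat.card_congr (Subgroup.subgroupOfEquivOfLe hKL).toEquiv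
    rw [hc] at h34
    have hK2 : 1 < Nat.card K := by
      rcases Nat.lt_or_ge 1 (Nat.card K) with h | h
      · exact h
      · exfalso
        have hpos : 0 < Nat.card K := Nat.card_pos
        have : Nat.card K = 1 := by omega
        exact hK1 (Subgroup.card_eq_one.mp this)
    have hne : K.relIndex (U ⊔ K) ≠ 1 := by
      intro h
      apply hUK
      exact le_sup_left.trans (Subgroup.relIndex_eq_one.mp h)
    obtain ⟨q, hq, hqd⟩ := Nat.exists_prime_and_dvd hne
    have h1 : q ∣ Nat.card K := hprimes q hq hqd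
    have h2 : q ∣ (K.subgroupOf (U ⊔ K)).index % Nat.card K := (Nat.dvd_mod_iff h1).mpr hqd
    rw [h34, Nat.mod_eq_of_lt hK2] at h2
    exact hq.one_lt.ne' (Nat.dvd_one.mp h2)
  -- (3) every `g` normalizes `K`
  obtain ⟨u, hu, hu1⟩ := U.bot_or_exists_ne_one.resolve_left hU1
  apply Subgroup.normalizer_eq_top_iff.mp
  rw [eq_top_iff]
  intro g _
  by_contra hgN
  have hx : g⁻¹ * u * g ∈ K := by
    have := (inferInstance : U.Normal).conj_mem u hu g⁻¹
    rw [inv_inv] at this
    exact hUK this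
  have h1 := hTI g hgN (g⁻¹ * u * g) hx (by
    have : g * (g⁻¹ * u * g) * g⁻¹ = u := by group
    rw [this]; exact hUK hu)
  apply hu1
  have : u = g * (g⁻¹ * u * g) * g⁻¹ := by group
  rw [this, h1]; group

end Cfsg.Agent.Helper60.TIHallT3
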