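import Mathlib

/-!
# A tower of perfect groups (helper60)

For a finite group `G` and a prime `p` not dividing `2 * #G`, let `V` be the sum-zero functions
`G → ZMod p` with the translation action.  The semidirect product `V ⋊ G` is perfect when `G` is,
the preimage of a maximal (resp. solvable) subgroup is maximal (resp. solvable), and the derived
length of that preimage is strictly larger.
-/

set_option autoImplicit false
set_option linter.unusedSectionVars false

namespace Cfsg.Agent.Helper60.Tower

open SemidirectProduct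

section Abstract

variable {G : Type*} [Group G] {V : Type*} [AddCommGroup V] [DistribMulAction G V]

/-- the action hom -/
noncomputable def phi (G : Type*) [Group G] (V : Type*) [AddCommGroup V] [DistribMulAction G V] :
    G →* MulAut (Multiplicative V) :=
  (MulAutMultiplicative V).symm.toMonoidHom.comp (DistribMulAction.toAddAut G V)

theorem phi_apply (g : G) (v : V) :
    phi G V g (Multiplicative.ofAdd v) = Multiplicative.ofAdd (g • v) := rfl

theorem toAdd_phi (g : G) (n : Multiplicative V) :
    Multiplicative.toAdd (phi G V g n) = g • Multiplicative.toAdd n := rfl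

/-- the extended group -/
abbrev TExt (G : Type*) [Group G] (V : Type*) [AddCommGroup V] [DistribMulAction G V] :=
  Multiplicative V ⋊[phi G V] G

theorem comm_mem (x y : TExt G V) : x * y * x⁻¹ * y⁻¹ ∈ commutator (TExt G V) := by
  have := Subgroup.commutator_mem_commutator (Subgroup.mem_top x) (Subgroup.mem_top y)
  rw [commutatorElement_def] at this
  exact this

theorem inr_mem_commutator (perf : commutator G = ⊤) (g : G) :
    (inr g : TExt G V) ∈ commutator (TExt G V) := by
  have h1 : (commutator G).map (inr : G →* TExt G V) ≤ commutator (TExt G V) := by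
    rw [commutator_def, Subgroup.map_commutator, commutator_def]
    exact Subgroup.commutator_mono le_top le_top
  apply h1
  rw [perf]
  exact Subgroup.mem_map_of_mem _ (Subgroup.mem_top g)

theorem inl_mem_commutator
    (hVG : ∀ v : V, v ∈ AddSubgroup.closure {w : V | ∃ (g : G) (u : V), w = g • u - u}) (v : V) :
    (inl (Multiplicative.ofAdd v) : TExt G V) ∈ commutator (TExt G V) := by
  have := hVG v
  induction this using AddSubgroup.closure_induction with
  | mem w hw =>
    obtain ⟨g, u, rfl⟩ := hw
    have h2 : (inl (Multiplicative.ofAdd (g • u - u)) : TExt G V)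
        = (inr g : TExt G V) * inl (Multiplicative.ofAdd u) * (inr g)⁻¹ *
            (inl (Multiplicative.ofAdd u))⁻¹ := by
      rw [← map_inv inr, ← inl_aut, ← map_inv, ← map_mul, phi_apply, sub_eq_add_neg, ofAdd_add,
        ofAdd_neg]
    rw [h2]
    exact comm_mem _ _
  | zero => simp
  | add a b _ _ ha hb =>
    rw [ofAdd_add, map_mul]; exact Subgroup.mul_mem _ ha hb
  | neg a _ ha =>
    rw [ofAdd_neg, map_inv]; exact Subgroup.inv_mem _ ha

theorem ext_perfect (perf : commutator G = ⊤)
    (hVG : ∀ v : V, v ∈ AddSubgroup.closure {w : V | ∃ (g : G) (u : V), w = g • u - u}) :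
    commutator (TExt G V) = ⊤ := by
  rw [eq_top_iff]
  intro x _
  rw [← inl_left_mul_inr_right x]
  refine Subgroup.mul_mem _ ?_ (inr_mem_commutator perf _)
  have := inl_mem_commutator (G := G) hVG (Multiplicative.toAdd x.left)
  simpa using this

/-- the new maximal subgroup -/
noncomputable def TH (V : Type*) [AddCommGroup V] [DistribMulAction G V] (H : Subgroup G) :
    Subgroup (TExt G V) := H.comap rightHom

theorem th_coatom {H : Subgroup G} (hco : IsCoatom H) : IsCoatom (TH V H) :=
  Subgroup.isCoatom_comap_of_surjective rightHom_surjective hco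

theorem inl_mem_th (H : Subgroup G) (n : Multiplicative V) : (inl n : TExt G V) ∈ TH V H := by
  show rightHom (inl n : TExt G V) ∈ H
  rw [rightHom_inl]; exact H.one_mem

theorem th_solvable {H : Subgroup G} [hs : Group.IsSolvable H] : Group.IsSolvable (TH V H) := by
  let f : Multiplicative V →* ↥(TH V H) :=
    (inl : Multiplicative V →* TExt G V).codRestrict (TH V H) (inl_mem_th H)
  let g : ↥(TH V H) →* ↥H := (rightHom : TExt G V →* G).subgroupComap H
  refine Group.isSolvable_of_ker_le_range f g ?_
  intro x hx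
  rw [MonoidHom.mem_ker] at hx
  have h1 : (rightHom : TExt G V →* G) x.1 = 1 := by
    have := congrArg Subtype.val hx
    exact this
  have h2 : x.1 ∈ (inl : Multiplicative V →* TExt G V).range := by
    rw [range_inl_eq_ker_rightHom]; exact h1
  obtain ⟨n, hn⟩ := h2
  exact ⟨n, Subtype.ext hn⟩

theorem th_derived {H : Subgroup G} (d : ℕ) (hd : derivedSeries H d ≠ ⊥)
    (hquad : ∀ h : G, h ≠ 1 → ∃ u : V, h • (h • u - u) - (h • u - u) ≠ 0) :
    derivedSeries (TH V H) (d + 1) ≠ ⊥ := by
  intro hbot
  let g : ↥(TH V H) →* ↥H := (rightHom : TExt G V →* G).subgroupComap H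
  have hsurj : Function.Surjective g :=
    MonoidHom.subgroupComap_surjective_of_surjective _ _ rightHom_surjective
  have hmap := map_derivedSeries_eq hsurj d
  obtain ⟨h, hh, hne⟩ : ∃ h ∈ derivedSeries H d, h ≠ 1 := by
    by_contra hcon
    push Not at hcon
    exact hd ((Subgroup.eq_bot_iff_forall _).2 hcon)
  rw [← hmap] at hh
  obtain ⟨x, hx, rfl⟩ := hh
  have hxr : (x.1).right ≠ 1 := fun h0 => hne (Subtype.ext h0)
  obtain ⟨u, hu⟩ := hquad x.1.right hxr
  let w : ↥(TH V H) := ⟨inl (Multiplicative.ofAdd u), inl_mem_th H _⟩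
  have hy1 : w * x * w⁻¹ * x⁻¹ ∈ derivedSeries (TH V H) d := by
    have hn := derivedSeries_normal (TH V H) d
    exact Subgroup.mul_mem _ (hn.conj_mem x hx w) (Subgroup.inv_mem _ hx)
  have hcomm : x * (w * x * w⁻¹ * x⁻¹) * x⁻¹ * (w * x * w⁻¹ * x⁻¹)⁻¹ = 1 := by
    have := Subgroup.commutator_mem_commutator hx hy1
    rw [← derivedSeries_succ, hbot, Subgroup.mem_bot, commutatorElement_def] at this
    exact this
  have h3 := congrArg (fun t : ↥(TH V H) => Multiplicative.toAdd (t.1).left) hcomm
  obtain ⟨⟨n0, h⟩, hxH⟩ := x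
  obtain ⟨v0, rfl⟩ : ∃ v0, n0 = Multiplicative.ofAdd v0 := ⟨Multiplicative.toAdd n0, rfl⟩
  simp only [w, Subgroup.coe_mul, Subgroup.coe_inv, mul_left, mul_right, inv_left, inv_right,
    left_inl, right_inl, toAdd_mul, toAdd_phi, toAdd_inv, toAdd_ofAdd, one_mul, mul_one, inv_one,
    one_smul, smul_add, smul_neg, smul_smul, mul_inv_cancel, mul_assoc, inv_mul_cancel,
    mul_inv_cancel_left] at h3
  apply hu
  show h • (h • u - u) - (h • u - u) = 0
  have h5 : (Multiplicative.toAdd ((1 : ↥(TH V H)) : TExt G V).left) = 0 := rfl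
  rw [h5] at h3
  rw [smul_sub, smul_smul, ← neg_eq_zero, ← h3]
  abel

end Abstract

section Concrete

variable (G : Type*) [Group G] [Fintype G] (p : ℕ)

/-- sum-zero functions `G → ZMod p` -/
def SumZero : AddSubgroup (G → ZMod p) where
  carrier := {f | ∑ x, f x = 0}
  zero_mem' := by simp
  add_mem' := by
    intro a b ha hb
    simp only [Set.mem_ofPred_eq, Pi.add_apply, Finset.sum_add_distrib] at *
    rw [ha, hb, add_zero]
  neg_mem' := by
    intro a ha
    simp only [Set.mem_ofPred_eq, Pi.neg_apply, Finset.sum_neg_distrib] at *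
    rw [ha, neg_zero]

variable {G p}

theorem mem_sumZero {f : G → ZMod p} : f ∈ SumZero G p ↔ ∑ x, f x = 0 := Iff.rfl

theorem sum_translate (g : G) (f : G → ZMod p) : ∑ x, f (g⁻¹ * x) = ∑ x, f x :=
  Fintype.sum_equiv (Equiv.mulLeft g⁻¹) _ _ (fun _ => rfl)

instance : SMul G (SumZero G p) :=
  ⟨fun g f => ⟨fun x => f.1 (g⁻¹ * x), by
    rw [mem_sumZero, sum_translate]; exact f.2⟩⟩

theorem smul_apply (g : G) (f : SumZero G p) (x : G) : (g • f).1 x = f.1 (g⁻¹ * x) := rfl

instance : DistribMulAction G (SumZero G p) where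
  one_smul f := by
    apply Subtype.ext; funext x; rw [smul_apply, inv_one, one_mul]
  mul_smul g h f := by
    apply Subtype.ext; funext x
    rw [smul_apply, smul_apply, smul_apply, mul_inv_rev, mul_assoc]
  smul_zero g := by
    apply Subtype.ext; funext x; rfl
  smul_add g a b := by
    apply Subtype.ext; funext x; rfl

section Prime

variable [DecidableEq G] [Fact p.Prime] (hpG : ¬ p ∣ Fintype.card G)

include hpG in
omit [Group G] [DecidableEq G] in
theorem card_ne_zero : ((Fintype.card G : ℕ) : ZMod p) ≠ 0 := by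
  rw [Ne, ZMod.natCast_eq_zero_iff]; exact hpG

/-- indicator function -/
def delta (x : G) : G → ZMod p := fun y => if y = x then 1 else 0

omit [Group G] in
theorem sum_delta (x : G) : ∑ y, delta (p := p) x y = 1 := by
  simp [delta]

omit [Group G] in
theorem sum_mul_delta (f : G → ZMod p) (y : G) : ∑ x, f x * delta (p := p) x y = f y := by
  simp [delta]

/-- the basic vector `e_1 - 1/|G|` -/
noncomputable def u0 : SumZero G p :=
  ⟨fun y => delta (1 : G) y - ((Fintype.card G : ℕ) : ZMod p)⁻¹, by
    rw [mem_sumZero, Finset.sum_sub_distrib, Finset.sum_const, Finset.card_univ,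
      sum_delta, nsmul_eq_mul, mul_inv_cancel₀ (card_ne_zero hpG), sub_self]⟩

theorem smul_u0_sub (x y : G) :
    (x • u0 hpG - u0 hpG).1 y = delta x y - delta (1 : G) y := by
  show (x • u0 hpG).1 y - (u0 hpG).1 y = _
  rw [smul_apply]
  simp only [u0]
  have : delta (p := p) (1 : G) (x⁻¹ * y) = delta x y := by
    unfold delta
    by_cases h : y = x
    · subst h; simp
    · rw [if_neg h, if_neg]
      intro h'
      apply h
      rw [inv_mul_eq_one] at h'
      exact h'.symm
  rw [this]; ring

include hpG in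
theorem hVG (v : SumZero G p) :
    v ∈ AddSubgroup.closure {w : SumZero G p | ∃ (g : G) (u : SumZero G p), w = g • u - u} := by
  have key : v = ∑ x : G, (v.1 x).val • (x • u0 hpG - u0 hpG) := by
    apply Subtype.ext
    funext y
    rw [AddSubgroup.val_finsetSum, Finset.sum_apply]
    have h1 : ∀ x : G, ((v.1 x).val • (x • u0 hpG - u0 hpG)).1 y
        = v.1 x * delta x y - v.1 x * delta (1 : G) y := by
      intro x
      rw [AddSubgroup.coe_nsmul, Pi.smul_apply, smul_u0_sub, nsmul_eq_mul, ZMod.natCast_zmod_val]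
      ring
    simp only [h1]
    rw [Finset.sum_sub_distrib, ← Finset.sum_mul, (mem_sumZero.1 v.2), zero_mul, sub_zero,
      sum_mul_delta]
  rw [key]
  refine AddSubgroup.sum_mem _ (fun x _ => AddSubgroup.nsmul_mem _ ?_ _)
  exact AddSubgroup.subset_closure ⟨x, u0 hpG, rfl⟩

include hpG in
theorem hquad (hp2 : p ≠ 2) (h : G) (hne : h ≠ 1) :
    ∃ u : SumZero G p, h • (h • u - u) - (h • u - u) ≠ 0 := by
  refine ⟨u0 hpG, fun h0 => ?_⟩
  have h1 : (h • (h • u0 hpG - u0 hpG) - (h • u0 hpG - u0 hpG)).1 1 = 0 := by rw [h0]; rfl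
  have h2 : (h • (h • u0 hpG - u0 hpG) - (h • u0 hpG - u0 hpG)).1 1
      = (h • u0 hpG - u0 hpG).1 (h⁻¹ * 1) - (h • u0 hpG - u0 hpG).1 1 := rfl
  rw [h2, smul_u0_sub, smul_u0_sub] at h1
  unfold delta at h1
  rw [mul_one, if_neg (fun h' : h⁻¹ = 1 => hne (inv_eq_one.1 h')),
    if_neg (fun h' : (1 : G) = h => hne h'.symm), if_pos rfl] at h1
  by_cases hh : h⁻¹ = h
  · rw [if_pos hh] at h1
    have h3 : ((2 : ℕ) : ZMod p) = 0 := by
      have h4 : (1 : ZMod p) - 0 - (0 - 1) = ((2 : ℕ) : ZMod p) := by push_cast; ring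
      rw [← h4]; exact h1
    rw [ZMod.natCast_eq_zero_iff] at h3
    exact hp2 ((Nat.prime_dvd_prime_iff_eq (Fact.out) Nat.prime_two).1 h3)
  · rw [if_neg hh] at h1
    have : (1 : ZMod p) = 0 := by
      have h3 : (0 : ZMod p) - 0 - (0 - 1) = 1 := by ring
      rw [← h3]; exact h1
    exact one_ne_zero this

end Prime

end Concrete

section Base

open Equiv

set_option maxRecDepth 100000 in
theorem fin4_comm_even : ∀ g h : Perm (Fin 4), Perm.sign g = 1 → Perm.sign h = 1 →
    (Perm.sign (g * h * g⁻¹ * h⁻¹) = 1 ∧ (g * h * g⁻¹ * h⁻¹) * (g * h * g⁻¹ * h⁻¹) = 1) := by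
  decide +kernel

set_option maxRecDepth 100000 in
theorem fin4_klein_comm : ∀ a b : Perm (Fin 4), (Perm.sign a = 1 ∧ a * a = 1) →
    (Perm.sign b = 1 ∧ b * b = 1) → a * b = b * a := by
  decide +kernel

theorem perm_fin4_solvable : Group.IsSolvable (Perm (Fin 4)) := by
  rw [Group.isSolvable_def]
  refine ⟨3, ?_⟩
  let X : Set (Perm (Fin 4)) := {σ | Perm.sign σ = 1 ∧ σ * σ = 1}
  have h1 : derivedSeries (Perm (Fin 4)) 1 ≤ (Perm.sign : Perm (Fin 4) →* ℤˣ).ker := by
    rw [derivedSeries_one]
    exact Abelianization.commutator_subset_ker _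
  have h2 : derivedSeries (Perm (Fin 4)) 2 ≤ Subgroup.closure X := by
    rw [derivedSeries_succ]
    refine (Subgroup.commutator_mono h1 h1).trans ?_
    rw [Subgroup.commutator_le]
    intro g hg h hh
    apply Subgroup.subset_closure
    rw [MonoidHom.mem_ker] at hg hh
    rw [commutatorElement_def]
    exact fin4_comm_even g h hg hh
  have hXc : ∀ a ∈ X, ∀ b ∈ X, a * b = b * a := fun a ha b hb => fin4_klein_comm a b ha hb
  have h3 : ⁅Subgroup.closure X, Subgroup.closure X⁆ = ⊥ := by
    rw [Subgroup.commutator_eq_bot_iff_le_centralizer]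
    have hc := Subgroup.isMulCommutative_closure hXc
    intro a ha
    rw [Subgroup.mem_centralizer_iff]
    intro b hb
    have := isMulCommutative_iff.1 hc ⟨b, hb⟩ ⟨a, ha⟩
    exact congrArg Subtype.val this
  rw [derivedSeries_succ]
  exact le_bot_iff.1 ((Subgroup.commutator_mono h2 h2).trans (le_of_eq h3))

theorem perm_solvable_of_card_le {α : Type*} [Fintype α] [DecidableEq α]
    (h : Fintype.card α ≤ 4) : Group.IsSolvable (Perm α) := by
  have hne : Nonempty (α ↪ Fin 4) := Function.Embedding.nonempty_of_card_le (by simpa using h)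
  obtain ⟨ι⟩ := hne
  have := perm_fin4_solvable
  exact Group.isSolvable_of_isSolvable_injective (Perm.viaEmbeddingHom_injective ι)

/-- the base group -/
abbrev A5 := alternatingGroup (Fin 5)

/-- the base maximal subgroup -/
abbrev H0 : Subgroup A5 := MulAction.stabilizer A5 (0 : Fin 5)

theorem a5_perfect : commutator A5 = ⊤ :=
  commutator_alternatingGroup_eq_top (by simp)

theorem h0_coatom : IsCoatom H0 := by
  have : MulAction.IsPreprimitive A5 (Fin 5) :=
    alternatingGroup.isPreprimitive_of_three_le_card (Fin 5) (by simp)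
  exact MulAction.IsPreprimitive.isCoatom_stabilizer_of_isPreprimitive (G := A5) (0 : Fin 5)

theorem h0_solvable : Group.IsSolvable H0 := by
  classical
  let T := SubMulAction.ofStabilizer A5 (0 : Fin 5)
  let f : H0 →* Perm T := MulAction.toPermHom H0 T
  have hf : Function.Injective f := by
    rw [injective_iff_map_eq_one]
    intro h hh
    apply Subtype.ext
    apply Subtype.ext
    ext x
    by_cases hx : x = 0
    · subst hx
      have := h.2
      rw [MulAction.mem_stabilizer_iff] at this
      exact congrArg Fin.val this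
    · have hxT : x ∈ SubMulAction.ofStabilizer A5 (0 : Fin 5) := by
        rw [SubMulAction.mem_ofStabilizer_iff]; exact hx
      have h1 := congrArg (fun σ : Perm T => (σ ⟨x, hxT⟩ : Fin 5)) hh
      exact congrArg Fin.val h1
  have : Fintype T := Fintype.ofFinite T
  have hc : Fintype.card T ≤ 4 := by
    rw [← Nat.card_eq_fintype_card]
    have h5 : Nat.card (SubMulAction.ofStabilizer A5 (0 : Fin 5)) + 1 = Nat.card (Fin 5) :=
      SubMulAction.nat_card_ofStabilizer_add_one_eq A5 (0 : Fin 5)
    rw [Nat.card_eq_fintype_card (α := Fin 5), Fintype.card_fin] at h5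
    show Nat.card (SubMulAction.ofStabilizer A5 (0 : Fin 5)) ≤ 4
    omega
  have := perm_solvable_of_card_le hc
  exact Group.isSolvable_of_isSolvable_injective hf

end Base

end Cfsg.Agent.Helper60.Tower
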