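import Mathlib

set_option autoImplicit false

namespace Cfsg.Agent.Helper60.ConstStab

variable {P E : Type*} [Group P] [AddCommGroup E] [DistribMulAction P E]

/-- trace operator of `c` with `p` terms -/
def tr (p : ℕ) (c : P) (e : E) : E := ∑ j ∈ Finset.range p, c ^ j • e

theorem tr_add (p : ℕ) (c : P) (e e' : E) : tr p c (e + e') = tr p c e + tr p c e' := by
  unfold tr
  rw [← Finset.sum_add_distrib]
  exact Finset.sum_congr rfl (fun j _ => smul_add _ _ _)

theorem tr_sub (p : ℕ) (c : P) (e e' : E) : tr p c (e - e') = tr p c e - tr p c e' := by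
  unfold tr
  rw [← Finset.sum_sub_distrib]
  exact Finset.sum_congr rfl (fun j _ => smul_sub _ _ _)

theorem tr_nsmul (p n : ℕ) (c : P) (e : E) : tr p c (n • e) = n • tr p c e := by
  unfold tr
  rw [Finset.smul_sum]
  exact Finset.sum_congr rfl (fun j _ => smul_comm _ _ _)

theorem pow_smul_fixed {c : P} {e : E} (h : c • e = e) (j : ℕ) : c ^ j • e = e := by
  induction j with
  | zero => simp
  | succ j ih => rw [pow_succ, mul_smul, h, ih]

theorem tr_of_fixed (p : ℕ) {c : P} {e : E} (h : c • e = e) : tr p c e = p • e := by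
  unfold tr
  rw [Finset.sum_congr rfl (fun j _ => pow_smul_fixed h j), Finset.sum_const, Finset.card_range]

theorem smul_tr_comm (p : ℕ) {c d : P} (hcd : Commute c d) (e : E) :
    d • tr p c e = tr p c (d • e) := by
  unfold tr
  rw [Finset.smul_sum]
  refine Finset.sum_congr rfl (fun j _ => ?_)
  rw [smul_smul, smul_smul, (hcd.pow_left j).eq]

theorem smul_tr_self (p : ℕ) {c : P} (hc : c ^ p = 1) (e : E) : c • tr p c e = tr p c e := by
  unfold tr
  rw [Finset.smul_sum]
  have h1 : ∀ j ∈ Finset.range p, c • c ^ j • e = c ^ (j + 1) • e := by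
    intro j _; rw [smul_smul, ← pow_succ']
  rw [Finset.sum_congr rfl h1]
  have h2 := Finset.sum_range_succ (fun j => c ^ j • e) p
  have h3 := Finset.sum_range_succ' (fun j => c ^ j • e) p
  simp only [hc, pow_zero] at h2 h3
  rw [h2] at h3
  exact (add_right_cancel h3).symm

theorem smul_tr_fixed (p : ℕ) {c d : P} (hcd : Commute c d) {e : E} (h : d • e = e) :
    d • tr p c e = tr p c e := by
  rw [smul_tr_comm p hcd, h]

/-- orthogonality: if no nonzero vector is fixed by both `c` and `d`, then `tr c` kills the fixed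
vectors of `d`. -/
theorem tr_eq_zero_of_fixed (p : ℕ) {c d : P} (hcd : Commute c d) (hc : c ^ p = 1)
    (hdisj : ∀ e : E, c • e = e → d • e = e → e = 0) {w : E} (hw : d • w = w) : tr p c w = 0 :=
  hdisj _ (smul_tr_self p hc w) (smul_tr_fixed p hcd hw)

theorem pow_mod_of_pow_eq_one {z : P} {p : ℕ} (hz : z ^ p = 1) (n : ℕ) : z ^ n = z ^ (n % p) := by
  conv_lhs => rw [← Nat.div_add_mod n p, pow_add, pow_mul, hz, one_pow, one_mul]

theorem image_mul_mod {p : ℕ} (hp : p.Prime) {j : ℕ} (hj0 : j ≠ 0) (hjp : j < p) :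
    (Finset.range p).image (fun i => (i * j) % p) = Finset.range p := by
  apply Finset.eq_of_subset_of_card_le
  · intro k hk
    obtain ⟨i, _, rfl⟩ := Finset.mem_image.1 hk
    exact Finset.mem_range.2 (Nat.mod_lt _ hp.pos)
  · rw [Finset.card_image_of_injOn]
    intro i hi i' hi' h
    have hi1 := Finset.mem_range.1 hi
    have hi2 := Finset.mem_range.1 hi'
    have hcop : Nat.Coprime p j :=
      (Nat.Prime.coprime_iff_not_dvd hp).2 (fun hd => by
        have := Nat.le_of_dvd (Nat.pos_of_ne_zero hj0) hd; omega)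
    have h1 : i * j ≡ i' * j [MOD p] := h
    have h2 : i ≡ i' [MOD p] := Nat.ModEq.cancel_right_of_coprime hcop h1
    exact Nat.ModEq.eq_of_lt_of_lt h2 hi1 hi2

theorem sum_pow_mul_smul {p : ℕ} (hp : p.Prime) {z : P} (hz : z ^ p = 1) {j : ℕ} (hj0 : j ≠ 0)
    (hjp : j < p) (e : E) :
    ∑ i ∈ Finset.range p, z ^ (i * j) • e = tr p z e := by
  unfold tr
  have h1 : ∀ i ∈ Finset.range p, z ^ (i * j) • e = (fun k => z ^ k • e) ((i * j) % p) := by
    intro i _
    show z ^ (i * j) • e = z ^ ((i * j) % p) • e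
    rw [← pow_mod_of_pow_eq_one hz]
  rw [Finset.sum_congr rfl h1]
  have hinj : Set.InjOn (fun i => (i * j) % p) (Finset.range p : Set ℕ) := by
    intro i hi i' hi' h
    have hi1 := Finset.mem_range.1 hi
    have hi2 := Finset.mem_range.1 hi'
    have hcop : Nat.Coprime p j :=
      (Nat.Prime.coprime_iff_not_dvd hp).2 (fun hd => by
        have := Nat.le_of_dvd (Nat.pos_of_ne_zero hj0) hd; omega)
    have h1 : i * j ≡ i' * j [MOD p] := h
    have h2 : i ≡ i' [MOD p] := Nat.ModEq.cancel_right_of_coprime hcop h1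
    exact Nat.ModEq.eq_of_lt_of_lt h2 hi1 hi2
  rw [← Finset.sum_image (f := fun k => z ^ k • e) hinj, image_mul_mod hp hj0 hjp]

theorem sum_tr_eq {p : ℕ} (hp : p.Prime) {b z : P} (hbz : Commute b z) (hz : z ^ p = 1)
    (hz0 : ∀ e : E, tr p z e = 0) (e : E) :
    ∑ i ∈ Finset.range p, tr p (b * z ^ i) e = p • e := by
  have h1 : ∀ i ∈ Finset.range p, tr p (b * z ^ i) e
      = ∑ j ∈ Finset.range p, b ^ j • z ^ (i * j) • e := by
    intro i _
    unfold tr
    refine Finset.sum_congr rfl (fun j _ => ?_)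
    rw [(hbz.pow_right i).mul_pow, ← pow_mul, mul_smul]
  rw [Finset.sum_congr rfl h1, Finset.sum_comm]
  have h2 : ∀ j ∈ Finset.range p, ∑ i ∈ Finset.range p, b ^ j • z ^ (i * j) • e
      = if j = 0 then p • e else 0 := by
    intro j hj
    rw [← Finset.smul_sum]
    by_cases hj0 : j = 0
    · subst hj0
      simp
    · rw [if_neg hj0, sum_pow_mul_smul hp hz hj0 (Finset.mem_range.1 hj), hz0, smul_zero]
  rw [Finset.sum_congr rfl h2, Finset.sum_ite_eq' (Finset.range p) 0]
  rw [if_pos (Finset.mem_range.2 hp.pos)]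

end Cfsg.Agent.Helper60.ConstStab
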