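-- helper60: piece (TRN) of helper56's farm for S2149 (hedge).
import Cfsg.Agent.Helper56.U35.Defs
import Cfsg.Agent.Helper60.U35_QUO

set_option autoImplicit false

namespace Cfsg.Agent.Helper60.U35

open MulAction Cfsg.Agent.Helper56.U35

variable {G : Type*} [Group G] {Ω : Type*} [MulAction G Ω]

/-- a subgroup of order larger than `1008` meets `P` non-trivially -/
theorem TRN_meet (D : TIData G Ω) (hstb : Nat.card (stabilizer G D.o) = 1000) (K : Subgroup G)
    (hbig : 1008 < Nat.card K) : ∃ x ∈ K, x ∈ D.P ∧ x ≠ 1 := by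
  classical
  haveI : Finite G := Nat.finite_of_card_ne_zero (by rw [D.cardG]; norm_num)
  haveI : Finite Ω := Nat.finite_of_card_ne_zero (by rw [D.cardΩ]; norm_num)
  by_contra hcon
  push_neg at hcon
  have hbot : K ⊓ D.P = ⊥ := by
    rw [eq_bot_iff]
    rintro x ⟨hxK, hxP⟩
    exact Subgroup.mem_bot.mpr (hcon x hxK hxP)
  obtain ⟨k, hk8, hk⟩ := card_inf_stabilizer D hstb K
  rw [hbot, Subgroup.card_bot, one_mul] at hk
  have hk_le : k ≤ 8 := Nat.le_of_dvd (by norm_num) hk8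
  have hst : Nat.card (stabilizer K D.o) = Nat.card (K ⊓ stabilizer G D.o : Subgroup G) := by
    apply Nat.card_congr
    exact
      { toFun := fun x => ⟨(x.1 : G), ⟨x.1.2, by
          have := x.2
          rwa [mem_stabilizer_iff, Subgroup.smul_def] at this⟩⟩
        invFun := fun y => ⟨⟨y.1, y.2.1⟩, by
          rw [mem_stabilizer_iff, Subgroup.smul_def]
          exact y.2.2⟩
        left_inv := fun x => rfl
        right_inv := fun y => rfl }
  have h1 := Subgroup.card_mul_index (stabilizer K D.o)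
  rw [MulAction.index_stabilizer, hst, hk] at h1
  have h2 : (orbit K D.o).ncard ≤ 126 := by
    rw [← D.cardΩ]
    exact Set.ncard_le_card _
  have h3 : k * (orbit K D.o).ncard ≤ 8 * 126 := Nat.mul_le_mul hk_le h2
  omega

/-- (TRN) a subgroup of order divisible by `5` and larger than `1008` is transitive on `Ω` -/
theorem trans_of_large (D : TIData G Ω)
    (hstb : Nat.card (stabilizer G D.o) = 1000)
    (hsyl : ∀ R : Subgroup G, IsPGroup 5 R → ∃ g : G, ∀ r ∈ R, g⁻¹ * r * g ∈ D.P)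
    (H : Subgroup G) (h5 : 5 ∣ Nat.card H) (hbig : 1008 < Nat.card H) :
    ∀ w : Ω, ∃ h ∈ H, h • D.o = w := by
  classical
  haveI : Finite G := Nat.finite_of_card_ne_zero (by rw [D.cardG]; norm_num)
  haveI : Fact (Nat.Prime 5) := ⟨by norm_num⟩
  -- for every `g` there is `x ∈ H`, `x ≠ 1`, with `g⁻¹ x g ∈ P`
  have step2 : ∀ g : G, ∃ x ∈ H, x ≠ 1 ∧ g⁻¹ * x * g ∈ D.P := by
    intro g
    have hK : Nat.card (H.map (MulAut.conj g⁻¹).toMonoidHom) = Nat.card H :=
      Subgroup.card_map_of_injective (MulAut.conj g⁻¹).injective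
    obtain ⟨x', hx'K, hx'P, hx'1⟩ := TRN_meet D hstb (H.map (MulAut.conj g⁻¹).toMonoidHom)
      (by rw [hK]; exact hbig)
    obtain ⟨x, hxH, rfl⟩ := hx'K
    have e : (MulAut.conj g⁻¹).toMonoidHom x = g⁻¹ * x * g := by
      simp [MulAut.conj_apply]
    rw [e] at hx'P hx'1
    refine ⟨x, hxH, ?_, hx'P⟩
    rintro rfl
    apply hx'1
    group
  -- a non-trivial element of `c P c⁻¹` fixes `c • o` and nothing else
  have fixonly : ∀ (c x : G), c⁻¹ * x * c ∈ D.P → x ≠ 1 → ∀ w : Ω, x • w = w → w = c • D.o := by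
    intro c x hP hx1 w hw
    have h1 : c⁻¹ * x * c ≠ 1 := by
      intro h
      apply hx1
      calc x = c * (c⁻¹ * x * c) * c⁻¹ := by group
        _ = 1 := by rw [h]; group
    have h2 : (c⁻¹ * x * c) • (c⁻¹ • w) = c⁻¹ • w := by
      rw [← mul_smul, mul_assoc, mul_inv_cancel, mul_one, mul_smul, hw]
    have h3 := D.semireg _ hP h1 _ h2
    rw [← h3, smul_inv_smul]
  have fixes : ∀ (c x : G), c⁻¹ * x * c ∈ D.P → x • (c • D.o) = c • D.o := by
    intro c x hP
    have h1 : (c⁻¹ * x * c) • D.o = D.o := D.P_le hP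
    calc x • (c • D.o) = c • ((c⁻¹ * x * c) • D.o) := by
          rw [← mul_smul, ← mul_smul]
          congr 1
          group
      _ = c • D.o := by rw [h1]
  -- a Sylow `5`-subgroup of `H`
  obtain ⟨R⟩ : Nonempty (Sylow 5 H) := inferInstance
  have hR' : IsPGroup 5 ((R : Subgroup H).map H.subtype) := R.isPGroup'.map H.subtype
  obtain ⟨a, ha⟩ := hsyl _ hR'
  -- every point is `h a o`
  have key : ∀ g : G, ∃ h ∈ H, g • D.o = (h * a) • D.o := by
    intro g
    obtain ⟨x, hxH, hx1, hxP⟩ := step2 g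
    have hx125 : x ^ 125 = 1 := by
      have h1 : (⟨g⁻¹ * x * g, hxP⟩ : D.P) ^ Nat.card D.P = 1 := pow_card_eq_one'
      have h2 : (((⟨g⁻¹ * x * g, hxP⟩ : D.P) ^ Nat.card D.P : D.P) : G) = 1 := by rw [h1]; rfl
      rw [Subgroup.coe_pow, D.cardP] at h2
      have h3 : (g⁻¹ * x * g) ^ 125 = g⁻¹ * x ^ 125 * g := by
        have := conj_pow (a := g⁻¹) (b := x) (i := 125)
        rw [inv_inv] at this
        exact this
      have h4 : g⁻¹ * x ^ 125 * g = 1 := by rw [← h3]; exact h2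
      calc x ^ 125 = g * (g⁻¹ * x ^ 125 * g) * g⁻¹ := by group
        _ = 1 := by rw [h4]; group
    have hxp : IsPGroup 5 (Subgroup.zpowers (⟨x, hxH⟩ : H)) := by
      rintro ⟨z, hz⟩
      obtain ⟨i, rfl⟩ := Subgroup.mem_zpowers_iff.mp hz
      refine ⟨3, Subtype.ext ?_⟩
      apply Subtype.ext
      simp only [Subgroup.coe_pow, Subgroup.coe_zpow, Subgroup.coe_one]
      rw [← zpow_natCast, ← zpow_mul, mul_comm, zpow_mul, zpow_natCast]
      norm_num
      rw [hx125, one_zpow]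
    obtain ⟨Q₁, hQ₁⟩ := hxp.exists_le_sylow
    obtain ⟨n, hn⟩ := MulAction.exists_smul_eq H Q₁ R
    have h1 : (⟨x, hxH⟩ : H) ∈ (Q₁ : Subgroup H) := hQ₁ (Subgroup.mem_zpowers _)
    have h2 : n * ⟨x, hxH⟩ * n⁻¹ ∈ ((n • Q₁ : Sylow 5 H) : Subgroup H) := by
      rw [Sylow.smul_def, Sylow.pointwise_smul_def]
      have := Subgroup.smul_mem_pointwise_smul _ (MulAut.conj n) _ h1
      simpa [MulAut.smul_def] using this
    rw [hn] at h2
    have h3 : ((n * ⟨x, hxH⟩ * n⁻¹ : H) : G) ∈ (R : Subgroup H).map H.subtype := ⟨_, h2, rfl⟩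
    have h4 := ha _ h3
    have h5 : ((n : G)⁻¹ * a)⁻¹ * x * ((n : G)⁻¹ * a) ∈ D.P := by
      have e : ((n : G)⁻¹ * a)⁻¹ * x * ((n : G)⁻¹ * a)
          = a⁻¹ * ((n * ⟨x, hxH⟩ * n⁻¹ : H) : G) * a := by
        simp only [Subgroup.coe_mul, InvMemClass.coe_inv]
        group
      rw [e]
      exact h4
    refine ⟨(n : G)⁻¹, inv_mem n.2, ?_⟩
    exact fixonly _ x h5 hx1 _ (fixes g x hxP)
  intro w
  obtain ⟨g, rfl⟩ := D.trans w
  obtain ⟨h0, hh0, e0⟩ := key 1
  obtain ⟨h, hh, e⟩ := key g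
  rw [one_smul] at e0
  have e1 : h0⁻¹ • D.o = a • D.o := by
    rw [inv_smul_eq_iff, ← mul_smul]
    exact e0
  refine ⟨h * h0⁻¹, mul_mem hh (inv_mem hh0), ?_⟩
  rw [mul_smul, e1, ← mul_smul, ← e]

end Cfsg.Agent.Helper60.U35
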